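import Cfsg.Statements.S4207
import Cfsg.Agent.H8.AutP

set_option autoImplicit false
open Cfsg

namespace Cfsg.Agent.S4207

open Subgroup hiding commutator_def
open Function Cfsg.Agent.Hopf Cfsg.Agent.Reg
open scoped commutatorElement Pointwise


/-- Let `P` be a group of order `p^n` whose Frattini subgroup has index `p^r`. Then any group of automorphisms of `P` each of which induces the identity on the Frattini quotient has order dividing `p^(r(n-r))`; in particular it is a `p`-group. -/
theorem result {P : Type*} [Group P] [Finite P] {p n r : ℕ} [Fact p.Prime] (hP : Nat.card P = p ^ n) (hr : (frattini P).index = p ^ r) (A : Subgroup (MulAut P)) (hA : ∀ α ∈ A, ∀ x : P, α x * x⁻¹ ∈ frattini P) : Nat.card A ∣ p ^ (r * (n - r)) := by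
  have hp : p.Prime := Fact.out
  obtain ⟨t, h1, h2⟩ := exists_li (IsPGroup.of_card hP) hr
  obtain ⟨s, hs⟩ : t.Nonempty := Set.nonempty_of_ncard_ne_zero (by
    rw [h1]
    exact Finset.prod_ne_zero_iff.2 fun i hi => (Nat.sub_pos_of_lt (Nat.pow_lt_pow_right hp.one_lt (Finset.mem_range.1 hi))).ne')
  have h3 := card_tuples (frattini P) r {s}
  rw [Set.ncard_singleton, mul_one, card_frat hP hr] at h3
  rw [← h3]
  refine dvd_ncard_of_index (G := A) _ (fun a y hy => ?_) fun y hy => ?_
  · rw [Set.mem_setOf_eq, Set.mem_singleton_iff] at hy ⊢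
    rw [← hy]
    funext i
    have := hA a a.2 (y i)⁻¹
    rw [map_inv, inv_inv] at this
    exact QuotientGroup.eq.2 this
  · rw [stab_bot A ((h2 y).1 (by rw [show (fun i => (y i : P ⧸ frattini P)) = s from hy]; exact hs)), index_bot]

end Cfsg.Agent.S4207
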