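import Cfsg.Statements.S0214
import Mathlib
import Cfsg.Agent.H2.Invol2

set_option autoImplicit false
open Cfsg

namespace Cfsg.Agent.S0214

open Cfsg.Agent.H2 Cfsg.Agent.L Subgroup

/-- Let H be a proper subgroup of the finite group G and P a nontrivial Sylow 2-subgroup of H. Then H is strongly embedded in G if and only if N_G(X) ≤ H for every nontrivial subgroup X of P. -/
theorem result {G : Type*} [Group G] [Finite G] (H : Subgroup G) (hH : H ≠ ⊤) (P : Sylow 2 ↥H) (hP : (P : Subgroup ↥H) ≠ ⊥) : Cfsg.IsStronglyEmbedded H ↔ (∀ X : Subgroup ↥H, X ≤ (P : Subgroup ↥H) → X ≠ ⊥ → Subgroup.normalizer ((X.map H.subtype : Subgroup G) : Set G) ≤ H) := by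
  have hinv : ∀ X : Subgroup G, IsPGroup 2 X → X ≠ ⊥ → ∃ t ∈ X, orderOf t = 2 := by
    intro X hX hne
    apply exists_ord2_mem_of_even
    rcases hX.card_eq_or_dvd with h | h
    · exact absurd (card_eq_one.1 h) hne
    · exact even_iff_two_dvd.2 h
  have hPs := sylIn_map_subtype P
  constructor
  · intro h X hX hne g hg
    obtain ⟨t, ht, h2⟩ := hinv (X.map H.subtype) ((P.isPGroup'.to_le hX).map _)
      (by rwa [Ne, map_eq_bot_iff_of_injective _ H.subtype_injective])
    exact se_mem' h (map_subtype_le _ ht) h2 (map_subtype_le _ (conj_mem_of_mem_normalizer hg ht))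
  · intro h
    obtain ⟨t, ht, h2⟩ := hinv _ hPs.pgrp
      (by rwa [Ne, map_eq_bot_iff_of_injective _ H.subtype_injective])
    refine ⟨hH, even_card_of_ord2_mem (hPs.le ht) h2, fun g hg => odd_card_iff.2 fun s hs hs2 => hg ?_⟩
    refine mem_of_normalizers_le (p := 2) (fun X => X ≠ ⊥) (fun X Y hXY hX hY => hX (eq_bot_iff.2 (hY ▸ hXY)))
      (fun g X hX => by rwa [Ne, cj_eq_bot_iff]) ?_ (isPGroup_zpowers_ord2 hs2)
      (by simpa using ord2_ne_one hs2) (zpowers_le.2 hs)
    intro X hXH hX hne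
    obtain ⟨a, ha, h3⟩ := hPs.exists_cj_le hX hXH
    have h4 := h ((cj a X).subgroupOf H) (by
      rw [← map_le_map_iff_of_injective H.subtype_injective, map_subgroupOf_eq_of_le (h3.trans hPs.le)]
      exact h3) (by
      rw [Ne, ← map_eq_bot_iff_of_injective _ H.subtype_injective,
        map_subgroupOf_eq_of_le (h3.trans hPs.le), cj_eq_bot_iff]
      exact hne)
    rw [map_subgroupOf_eq_of_le (h3.trans hPs.le), ← cj_normalizer, cj_le_iff,
      cj_eq_of_mem (inv_mem ha)] at h4
    exact h4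

end Cfsg.Agent.S0214
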