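import Cfsg.Statements.S0223
import Mathlib
import Cfsg.Agent.H2.Count

set_option autoImplicit false
open Cfsg

namespace Cfsg.Agent.S0223

open Cfsg.Agent.H2 Cfsg.Agent.L

/-- Let H be a proper subgroup of even order of the finite group G. Then H is strongly embedded if and only if (i) C_G(t) ≤ H for every involution t of H and (ii) H controls fusion of its involutions: involutions of H conjugate in G are conjugate in H. -/
theorem result {G : Type*} [Group G] [Finite G] (H : Subgroup G) (hH : H ≠ ⊤) (heven : Even (Nat.card H)) : Cfsg.IsStronglyEmbedded H ↔ ((∀ t ∈ H, orderOf t = 2 → Subgroup.centralizer ({t} : Set G) ≤ H) ∧ (∀ t ∈ H, ∀ s ∈ H, orderOf t = 2 → orderOf s = 2 → IsConj t s → ∃ h ∈ H, h * t * h⁻¹ = s)) := by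
  constructor
  · rintro ⟨-, -, h⟩
    have key : ∀ g s, s ∈ H → orderOf s = 2 → g⁻¹ * s * g ∈ H → g ∈ H := by
      intro g s hs h2 hg
      by_contra hn
      exact odd_card_iff.1 (h g hn) s ⟨hs, mem_cj.2 hg⟩ h2
    refine ⟨fun t ht h2 g hg => key g t ht h2 ?_, fun t ht s hs h2 h3 hc => ?_⟩
    · rw [mul_assoc, ← Subgroup.mem_centralizer_singleton_iff.1 hg]; simpa using ht
    · obtain ⟨g, rfl⟩ := isConj_iff.1 hc
      exact ⟨g, key g _ hs h3 (by simpa [mul_assoc] using ht), rfl⟩
  · rintro ⟨h1, h2⟩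
    refine ⟨hH, heven, fun g hg => odd_card_iff.2 fun s hs hs2 => hg ?_⟩
    have ht : g⁻¹ * s * g ∈ H := mem_cj.1 hs.2
    have ht2 : orderOf (g⁻¹ * s * g) = 2 := by
      have := orderOf_conj' g⁻¹ s
      rwa [inv_inv, hs2] at this
    obtain ⟨h, hh, he⟩ := h2 _ ht s hs.1 ht2 hs2 (isConj_iff.2 ⟨g, by group⟩)
    have : h * g⁻¹ ∈ H := h1 s hs.1 hs2 (mem_centralizer_singleton_conj.2 (by
      conv_rhs => rw [← he]
      group))
    have h3 := mul_mem (inv_mem this) hh
    simpa using h3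

end Cfsg.Agent.S0223
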