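import Cfsg.Statements.S0224
import Mathlib
import Cfsg.Agent.H2.Count

set_option autoImplicit false
open Cfsg

namespace Cfsg.Agent.S0224

open Cfsg.Agent.H2 Cfsg.Agent.L

/-- Let H be a proper subgroup of even order of the finite group G. Then H is strongly embedded if and only if each involution of H fixes exactly one point (namely the coset H) in the action of G on the cosets of H. -/
theorem result {G : Type*} [Group G] [Finite G] (H : Subgroup G) (hH : H ≠ ⊤) (heven : Even (Nat.card H)) : Cfsg.IsStronglyEmbedded H ↔ ∀ t ∈ H, orderOf t = 2 → Nat.card {c : G ⧸ H // t • c = c} = 1 := by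
  have key : ∀ t g : G, t • (g : G ⧸ H) = g ↔ g⁻¹ * t * g ∈ H := by
    intro t g
    rw [MulAction.Quotient.smul_mk, smul_eq_mul, eq_comm, QuotientGroup.eq, mul_assoc]
  constructor
  · rintro ⟨-, -, h⟩ t ht h2
    rw [Nat.card_eq_one_iff_exists]
    refine ⟨⟨((1 : G) : G ⧸ H), (key t 1).2 (by simpa using ht)⟩, ?_⟩
    rintro ⟨c, hc⟩
    obtain ⟨g, rfl⟩ := QuotientGroup.mk_surjective c
    apply Subtype.ext
    show (g : G ⧸ H) = (1 : G)
    rw [QuotientGroup.eq, mul_one, inv_mem_iff]
    by_contra hn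
    exact odd_card_iff.1 (h g hn) t ⟨ht, mem_cj.2 ((key t g).1 hc)⟩ h2
  · intro h
    refine ⟨hH, heven, fun g hg => odd_card_iff.2 fun s hs hs2 => hg ?_⟩
    have := (Nat.card_eq_one_iff_unique.1 (h s hs.1 hs2)).1
    have h1 := Subsingleton.elim (⟨((1 : G) : G ⧸ H), (key s 1).2 (by simpa using hs.1)⟩ :
      {c : G ⧸ H // s • c = c}) ⟨(g : G ⧸ H), (key s g).2 (mem_cj.1 hs.2)⟩
    have h2 : ((1 : G) : G ⧸ H) = g := congrArg Subtype.val h1
    rw [QuotientGroup.eq] at h2
    simpa using h2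

end Cfsg.Agent.S0224
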