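import Cfsg.Statements.S0254
import Cfsg.Agent.GS.Misc1
import Cfsg.Agent.H4.Dick6

set_option autoImplicit false
open Cfsg

namespace Cfsg.Agent.S0254

open Cfsg.Agent.H1

/-- PSL_2(9) is isomorphic to A_6. -/
theorem result {F : Type*} [Field F] [Fintype F] (hF : Fintype.card F = 9) : Nonempty (Matrix.ProjectiveSpecialLinearGroup (Fin 2) F ≃* alternatingGroup (Fin 6)) := by
  open Subgroup Pointwise commutatorElement Cfsg.Agent.BG Cfsg.Agent.GS in
  open Cfsg.Agent.H2 hiding card_lt_of_lt card_lt_of_ne_top isMulCommutative_of_le isPGroup_zpowers_iff mem_of_pow_mem_of_coprime inf_eq_bot_of_cop exists_maxElem_ge Sec in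
  open Cfsg.Agent.H8 (Op Opp Fit SN) in
  open Cfsg.Agent.L (FPF) in focus
    haveI := H4.PSL_simple (F := F) 2 le_rfl (by omega)
    obtain ⟨H, a, ⟨e⟩⟩ := H4.exists_A5_LL (F := F) (by rw [hF]; decide)
    have c : ♯(H4.LL F) = 360 := by have := H4.card_LL (K := F); rw [hF] at this; norm_num at this; omega
    haveI := (H4.pslEquiv F).symm.isSimpleGroup
    have d : ♯(H.subgroupOf (H4.LL F)) = 60 := by rw [Nat.card_congr (subgroupOfEquivOfLe a).toEquiv, Nat.card_congr e.toEquiv, H4.card_A5]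
    have i : (H.subgroupOf (H4.LL F)).index = 6 := by have := (H.subgroupOf (H4.LL F)).card_mul_index; rw [c, d] at this; omega
    obtain ⟨f, hf⟩ := H4.exists_hom_perm (H.subgroupOf (H4.LL F)) (((H.subgroupOf (H4.LL F)).normalCore_normal.eq_bot_or_eq_top).resolve_right
      fun h => by rw [eq_top_iff.2 (h.ge.trans (normalCore_le _)), index_top] at i; omega) i
    obtain ⟨g⟩ := H4.equiv_alt_of_injective f hf (by rw [c]; rfl)
    exact ⟨(H4.pslEquiv F).trans g⟩

end Cfsg.Agent.S0254
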