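import Cfsg.Statements.S0262
import Cfsg.Agent.H4.Dick4

set_option autoImplicit false
open Cfsg

namespace Cfsg.Agent.S0262

/-- For an odd prime r different from the characteristic, the Sylow r-subgroups of SL_2(q) are cyclic. -/
theorem result {F : Type*} [Field F] [Fintype F] (p : ℕ) [Fact p.Prime] [CharP F p] (r : ℕ) [Fact r.Prime] (hr : r ≠ 2) (hrp : r ≠ p) (R : Sylow r (Matrix.SpecialLinearGroup (Fin 2) F)) : IsCyclic (R : Subgroup (Matrix.SpecialLinearGroup (Fin 2) F)) := by
  open Cfsg.Agent.H4 in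
  have h1 := (dact F p).isCyclic_of_isPGroup hr hrp (R.isPGroup'.map Matrix.SpecialLinearGroup.toPGL)
  refine isCyclic_of_injective (Matrix.SpecialLinearGroup.toPGL.subgroupMap _) ?_
  rw [injective_iff_map_eq_one]
  intro g hg
  obtain ⟨k, hk⟩ := R.isPGroup' g
  have hk' : (g : Matrix.SpecialLinearGroup (Fin 2) F) ^ r ^ k = 1 := congrArg Subtype.val hk
  rcases toPGL_eq_one_iff.1 (congrArg Subtype.val hg) with e | e
  · exact Subtype.ext e
  · rw [e, (((Fact.out : r.Prime).odd_of_ne_two hr).pow).neg_one_pow] at hk'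
    exact Subtype.ext (e.trans hk')

end Cfsg.Agent.S0262
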