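import Cfsg.Statements.S0556
import Cfsg.Agent.H1.Burnside
import Cfsg.Agent.L.MaxClass
import Cfsg.Agent.L.Frob2

set_option autoImplicit false
open Cfsg

namespace Cfsg.Agent.S0556

open Cfsg.Agent.H1

/-- If a finite group has a maximal subgroup that is abelian, then the third term of its derived series is trivial (so the group is solvable of derived length at most three). -/
theorem result {G : Type*} [Group G] [Finite G] (A : Subgroup G) (hA : IsCoatom A) [IsMulCommutative A] : derivedSeries G 3 = ⊥ := by
  open Subgroup Pointwise commutatorElement in focus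
    by_cases hn : A.Normal
    · have hp := index_prime_of_isCoatom_of_normal hA
      haveI := Fact.mk hp
      haveI : IsCyclic (G ⧸ A) := isCyclic_of_prime_card (p := A.index) rfl
      have h1 : _root_.commutator G ≤ A := Normal.quotient_commutative_iff_commutator_le.1 inferInstance
      have h2 : derivedSeries G 2 = ⊥ := le_bot_iff.1 ((commutator_mono h1 h1).trans
        (commutator_eq_bot_iff_le_centralizer.2 (le_centralizer A)).le)
      rw [derivedSeries_succ, h2, commutator_bot_left]
    have hN : normalizer (A : Set G) = A := (le_normalizer.lt_or_eq.resolve_left fun h =>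
      hn (normal_of_top_le_normalizer (hA.2 _ h).ge)).symm
    have hZ : center G ≤ A := hN ▸ center_le_normalizer _
    have hf := QuotientGroup.mk'_surjective (center G)
    have hA' := isCoatom_map_mk' hZ hA
    have hb : A.map (QuotientGroup.mk' (center G)) ≠ ⊥ := fun e =>
      hn (le_antisymm (map_mk'_eq_bot_iff.1 e) hZ ▸ inferInstance)
    have hfr0 : IsFrobeniusComplement (A.map (QuotientGroup.mk' (center G))) := ⟨hb, hA'.1, fun g hg => by
      obtain ⟨g, rfl⟩ := hf g
      rw [eq_bot_iff, ← map_conj_smul]
      rintro _ ⟨⟨x, hx, rfl⟩, h2⟩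
      have h3 : x ∈ MulAut.conj g • A := by
        have : x ∈ ((MulAut.conj g • A).map (QuotientGroup.mk' (center G))).comap (QuotientGroup.mk' (center G)) := h2
        rwa [comap_map_mk', sup_eq_left.2] at this
        intro z hz
        rw [mem_conj_smul, mul_assoc, ← mem_center_iff.1 hz g, inv_mul_cancel_left]; exact hZ hz
      haveI : IsMulCommutative ↥(MulAut.conj g • A) := by rw [conj_smul_eq_map]; infer_instance
      have h4 : A ⊔ MulAut.conj g • A = ⊤ := hA.2 _ (lt_of_le_of_ne le_sup_left fun e => hg (mem_map_of_mem _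
        (hN ▸ mem_normalizer_of_conj_mem (conj_smul_le_iff.1 (le_sup_right.trans e.ge)))))
      refine (QuotientGroup.eq_one_iff x).2 (L.mem_center_of_commute_generators h4 ?_ ?_)
      · exact fun y hy => mem_centralizer_singleton_iff.2 (mul_comm_of_mem hy hx)
      · exact fun y hy => mem_centralizer_singleton_iff.2 (mul_comm_of_mem hy h3)⟩
    have hfr : IsFrobeniusComplement (A.map (QuotientGroup.mk' (center G))) := hfr0
    obtain ⟨K, -, hK, hc⟩ := S0035.result _ hfr
    clear hfr0
    haveI : IsMulCommutative (A.map (QuotientGroup.mk' (center G))) := inferInstance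
    suffices derivedSeries (G ⧸ center G) 2 = ⊥ by
      have h1 : derivedSeries G 2 ≤ center G := by
        rw [← map_mk'_eq_bot_iff, map_derivedSeries_eq hf, this]
      rw [derivedSeries_succ, commutator_eq_bot_iff_le_centralizer]
      exact h1.trans (center_le_centralizer _)
    generalize A.map (QuotientGroup.mk' (center G)) = B at *
    have hcop := (L.fpf_of_frobenius hfr hc.disjoint.eq_bot).coprime le_normalizer_of_normal
    have hKb : K ≠ ⊥ := fun e => hA'.1 (by simpa [e] using hc.sup_eq_top)
    obtain ⟨p, hp, hd⟩ := exists_prime_dvd_card hKb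
    haveI := Fact.mk hp
    obtain ⟨P, hP, hBP⟩ := exists_invariant_isSylowIn le_normalizer_of_normal hcop (Or.inl (isSolvable_of_isMulCommutative inferInstance)) p
    set Z := P ⊓ centralizer (P : Set (G ⧸ center G))
    have hZ : Z ≠ ⊥ := inf_centralizer_ne_bot_of_isPGroup hP.2.1 hP.2.1 le_normalizer (hP.ne_bot hd)
    have hBZ : B ≤ normalizer (Z : Set (G ⧸ center G)) := le_normalizer_inf hBP (le_normalizer_centralizer hBP)
    have hZK : Z ≤ K := inf_le_left.trans hP.1
    have hs : B ⊔ Z = ⊤ := hA'.2 _ (lt_of_le_of_ne le_sup_left fun e => hZ (le_bot_iff.1 (hc.disjoint.eq_bot ▸ le_inf hZK (e ▸ le_sup_right))))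
    have e : K = Z := by
      have := sup_inf_assoc_norm' hBZ hZK
      rwa [hs, top_inf_eq, inf_comm, hc.disjoint.eq_bot, bot_sup_eq] at this
    have h1 : _root_.commutator (G ⧸ center G) ≤ K := by
      rw [← Normal.quotient_commutative_iff_commutator_le]
      obtain ⟨f⟩ := nonempty_equiv_quotient hc.symm.disjoint.eq_bot hc.symm.sup_eq_top
      exact ⟨⟨fun a b => f.symm.injective (by rw [map_mul, map_mul, mul_comm'])⟩⟩
    have h2 : K ≤ centralizer (K : Set (G ⧸ center G)) := e.le.trans (inf_le_right.trans (centralizer_anti (e.le.trans inf_le_left)))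
    exact le_bot_iff.1 ((commutator_mono h1 h1).trans (commutator_eq_bot_iff_le_centralizer.2 h2).le)

end Cfsg.Agent.S0556
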