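import Cfsg.Statements.S0647
import Cfsg.Agent.H9.TJ

set_option autoImplicit false
open Cfsg

namespace Cfsg.Agent.S0647

open Cfsg.Agent Cfsg.Agent.H9

/-- For a nonempty family of maximal abelian subgroups of a finite group, the intersection of the family is the centre of the subgroup it generates, which is also the full centralizer of that subgroup. -/
theorem result {S : Type*} [Group S] [Finite S] (𝒜 : Set (Subgroup S)) (hne : 𝒜.Nonempty) (hab : ∀ A ∈ 𝒜, IsMulCommutative A) (hmax : ∀ A ∈ 𝒜, ∀ B : Subgroup S, IsMulCommutative B → A ≤ B → B = A) : sInf 𝒜 = sSup 𝒜 ⊓ Subgroup.centralizer ((sSup 𝒜 : Subgroup S) : Set S) ∧ sInf 𝒜 = Subgroup.centralizer ((sSup 𝒜 : Subgroup S) : Set S) := by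
  have h1 : sInf 𝒜 = Subgroup.centralizer ((sSup 𝒜 : Subgroup S) : Set S) := by
    apply le_antisymm
    · rw [Subgroup.le_centralizer_iff]
      exact sSup_le fun A hA => Subgroup.le_centralizer_iff.mp
        ((sInf_le hA).trans (H2.isMulCommutative_iff_le.mp (hab A hA)))
    · refine le_sInf fun A hA x hx => ?_
      have h2 : AE 0 (Subgroup.zpowers x ⊔ A) := (ae_zpowers (pow_zero x)).sup (ae_zero.mpr (hab A hA))
        (Subgroup.zpowers_le.mpr (Subgroup.centralizer_le (show A ≤ sSup 𝒜 from le_sSup hA) hx))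
      rw [← hmax A hA _ h2.1 le_sup_right]
      exact Subgroup.mem_sup_left (Subgroup.mem_zpowers x)
  refine ⟨le_antisymm (le_inf ?_ h1.le) (inf_le_right.trans h1.ge), h1⟩
  obtain ⟨A, hA⟩ := hne
  exact (sInf_le hA).trans (le_sSup hA)

end Cfsg.Agent.S0647
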