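import Cfsg.Statements.S0721
import Mathlib

set_option autoImplicit false
open Cfsg

namespace Cfsg.Agent.S0721

theorem exists_hom {H : Type*} [Group H] [Finite H] (N : Subgroup H) [hNn : N.Normal]
    (hmin : ∀ M : Subgroup H, M.Normal → M ≤ N → M = ⊥ ∨ M = N) (T : Subgroup H) (hT : T ≠ ⊥)
    (hTN : T ≤ N) (hTn : ∀ n ∈ N, ∀ t ∈ T, n * t * n⁻¹ ∈ T)
    (hTmin : ∀ K ≤ T, (∀ n ∈ N, ∀ t ∈ K, n * t * n⁻¹ ∈ K) → K = ⊥ ∨ K = T) :
    ∃ (m : ℕ) (φ : (Fin m → T) →* H), Function.Injective φ ∧ φ.range = N ∧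
      ∀ i, ∃ g : H, ∀ t : T, φ (Pi.mulSingle i t) = g * t * g⁻¹ := by
  let P : ℕ → Prop := fun m => ∃ φ : (Fin m → T) →* H, Function.Injective φ ∧ φ.range ≤ N ∧
    (∀ n ∈ N, ∀ x ∈ φ.range, n * x * n⁻¹ ∈ φ.range) ∧
      ∀ i, ∃ g : H, ∀ t : T, φ (Pi.mulSingle i t) = g * t * g⁻¹
  haveI : Nontrivial T := (Subgroup.nontrivial_iff_ne_bot T).2 hT
  have hb : ∀ m, P m → m ≤ Nat.card H := by
    rintro m ⟨φ, hφ, -⟩
    have := Nat.card_le_card_of_injective φ hφ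
    rw [Nat.card_pi, Finset.prod_const, Finset.card_univ, Fintype.card_fin] at this
    exact ((Nat.lt_pow_self Finite.one_lt_card).trans_le this).le
  have h0 : P 0 := ⟨1, fun _ _ _ => Subsingleton.elim _ _, by simp, by simp, fun i => i.elim0⟩
  classical
  let m := Nat.findGreatest P (Nat.card H)
  obtain ⟨φ, hφ, hle, hnorm, hsingle⟩ : P m := Nat.findGreatest_spec (Nat.zero_le _) h0
  refine ⟨m, φ, hφ, ?_, hsingle⟩
  by_contra hne
  have : ∃ g : H, ∃ t ∈ T, g * t * g⁻¹ ∉ φ.range := by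
    by_contra hcon
    push Not at hcon
    rcases hmin φ.range.normalCore inferInstance ((Subgroup.normalCore_le _).trans hle) with h | h
    · exact hT (eq_bot_iff.2 fun t ht => h ▸ (fun g => hcon g t ht))
    · exact hne (le_antisymm hle (h ▸ Subgroup.normalCore_le _))
  obtain ⟨g, t₀, ht₀, hg⟩ := this
  have hdisj : ∀ t ∈ T, g * t * g⁻¹ ∈ φ.range → t = 1 := by
    rcases hTmin (T ⊓ φ.range.comap (MulAut.conj g).toMonoidHom) inf_le_left (fun n hn t ht =>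
      ⟨hTn n hn t ht.1, by
        have := hnorm (g * n * g⁻¹) (hNn.conj_mem n hn g) _ ht.2
        change g * _ * g⁻¹ ∈ φ.range
        convert this using 1
        simp [mul_assoc]⟩) with h | h
    · intro t ht h'
      exact Subgroup.mem_bot.1 (h ▸ (⟨ht, h'⟩ : t ∈ T ⊓ φ.range.comap (MulAut.conj g).toMonoidHom))
    · exact absurd (show t₀ ∈ T ⊓ φ.range.comap (MulAut.conj g).toMonoidHom from h.symm ▸ ht₀).2 hg
  have hcomm : ∀ (t : T) (f : Fin m → T), Commute (g * t * g⁻¹) (φ f) := fun t f => by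
    have hf : φ f ∈ N := hle ⟨f, rfl⟩
    have h1 : t * (g⁻¹ * φ f * g) * (t : H)⁻¹ * (g⁻¹ * φ f * g)⁻¹ = 1 := by
      apply hdisj
      · have := T.mul_mem t.2 (hTn _ (hNn.conj_mem' _ hf g) _ (T.inv_mem t.2))
        simpa [mul_assoc] using this
      · have := φ.range.mul_mem (hnorm _ (hNn.conj_mem _ (hTN t.2) g) _ ⟨f, rfl⟩)
          (φ.range.inv_mem ⟨f, rfl⟩)
        simpa [mul_assoc] using this
    rw [mul_inv_eq_one, mul_inv_eq_iff_eq_mul] at h1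
    change _ = _
    calc g * t * g⁻¹ * φ f = g * (t * (g⁻¹ * φ f * g)) * g⁻¹ := by group
      _ = _ := by rw [h1]; group
  let ψ : (Fin (m + 1) → T) →* H := MonoidHom.mk' (fun f => g * f 0 * g⁻¹ * φ (Fin.tail f))
    (fun f f' => by
      have : Fin.tail (f * f') = Fin.tail f * Fin.tail f' := rfl
      rw [this, map_mul, Pi.mul_apply, Subgroup.coe_mul]
      calc g * (f 0 * f' 0) * g⁻¹ * (φ (Fin.tail f) * φ (Fin.tail f')) =
          g * f 0 * g⁻¹ * (g * f' 0 * g⁻¹ * φ (Fin.tail f)) * φ (Fin.tail f') := by group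
        _ = _ := by rw [(hcomm _ _).eq]; group)
  have hψ : ∀ f, ψ f = g * f 0 * g⁻¹ * φ (Fin.tail f) := fun _ => rfl
  have hP : P (m + 1) := by
    refine ⟨ψ, (injective_iff_map_eq_one ψ).2 fun f hf => ?_, ?_, ?_, fun i => ?_⟩
    · rw [hψ, mul_eq_one_iff_eq_inv] at hf
      have h1 : f 0 = 1 := Subtype.ext (hdisj _ (f 0).2 (hf ▸ φ.range.inv_mem ⟨_, rfl⟩))
      rw [h1, eq_comm, inv_eq_iff_eq_inv] at hf
      have h2 : Fin.tail f = 1 := hφ (by simpa using hf)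
      funext i
      refine Fin.cases h1 (fun j => congrFun h2 j) i
    · rintro _ ⟨f, rfl⟩
      exact N.mul_mem (hNn.conj_mem _ (hTN (f 0).2) g) (hle ⟨_, rfl⟩)
    · rintro n hn _ ⟨f, rfl⟩
      obtain ⟨f', hf'⟩ := hnorm n hn _ ⟨Fin.tail f, rfl⟩
      refine ⟨Fin.cons ⟨_, hTn _ (hNn.conj_mem' _ hn g) _ (f 0).2⟩ f', ?_⟩
      rw [hψ, hψ, Fin.tail_cons, hf', Fin.cons_zero]
      group
    · refine Fin.cases ⟨g, fun t => ?_⟩ (fun j => ?_) i
      · have : Fin.tail (Pi.mulSingle 0 t : Fin (m + 1) → T) = 1 := by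
          funext j; simp [Fin.tail]
        rw [hψ, this]; simp
      · obtain ⟨g', hg'⟩ := hsingle j
        refine ⟨g', fun t => ?_⟩
        have : Fin.tail (Pi.mulSingle j.succ t : Fin (m + 1) → T) = Pi.mulSingle j t := by
          funext k; simp [Fin.tail, Pi.mulSingle_apply]
        rw [hψ, this, hg', Pi.mulSingle_eq_of_ne (Fin.succ_ne_zero j).symm]; simp
  exact Nat.findGreatest_is_greatest (Nat.lt_succ_self m) (hb _ hP) hP

/-- Structure of a minimal normal subgroup, with the factors identified as conjugates. -/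
theorem exists_pow {H : Type*} [Group H] [Finite H] (N : Subgroup H) [hNn : N.Normal] (hN : N ≠ ⊥)
    (hmin : ∀ M : Subgroup H, M.Normal → M ≤ N → M = ⊥ ∨ M = N) :
    ∃ (T : Subgroup H) (m : ℕ) (φ : (Fin m → T) →* H), IsSimpleGroup T ∧ 0 < m ∧ T ≤ N ∧
      Function.Injective φ ∧ φ.range = N ∧
      ∀ i, ∃ g : H, ∀ t : T, φ (Pi.mulSingle i t) = g * t * g⁻¹ := by
  obtain ⟨T, ⟨hT, hTN, hTn⟩, hTmin⟩ := (wellFounded_lt (α := Subgroup H)).has_min
    {T | T ≠ ⊥ ∧ T ≤ N ∧ ∀ n ∈ N, ∀ t ∈ T, n * t * n⁻¹ ∈ T}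
    ⟨N, hN, le_rfl, fun n _ t ht => hNn.conj_mem t ht n⟩
  have hTmin' : ∀ K ≤ T, (∀ n ∈ N, ∀ t ∈ K, n * t * n⁻¹ ∈ K) → K = ⊥ ∨ K = T := fun K hK h => by
    by_contra hc
    rw [not_or] at hc
    exact hTmin K ⟨hc.1, hK.trans hTN, h⟩ (lt_of_le_of_ne hK hc.2)
  obtain ⟨m, φ, hφ, hr, hs⟩ := exists_hom N hmin T hT hTN hTn hTmin'
  have hm : 0 < m := by
    rcases m with _ | m
    · exact absurd (eq_bot_iff.2 fun x hx => by
        rw [← hr] at hx; obtain ⟨f, rfl⟩ := hx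
        rw [Subsingleton.elim f 1, map_one]; exact one_mem _) hN
    · omega
  haveI : Nontrivial T := (Subgroup.nontrivial_iff_ne_bot T).2 hT
  refine ⟨T, m, φ, ⟨fun K hK => ?_⟩, hm, hTN, hφ, hr, hs⟩
  obtain ⟨g, hg⟩ := hs ⟨0, hm⟩
  rcases hTmin' (K.map T.subtype) (Subgroup.map_subtype_le _) (by
    rintro n hn _ ⟨k, hk, rfl⟩
    have := hNn.conj_mem n hn g
    rw [← hr] at this
    obtain ⟨f, hf⟩ := this
    refine ⟨_, hK.conj_mem k hk (f ⟨0, hm⟩), ?_⟩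
    have h1 : (Pi.mulSingle ⟨0, hm⟩ (f ⟨0, hm⟩ * k * (f ⟨0, hm⟩)⁻¹) : Fin m → T) =
        f * Pi.mulSingle ⟨0, hm⟩ k * f⁻¹ := by
      funext j
      by_cases hj : j = ⟨0, hm⟩
      · subst hj; simp
      · simp [Pi.mulSingle_eq_of_ne hj]
    have h2 := congrArg φ h1
    rw [hg, map_mul, map_mul, map_inv, hg, hf] at h2
    apply (MulAut.conj g).injective
    simp only [MulAut.conj_apply, Subgroup.coe_subtype]
    rw [h2]; group) with h | h
  · exact Or.inl ((Subgroup.map_eq_bot_iff_of_injective _ T.subtype_injective).1 h)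
  · right
    rw [eq_top_iff]
    intro t _
    obtain ⟨k, hk, hkt⟩ : (t : H) ∈ K.map T.subtype := h.symm ▸ t.2
    rwa [← Subtype.ext hkt]

/-- A minimal normal subgroup of a finite group is isomorphic to a direct power `T ^ m` of a simple group `T` (possibly of prime order). -/
theorem result {H : Type*} [Group H] [Finite H] (N : Subgroup H) [N.Normal] (hN : N ≠ ⊥) (hmin : ∀ M : Subgroup H, M.Normal → M ≤ N → M = ⊥ ∨ M = N) : ∃ (T : Type) (_ : Group T) (m : ℕ), IsSimpleGroup T ∧ 0 < m ∧ Nonempty (N ≃* (Fin m → T)) := by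
  obtain ⟨T, m, φ, hT, hm, -, hφ, hr, -⟩ := exists_pow N hN hmin
  let e : Shrink.{0} T ≃* T := Shrink.mulEquiv
  refine ⟨Shrink.{0} T, inferInstance, m, e.isSimpleGroup, hm, ⟨?_⟩⟩
  exact ((MulEquiv.piCongrRight fun _ => e).trans ((MonoidHom.ofInjective hφ).trans
    (MulEquiv.subgroupCongr hr))).symm

end Cfsg.Agent.S0721
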