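import Cfsg.Statements.S1075
import Cfsg.Agent.H6.Sch7
import Cfsg.Agent.S1069
import Cfsg.Agent.S0243

set_option autoImplicit false
open Cfsg

namespace Cfsg.Agent.S1075

open Function Matrix Cfsg.Agent.H6 Cfsg.Lie Subgroup
open scoped MatrixGroups commutatorElement

theorem core_dvd {G : Type*} [Group G] [Finite G] (H : Subgroup G) : H.normalCore.index ∣ H.index.factorial := by
  rw [normalCore_eq_ker, index_ker, index_eq_card, ← Nat.card_perm]
  exact card_subgroup_dvd_card (MulAction.toPermHom G (G ⧸ H)).range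

def I14 : Ix chevG2.Idx 14 := ⟨finSumFinEquiv (m := 2) (n := 12)⟩
def ml : List (List ℕ) := [[1, 3, 9, 27, 81, 243, 729, 2187, 6561, 19683, 59049, 177147, 531441, 1594323], [3188647, 1594326, 3188658, 6588, 59130, 354537, 729, 1065069, 6561, 19683, 59049, 177147, 531441, 1594323], [1594324, 3188649, 3188661, 13149, 118179, 177390, 729, 533628, 6561, 19683, 59049, 177147, 531441, 1594323], [1, 3, 9, 27, 81, 243, 729, 2187, 6561, 19683, 59049, 177147, 531441, 1594323], [1062883, 1062885, 2196, 1062915, 19764, 243, 355023, 2187, 3195207, 19683, 59049, 177147, 531441, 1594323], [531442, 531444, 4383, 1062912, 39447, 243, 177876, 2187, 1600884, 19683, 59049, 177147, 531441, 1594323], [1, 3, 9, 27, 81, 243, 729, 2187, 6561, 19683, 59049, 177147, 531441, 1594323], [177148, 3, 531450, 3188673, 354376, 551367, 3307473, 2187, 6561, 1082565, 3247695, 177147, 531441, 1594323], [354295, 3, 1062891, 1594350, 354377, 571050, 3248424, 2187, 6561, 551124, 1653372, 177147, 531441, 1594323],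 [1, 3, 9, 27, 81, 243, 729, 2187, 6561, 19683, 59049, 177147, 531441, 1594323], [118099, 3, 6570, 27, 13932, 118346, 7290, 3190833, 6561, 1968300, 59049, 1771470, 531441, 1594323], [59050, 3, 13131, 27, 14661, 118348, 13851, 1596510, 6561, 1791153, 59049, 3365793, 531441, 1594323], [1, 3, 9, 27, 81, 243, 729, 2187, 6561, 19683, 59049, 177147, 531441, 1594323], [39367, 3, 9, 4401, 2754, 2430, 40103, 2187, 538002, 19683, 1299078, 708588, 531441, 1594323], [19684, 3, 9, 2214, 2511, 4617, 40099, 2187, 1069443, 19683, 1476225, 1240029, 531441, 1594323], [1, 3, 9, 27, 81, 243, 729, 2187, 6561, 19683, 59049, 177147, 531441, 1594323], [1, 13125, 63, 27, 81, 1701, 729, 15315, 6561, 78732, 59049, 177147, 2125764, 1594323], [1, 6564, 36, 27, 81, 972, 729, 15312, 6561, 137781, 59049, 177147, 3720087, 1594323], [1, 3, 9, 27, 81, 243, 729, 2187, 6561, 19683, 59049, 177147, 531441, 1594323], [1, 2190, 9, 45, 81, 243, 1215, 2187, 10938, 19683, 78732, 177147, 531441, 2125764], [1, 4377,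 9, 36, 81, 243, 972, 2187, 10941, 19683, 98415, 177147, 531441, 2657205], [1, 3, 9, 27, 81, 243, 729, 2187, 6561, 19683, 59049, 177147, 531441, 1594323], [730, 3, 9, 27, 135, 459, 729, 2241, 6561, 21145, 72171, 242757, 538002, 1594323], [1459, 3, 9, 27, 108, 378, 729, 2214, 6561, 21149, 65610, 301806, 544563, 1594323], [1, 3, 9, 27, 81, 243, 729, 2187, 6561, 19683, 59049, 177147, 531441, 1594323], [244, 3, 9, 27, 99, 243, 819, 2187, 6570, 24057, 59542, 220887, 531441, 1598697], [487, 3, 9, 27, 90, 243, 900, 2187, 6579, 21870, 59540, 201204, 531441, 1596510], [1, 3, 9, 27, 81, 243, 729, 2187, 6561, 19683, 59049, 177147, 531441, 1594323], [163, 3, 9, 27, 81, 252, 756, 2187, 6561, 19944, 60534, 177311, 531450, 1594377], [82, 3, 9, 27, 81, 261, 783, 2187, 6561, 20187, 59805, 177310, 531459, 1594350], [1, 3, 9, 27, 81, 243, 729, 2187, 6561, 19683, 59049, 177147, 531441, 1594323], [28, 30, 9, 27, 81, 243, 729, 2196, 6561, 19764, 59049, 178605, 531498, 1607445], [55, 57, 9, 27,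 81, 243, 729, 2205, 6561, 19845, 59049, 177876, 531501, 1600884], [1, 3, 9, 27, 81, 243, 729, 2187, 6561, 19683, 59049, 177147, 531441, 1594323], [10, 21, 9, 27, 81, 243, 729, 2187, 6588, 19683, 59130, 177633, 535815, 1594347], [19, 12, 9, 27, 81, 243, 729, 2187, 6615, 19683, 59211, 177390, 533628, 1594344]]
def jl : List (List ℕ) := [[1, 3, 9, 27, 81, 243, 729, 2187, 6561, 19683, 59049, 177147, 531441, 1594323], [1594324, 3188649, 3188661, 13149, 118179, 177390, 729, 533628, 6561, 19683, 59049, 177147, 531441, 1594323], [3188647, 1594326, 3188658, 6588, 59130, 354537, 729, 1065069, 6561, 19683, 59049, 177147, 531441, 1594323], [1, 3, 9, 27, 81, 243, 729, 2187, 6561, 19683, 59049, 177147, 531441, 1594323], [531442, 531444, 4383, 1062912, 39447, 243, 177876, 2187, 1600884, 19683, 59049, 177147, 531441, 1594323], [1062883, 1062885, 2196, 1062915, 19764, 243, 355023, 2187, 3195207, 19683, 59049, 177147, 531441, 1594323], [1, 3, 9, 27, 81, 243, 729, 2187, 6561, 19683, 59049,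 177147, 531441, 1594323], [354295, 3, 1062891, 1594350, 354377, 571050, 3248424, 2187, 6561, 551124, 1653372, 177147, 531441, 1594323], [177148, 3, 531450, 3188673, 354376, 551367, 3307473, 2187, 6561, 1082565, 3247695, 177147, 531441, 1594323], [1, 3, 9, 27, 81, 243, 729, 2187, 6561, 19683, 59049, 177147, 531441, 1594323], [59050, 3, 13131, 27, 14661, 118348, 13851, 1596510, 6561, 1791153, 59049, 3365793, 531441, 1594323], [118099, 3, 6570, 27, 13932, 118346, 7290, 3190833, 6561, 1968300, 59049, 1771470, 531441, 1594323], [1, 3, 9, 27, 81, 243, 729, 2187, 6561, 19683, 59049, 177147, 531441, 1594323], [19684, 3, 9, 2214, 2511, 4617, 40099, 2187, 1069443, 19683, 1476225, 1240029, 531441, 1594323], [39367, 3, 9, 4401, 2754, 2430, 40103, 2187, 538002, 19683, 1299078, 708588, 531441, 1594323], [1, 3, 9, 27, 81, 243, 729, 2187, 6561, 19683, 59049, 177147, 531441, 1594323], [1, 6564, 36, 27, 81, 972, 729, 15312, 6561, 137781, 59049, 177147, 3720087, 1594323], [1, 13125, 63, 27,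 81, 1701, 729, 15315, 6561, 78732, 59049, 177147, 2125764, 1594323], [1, 3, 9, 27, 81, 243, 729, 2187, 6561, 19683, 59049, 177147, 531441, 1594323], [1, 4377, 9, 36, 81, 243, 972, 2187, 10941, 19683, 98415, 177147, 531441, 2657205], [1, 2190, 9, 45, 81, 243, 1215, 2187, 10938, 19683, 78732, 177147, 531441, 2125764], [1, 3, 9, 27, 81, 243, 729, 2187, 6561, 19683, 59049, 177147, 531441, 1594323], [1459, 3, 9, 27, 108, 378, 729, 2214, 6561, 21149, 65610, 301806, 544563, 1594323], [730, 3, 9, 27, 135, 459, 729, 2241, 6561, 21145, 72171, 242757, 538002, 1594323], [1, 3, 9, 27, 81, 243, 729, 2187, 6561, 19683, 59049, 177147, 531441, 1594323], [487, 3, 9, 27, 90, 243, 900, 2187, 6579, 21870, 59540, 201204, 531441, 1596510], [244, 3, 9, 27, 99, 243, 819, 2187, 6570, 24057, 59542, 220887, 531441, 1598697], [1, 3, 9, 27, 81, 243, 729, 2187, 6561, 19683, 59049, 177147, 531441, 1594323], [82, 3, 9, 27, 81, 261, 783, 2187, 6561, 20187, 59805, 177310, 531459, 1594350], [163, 3, 9, 27,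 81, 252, 756, 2187, 6561, 19944, 60534, 177311, 531450, 1594377], [1, 3, 9, 27, 81, 243, 729, 2187, 6561, 19683, 59049, 177147, 531441, 1594323], [55, 57, 9, 27, 81, 243, 729, 2205, 6561, 19845, 59049, 177876, 531501, 1600884], [28, 30, 9, 27, 81, 243, 729, 2196, 6561, 19764, 59049, 178605, 531498, 1607445], [1, 3, 9, 27, 81, 243, 729, 2187, 6561, 19683, 59049, 177147, 531441, 1594323], [19, 12, 9, 27, 81, 243, 729, 2187, 6615, 19683, 59211, 177390, 533628, 1594344], [10, 21, 9, 27, 81, 243, 729, 2187, 6588, 19683, 59130, 177633, 535815, 1594347]]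
def m5 : List (List ℕ) := [[4657313, 3204006, 4255977, 3735423, 4203406, 3648927, 2812855, 1069482, 3720102, 2552390, 3105974, 906808, 3726699, 3197469], [3768343, 13134, 2134548, 1596537, 1324227, 711825, 733303, 1600959, 2127996, 1304625, 1339284, 751973, 2141082, 1611861], [3412031, 1607478, 4262532, 3720159, 2088443, 3075591, 708769, 1594344, 3188700, 888408, 2599715, 3523596, 4255917, 2670363], [4073045, 2672529, 2670363, 1071696, 345936, 3863548, 568184, 10968, 544632, 3834452, 1519856, 4128468, 3737652, 3206151], [590760, 531468, 3197403, 1062915, 3574386, 118346, 3395772, 1605267, 1609641, 1820412, 59540, 3401694, 531501, 1603089]]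
def s5 : List (List ℕ) := [[9, 8], [17, 8], [33, 8], [2, 40], [8, 1]]
def LL : SLev := (.cons [[4]] [[], [0], [2, 0], [3, 0], [4, 0], [0, 3, 0], [0, 4, 0], [1, 3, 0], [1, 4, 0]] [[(1, []), (0, []), (2, [1]), (5, []), (6, []), (3, []), (4, []), (8, [0, 0, 2, 0]), (7, [0, 0, 0, 1, 0])], [(0, [0]), (1, [0, 0, 0, 0, 0, 0]), (4, [0, 0, 0, 0, 0, 0]), (7, []), (8, []), (3, [1, 3]), (2, [1, 0]), (6, [0, 0, 2, 0]), (5, [0, 0, 0, 1, 0])], [(0, [1]), (2, []), (1, []), (7, [0]), (5, [0, 0, 0, 0, 0, 0, 2]), (4, [2, 0]), (8, [0, 0, 1, 0]), (3, [0, 0, 0, 0, 0, 0]), (6, [0, 0, 2, 0, 0])], [(0, [2]), (3, []), (7, [0]), (1, []), (8, [0]), (6, [0, 0, 0, 0, 0, 0, 3]), (5, [0, 1]), (2, [0, 0, 0, 0, 0, 0]), (4, [0, 0, 0, 0, 0, 0])], [(0, [3]), (4, []), (5, [0, 0, 0, 0, 0, 0, 2]), (8, [0]), (1, []), (2, [2, 0]), (7, [0, 0, 1, 0]), (6, [0, 0, 2, 0, 0]), (3, [0, 0, 0, 0, 0, 0])]] (.cons [[3]] [[], [0], [0, 0], [0, 0, 0], [0, 0, 0, 0], [0, 0, 0, 0, 0], [0, 0, 0, 0, 0, 0]] [[(1, []), (2, []), (3,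 []), (4, []), (5, []), (6, []), (0, [])], [(0, [0]), (1, [0, 1, 2]), (2, [0, 1]), (3, [1]), (4, [0, 2]), (5, [1, 2]), (6, [2])], [(0, [1]), (1, [0, 2]), (2, [1, 2]), (3, [2]), (4, [0]), (5, [0, 1, 2]), (6, [0, 1])], [(0, [2]), (1, [0]), (2, [0, 1, 2]), (3, [0, 1]), (4, [1]), (5, [0, 2]), (6, [1, 2])]] (.cons [[0], [1], [2]] [[], [0], [1], [2], [0, 1], [0, 2], [1, 2], [0, 1, 2]] [[(1, []), (0, []), (4, []), (5, []), (2, []), (3, []), (7, []), (6, [])], [(2, []), (4, []), (0, []), (6, []), (1, []), (7, []), (3, []), (5, [])], [(3, []), (5, []), (6, []), (0, []), (7, []), (1, []), (2, []), (4, [])]] .nil)))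
def fw (w : List (ℕ × ZMod 3)) : List ℕ := w.map fun p => 3 * p.1 + p.2.val
def ws : List (List ℕ) := [fw (reeWordU 1 1 0 0), fw (reeWordV 1 1 0 0)]

theorem hx : ∀ r < 12, ∀ t : ZMod 3,
    chevG2.x (ZMod 3) r t = toMat I14 3 Nat.cast (lk (idm 3 14) ml (3 * r + t.val)) := by decide +kernel

abbrev R := twistedG2 (ZMod 3) 1

theorem exY : ∃ y : ℕ → R, MRep I14 (cdP 3) Nat.cast ((Units.coeHom _).comp R.subtype) y (lk (idm 3 14) m5) := by
  obtain ⟨g, hg⟩ := mrep_GL (semP (F := ZMod 3) 3 (by decide)) I14 (ml := ml) (inv := jl) (by decide +kernel)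
  have hw : ∀ w : List (ℕ × ZMod 3), (∀ p ∈ w, p.1 < 12) → (wp g (fw w)).1 = chevG2.wordMat _ w := fun w h => by
    induction w with
    | nil => rfl
    | cons p w ih =>
      rw [show fw (p :: w) = (3 * p.1 + p.2.val) :: fw w from rfl, wp_cons, Units.val_mul,
        ih fun q hq => h q (List.mem_cons_of_mem _ hq)]
      exact congrArg (· * _) ((hg.2.2 _).2.trans (hx _ (h p (by simp)) _).symm)
  have hm : cl g ws ≤ R := cl_le.2 (List.forall_mem_cons.2 ⟨subset_closure ⟨_, ⟨1, 0, 0, Or.inl rfl⟩, hw _ (by decide +kernel)⟩,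
    List.forall_mem_singleton.2 (subset_closure ⟨_, ⟨1, 0, 0, Or.inr rfl⟩, hw _ (by decide +kernel)⟩)⟩)
  exact exists_mrep hg.1 (Units.val_injective.comp Subtype.val_injective) (by decide +kernel)
    (forall_of_lall2 (f := fun X u => (cdP 3).isM 14 (lk (idm 3 14) ml) (sel ws u) X) (m := [[0, 1, 1, 1, 1, 1, 0, 0, 1], [0, 0, 0, 1, 0, 0, 0, 0, 1], [0, 0, 1, 0, 1, 1, 1, 1, 1], [0, 0, 1], [0, 1, 0, 0, 0, 0, 0, 1, 1]])
      (by decide +kernel) fun X u h => ⟨⟨_, hm (wp_sel_mem ws u)⟩, hg.isM h⟩)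

theorem kL : LL.chk (fun u w => band (cd8.eqv 2 (lk (idm 8 2) s5) u w) ((cdP 3).eqv 14 (lk (idm 3 14) m5) u w)) = true := by
  decide +kernel

/-- The derived subgroup of ²G₂(3) (θ = identity over the field with three elements) has order 504 = 1512/3 and is isomorphic to PSL₂ over the field with eight elements. -/
theorem result {L : Type*} [Field L] [Fintype L] (hL : Fintype.card L = 8) :
    Nat.card ↥(commutator ↥(Cfsg.Lie.twistedG2 (ZMod 3) 1)) = 504 ∧
      Nonempty (↥(commutator ↥(Cfsg.Lie.twistedG2 (ZMod 3) 1)) ≃* Matrix.ProjectiveSpecialLinearGroup (Fin 2) L) := by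
  haveI : CharP L 2 := charP_of_card (k := 3) Nat.prime_two hL
  haveI : Fact (Nat.Prime 7) := ⟨by norm_num⟩
  obtain ⟨θ, hθ⟩ := exists_w8 hL
  obtain ⟨s, hs⟩ := mrep_SL (n := 2) (sem8 hθ) (ml := s5) (fs := [[[9, 8]], [[17, 8]], [[33, 8]], [[9, 8], [1, 11], [41, 8], [1, 14]], [[9, 8], [1, 9], [9, 8]]]) (by decide +kernel)
  obtain ⟨y, hy⟩ := exY
  let t : ℕ → PSL(2, L) := fun l => QuotientGroup.mk' (center _) (s l)
  have sim : IsSimpleGroup PSL(2, L) :=
    Matrix.ProjectiveSpecialLinearGroup.rank_two_simple (by rw [Nat.card_eq_fintype_card, hL]; decide)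
  have cP : Nat.card PSL(2, L) = 504 := by
    have := S0243.result hL 2 le_rfl
    norm_num [Fin.prod_univ_two] at this
    omega
  have cR : Nat.card R = 1512 := S1069.result (m := 0) (ZMod.card 3)
  haveI : Finite R := Nat.finite_of_card_ne_zero (by omega)
  have top : cl t LL.ws = ⊤ := by
    have o : ∀ w n, (∀ l ∈ w, [l] ∈ LL.ws) → orderOf (wp t w) = n → n ∣ Nat.card (cl t LL.ws) := fun w n h e =>
      e ▸ Subgroup.orderOf_dvd_natCard _ (wp_mem fun l hl => by simpa using wp_mem_cl (gens := t) (h l hl))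
    have one : ∀ w n, cd8.one 2 (lk (idm 8 2) s5) (lpow w n) = true → wp t w ^ n = 1 := fun w n h => by
      rw [← wp_lpow, ← map_wp, hs.one h, map_one]
    have o2 := o [0] 2 (by decide +kernel) (orderOf_eq_prime (one _ _ (by decide +kernel))
      (ne_one_quot_center (v := [4]) (hs.nev (inj8 hθ) (i := 0) (j := 0) (by decide +kernel))))
    have o7 := o [3] 7 (by decide +kernel) (orderOf_eq_prime (one _ _ (by decide +kernel))
      (ne_one_quot_center (v := [0]) (hs.nev (inj8 hθ) (i := 0) (j := 1) (by decide +kernel))))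
    have o9 := o [1, 4] 9 (by decide +kernel) (orderOf_eq_prime_pow (p := 3) (n := 1) (by
      rw [← wp_lpow]
      exact ne_one_quot_center (v := [0]) (hs.nev (inj8 hθ) (i := 0) (j := 0) (by decide +kernel))) (one _ _ (by decide +kernel)))
    have c := (cl t LL.ws).card_mul_index
    have d := core_dvd (cl t LL.ws)
    rcases sim.eq_bot_or_eq_top_of_normal _ (cl t LL.ws).normalCore_normal with h | h
    · rw [h, index_bot, cP] at d
      have e := Nat.le_of_dvd Nat.card_pos (Nat.Coprime.mul_dvd_of_dvd_of_dvd (by norm_num) o9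
        (Nat.Coprime.mul_dvd_of_dvd_of_dvd (by norm_num) o2 o7))
      have i4 : (cl t LL.ws).index ≤ 4 := by rw [cP] at c; nlinarith
      exact absurd (d.trans (Nat.factorial_dvd_factorial i4)) (by decide)
    · exact eq_top_iff.2 (h ▸ normalCore_le _)
  obtain ⟨a, b⟩ := SLev.card_le (gens := fun l => (t l, y l)) (fun u w h => by
    rw [band_eq] at h
    have e1 : ∀ u, (wp (fun l => (t l, y l)) u).1 = QuotientGroup.mk' (center _) (wp s u) := fun u =>
      (map_wp (MonoidHom.fst PSL(2, L) R) (fun l => (t l, y l)) u).trans (map_wp (QuotientGroup.mk' (center SL(2, L))) s u).symm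
    have e2 : ∀ u, (wp (fun l => (t l, y l)) u).2 = wp y u := map_wp (MonoidHom.snd PSL(2, L) R) (fun l => (t l, y l))
    exact Prod.ext (by rw [e1, e1, hs.eqv _ _ h.1]) (by rw [e2, e2, hy.eqv _ _ h.2])) kL
  obtain ⟨φ, -, d⟩ := exists_hom_of_graph a (b.trans (by rw [top, card_top, cP]; decide +kernel))
  let ι : PSL(2, L) →* R := φ.comp ((MonoidHom.id _).codRestrict _ fun g => top ▸ mem_top g)
  have k : ∀ l, [l] ∈ LL.ws → ι (wp t [l]) = wp y [l] := fun l h => d _ (wp_mem_cl h) _
  have n : ι (wp t [0] * wp t [4]) ≠ ι (wp t [4] * wp t [0]) := by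
    rw [map_mul, map_mul, k _ (by decide +kernel), k _ (by decide +kernel), ← wp_append, ← wp_append]
    exact hy.nev (injP 3) (i := 0) (j := 2) (by decide +kernel)
  have i : Injective ι := (MonoidHom.ker_eq_bot_iff _).1 ((sim.eq_bot_or_eq_top_of_normal _ inferInstance).resolve_right
    fun h => n (((MonoidHom.mem_ker (f := ι)).1 (h.ge (mem_top _))).trans ((MonoidHom.mem_ker (f := ι)).1 (h.ge (mem_top _))).symm))
  have c5 : Nat.card ι.range = 504 := (Nat.card_congr (MonoidHom.ofInjective i).toEquiv).symm.trans cP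
  have i3 : ι.range.index = 3 := by
    have := ι.range.card_mul_index
    rw [c5, cR] at this
    omega
  haveI : ι.range.Normal := by
    have e := map_comap_eq_self (normalCore_le ι.range)
    rcases sim.eq_bot_or_eq_top_of_normal (ι.range.normalCore.comap ι) inferInstance with h | h
    · have d := core_dvd ι.range
      rw [← e, h, Subgroup.map_bot, index_bot, cR, i3] at d
      exact absurd d (by decide)
    · rw [h, ← MonoidHom.range_eq_map] at e
      exact e ▸ inferInstance
  have u : (commutator R).comap ι = ⊤ := (sim.eq_bot_or_eq_top_of_normal _ inferInstance).resolve_left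
    fun h => n (congrArg ι (by
      have : ⁅wp t [0], wp t [4]⁆ ∈ (commutator R).comap ι := by
        rw [Subgroup.mem_comap, map_commutatorElement]
        exact Subgroup.commutator_mem_commutator (mem_top _) (mem_top _)
      rwa [h, Subgroup.mem_bot, commutatorElement_eq_one_iff_mul_comm] at this))
  have q : commutator R = ι.range := le_antisymm (Normal.quotient_commutative_iff_commutator_le.1
    (isCyclic_of_prime_card (p := 3) i3).isMulCommutative) (by
    rintro _ ⟨x, rfl⟩
    exact (u ▸ mem_top x : x ∈ (commutator R).comap ι))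
  exact ⟨q ▸ c5, ⟨(MulEquiv.subgroupCongr q).trans (MonoidHom.ofInjective i).symm⟩⟩

end Cfsg.Agent.S1075
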