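import Cfsg.Statements.S1154
import Cfsg.Agent.H5.Re3

set_option autoImplicit false
open Cfsg

namespace Cfsg.Agent.S1154

/-- In the small Ree group ²G₂(q), q = 3^(2m+1) with m ≥ 1, realised as G¹ inside the Chevalley group G₂ over the field with q elements (θ the 3^m-th power map), with `U¹ = G¹ ∩ U` (U the positive unipotent subgroup of the ambient G₂): `U¹` has exactly `q² - 1` elements of order 3. -/
theorem result {K : Type*} [Field K] [Fintype K] {m : ℕ} (hm : 1 ≤ m) (hK : Fintype.card K = 3 ^ (2 * m + 1)) :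
    Nat.card {u : ↥(Cfsg.Lie.chevG2.posUnipotent K ⊓ Cfsg.Lie.twistedG2 K (3 ^ m)) // orderOf u = 3} = (3 ^ (2 * m + 1)) ^ 2 - 1 := by
  obtain ⟨a, -, hq, _, X, h, -⟩ := H5.exists_ree hK
  rw [hq, ← X.toReeG.ncard_U.1, ← Nat.card_coe_set_eq]
  exact Nat.card_congr ⟨fun u => ⟨⟨u.1.1, u.1.2.2⟩, (h _).2 u.1.2.1, (Subgroup.orderOf_mk ..).trans ((Subgroup.orderOf_coe u.1).trans u.2)⟩,
    fun u => ⟨⟨u.1.1, (h _).1 u.2.1, u.1.2⟩, (Subgroup.orderOf_mk ..).trans ((Subgroup.orderOf_coe u.1).trans u.2.2)⟩,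
    fun _ => rfl, fun _ => rfl⟩

end Cfsg.Agent.S1154
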