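import Cfsg.Statements.S1158
import Cfsg.Agent.H5.Re3

set_option autoImplicit false
open Cfsg

namespace Cfsg.Agent.S1158

/-- In the small Ree group ²G₂(q), q = 3^(2m+1) with m ≥ 1, realised as G¹ inside the Chevalley group G₂ over the field with q elements (θ the 3^m-th power map), with `r = 3^(m+1)` (so `r² = 3q`): for each `k ∈ {(q-1)/2, (q+1)/4, q - r + 1, q + r + 1}` there is a cyclic subgroup `A` of order `k` whose normaliser has order `2(q-1)`, `6(q+1)`, `6(q-r+1)`, `6(q+r+1)` respectively, and `N(A₀) = N(A)` for every non-trivial `A₀ ≤ A`. -/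
theorem result {K : Type*} [Field K] [Fintype K] {m : ℕ} (hm : 1 ≤ m) (hK : Fintype.card K = 3 ^ (2 * m + 1)) :
    ∀ kn ∈ ({((3 ^ (2 * m + 1) - 1) / 2, 2 * (3 ^ (2 * m + 1) - 1)), ((3 ^ (2 * m + 1) + 1) / 4, 6 * (3 ^ (2 * m + 1) + 1)),
        (3 ^ (2 * m + 1) - 3 ^ (m + 1) + 1, 6 * (3 ^ (2 * m + 1) - 3 ^ (m + 1) + 1)),
        (3 ^ (2 * m + 1) + 3 ^ (m + 1) + 1, 6 * (3 ^ (2 * m + 1) + 3 ^ (m + 1) + 1))} : Set (ℕ × ℕ)),
      ∃ A : Subgroup ↥(Cfsg.Lie.twistedG2 K (3 ^ m)), IsCyclic A ∧ Nat.card A = kn.1 ∧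
        Nat.card (Subgroup.normalizer (A : Set ↥(Cfsg.Lie.twistedG2 K (3 ^ m)))) = kn.2 ∧
        ∀ A₀ : Subgroup ↥(Cfsg.Lie.twistedG2 K (3 ^ m)), A₀ ≤ A → A₀ ≠ ⊥ →
          Subgroup.normalizer (A₀ : Set ↥(Cfsg.Lie.twistedG2 K (3 ^ m))) = Subgroup.normalizer (A : Set ↥(Cfsg.Lie.twistedG2 K (3 ^ m))) := by
  obtain ⟨a, ha, hq, _, X, -⟩ := H5.exists_ree hK
  obtain ⟨h0, h1, h2, h3⟩ := H5.ree_num ha hq
  have key : ∀ i, ∃ A : Subgroup ↥(Lie.twistedG2 K (3 ^ m)), IsCyclic A ∧ Nat.card A = H5.Ree.kk a i ∧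
      Nat.card (Subgroup.normalizer (A : Set ↥(Lie.twistedG2 K (3 ^ m)))) = H5.Ree.ww i * (H5.Ree.vv i * H5.Ree.kk a i) ∧
      ∀ A₀ : Subgroup ↥(Lie.twistedG2 K (3 ^ m)), A₀ ≤ A → A₀ ≠ ⊥ → Subgroup.normalizer (A₀ : Set ↥(Lie.twistedG2 K (3 ^ m))) =
        Subgroup.normalizer (A : Set ↥(Lie.twistedG2 K (3 ^ m))) := fun i => by
    have h4 := (Nat.card_zpowers _).trans (X.tor i).ord
    have h5 := (X.tor i).normalizer_eq le_rfl fun e => by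
      have := H5.kk_one_lt hm ha i
      rw [e, Subgroup.card_bot] at h4; omega
    exact ⟨_, inferInstance, h4, by rw [h5, (X.tor i).cardN, (X.tor i).card], fun A h h' => by rw [h5, (X.tor i).normalizer_eq h h']⟩
  rw [h0, h1, h2, h3, hq]
  rintro _ (rfl | rfl | rfl | rfl)
  · convert key 0 using 5; simp [H5.Ree.kk, H5.Ree.qq, H5.Ree.vv, H5.Ree.ww]; omega
  · convert key 1 using 5; simp [H5.Ree.kk, H5.Ree.qq, H5.Ree.vv, H5.Ree.ww]; omega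
  · simpa [H5.Ree.vv, H5.Ree.ww] using key 2
  · simpa [H5.Ree.vv, H5.Ree.ww] using key 3

end Cfsg.Agent.S1158
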