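import Cfsg.Statements.S1249
import Mathlib
import Cfsg.Agent.H2.Transfer

set_option autoImplicit false
open Cfsg

namespace Cfsg.Agent.S1249

open Cfsg.Agent.H2 Subgroup

/-- Let P and Q be Sylow p-subgroups of the finite group G both containing the subgroup A. If A is strongly closed in P, then A is strongly closed in Q. -/
theorem result {G : Type*} [Group G] [Finite G] {p : ℕ} [Fact p.Prime] (P Q : Sylow p G) (A : Subgroup G) (hAQ : A ≤ Q) (hA : Cfsg.IsStronglyClosed A (P : Subgroup G)) : Cfsg.IsStronglyClosed A (Q : Subgroup G) := by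
  obtain ⟨h, hh⟩ := sylow_exists_cj_eq Q P
  have h1 : cj h A ≤ A := by
    rw [cj_le_iff_forall]
    exact fun x hx => hA.2 x hx h (hh ▸ conj_mem_cj h (hAQ hx))
  have h2 := mem_normalizer_of_cj_le h1
  refine ⟨hAQ, fun x hx g hg => ?_⟩
  have h3 := hA.2 x hx (h * g) (by
    rw [← hh, show h * g * x * (h * g)⁻¹ = h * (g * x * g⁻¹) * h⁻¹ by group]
    exact conj_mem_cj h hg)
  rw [show h * g * x * (h * g)⁻¹ = h * (g * x * g⁻¹) * h⁻¹ by group] at h3
  exact (mem_normalizer_iff.1 h2 _).2 h3

end Cfsg.Agent.S1249
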