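import Cfsg.Statements.S1250
import Mathlib
import Cfsg.Agent.H2.Transfer
import Cfsg.Agent.H1.Basic

set_option autoImplicit false
open Cfsg

namespace Cfsg.Agent.S1250

open Cfsg.Agent.H2 Subgroup

/-- Let S be a Sylow p-subgroup of the finite group G, A ≤ S strongly closed in S, and N a normal subgroup. Then the image of A in G ⧸ N is strongly closed in the image of S (which is a Sylow p-subgroup of G ⧸ N). -/
theorem result {G : Type*} [Group G] [Finite G] {p : ℕ} [Fact p.Prime] (S : Sylow p G) (A : Subgroup G) (hA : Cfsg.IsStronglyClosed A (S : Subgroup G)) (N : Subgroup G) [N.Normal] : Cfsg.IsStronglyClosed (A.map (QuotientGroup.mk' N)) ((S : Subgroup G).map (QuotientGroup.mk' N)) := by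
  refine ⟨map_mono hA.1, ?_⟩
  rintro _ ⟨x, hx, rfl⟩ g hg
  obtain ⟨g, rfl⟩ := QuotientGroup.mk'_surjective N g
  have h1 : g * x * g⁻¹ ∈ (S : Subgroup G) ⊔ N := by
    rw [← H1.comap_map_mk', mem_comap, map_mul, map_mul, map_inv]
    exact hg
  obtain ⟨k, hk⟩ := orderOf_eq_pow_of_mem S.2 (hA.1 hx)
  obtain ⟨h, hh, h2⟩ := (sylIn_of_le S (le_sup_left : (S : Subgroup G) ≤ (S : Subgroup G) ⊔ N)).exists_conj_mem h1
    (k := k) (by rw [orderOf_conj', hk])
  obtain ⟨s, hs, n, hn, rfl⟩ := H8.mem_sup_of_norm_right (by rw [normalizer_eq_top]; exact le_top) hh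
  have h3 : n * g * x * (n * g)⁻¹ ∈ (S : Subgroup G) := by
    have := (S : Subgroup G).mul_mem ((S : Subgroup G).mul_mem (inv_mem hs) h2) hs
    convert this using 1
    group
  refine ⟨_, hA.2 x hx _ h3, ?_⟩
  have : QuotientGroup.mk' N n = 1 := (QuotientGroup.eq_one_iff n).2 hn
  simp only [map_mul, map_inv, this, one_mul]

end Cfsg.Agent.S1250
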