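import Cfsg.Statements.S1251
import Mathlib
import Cfsg.Agent.H2.Iso

set_option autoImplicit false
open Cfsg

namespace Cfsg.Agent.S1251

open Cfsg.Agent.H2 Subgroup
open scoped commutatorElement

/-- Let S be a Sylow 2-subgroup of the finite group G and A ≤ S strongly closed in S. If H is a subgroup normalized by A with no nontrivial normal subgroup of odd order and A ∩ H = 1, then A ≤ C_G(H). -/
theorem result {G : Type*} [Group G] [Finite G] (S : Sylow 2 G) (A : Subgroup G) (hA : Cfsg.IsStronglyClosed A (S : Subgroup G)) (H : Subgroup G) (hAH : A ≤ Subgroup.normalizer (H : Set G)) (hO : Cfsg.oddCore ↥H = ⊥) (hdisj : A ⊓ H = ⊥) : A ≤ Subgroup.centralizer (H : Set G) := by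
  have hA2 := S.2.to_le hA.1
  obtain ⟨T, hT, hAT⟩ := exists_sylIn_ge hA2 (le_sup_left (b := H))
  obtain ⟨u, hu⟩ := exists_cj_le_sylow S hT.pgrp
  rw [cj_le_iff_forall] at hu
  have h1 : u ∈ normalizer (A : Set G) := mem_normalizer_of_cj_le (cj_le_iff_forall.2
    fun x hx => hA.2 x hx u (hu x (hAT hx)))
  have h2 : ∀ x ∈ A, ∀ g, g * x * g⁻¹ ∈ T → g * x * g⁻¹ ∈ A := fun x hx g hg => by
    have := H8.conj_mem_of_mem_normalizer' h1 (hA.2 x hx (u * g) (by
      simpa only [mul_assoc, mul_inv_rev] using hu _ hg))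
    simpa only [mul_assoc, mul_inv_rev, inv_mul_cancel_left, inv_mul_cancel, mul_one] using this
  have h3 := hT.inf_normal' (sup_le hAH le_normalizer) le_sup_right
  intro a ha h hh
  have h4 : zpowers a ⊔ T ⊓ H ≤ T := sup_le (zpowers_le.2 (hAT ha)) inf_le_left
  have h5 : zpowers a ⊔ T ⊓ H ≤ normalizer (H : Set G) :=
    sup_le (zpowers_le.2 (hAH ha)) (inf_le_right.trans le_normalizer)
  have h6 : SylIn 2 (zpowers a ⊔ T ⊓ H) ((zpowers a ⊔ T ⊓ H) ⊔ H) :=
    sylIn_of_not_dvd le_sup_left (hT.pgrp.to_le h4) (by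
      rw [H8.relIndex_sup_of_norm' h5]; exact h3.not_dvd_relIndex_of_le le_sup_right)
  have h7 := h6.zstar_pow (mem_sup_left (mem_zpowers a)) (fun j g hg e => by
    obtain ⟨y, hy, _, ⟨i, rfl⟩, rfl⟩ := H8.mem_sup_of_norm_left (zpowers_le.2 (hAH ha))
      ((sup_le (sup_le le_sup_right (inf_le_right.trans le_sup_left)) le_sup_left :
        (zpowers a ⊔ T ⊓ H) ⊔ H ≤ H ⊔ zpowers a) hg)
    have h8 : y * a ^ i * a ^ j * (y * a ^ i)⁻¹ = y * a ^ j * y⁻¹ := by group
    simp only at e ⊢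
    rw [h8] at e ⊢
    have h9 : y * a ^ j * y⁻¹ * (a ^ j)⁻¹ ∈ A ⊓ H :=
      mem_inf.2 ⟨mul_mem (h2 _ (pow_mem ha j) y (h4 e)) (inv_mem (pow_mem ha j)), by
        simpa only [mul_assoc] using
          mul_mem hy (H8.conj_mem_of_mem_normalizer (hAH (pow_mem ha j)) (inv_mem hy))⟩
    rwa [hdisj, mem_bot, mul_inv_eq_one] at h9) (mem_sup_right hh)
  have h8 := H8.inf_Opp_le 2 le_sup_right (mem_inf.2 ⟨h7, by
    simpa only [commutatorElement_def, mul_assoc] using
      mul_mem hh (H8.conj_mem_of_mem_normalizer (hAH ha) (inv_mem hh))⟩)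
  rw [H8.Opp, show pPrimeCore 2 H = ⊥ from hO, Subgroup.map_bot, mem_bot] at h8
  exact commutatorElement_eq_one_iff_mul_comm.1 h8

end Cfsg.Agent.S1251
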