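import Cfsg.Statements.S1292
import Cfsg.Agent.H8.Local

set_option autoImplicit false
open Cfsg

namespace Cfsg.Agent.S1292

open Cfsg.Agent.H8

open Subgroup

/-- Let G be a finite group such that F*(C_G(t)) = O_2(C_G(t)) for every involution t. Then F*(N_G(T)) = O_2(N_G(T)) for every nontrivial 2-subgroup T of G. -/
theorem result {G : Type*} [Group G] [Finite G] (h : ∀ t : G, orderOf t = 2 → Cfsg.generalizedFittingSubgroup ↥(Subgroup.centralizer ({t} : Set G)) = Cfsg.pCore 2 ↥(Subgroup.centralizer ({t} : Set G))) (T : Subgroup G) (hT : IsPGroup 2 ↥T) (hT1 : T ≠ ⊥) : Cfsg.generalizedFittingSubgroup ↥(Subgroup.normalizer (T : Set G)) = Cfsg.pCore 2 ↥(Subgroup.normalizer (T : Set G)) := by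
  have := hT.isNilpotent
  have h1 := L.inf_centralizer_ne_bot_of_isNilpotent (H := T) (N := T) le_rfl le_normalizer hT1
  obtain ⟨t, ht, h2⟩ := exists_orderOf_eq_prime (dvd_card_of_isPGroup_ne_bot hT.to_inf_left h1)
  have h3 := (fstar_eq_pCore_iff_map _).1 (h t h2)
  have h4 : T ≤ centralizer ({t} : Set G) := fun x hx => by
    rw [mem_centralizer_singleton_iff]; exact ht.2 x hx
  have h5 := Fs_eq_Op_centralizer h3 hT (h4.trans le_normalizer)
  rw [inf_eq_right.2 (centralizer_le (Set.singleton_subset_iff.2 (mem_inf.1 ht).1)), ← top_inf_eq (centralizer _),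
    ← Fs_eq_Op_normalizer_iff hT le_top, top_inf_eq] at h5
  exact (fstar_eq_pCore_iff_map _).2 h5

end Cfsg.Agent.S1292
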