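import Cfsg.Statements.S1323
import Cfsg.Agent.H4.Alt1

set_option autoImplicit false
open Cfsg

namespace Cfsg.Agent.S1323

/-- For n ≥ 9, the subgroup of the alternating group on Fin n fixing each of the points 0, 1, 2, 3 is a standard subgroup. -/
theorem result (n : ℕ) (h4 : 4 ≤ n) (hn : 9 ≤ n) : Cfsg.IsStandardSubgroup (⨅ i : Fin 4, MulAction.stabilizer ↥(alternatingGroup (Fin n)) (Fin.castLE h4 i : Fin n)) := by
  have h1 : (Finset.univ.map (Fin.castLEEmb h4)).card = 4 := by simp
  convert H4.standard_alt h1 (by simp [Finset.card_compl]; omega)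
  ext g
  simp only [Subgroup.mem_iInf, MulAction.mem_stabilizer_iff, alternatingGroup.mem_range_ofSubtype_iff,
    Finset.subset_iff, Equiv.Perm.mem_support, Finset.mem_compl, Finset.mem_map, Finset.mem_univ, true_and]
  exact ⟨fun h x hx ⟨i, hi⟩ => hx (hi ▸ h i), fun h i => by_contra fun hi => h hi ⟨i, rfl⟩⟩

end Cfsg.Agent.S1323
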