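import Cfsg.Statements.S1339
import Cfsg.Agent.H8.FStar

set_option autoImplicit false
open Cfsg

namespace Cfsg.Agent.S1339

/-- Let F be a field with 2 elements, n ≥ 3, and t ∈ SL(n, F) a transvection (t = 1 + E_{ij}, i ≠ j). Then the generalized Fitting subgroup of C(t) is O_2(C(t)). -/
theorem result {F : Type*} [Field F] [Fintype F] [DecidableEq F] (hF : Fintype.card F = 2) (n : ℕ) (hn : 3 ≤ n) (i j : Fin n) (hij : i ≠ j) (t : Matrix.SpecialLinearGroup (Fin n) F) (ht : (t : Matrix (Fin n) (Fin n) F) = Matrix.transvection i j 1) : Cfsg.generalizedFittingSubgroup ↥(Subgroup.centralizer ({t} : Set (Matrix.SpecialLinearGroup (Fin n) F))) = Cfsg.pCore 2 ↥(Subgroup.centralizer ({t} : Set (Matrix.SpecialLinearGroup (Fin n) F))) := by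
  open Matrix.SpecialLinearGroup in
  obtain rfl : t = transvection hij 1 := Subtype.ext ht
  have h01 : ∀ c : F, c ≠ 0 → c = 1 := fun c h => by simpa [hF] using FiniteField.pow_card_sub_one_eq_one c h
  have h2 : (1 + 1 : F) = 0 := by_contra fun h => by simpa using h01 _ h
  have key : ∀ (g : Matrix.SpecialLinearGroup (Fin n) F) k (h : i ≠ k), transvection h 1 * g = g * transvection h 1 →
      ∀ a b, (if i = a then g.1 k b else 0) = if k = b then g.1 a i else 0 := fun g k h e a b => by
    have := congrArg Subtype.val e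
    simp only [coe_mul, transvection_coe, add_mul, mul_add, one_mul, mul_one, add_right_inj] at this
    simpa [Matrix.mul_apply, Matrix.single_apply, ite_and] using congrFun (congrFun this a) b
  have fix : ∀ g ∈ Subgroup.centralizer {transvection hij (1 : F)}, g • (Pi.single i 1 : Fin n → F) = Pi.single i 1 :=
    fun g hg => by
    have h3 : g • (Pi.single i 1 : Fin n → F) = g.1 i i • Pi.single i 1 := by
      ext a
      have := key g j hij (hg _ rfl) a j
      by_cases e : i = a
      · simp [Matrix.SpecialLinearGroup.smul_def, e]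
      · simpa [Matrix.SpecialLinearGroup.smul_def, e, Ne.symm e] using this.symm
    rw [h3, h01 (g.1 i i) fun h => ?_, one_smul]
    simpa [h] using congrFun ((smul_eq_zero_iff_eq g).1 (h3.trans (by simp [h]))) i
  let A := lineStab (Submodule.span F {(Pi.single i 1 : Fin n → F)})
  have hA : ∀ k (h : i ≠ k), transvection h (1 : F) ∈ A := fun k h w => Submodule.mem_span_singleton.2 ⟨w k, by
    simp [Matrix.SpecialLinearGroup.smul_def, transvection_coe, add_smul, Matrix.add_mulVec, Matrix.single_mulVec_eq]⟩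
  have h3 : A ≤ Subgroup.centralizer {transvection hij 1} := fun a ha => by
    rintro _ rfl
    exact congrArg Subtype.val ((lineStab_isMulCommutative_of_span (Pi.single i 1 : Fin n → F)
      (by simp)).is_comm.comm ⟨_, hA j hij⟩ ⟨a, ha⟩)
  have h4 : A ≤ H8.Op 2 (Subgroup.centralizer {transvection hij 1}) := H8.le_Op h3
    (fun g hg => Subgroup.mem_normalizer_fintype fun a ha w => by
      obtain ⟨c, hc⟩ := Submodule.mem_span_singleton.1 (ha (g⁻¹ • w))
      refine Submodule.mem_span_singleton.2 ⟨c, ?_⟩
      rw [mul_smul, mul_smul, ← smul_inv_smul g w, ← smul_sub, inv_smul_smul, ← hc, smul_comm g, fix g hg])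
    fun a => ⟨1, Subtype.ext (toLin'_injective (LinearEquiv.ext fun w => by
      obtain ⟨c, hc⟩ := Submodule.mem_span_singleton.1 (a.2 w)
      show (a.1 ^ 2 ^ 1) • w = (1 : Matrix.SpecialLinearGroup (Fin n) F) • w
      rw [pow_one, sq, mul_smul, one_smul, ← eq_sub_iff_add_eq.1 hc, smul_add, smul_comm a.1, fix _ (h3 a.2),
        ← eq_sub_iff_add_eq.1 hc, ← add_assoc, ← add_smul, ← mul_one c, ← mul_add, h2]
      simp))⟩
  refine (H8.fstar_eq_pCore_iff_map _).2 (H8.Fs_eq_Op_iff.2 fun g hg => h4 fun w => ?_)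
  refine Submodule.mem_span_singleton.2 ⟨(g • w - w) i, funext fun k => ?_⟩
  by_cases e : i = k
  · simp [e]
  have h5 := key g k e (hg.2 _ (h4 (hA k e))) i
  have h6 : g.1 i i = 1 := by simpa [Matrix.SpecialLinearGroup.smul_def] using congrFun (fix g hg.1) i
  simp only [if_true, h6] at h5
  simp [Matrix.SpecialLinearGroup.smul_def, Matrix.mulVec, dotProduct, Ne.symm e, h5, h6]

end Cfsg.Agent.S1339
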