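import Cfsg.Statements.S1340
import Cfsg.Agent.H4.Std1
import Cfsg.Agent.H4.Bridge
import Cfsg.Agent.L.Cores

set_option autoImplicit false
open Cfsg

namespace Cfsg.Agent.S1340

/-- Let F be a finite field of odd order and n ≥ 3 with (n, |F|) ≠ (3, 3). Then GL(n, F) has a non-central involution t such that C(t) / O(C(t)) has a component. -/
theorem result {F : Type*} [Field F] [Fintype F] [DecidableEq F] (hF : Odd (Fintype.card F)) (n : ℕ) (hn : 3 ≤ n) (h33 : ¬ (n = 3 ∧ Fintype.card F = 3)) : ∃ t : Matrix.GeneralLinearGroup (Fin n) F, orderOf t = 2 ∧ t ∉ Subgroup.center (Matrix.GeneralLinearGroup (Fin n) F) ∧ Cfsg.HasComponent (↥(Subgroup.centralizer ({t} : Set (Matrix.GeneralLinearGroup (Fin n) F))) ⧸ Cfsg.oddCore ↥(Subgroup.centralizer ({t} : Set (Matrix.GeneralLinearGroup (Fin n) F)))) := by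
  obtain ⟨m, rfl⟩ := Nat.exists_eq_add_of_le' hn
  have h2 := H4.two_ne_zero_of_odd hF
  have h3 : (-1 : F) ≠ 1 := fun h => h2 (by linear_combination -h)
  have h4 : H8.Comp ⊤ ((Matrix.GeneralLinearGroup.det : GL (Fin (m + 2)) F →* Fˣ).ker.map (MonoidHom.inl _ Fˣ)) :=
    ⟨H8.SN.of_norm le_top fun g _ => Subgroup.mem_normalizer_fintype (by
      rintro _ ⟨x, hx, rfl⟩
      exact ⟨_, Subgroup.Normal.conj_mem inferInstance x hx g.1, by simp [Prod.ext_iff]⟩), (H8.qs_map_injective_iff _ (Prod.mk_left_injective _)).2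
      (H4.comp_SL (by omega) fun h => by have := Fintype.one_lt_card (α := F); obtain ⟨k, hk⟩ := hF; omega).qs⟩
  have h5 := h4.map_injective _ H4.ebkG_injective
  rw [← H4.centralizer_ebkG h2, H8.comp_iff, ← H8.comp_top_iff] at h5
  refine ⟨H4.ebkG (-1, 1), (orderOf_injective _ H4.ebkG_injective _).trans (orderOf_eq_prime (by simp) fun h =>
    H4.neg_one_ne_GL h2 (by omega) (congrArg Prod.fst h)), fun h => ?_, ?_⟩
  · obtain ⟨c, hc⟩ := Matrix.GeneralLinearGroup.mem_center_iff_val_mem_range_scalar.1 h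
    have h6 := congrFun₂ hc (Fin.last _) (Fin.last _)
    have h7 := congrFun₂ hc (Fin.last _).castSucc (Fin.last _).castSucc
    simp [H4.ebkG, H4.ebk] at h6 h7
    exact h3 (h7.symm.trans h6)
  have h6 := h5.2.map (QuotientGroup.mk' (oddCore _)) fun h => ?_
  · rw [← MonoidHom.range_eq_map, QuotientGroup.range_mk', H8.comp_top_iff] at h6
    exact ⟨_, h6⟩
  rw [Subgroup.map_eq_bot_iff, QuotientGroup.ker_mk'] at h
  let d : Matrix (Fin (m + 2)) (Fin (m + 2)) F := Matrix.diagonal fun i => if (i : ℕ) < 2 then -1 else 1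
  have h7 : d * d = 1 := by
    rw [Matrix.diagonal_mul_diagonal, ← Matrix.diagonal_one]
    congr with i
    split_ifs <;> simp
  have h8 := Subgroup.mem_map_of_mem H4.ebkG (Subgroup.mem_map_of_mem (MonoidHom.inl _ Fˣ)
    (K := (Matrix.GeneralLinearGroup.det : GL (Fin (m + 2)) F →* Fˣ).ker) (x := ⟨d, d, h7, h7⟩)
    (Units.ext (by simp [d, Fin.prod_univ_succ])))
  refine (Nat.not_even_iff_odd.2 L.odd_card_oddCore) (even_iff_two_dvd.2 ((dvd_of_eq ?_).trans
    (Subgroup.orderOf_dvd_natCard _ (h (x := ⟨_, h5.1 h8⟩) h8))))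
  rw [Subgroup.orderOf_mk, orderOf_injective _ H4.ebkG_injective, orderOf_injective _ (Prod.mk_left_injective _)]
  exact (orderOf_eq_prime (Units.ext (by simpa [sq] using h7)) fun e => h3 (by
    simpa [d] using congrFun₂ (show d = 1 from congrArg Units.val e) 0 0)).symm

end Cfsg.Agent.S1340
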