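import Cfsg.Statements.S4408
import Mathlib
import Cfsg.Agent.H2.Inv3
import Cfsg.Agent.H2.Two
import Cfsg.Agent.H1.Section
import Cfsg.Agent.H1.Coprime
import Cfsg.Agent.BG.Basic

set_option autoImplicit false
open Cfsg

namespace Cfsg.Agent.S4408

open Cfsg.Agent.H2 Cfsg.Agent.BG Subgroup

variable {S : Type*} [Group S] [Finite S] {I : Subgroup S}

theorem ex_inv (hI : IsElementaryAbelian 2 I) {F B : Subgroup S} (h1 : Group.IsNilpotent F) (h2 : Odd ♯F)
    (h3 : I ≤ 𝒩 F) (h4 : B ≤ I) (h5 : ¬ B ≤ 𝒞 F) : ∃ x ∈ F, (orderOf x).Prime ∧ ∃ b ∈ B, b * x * b⁻¹ = x⁻¹ ∧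
      ∀ c ∈ I, c ∈ 𝒞 (zpowers x) ∨ c * b ∈ 𝒞 (zpowers x) := by
  haveI := hI.1
  have hs : ∀ c ∈ I, c * c = 1 := fun c hc => by rw [← pow_two, hI.2 c hc]
  obtain ⟨k, hk⟩ := (show IsPGroup 2 I from fun c => ⟨1, Subtype.ext (hI.2 c c.2)⟩).exists_card_eq
  obtain ⟨J, a1, ⟨a, a2, a3⟩, a4⟩ := H1.exists_cocyclic_centralizer_not_le_of_isNilpotent h1 h3
    (hk ▸ (Nat.coprime_two_left.2 h2).pow_left k) (L := F ⊓ 𝒞 B)
    (lt_of_le_of_ne inf_le_left fun e => h5 (le_centralizer_iff.1 (inf_eq_left.1 e)))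
    (H1.le_normalizer_inf h3 (H1.le_normalizer_centralizer
      (((le_centralizer I).trans (centralizer_le h4)).trans (centralizer_le_normalizer _))))
  have a5 : ∀ c ∈ I, c ∈ J ∨ a * c ∈ J := fun c hc => by
    rw [← a3, ← SetLike.mem_coe, coe_mul_of_left_le_normalizer_right _ _ ((zpowers_le.2 a2).trans
      (((le_centralizer I).trans (centralizer_le a1)).trans (centralizer_le_normalizer _)))] at hc
    obtain ⟨u, hu, j, hj, rfl⟩ := hc
    rcases (mem_zpowers_invol (hs a a2)).1 hu with rfl | rfl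
    · exact .inl (by simpa using hj)
    · exact .inr (by simpa [← mul_assoc, hs u a2] using hj)
  obtain ⟨y, ⟨b1, b2⟩, b3⟩ := SetLike.not_le_iff_exists.1 a4
  obtain ⟨b, b4, b5⟩ : ∃ b ∈ B, b * y ≠ y * b := by
    by_contra! e; exact b3 ⟨b1, e⟩
  have b6 : y⁻¹ * (b * y * b⁻¹) ≠ 1 := fun e => b5 (by rw [inv_mul_eq_one, eq_mul_inv_iff_mul_eq] at e; exact e.symm)
  obtain ⟨q, c1, c2⟩ := Nat.exists_prime_and_dvd (orderOf_eq_one_iff.not.2 b6)
  have c3 : J ≤ 𝒞 (zpowers ((y⁻¹ * (b * y * b⁻¹)) ^ (orderOf (y⁻¹ * (b * y * b⁻¹)) / q))) := by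
    have : b ∈ 𝒞 J := centralizer_le a1 (le_centralizer I (h4 b4))
    exact le_centralizer_iff.1 (zpowers_le.2 (pow_mem (mul_mem ((𝒞 J).inv_mem b2) (mul_mem (mul_mem this b2) ((𝒞 J).inv_mem this))) _))
  refine ⟨_, pow_mem (mul_mem (F.inv_mem b1) ((mem_normalizer_iff.1 (h3 (h4 b4)) y).1 b1)) _,
    (orderOf_pow_orderOf_div (orderOf_pos _).ne' c2).symm ▸ c1, b, b4, ?_, fun c hc => (a5 c hc).imp (@c3 c) fun h => c3 ?_⟩
  · rw [← conj_pow, ← inv_pow]
    congr 1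
    rw [inv_eq_of_mul_eq_one_right (hs b (h4 b4))]
    simp [mul_assoc, inv_eq_of_mul_eq_one_right (hs b (h4 b4)), hs b (h4 b4), ← mul_assoc b b]
  · simpa [mul_assoc, inv_eq_of_mul_eq_one_right (hs c hc)] using
      J.mul_mem (J.inv_mem h) ((a5 b (h4 b4)).resolve_left fun h => b5 (b2 b h))

theorem main (hI : IsElementaryAbelian 2 I) (m : ℕ) : ∀ F B : Subgroup S, Group.IsNilpotent F → Odd ♯F → I ≤ 𝒩 F →
    B ≤ I → ♯B = 2 ^ m → B ⊓ 𝒞 F = ⊥ → ∃ f : Fin m → Subgroup S, (∀ i, (♯(f i)).Prime) ∧ (∀ i, f i ≤ F) ∧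
      (∀ i, I ≤ 𝒩 (f i)) ∧ (∀ i j, i ≠ j → ∀ a ∈ f i, ∀ b ∈ f j, a * b = b * a) ∧ ♯↥(⨆ i, f i) = ∏ i, ♯(f i) ∧
      B ⊓ 𝒞 (⨆ i, f i : Subgroup S) = ⊥ ∧ (⨆ i, f i) ⊓ 𝒞 B = ⊥ := by
  induction m with
  | zero => exact fun F B _ _ _ _ h _ => ⟨Fin.elim0, by simp, by simp, by simp, by simp, by simp,
      by simp [card_eq_one.1 h], by simp⟩
  | succ m ih =>
    intro F B h1 h2 h3 h4 h5 h6
    obtain ⟨x, a1, a2, b, a3, a4, a5⟩ := ex_inv hI h1 h2 h3 h4 fun e => by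
      rw [inf_eq_left.2 e] at h6; rw [h6, card_bot] at h5; omega
    have hs : b * b = 1 := by rw [← pow_two, hI.2 b (h4 a3)]
    have a6 : ∀ u ∈ zpowers x, b * u = u * b → u = 1 := by
      rintro _ ⟨k, rfl⟩ h
      have h7 : (x ^ k) ^ 2 = 1 := by
        rw [pow_two, mul_eq_one_iff_eq_inv, ← inv_zpow, ← a4, conj_zpow, h, mul_inv_cancel_right]
      exact (pow_eq_one_iff_of_coprime (Nat.coprime_two_left.2 h2)).1
        ⟨h7, congrArg Subtype.val (pow_card_eq_one' (x := (⟨_, zpow_mem a1 k⟩ : F)))⟩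
    have a7 : b ∉ 𝒞 (zpowers x) := fun h => a2.ne_one (orderOf_eq_one_iff.2
      (a6 x (mem_zpowers x) (h x (mem_zpowers x)).symm))
    have a8 : I ≤ 𝒩 (zpowers x) := fun c hc => (a5 c hc).elim (@centralizer_le_normalizer _ _ _ c) fun h =>
      (mul_mem_cancel_right (mem_normalizer_fintype (by
        rintro _ ⟨k, rfl⟩; rw [← conj_zpow, a4]; exact zpow_mem (inv_mem (mem_zpowers x)) k))).1
        (centralizer_le_normalizer _ h)
    have a9 : ♯↥(B ⊓ 𝒞 (zpowers x)) = 2 ^ m := by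
      haveI := hI.1
      have := card_sup_two (H := B ⊓ 𝒞 (zpowers x)) (t := b) (centralizer_le_normalizer _ (centralizer_le
        (inf_le_left.trans h4) (le_centralizer I (h4 a3)))) (hs ▸ one_mem _) fun h => a7 h.2
      rw [le_antisymm (sup_le inf_le_left (zpowers_le.2 a3)) fun c hc => (a5 c (h4 hc)).elim
        (fun h => mem_sup_left (mem_inf.2 ⟨hc, h⟩)) fun h => (mul_mem_cancel_right (mem_sup_right (mem_zpowers b))).1
        (mem_sup_left (mem_inf.2 ⟨mul_mem hc a3, h⟩)), h5] at this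
      omega
    obtain ⟨f, b1, b2, b3, b4, b5, b6, b7⟩ := ih (F ⊓ 𝒞 (zpowers x)) (B ⊓ 𝒞 (zpowers x))
      (H1.isNilpotent_of_le inf_le_left h1) (h2.of_dvd_nat (card_dvd_of_le inf_le_left))
      (H1.le_normalizer_inf h3 (H1.le_normalizer_centralizer a8)) (inf_le_left.trans h4) a9
      (eq_bot_iff.2 (h6 ▸ le_inf (inf_le_left.trans inf_le_left) (H1.le_centralizer_of_self_centralizing h1
        (zpowers_le.2 a1) ((a9 ▸ (Nat.coprime_two_left.2 h2).pow_left m :).coprime_dvd_left (card_dvd_of_le inf_le_left))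
        (le_centralizer_iff.1 (inf_le_left.trans inf_le_right)) ((inf_le_left.trans inf_le_left).trans (h4.trans h3))
        (le_centralizer_iff.1 inf_le_right))))
    have c1 : ⨆ i, (Fin.cons (zpowers x) f : Fin (m + 1) → Subgroup S) i = zpowers x ⊔ ⨆ i, f i :=
      le_antisymm (iSup_le (Fin.cases le_sup_left fun i => le_sup_of_le_right (le_iSup f i)))
        (sup_le (le_iSup_of_le 0 le_rfl) (iSup_le fun i => le_iSup_of_le i.succ le_rfl))
    have c2 : zpowers x ≤ 𝒞 (⨆ i, f i : Subgroup S) := le_centralizer_iff.1 (iSup_le fun i => (b2 i).trans inf_le_right)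
    have c3 : zpowers x ≤ 𝒞 (B ⊓ 𝒞 (zpowers x) : Subgroup S) := le_centralizer_iff.1 inf_le_right
    have c4 := c2.trans (centralizer_le_normalizer _)
    refine ⟨Fin.cons (zpowers x) f, Fin.cases (Nat.card_zpowers x ▸ a2) b1,
      Fin.cases (zpowers_le.2 a1) fun i => (b2 i).trans inf_le_left, Fin.cases a8 b3, Fin.cases (Fin.cases (by simp)
        fun j _ u hu v hv => (b2 j hv).2 u hu) fun i => Fin.cases (fun _ u hu v hv => ((b2 i hu).2 v hv).symm)
        fun j h => b4 i j fun e => h (e ▸ rfl), ?_, ?_, ?_⟩ <;> rw [c1]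
    · rw [H1.card_sup_of_disjoint c4 (eq_bot_iff.2 (b7 ▸ le_inf inf_le_right (inf_le_left.trans c3))), b5,
        Fin.prod_univ_succ]; rfl
    · exact eq_bot_iff.2 (b6 ▸ le_inf (inf_le_inf_left _ (centralizer_le (SetLike.coe_subset_coe.2 le_sup_left)))
        (inf_le_right.trans (centralizer_le (SetLike.coe_subset_coe.2 le_sup_right))))
    · refine eq_bot_iff.2 fun g ⟨hg, hg'⟩ => ?_
      obtain ⟨u, hu, v, hv, rfl⟩ := (H1.mem_sup_left_norm c4).1 hg
      obtain rfl : v = 1 := b7.le ⟨hv, (mul_mem_cancel_left (c3 hu)).1 (centralizer_le (SetLike.coe_subset_coe.2 inf_le_left) hg')⟩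
      exact a6 _ (by simpa using hu) (hg' b a3)

/-- Let S be a finite solvable group whose Fitting subgroup F(S) has odd order, and let I be an elementary abelian 2-subgroup of S of order 2ⁿ with n ≥ 1. Then F(S) contains subgroups A₁, …, Aₙ of prime order, each normalized by I, pairwise commuting and generating a subgroup A of order |A₁|⋯|Aₙ| (their internal direct product), such that no non-identity element of I centralizes A. -/
theorem result {S : Type*} [Group S] [Finite S]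
    [Group.IsSolvable S] (hF : Odd (Nat.card ↥(Cfsg.fittingSubgroup S)))
    (I : Subgroup S) (hI : Cfsg.IsElementaryAbelian 2 I) (n : ℕ) (hn : 1 ≤ n) (hIn : Nat.card ↥I = 2 ^ n) :
    ∃ f : Fin n → Subgroup S, (∀ i, (Nat.card ↥(f i)).Prime) ∧ (∀ i, f i ≤ Cfsg.fittingSubgroup S) ∧
      (∀ i, I ≤ Subgroup.normalizer ((f i) : Set S)) ∧ (∀ i j, i ≠ j → ∀ a ∈ f i, ∀ b ∈ f j, a * b = b * a) ∧
      Nat.card ↥(⨆ i, f i) = ∏ i, Nat.card ↥(f i) ∧ I ⊓ Subgroup.centralizer ((⨆ i, f i : Subgroup S) : Set S) = ⊥ := by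
  obtain ⟨f, h1, h2, h3, h4, h5, h6, -⟩ := main hI n _ I inferInstance hF le_normalizer_of_normal le_rfl hIn
    (eq_bot_iff.2 ((inf_le_inf_left _ (H1.centralizer_fittingSubgroup_le ‹_›)).trans
      (inf_eq_bot_of_coprime (hIn ▸ (Nat.coprime_two_left.2 hF).pow_left n)).le))
  exact ⟨f, h1, h2, h3, h4, h5, h6⟩

end Cfsg.Agent.S4408
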