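import Cfsg.Statements.S1349
import Mathlib
import Cfsg.Agent.S4408
import Cfsg.Agent.H2.BG1
import Cfsg.Agent.H2.Invol
import Cfsg.Agent.H8.Sig0

set_option autoImplicit false
open Cfsg

namespace Cfsg.Agent.S1349

open Cfsg.Agent.H2 Cfsg.Agent.BG Subgroup

/-- Let G be finite, L ≤ G solvable of odd order, and A an elementary abelian 2-subgroup of order 2^d (d ≥ 1) normalizing L with C_A(L) = 1. Then there are subgroups A_1, …, A_d of A of order 2 generating A and subgroups L_1, …, L_d of L such that each A_i ⊔ L_i is dihedral of order 2 n_i with n_i odd and at least 3, and A_i ⊔ L_i commutes elementwise with A_j ⊔ L_j for i ≠ j. -/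
theorem result {G : Type*} [Group G] [Finite G] (L A : Subgroup G) (hLs : Group.IsSolvable ↥L) (hLodd : Odd (Nat.card ↥L)) (hA : Cfsg.IsElementaryAbelian 2 A) (d : ℕ) (hd : 1 ≤ d) (hAd : Nat.card ↥A = 2 ^ d) (hAL : A ≤ Subgroup.normalizer (L : Set G)) (hfaith : A ⊓ Subgroup.centralizer (L : Set G) = ⊥) : ∃ (Ai : Fin d → Subgroup G) (Li : Fin d → Subgroup G) (n : Fin d → ℕ), (∀ i, Ai i ≤ A ∧ Nat.card ↥(Ai i) = 2 ∧ Li i ≤ L ∧ Odd (n i) ∧ 3 ≤ n i ∧ Nonempty (↥(Ai i ⊔ Li i) ≃* DihedralGroup (n i))) ∧ (⨆ i, Ai i) = A ∧ ∀ i j, i ≠ j → ∀ x ∈ Ai i ⊔ Li i, ∀ y ∈ Ai j ⊔ Li j, x * y = y * x := by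
  classical
  have hc : (♯A).Coprime ♯L := hAd ▸ (Nat.coprime_two_left.2 hLodd).pow_left d
  obtain ⟨f, h1, h2, h3, h4, -, h5, -⟩ := S4408.main hA d (H8.Fit L) A (H8.Fit_nilpotent L)
    (hLodd.of_dvd_nat (card_dvd_of_le (H8.Fit_le L))) (H8.le_normalizer_Fit_of hAL) le_rfl hAd (eq_bot_iff.2 (hfaith ▸ le_inf inf_le_left (coprime_cent_Fitting hAL hc hLs)))
  replace h2 := fun i => (h2 i).trans (H8.Fit_le L)
  have hs : ∀ a ∈ A, a * a = 1 := fun a ha => by rw [← pow_two, hA.2 a ha]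
  have h6 : ∀ i, ∀ a ∈ A, a ∉ 𝒞 (f i) → ∀ x ∈ f i, a * x * a⁻¹ = x⁻¹ := fun i a ha h x hx => by
    by_contra e
    haveI := Fact.mk (h1 i)
    have a1 : x * (a * x * a⁻¹) ∈ f i := mul_mem hx ((mem_normalizer_iff.1 (h3 i ha) x).1 hx)
    haveI := isCyclic_of_prime_card (p := ♯(f i)) (α := f i) rfl
    have a2 := congrArg Subtype.val (IsCyclic.commutative.is_comm.comm (⟨x, hx⟩ : f i) ⟨_, (mem_normalizer_iff.1 (h3 i ha) x).1 hx⟩)
    refine h (zpowers_le.1 (le_centralizer_iff.1 ((subgroupOf_eq_top.1 ((eq_bot_or_eq_top_of_prime_card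
      ((𝒞 (zpowers a)).subgroupOf (f i))).resolve_left fun e' => e (eq_inv_of_mul_eq_one_right
      (congrArg Subtype.val (e'.le (show (⟨_, a1⟩ : f i) ∈ _ from ?_)))))))))
    rw [mem_subgroupOf, H1.centralizer_zpowers, mem_centralizer_singleton_iff]
    show x * (a * x * a⁻¹) * a = a * (x * (a * x * a⁻¹))
    conv_rhs => rw [show x * (a * x * a⁻¹) = a * x * a⁻¹ * x from a2]
    simp [mul_assoc, inv_eq_of_mul_eq_one_right (hs a ha), hs a ha, ← mul_assoc a a]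
  have h7 : ∀ i, ∀ a ∈ A, ∀ b ∈ A, a * b ∈ 𝒞 (f i) ↔ (a ∈ 𝒞 (f i) ↔ b ∈ 𝒞 (f i)) := fun i a ha b hb => by
    by_cases e : a ∈ 𝒞 (f i)
    · simp [e, mul_mem_cancel_left e]
    by_cases e' : b ∈ 𝒞 (f i)
    · simp [e', mul_mem_cancel_right e']
    refine iff_of_true (fun x hx => (mul_inv_eq_iff_eq_mul.1 ?_).symm) (iff_of_false e e')
    rw [show a * b * x * (a * b)⁻¹ = a * (b * x * b⁻¹) * a⁻¹ by group, h6 i b hb e' x hx, h6 i a ha e _ (inv_mem hx), inv_inv]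
  have h8 : ∀ a ∈ A, ∀ b ∈ A, (∀ i, a ∈ 𝒞 (f i) ↔ b ∈ 𝒞 (f i)) → a = b := fun a ha b hb h =>
    (eq_inv_of_mul_eq_one_left (h5.le ⟨mul_mem ha hb, zpowers_le.1 (le_centralizer_iff.1 (iSup_le fun i =>
      le_centralizer_iff.1 (zpowers_le.2 ((h7 i a ha b hb).2 (h i)))))⟩)).trans (inv_eq_of_mul_eq_one_right (hs b hb))
  have h9 := ((Nat.bijective_iff_injective_and_card (fun (a : A) (i : Fin d) => a.1 ∈ 𝒞 (f i))).2
    ⟨fun a b h => Subtype.ext (h8 a a.2 b b.2 fun i => iff_of_eq (congrFun h i)), by simp [hAd]⟩).2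
  choose a ha using fun i => h9 (· ≠ i)
  replace ha : ∀ i j, (a i).1 ∈ 𝒞 (f j) ↔ j ≠ i := fun i j => iff_of_eq (congrFun (ha i) j)
  have b1 : ∀ i, (a i).1 ≠ 1 := fun i e => (ha i i).1 (e ▸ one_mem _) rfl
  refine ⟨fun i => zpowers (a i).1, f, fun i => ♯(f i), fun i => ?_, le_antisymm (iSup_le fun i => zpowers_le.2 (a i).2)
    fun x hx => ?_, fun i j hij x hx y hy => ?_⟩
  · have b2 := hLodd.of_dvd_nat (card_dvd_of_le (h2 i))
    haveI := Fact.mk (h1 i)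
    obtain ⟨x, b3, b4⟩ := H8.exists_zpowers_of_card_prime (A := f i) rfl
    refine ⟨zpowers_le.2 (a i).2, (Nat.card_zpowers _).trans (orderOf_eq_prime (hA.2 _ (a i).2) (b1 i)), h2 i, b2,
      (h1 i).odd_iff.1 b2, ?_⟩
    have := closure_equiv_dihedral b3 (hs _ (a i).2) (h6 i _ (a i).2 (fun e => (ha i i).1 e rfl) x (b4 ▸ mem_zpowers x))
      fun e => b1 i ((inf_eq_bot_of_coprime hc).le ⟨(a i).2, h2 i (b4 ▸ e)⟩)
    rwa [Set.insert_eq, Subgroup.closure_union, ← zpowers_eq_closure, ← zpowers_eq_closure, b4, sup_comm] at this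
  · have b2 : ∀ s : Finset (Fin d), ∃ k ∈ A, k ∈ (⨆ i, zpowers (a i).1) ∧ ∀ i, k ∈ 𝒞 (f i) ↔ i ∉ s := fun s => by
      induction s using Finset.induction_on with
      | empty => exact ⟨1, one_mem _, one_mem _, fun i => by simp⟩
      | insert j s hj ih =>
        obtain ⟨k, c1, c2, c3⟩ := ih
        refine ⟨a j * k, mul_mem (a j).2 c1, mul_mem (mem_iSup_of_mem j (mem_zpowers _)) c2, fun i => ?_⟩
        rw [h7 i _ (a j).2 k c1, ha, c3]
        by_cases e : i = j <;> simp [e, hj]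
    obtain ⟨k, c1, c2, c3⟩ := b2 {i | x ∉ 𝒞 (f i)}
    exact h8 k c1 x hx (by simpa using c3) ▸ c2
  · haveI := hA.1
    have c : ∀ i j, i ≠ j → zpowers (a i).1 ≤ 𝒞 (f j) := fun i j h => zpowers_le.2 ((ha i j).2 h.symm)
    exact (sup_le (le_centralizer_iff.1 (sup_le ((zpowers_le.2 (a i).2).trans ((le_centralizer A).trans (centralizer_le
      (SetLike.coe_subset_coe.2 (zpowers_le.2 (a j).2))))) (le_centralizer_iff.1 (c j i hij.symm))))
      (le_centralizer_iff.1 (sup_le (c i j hij) fun u hu v hv => (h4 i j hij u hu v hv).symm)) :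
      _ ≤ 𝒞 (zpowers (a i).1 ⊔ f i : Subgroup G)) hy x hx

end Cfsg.Agent.S1349
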