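import Cfsg.Statements.S1628
import Cfsg.Agent.C3.Ru1

set_option autoImplicit false
open Cfsg

namespace Cfsg.Agent.S1628

open Cfsg.Spor Cfsg.Agent.C3.Ru

def nr (z : GaussianInt) : ℕ := z.re.natAbs * z.re.natAbs + z.im.natAbs * z.im.natAbs

def rs (a : ℤ) : ℕ := (a % 4).toNat

def enc (z : GaussianInt) : T3 := (rs z.re, rs z.im, nr z - nr z % 2)

theorem nr_cast (z : GaussianInt) : (nr z : ℤ) = z.re * z.re + z.im * z.im := by
  unfold nr
  rw [Nat.cast_add, Int.natAbs_mul_self, Int.natAbs_mul_self]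

theorem cand (z : GaussianInt) (h : nr z ≤ 8) : (nr z % 2 ≠ 0 → enc z ∈ Co) ∧ (nr z % 2 = 0 → enc z ∈ Ce) ∧
    (2 : ℤ) ∣ z.re + z.im - (nr z % 2 : ℕ) := by
  have h0 := nr_cast z
  obtain ⟨a, b⟩ := z
  simp only at h0
  have h1 : (nr ⟨a, b⟩ : ℤ) ≤ 8 := by exact_mod_cast h
  have ha1 : -2 ≤ a := by nlinarith [mul_self_nonneg b]
  have ha2 : a ≤ 2 := by nlinarith [mul_self_nonneg b]
  have hb1 : -2 ≤ b := by nlinarith [mul_self_nonneg a]
  have hb2 : b ≤ 2 := by nlinarith [mul_self_nonneg a]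
  clear h0 h1 h
  interval_cases a <;> interval_cases b <;> decide

theorem sum_mod (f : ℕ → ℤ) (g : ℕ → ℕ) : ∀ l : List ℕ, (∀ q ∈ l, (4 : ℤ) ∣ f q - g q) →
    (4 : ℤ) ∣ (l.map f).sum - ((l.map g).sum : ℕ)
  | [], _ => by simp
  | q :: l, h => by
    have h1 := h q List.mem_cons_self
    have h2 := sum_mod f g l fun r hr => h r (List.mem_cons_of_mem _ hr)
    simp only [List.map_cons, List.sum_cons, Nat.cast_add]
    omega

theorem rd_R (x : RuVec) (h : ℕ) : rd x (toV h) =
    (R.map fun q => (x (ix q)).re * (dg h (2 * q) : ℕ) + (x (ix q)).im * (dg h (2 * q + 1) : ℕ)).sum := by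
  unfold rd
  rw [sum_ix]
  refine congrArg List.sum (List.map_congr_left fun q hq => ?_)
  simp only [toV, cd_ix q hq]

theorem rs_dvd (a : ℤ) : (4 : ℤ) ∣ a - rs a := by
  unfold rs; omega

theorem no8 (x : RuVec) (hx : x ∈ S) (h8 : rd x x = 8) : False := by
  have hN : (R.map fun q => nr (x (ix q))).sum = 8 := by
    have : (((R.map fun q => nr (x (ix q))).sum : ℕ) : ℤ) = rd x x := by
      unfold rd
      rw [sum_ix, Nat.cast_list_sum, List.map_map]
      refine congrArg List.sum (List.map_congr_left fun q _ => ?_)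
      exact nr_cast _
    omega
  have hle : ∀ q ∈ R, nr (x (ix q)) ≤ 8 := fun q hq =>
    hN ▸ List.single_le_sum (fun _ _ => Nat.zero_le _) _ (List.mem_map.2 ⟨q, hq, rfl⟩)
  let e0 : ℕ → T3 := fun q => (nr (x (ix q)) % 2, 0, nr (x (ix q)) % 2)
  let e1 : ℕ → T3 := fun q => enc (x (ix q))
  have hx1 : ∀ h, orth h = true → (R.map fun q => tm h (q, e1 q)).sum % 4 = 0 := by
    intro h ho
    have h1 := S_orth h ho x hx
    rw [rd_R] at h1
    have h2 := sum_mod (fun q => (x (ix q)).re * (dg h (2 * q) : ℕ) + (x (ix q)).im * (dg h (2 * q + 1) : ℕ))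
      (fun q => tm h (q, e1 q)) R (fun q _ => by
        simp only [tm, e1, enc]
        push_cast
        have := dvd_add ((rs_dvd (x (ix q)).re).mul_right (dg h (2 * q) : ℕ))
          ((rs_dvd (x (ix q)).im).mul_right (dg h (2 * q + 1) : ℕ))
        obtain ⟨k, hk⟩ := this
        exact ⟨k, by linear_combination hk⟩)
    omega
  have hx0 : ∀ h, (orth h && shape h) = true → (R.map fun q => tm h (q, e0 q)).sum % 4 = 0 := by
    intro h ho
    rw [Bool.and_eq_true] at ho
    have h1 := S_orth h ho.1 x hx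
    rw [rd_R] at h1
    have h2 := sum_mod (fun q => (x (ix q)).re * (dg h (2 * q) : ℕ) + (x (ix q)).im * (dg h (2 * q + 1) : ℕ))
      (fun q => tm h (q, e0 q)) R (fun q hq => by
        have h3 := List.all_eq_true.1 ho.2 q hq
        simp only [Bool.and_eq_true, Nat.beq_eq] at h3
        obtain ⟨k, hk⟩ := (cand _ (hle q hq)).2.2
        obtain ⟨d, hd⟩ : 2 ∣ dg h (2 * q) := Nat.dvd_of_mod_eq_zero h3.2
        simp only [tm, e0]
        rw [← h3.1, hd]
        refine ⟨k * d, ?_⟩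
        simp only [Nat.cast_add, Nat.cast_mul, Nat.cast_ofNat, Nat.cast_zero]
        linear_combination (2 * d) * hk)
    omega
  have hW : (R.map fun q => (e1 q).2.2).sum + (R.map fun q => (e0 q).2.2).sum = 8 := by
    rw [← List.sum_map_add, ← hN]
    refine congrArg List.sum (List.map_congr_left fun q _ => ?_)
    simp only [e0, e1, enc]
    omega
  have hs : ∀ (st : List (ℕ × List T3 × List ℕ)) (e : ℕ → T3), (([] : List ℕ) ++ st.map Prod.fst).Perm R →
      (st.map fun s => (e s.1).2.2).sum = (R.map fun q => (e q).2.2).sum := by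
    intro st e hp
    rw [← (hp.map _).sum_eq, List.nil_append, List.map_map]
    rfl
  have h0 := go_sound fin0 (fun h => orth h && shape h) e0 hx0 st0 [] 8 perm0 ok0 (fun s hs => by
    obtain ⟨a, _, rfl⟩ := List.mem_map.1 hs
    simp only [e0, C0]
    rcases Nat.mod_two_eq_zero_or_one (nr (x (ix a.1))) with h | h <;> rw [h] <;> decide) go0
    (by rw [hs st0 e0 perm0]; omega)
  rw [hs st0 e0 perm0] at h0
  simp only [fin0, List.any_eq_true, Bool.and_eq_true, decide_eq_true_eq, Nat.beq_eq] at h0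
  obtain ⟨e, he, h1, h2⟩ := h0
  have h3 := List.all_eq_true.1 ok1 e he
  simp only [Bool.and_eq_true, decide_eq_true_eq] at h3
  have h4 := go_sound fin1 orth e1 hx1 (st1 e) [] (8 - e.1.length) h3.2 h3.1 (fun s hs => by
    have hR : s.1 ∈ R := h3.2.subset (List.mem_append_right _ (List.mem_map.2 ⟨s, hs, rfl⟩))
    obtain ⟨a, _, rfl⟩ := List.mem_map.1 hs
    have h5 := mem_mk e0 a.1 ((st0.map Prod.fst).reverse ++ [])
    rw [← h1] at h5
    have h6 : a.1 ∈ (st0.map Prod.fst).reverse ++ [] := by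
      rw [List.append_nil, List.mem_reverse]
      exact perm0.symm.subset hR
    simp only [e0] at h5
    show enc (x (ix a.1)) ∈ if a.1 ∈ e.1 then Co else Ce
    split_ifs with h7
    · exact (cand _ (hle _ hR)).1 fun h => (h5.1 h7).2 ⟨h, trivial⟩
    · refine (cand _ (hle _ hR)).2.1 ?_
      by_contra h
      exact h7 (h5.2 ⟨h6, fun h' => h h'.1⟩)) (List.all_eq_true.1 go1 e he)
    (by rw [hs _ e1 h3.2]; omega)
  rw [hs _ e1 h3.2] at h4
  have h5 : 8 - e.1.length - (R.map fun q => (e1 q).2.2).sum = 0 := by omega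
  rw [h5] at h4
  exact Bool.noConfusion h4

/-- The Conway–Wales lattice as stored is even with no vectors of true norm 2: stored norms are multiples of 8, never equal to 8, and the minimum over nonzero vectors is 16. -/
theorem result : (∀ x ∈ Cfsg.Spor.ruLattice, (8 : ℤ) ∣ Cfsg.Spor.ruNorm x) ∧ (∀ x ∈ Cfsg.Spor.ruLattice, Cfsg.Spor.ruNorm x ≠ 8) ∧ (∀ x ∈ Cfsg.Spor.ruLattice, x ≠ 0 → 16 ≤ Cfsg.Spor.ruNorm x) ∧ ∃ x ∈ Cfsg.Spor.ruLattice, Cfsg.Spor.ruNorm x = 16 := by
  have h1 : ∀ x ∈ Cfsg.Spor.ruLattice, (8 : ℤ) ∣ Cfsg.Spor.ruNorm x := fun x hx => by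
    rw [norm_eq]; exact S_even x (L_le hx)
  have h2 : ∀ x ∈ Cfsg.Spor.ruLattice, Cfsg.Spor.ruNorm x ≠ 8 := fun x hx h => by
    rw [norm_eq] at h; exact no8 x (L_le hx) h
  refine ⟨h1, h2, fun x hx h0 => ?_, ?_⟩
  · have h3 := h1 x hx
    have h4 := h2 x hx
    have h5 : 0 ≤ ruNorm x := Finset.sum_nonneg fun p _ => GaussianInt.norm_nonneg _
    have h6 : ruNorm x ≠ 0 := by
      intro h
      apply h0
      funext p
      exact GaussianInt.norm_eq_zero.1
        ((Finset.sum_eq_zero_iff_of_nonneg fun p _ => GaussianInt.norm_nonneg (x p)).1 h p (Finset.mem_univ p))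
    omega
  · have h7 : (ruTable.any fun v => decide (ruNorm v = 16)) = true := by decide +kernel
    obtain ⟨v, hv, h8⟩ := List.any_eq_true.1 h7
    refine ⟨v, ?_, of_decide_eq_true h8⟩
    rw [ruLattice, AddSubgroup.mem_sInf]
    intro L hL
    exact hL.1 v hv

end Cfsg.Agent.S1628
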