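import Cfsg.Statements.S1897
import Cfsg.Agent.GS.Cp1
import Cfsg.Agent.H6.MathK

set_option autoImplicit false
open Cfsg

namespace Cfsg.Agent.S1897

section
open Finset Pointwise Cfsg.Agent.St Cfsg.Agent.H6

set_option maxRecDepth 100000
noncomputable def nb : List Net := [(Net.cons (nat_lit 4) (nat_lit 7)
  (Net.cons (nat_lit 2) (nat_lit 3)
  (Net.cons (nat_lit 1) (nat_lit 1)
  Net.nil))),
 (Net.cons (nat_lit 2) (nat_lit 32)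
  (Net.cons (nat_lit 1) (nat_lit 80)
  (Net.cons (nat_lit 4) (nat_lit 14)
  Net.nil))),
 (Net.cons (nat_lit 4) (nat_lit 4)
  (Net.cons (nat_lit 2) (nat_lit 48)
  (Net.cons (nat_lit 1) (nat_lit 20)
  (Net.cons (nat_lit 4) (nat_lit 8)
  Net.nil))))]
def SL : SLev := (SLev.cons [[0]] [[],[0],[0,0],[1,0],[0,0,0],[2,0,0],[2,1,0],[1,2,1,0]]
  [[(1,[]),(2,[]),(4,[]),(5,[1,0,1,0,1]),(3,[0,1]),(6,[0,0]),(0,[1,0,1,0]),(7,[0,0,0,0,0])],[(0,[0]),(3,[]),(4,[0,1]),(5,[0,1,1]),(6,[1,0,1,0]),(2,[1,0,1,0]),(7,[]),(1,[1,1,0])],[(0,[1]),(2,[0,0,0,0]),(5,[]),(6,[]),(4,[1,0,1]),(1,[0,0,0]),(7,[1,1,0]),(3,[1,0,0,0])]]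
  (SLev.cons [[1]] [[],[0],[0,0],[0,0,0],[1,0,0],[1,0,0,0],[0,1,0,0]]
  [[(1,[]),(2,[]),(3,[]),(4,[0,0]),(6,[]),(0,[0]),(5,[])],[(0,[0]),(2,[0]),(4,[]),(5,[]),(1,[0,0]),(6,[0]),(3,[0,0])]]
  (SLev.cons [[2]] [[],[0],[0,0]]
  [[(1,[]),(2,[]),(0,[])]]
  SLev.nil)))
def L : Lev := (Lev.cons 0 8 [[0]] (Lev.cons 1 7 [[1]] (Lev.cons 2 3 [[2]] Lev.nil)))

end

/-- The projective special unitary group PSU₃(3) (realised over the field with 9 elements) has a subgroup isomorphic to PSL₂(7). -/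
theorem result {F : Type*} [Field F] [Fintype F] (hF : Fintype.card F = 9)
    {K : Type*} [Field K] [Fintype K] (hK : Fintype.card K = 7) :
    ∃ H : Subgroup (Cfsg.PSU 3 F 3), Nonempty (H ≃* Matrix.ProjectiveSpecialLinearGroup (Fin 2) K) := by
  open Finset Pointwise Cfsg.Agent.St Cfsg.Agent.H6 in focus
    haveI : Fact (Nat.Prime 7) := ⟨by norm_num⟩
    haveI : Fact (Nat.Prime 3) := ⟨Nat.prime_three⟩
    haveI := charP_of_card (p := 7) (k := 1) (by norm_num) hK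
    haveI : CharP F 3 := charP_of_card (k := 2) Nat.prime_three hF
    obtain ⟨ω, hω⟩ := exists_w9 hF
    obtain ⟨g, hg⟩ := mrep_SL (n := 2) (semP (F := K) 7 (by norm_num)) (ml := [[15,33],[1,10],[5,21]]) (fs := [[[1,12],[15,7]],[[1,10]],[[1,13],[36,7],[1,12],[43,7]]]) (by decide +kernel)
    have h0 := vecC_ne (n := 2) (semP (F := K) 7 (by norm_num)) (injP 7) (vl := [7,1,8,15,22,29,36,43]) (by decide +kernel)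
    have mT := prjModel hg (injP 7) h0 (N := 8) (nl := nb) (by decide +kernel)
    have cB : Nat.card (Matrix.ProjectiveSpecialLinearGroup (Fin 2) K) = 168 := by
      have := S0243.result hK 2 (by norm_num)
      generalize Nat.card (Matrix.ProjectiveSpecialLinearGroup (Fin 2) K) = x at this
      norm_num [Fin.prod_univ_succ] at this; omega
    obtain ⟨u, hu⟩ := mrep_SU (n := 3) (sem9 hω) (frobenius F 3) (fun _ => rfl) (ml := [[660,119,499],[344,266,550],[677,77,429]]) (fs := [[[64,9,81],[1,11,85],[1,90,81],[1,9,126],[100,495,81]],[[37,9,81],[1,14,82],[1,252,81],[1,9,117],[190,333,81]],[[37,9,81],[1,14,87],[1,414,81],[1,9,99],[649,90,81]]]) (by decide +kernel)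
    have lb := mT.ord_le_card (L := L) (k := 0) (r := 40) (by decide +kernel)
    obtain ⟨e⟩ := emb_of (eqv_of_faith mT (faith_of_card mT (card_prj hK (by decide))) 3)
      (g' := fun l => QuotientGroup.mk' (Subgroup.center _) (u l)) (fun a b h => by rw [← map_wp, ← map_wp, hu.eqv a b h]) (SL := SL) (by decide +kernel)
      (le_of_eq_of_le (by decide +kernel) lb) (tr := [[],[0],[1],[2],[0,0],[1,0],[2,0],[0,1],[1,1],[2,1],[0,2],[1,2],[2,2],[0,0,0],[1,0,0],[2,0,0],[0,1,0],[1,1,0],[2,1,0],[0,2,0],[1,2,0],[2,2,0],[0,0,1],[1,0,1],[2,0,1],[0,1,1],[1,1,1],[2,1,1],[0,2,1],[1,2,1],[2,2,1],[0,0,2],[1,0,2],[2,0,2],[0,1,2],[2,1,2],[0,2,2],[1,2,2],[0,0,0,0],[1,0,0,0],[2,0,0,0],[0,1,0,0],[1,1,0,0],[2,1,0,0],[0,2,0,0],[1,2,0,0],[2,2,0,0],[0,0,1,0],[1,0,1,0],[0,1,1,0],[1,1,1,0],[2,1,1,0],[0,2,1,0],[1,2,1,0],[2,2,1,0],[0,0,2,0],[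1,0,2,0],[2,0,2,0],[0,1,2,0],[2,1,2,0],[0,2,2,0],[1,2,2,0],[0,0,0,1],[1,0,0,1],[2,0,0,1],[1,1,0,1],[0,2,0,1],[1,2,0,1],[2,2,0,1],[0,0,1,1],[1,0,1,1],[2,0,1,1],[1,1,1,1],[2,1,1,1],[0,2,1,1],[1,2,1,1],[0,0,2,1],[2,0,2,1],[0,1,2,1],[1,2,2,1],[0,0,0,2],[1,0,0,2],[2,0,0,2],[0,1,0,2],[2,1,0,2],[2,2,0,2],[0,0,1,2],[2,0,1,2],[0,2,1,2],[1,2,1,2],[0,0,2,2],[1,0,2,2],[2,0,2,2],[0,1,2,2],[2,0,0,0,0],[1,1,0,0,0],[2,1,0,0,0],[0,2,0,0,0],[0,0,1,0,0],[1,1,1,0,0],[2,1,1,0,0],[0,2,1,0,0],[1,2,1,0,0],[2,2,1,0,0],[1,0,2,0,0],[2,0,2,0,0],[0,1,2,0,0],[2,1,2,0,0],[0,2,2,0,0],[1,2,2,0,0],[1,0,0,1,0],[2,0,0,1,0],[1,0,1,1,0],[2,0,1,1,0],[1,1,1,1,0],[2,1,1,1,0],[1,2,1,1,0],[0,0,2,1,0],[2,0,2,1,0],[0,1,2,1,0],[1,2,2,1,0],[0,0,0,2,0],[1,0,0,2,0],[2,0,0,2,0],[2,1,0,2,0],[0,0,1,2,0],[2,0,1,2,0],[1,2,1,2,0],[1,0,2,2,0],[2,0,2,2,0],[0,0,0,0,1],[1,1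,0,0,1],[1,2,0,0,1],[2,2,0,0,1],[0,1,1,0,1],[0,0,2,0,1],[0,1,2,0,1],[1,2,2,0,1],[0,0,0,1,1],[1,0,0,1,1],[1,2,0,1,1],[0,1,2,1,1],[2,0,0,2,1],[0,1,2,2,1],[0,0,0,0,2],[1,1,0,0,2],[0,2,1,0,2],[2,2,1,0,2],[0,2,2,0,2],[1,0,0,1,2],[2,2,0,1,2],[0,1,2,1,2],[2,0,0,2,2],[2,1,1,0,0,0],[0,2,1,0,0,0],[2,2,1,0,0,0],[2,0,2,0,0,0],[2,1,1,1,0,0],[1,2,2,1,0,0],[0,0,1,2,0,0],[2,0,2,2,0,0],[1,2,0,1,1,0],[0,1,2,1,1,0],[0,2,1,0,2,0],[2,2,0,1,2,0],[2,0,1,1,0,1],[2,0,0,2,0,1],[0,0,2,1,0,2]]) (dat := [[(1,[]),(4,[]),(7,[]),(10,[]),(13,[]),(16,[]),(19,[]),(22,[]),(25,[]),(28,[]),(31,[]),(34,[]),(36,[]),(38,[]),(41,[]),(44,[]),(47,[]),(49,[]),(52,[]),(55,[]),(58,[]),(60,[]),(62,[]),(15,[]),(66,[]),(69,[]),(46,[]),(74,[]),(76,[]),(78,[]),(51,[]),(80,[]),(83,[]),(67,[]),(86,[]),(88,[]),(90,[]),(93,[]),(82,[]),(9,[]),(97,[]),(98,[]),(30,[]),(101,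[]),(12,[]),(106,[]),(108,[]),(89,[]),(40,[]),(27,[]),(63,[]),(92,[]),(117,[]),(119,[]),(100,[]),(121,[]),(29,[]),(70,[]),(125,[]),(32,[]),(35,[]),(81,[]),(130,[]),(91,[]),(42,[]),(134,[]),(135,[]),(136,[]),(18,[]),(138,[]),(64,[]),(43,[]),(133,[]),(120,[]),(33,[]),(141,[]),(20,[]),(140,[]),(50,[]),(143,[]),(144,[]),(109,[]),(123,[]),(94,[]),(146,[]),(148,[]),(14,[]),(139,[]),(48,[]),(151,[]),(114,[]),(107,[]),(57,[]),(61,[]),(26,[]),(54,[]),(154,[]),(21,[]),(127,[]),(110,[]),(129,[]),(150,[]),(3,[]),(153,[]),(53,[]),(112,[]),(159,[]),(56,[]),(59,[]),(122,[]),(128,[]),(95,[]),(111,[]),(96,[]),(23,[]),(158,[]),(162,[]),(45,[]),(161,[]),(99,[]),(77,[]),(145,[]),(131,[]),(0,[]),(163,[]),(39,[]),(75,[]),(11,[]),(147,[]),(105,[]),(142,[]),(37,[]),(149,[]),(6,[]),(73,[]),(115,[]),(17,[]),(103,[]),(157,[]),(116,[]),(155,[]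),(87,[]),(166,[]),(137,[]),(152,[]),(72,[]),(167,[]),(104,[]),(8,[]),(5,[]),(84,[]),(132,[]),(102,[]),(160,[]),(164,[]),(65,[]),(79,[]),(85,[]),(118,[]),(68,[]),(156,[]),(24,[]),(126,[]),(165,[]),(124,[]),(113,[]),(2,[]),(71,[])],[(2,[]),(5,[]),(8,[]),(11,[]),(14,[]),(17,[]),(20,[]),(23,[]),(26,[]),(29,[]),(32,[]),(9,[]),(37,[]),(39,[]),(42,[]),(45,[]),(48,[]),(50,[]),(53,[]),(56,[]),(18,[]),(61,[]),(63,[]),(65,[]),(67,[]),(70,[]),(72,[]),(75,[]),(55,[]),(27,[]),(79,[]),(81,[]),(64,[]),(40,[]),(38,[]),(89,[]),(91,[]),(35,[]),(68,[]),(95,[]),(84,[]),(83,[]),(99,[]),(102,[]),(104,[]),(43,[]),(109,[]),(110,[]),(66,[]),(112,[]),(114,[]),(116,[]),(12,[]),(51,[]),(120,[]),(122,[]),(111,[]),(94,[]),(82,[]),(127,[]),(128,[]),(59,[]),(49,[]),(131,[]),(132,[]),(87,[]),(126,[]),(47,[]),(137,[]),(139,[]),(98,[]),(140,[]),(118,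[]),(3,[]),(135,[]),(73,[]),(103,[]),(106,[]),(130,[]),(52,[]),(60,[]),(145,[]),(71,[]),(69,[]),(96,[]),(22,[]),(149,[]),(57,[]),(136,[]),(30,[]),(62,[]),(121,[]),(138,[]),(144,[]),(124,[]),(10,[]),(133,[]),(152,[]),(31,[]),(88,[]),(141,[]),(21,[]),(100,[]),(158,[]),(143,[]),(78,[]),(123,[]),(76,[]),(80,[]),(107,[]),(93,[]),(34,[]),(28,[]),(161,[]),(148,[]),(6,[]),(115,[]),(155,[]),(146,[]),(151,[]),(101,[]),(108,[]),(90,[]),(113,[]),(7,[]),(86,[]),(105,[]),(54,[]),(36,[]),(74,[]),(16,[]),(147,[]),(13,[]),(153,[]),(129,[]),(160,[]),(142,[]),(19,[]),(134,[]),(156,[]),(44,[]),(157,[]),(4,[]),(58,[]),(150,[]),(164,[]),(0,[]),(117,[]),(163,[]),(166,[]),(24,[]),(41,[]),(77,[]),(162,[]),(46,[]),(85,[]),(119,[]),(15,[]),(154,[]),(125,[]),(92,[]),(97,[]),(33,[]),(1,[]),(25,[]),(167,[]),(165,[]),(159,[])],[(3,[]),(6,[]),(9,[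]),(12,[]),(15,[]),(18,[]),(21,[]),(24,[]),(27,[]),(30,[]),(33,[]),(35,[]),(0,[]),(40,[]),(43,[]),(46,[]),(25,[]),(51,[]),(54,[]),(57,[]),(59,[]),(1,[]),(64,[]),(47,[]),(68,[]),(71,[]),(73,[]),(37,[]),(77,[]),(52,[]),(2,[]),(82,[]),(84,[]),(85,[]),(87,[]),(72,[]),(92,[]),(8,[]),(94,[]),(96,[]),(63,[]),(49,[]),(100,[]),(103,[]),(105,[]),(107,[]),(4,[]),(111,[]),(98,[]),(113,[]),(115,[]),(61,[]),(118,[]),(101,[]),(5,[]),(123,[]),(124,[]),(67,[]),(126,[]),(114,[]),(129,[]),(17,[]),(106,[]),(13,[]),(133,[]),(93,[]),(81,[]),(19,[]),(7,[]),(122,[]),(44,[]),(16,[]),(11,[]),(79,[]),(86,[]),(89,[]),(142,[]),(83,[]),(31,[]),(26,[]),(138,[]),(140,[]),(78,[]),(28,[]),(147,[]),(10,[]),(121,[]),(150,[]),(45,[]),(146,[]),(152,[]),(134,[]),(125,[]),(137,[]),(110,[]),(153,[]),(155,[]),(156,[]),(143,[]),(157,[]),(109,[]),(148,[]),(15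4,[]),(14,[]),(130,[]),(70,[]),(139,[]),(88,[]),(160,[]),(42,[]),(38,[]),(23,[]),(97,[]),(41,[]),(20,[]),(120,[]),(127,[]),(132,[]),(29,[]),(55,[]),(50,[]),(74,[]),(161,[]),(119,[]),(144,[]),(36,[]),(164,[]),(163,[]),(135,[]),(159,[]),(145,[]),(95,[]),(162,[]),(22,[]),(165,[]),(166,[]),(102,[]),(65,[]),(149,[]),(62,[]),(66,[]),(76,[]),(141,[]),(48,[]),(56,[]),(104,[]),(75,[]),(32,[]),(53,[]),(80,[]),(34,[]),(90,[]),(151,[]),(131,[]),(136,[]),(39,[]),(112,[]),(158,[]),(99,[]),(60,[]),(167,[]),(69,[]),(117,[]),(116,[]),(58,[]),(91,[]),(128,[]),(108,[])]]) (by decide +kernel) (ntQ hu (inj9 hω) [[0],[1],[2]]) (by decide +kernel)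
    exact ⟨_, ⟨e.symm.trans ((MulEquiv.subgroupCongr (eq_of_le_of_ord le_top lb
      (by rw [Subgroup.card_top, cB]; decide +kernel))).trans Subgroup.topEquiv)⟩⟩

end Cfsg.Agent.S1897
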