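import Cfsg.Statements.S1910
import Cfsg.Agent.H8.Stb
import Cfsg.Agent.H8.Spe
import Cfsg.Agent.H2.Invol2

set_option autoImplicit false
open Cfsg

namespace Cfsg.Agent.S1910

open Subgroup Cfsg.Agent.H1 Cfsg.Agent.BG Cfsg.Agent.SF
open Cfsg.Agent.H2 hiding card_lt_of_lt card_lt_of_ne_top isMulCommutative_of_le isPGroup_zpowers_iff mem_of_pow_mem_of_coprime
open Cfsg.Agent.H8 (Op Opp Fit Fs Lay PLay SN Comp PComp Op_le Opp_le Opp_coprime Op_isPGroup le_normalizer_Op le_normalizer_Opp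
  le_normalizer_Opp_of le_normalizer_Op_of le_Op le_Opp inf_Opp_le le_of_centralizers)

variable {G : Type*} [Group G] [Finite G]

theorem tight_cj {Q : Subgroup G} (hQ : IsTightlyEmbedded Q) (g : G) : IsTightlyEmbedded (g ⋆ Q) := by
  refine H8.tight_iff.2 ⟨by rw [card_cj]; exact hQ.1, fun x t ht h2 hx => ?_⟩
  rw [← cj_normalizer, mem_cj]
  refine H8.tight_mem hQ (ord2_conj' h2 g) (mem_cj.1 ht) ?_
  have := mem_cj.1 hx
  convert this using 1; group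

theorem split {Q T S : Subgroup G} (hTQ : T ≤ 𝒩 Q) (hTS : T ≤ S) (hS : S ≤ Q ⊔ T) : S = T ⊔ (S ⊓ Q) := by
  rw [inf_comm, ← H8.sup_inf_of_norm hTQ hTS, sup_comm]
  exact (inf_eq_right.2 hS).symm

theorem lemA {K Q T R S : Subgroup G} (hK : IsTightlyEmbedded K) (hTK : T ≤ K) (hTQ : T ≤ 𝒩 Q)
    (hd : T ⊓ Q = ⊥) (hTS : T ≤ S) (hS : SylIn 2 S (Q ⊔ T)) (hR : R = S ⊓ 𝒩 T ⊓ Q)
    (hKP : K ⊓ (T ⊔ R) ≤ T) : SylIn 2 R Q ∨ ∃ f : T →* R, Function.Injective f := by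
  have hRQ : R ≤ Q := hR ▸ inf_le_right
  have hRS : R ≤ S := hR ▸ inf_le_left.trans inf_le_left
  have hRT : R ≤ 𝒩 T := hR ▸ inf_le_left.trans inf_le_right
  have hc : ⁅T, R⁆ = ⊥ := eq_bot_mono hd (le_inf (BL.comm_left hRT) ((commutator_mono le_rfl hRQ).trans
    (BL.comm_right hTQ)))
  have hPQ : (T ⊔ R) ⊓ Q = R := by
    rw [H8.sup_inf_of_norm' (H8.le_normalizer_of_commutator_eq_bot hc) hRQ, hd, bot_sup_eq]
  have hsyl := hS.inf_normal' (sup_le le_normalizer hTQ) le_sup_left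
  rcases eq_or_lt_of_le (sup_le hTS hRS) with e | hlt
  · left; rwa [← e, hPQ] at hsyl
  right
  obtain ⟨x, hx, hxn, hxP⟩ := exists_mem_normalizer_not_mem hS.pgrp hlt
  rw [split hTQ hTS hS.le] at hx
  obtain ⟨t₀, ht₀, u, hu, rfl⟩ := H8.mem_sup_of_norm_right (H8.le_normalizer_inf (hTS.trans le_normalizer) hTQ) hx
  have hun : u ∈ 𝒩 (T ⊔ R : Subgroup G) := (mul_mem_cancel_left (le_normalizer (mem_sup_left ht₀))).1 hxn
  have huT : u ∉ 𝒩 T := fun h => hxP (mul_mem (mem_sup_left ht₀) (mem_sup_right (hR ▸ ⟨⟨hu.1, h⟩, hu.2⟩)))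
  have hm : ∀ t ∈ T, t⁻¹ * (u * t * u⁻¹) ∈ R := fun t ht => by
    rw [← hPQ]
    refine ⟨Subgroup.mul_mem _ (mem_sup_left (inv_mem ht)) (H8.conj_mem_of_mem_normalizer hun (mem_sup_left ht)), ?_⟩
    have e : t⁻¹ * (u * t * u⁻¹) = (t⁻¹ * u * t) * u⁻¹ := by group
    rw [e]
    exact Q.mul_mem (H8.conj_mem_of_mem_normalizer' (hTQ ht) hu.2) (Q.inv_mem hu.2)
  refine ⟨MonoidHom.mk' (fun t => ⟨_, hm t t.2⟩) fun a b => Subtype.ext ?_, (injective_iff_map_eq_one _).2 ?_⟩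
  · have := H8.commute_of_commutator_eq_bot hc b.2 (hm a a.2)
    calc ((a : G) * b)⁻¹ * (u * (a * b) * u⁻¹)
        = (b : G)⁻¹ * ((a : G)⁻¹ * (u * a * u⁻¹) * b) * ((b : G)⁻¹ * (u * b * u⁻¹)) := by group
      _ = _ := by rw [← this]; simp [mul_assoc]
  · intro t ht
    by_contra h1
    have h2 : (t : G)⁻¹ * (u * t * u⁻¹) = 1 := congrArg Subtype.val ht
    have h3 : u ∈ 𝒞₁ (t : G) := mem_cent1.2 (by
      rw [inv_mul_eq_one] at h2
      calc (t : G) * u = u * t * u⁻¹ * u := by rw [← h2]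
        _ = u * t := by group)
    have htT : zpowers (t : G) ≤ T := zpowers_le.2 t.2
    obtain ⟨i, hi, hi2⟩ := H8.exists_orderOf_eq_of_ne_bot (isPGroup_of_le hS.pgrp (htT.trans hTS))
      (fun e => h1 (Subtype.ext (zpowers_eq_bot.1 e)))
    have h4 : u ∈ 𝒩 K := H8.tight_centralizer_le hK hi2 (hTK (htT hi))
      (cent1_le_cent hi ((BL.cent_zpowers (t : G)).ge h3))
    exact huT (mem_normalizer_of_cj_le (le_trans (le_inf (cj_le_of_norm hTK h4) (cj_le_of_norm le_sup_left hun)) hKP))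

theorem iso_of_inj {T R : Subgroup G} (f : T →* R) (hf : Function.Injective f) (h : ♯R ≤ ♯T) :
    Nonempty (T ≃* R) :=
  ⟨MulEquiv.ofBijective f ((Nat.bijective_iff_injective_and_card f).2
    ⟨hf, le_antisymm (Nat.card_le_card_of_injective f hf) h⟩)⟩

/-- Let Q be a tightly embedded subgroup of a finite group G, g an element outside N_G(Q), T a nontrivial Sylow 2-subgroup of Q^g ∩ N_G(Q), and S a Sylow 2-subgroup of QT containing T. Then T ∩ Q = 1, and N_S(T) is the direct product of T and N_S(T) ∩ Q, with N_S(T) ∩ Q isomorphic to T. -/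
theorem result {G : Type*} [Group G] [Finite G] (Q : Subgroup G) (hQ : Cfsg.IsTightlyEmbedded Q)
    (g : G) (hg : g ∉ Subgroup.normalizer (Q : Set G))
    (T : Subgroup G) (hT1 : T ≠ ⊥) (hT : T ≤ Q.map (MulAut.conj g).toMonoidHom ⊓ Subgroup.normalizer (Q : Set G))
    (hTsyl : IsPGroup 2 T ∧ ¬ 2 ∣ T.relIndex (Q.map (MulAut.conj g).toMonoidHom ⊓ Subgroup.normalizer (Q : Set G)))
    (S : Subgroup G) (hTS : T ≤ S) (hS : S ≤ Q ⊔ T) (hSsyl : IsPGroup 2 S ∧ ¬ 2 ∣ S.relIndex (Q ⊔ T)) :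
    T ⊓ Q = ⊥ ∧
      T ⊓ (S ⊓ Subgroup.normalizer (T : Set G) ⊓ Q) = ⊥ ∧
      ⁅T, S ⊓ Subgroup.normalizer (T : Set G) ⊓ Q⁆ = ⊥ ∧
      T ⊔ (S ⊓ Subgroup.normalizer (T : Set G) ⊓ Q) = S ⊓ Subgroup.normalizer (T : Set G) ∧
      Nonempty (↥(S ⊓ Subgroup.normalizer (T : Set G) ⊓ Q) ≃* T) := by
  have hK := tight_cj hQ g
  change T ≤ g ⋆ Q ⊓ 𝒩 Q at hT
  have hTs : SylIn 2 T (g ⋆ Q ⊓ 𝒩 Q) := sylIn_of_not_dvd hT hTsyl.1 hTsyl.2
  have hSs : SylIn 2 S (Q ⊔ T) := sylIn_of_not_dvd hS hSsyl.1 hSsyl.2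
  have hodd : (♯(Q ⊓ g ⋆ Q : Subgroup G)).Coprime 2 := Nat.coprime_two_right.2 (hQ.2 g hg)
  have hz : ∀ X : Subgroup G, IsPGroup 2 X → X ≤ Q ⊓ g ⋆ Q → X = ⊥ := fun X h1 h2 =>
    H8.eq_bot_of_pgroup_coprime h1 (coprime_of_le_left hodd h2)
  have hTK := hT.trans inf_le_left
  have hTQ := hT.trans inf_le_right
  have hd : T ⊓ Q = ⊥ := hz _ (isPGroup_of_le hTsyl.1 inf_le_left) (le_inf inf_le_right (inf_le_left.trans hTK))
  obtain ⟨R, hR⟩ : ∃ R, R = S ⊓ 𝒩 T ⊓ Q := ⟨_, rfl⟩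
  rw [← hR]
  have hRQ : R ≤ Q := hR ▸ inf_le_right
  have hRS : R ≤ S := hR ▸ inf_le_left.trans inf_le_left
  have hRT : R ≤ 𝒩 T := hR ▸ inf_le_left.trans inf_le_right
  have hR2 := isPGroup_of_le hSsyl.1 hRS
  have hc : ⁅T, R⁆ = ⊥ := eq_bot_mono hd (le_inf (BL.comm_left hRT) ((commutator_mono le_rfl hRQ).trans
    (BL.comm_right hTQ)))
  have hTR := H8.le_normalizer_of_commutator_eq_bot hc
  refine ⟨hd, eq_bot_mono hd (inf_le_inf_left _ hRQ), hc, ?_, ?_⟩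
  · rw [hR]
    exact (split hTQ (le_inf hTS le_normalizer) (inf_le_left.trans hS)).symm
  obtain ⟨i, hi, hi2⟩ := H8.exists_orderOf_eq_of_ne_bot hTsyl.1 hT1
  have hRK : R ≤ 𝒩 (g ⋆ Q) := ((le_cent_comm.1 (le_cent_iff_comm.2 hc)).trans (cent1_le_cent hi)).trans
    (H8.tight_centralizer_le hK hi2 (hTK hi))
  have hdK : R ⊓ g ⋆ Q = ⊥ := hz _ (isPGroup_of_le hR2 inf_le_left) (inf_le_inf_right _ hRQ)
  have hKP : g ⋆ Q ⊓ (T ⊔ R) ≤ T := by
    rw [inf_comm, H8.sup_inf_of_norm hTR hTK, hdK, sup_bot_eq]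
  have hQP : Q ⊓ (R ⊔ T) ≤ R := by
    rw [inf_comm, H8.sup_inf_of_norm hRT hRQ, hd, sup_bot_eq]
  have hA := lemA hK hTK hTQ hd hTS hSs hR hKP
  have hR1 : R ≠ ⊥ := by
    rintro rfl
    rcases hA with h | ⟨f, hf⟩
    · exact h.ne_bot (even_iff_two_dvd.1 hQ.1) rfl
    · have := Nat.card_le_card_of_injective f hf
      rw [card_bot] at this
      exact hT1 (eq_bot_of_card_le _ this)
  obtain ⟨S', hS', h2⟩ := exists_sylIn_ge (H := g ⋆ Q ⊔ R) (isPGroup_sup hTsyl.1 hR2 hTR)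
    (sup_le (le_sup_of_le_left hTK) le_sup_right)
  have hB := lemA (K := Q) (Q := g ⋆ Q) (T := R) (R := T) hQ hRQ hRK hdK (le_sup_right.trans h2) hS'
    (hTs.max _ (le_inf inf_le_right ((inf_le_left.trans inf_le_right).trans (H8.tight_normalizer_le hQ
      (even_iff_two_dvd.2 (H8.dvd_card_of_isPGroup_ne_bot hR2 hR1)) hRQ)))
      (isPGroup_of_le hS'.pgrp (inf_le_left.trans inf_le_left))
      (le_inf (le_inf (le_sup_left.trans h2) hTR) hTK)).symm hQP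
  rcases hA with h | ⟨f, hf⟩ <;> rcases hB with h' | ⟨f', hf'⟩
  · obtain ⟨k, -, e⟩ := (h.cj g).exists_cj_eq h'
    exact ⟨(H8.cjEquiv R g).trans (e ▸ H8.cjEquiv (g ⋆ R) k)⟩
  · refine iso_of_inj f' hf' ?_
    rw [← card_cj g R]; exact (h.cj g).card_le hTsyl.1 hTK
  · refine (iso_of_inj f hf ?_).map MulEquiv.symm
    rw [← card_cj g R]; exact h'.card_le (isPGroup_cj g hR2) (cj_mono g hRQ)
  · exact iso_of_inj f' hf' (Nat.card_le_card_of_injective f hf)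

end Cfsg.Agent.S1910
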