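import Cfsg.Statements.S1921
import Cfsg.Agent.H9.TJ
import Cfsg.Agent.H8.Comp

set_option autoImplicit false
open Cfsg

namespace Cfsg.Agent.S1921

open Cfsg.Agent Cfsg.Agent.H9
open scoped commutatorElement

/-- Let a be an involution of a finite group H and L a component of H with a L a⁻¹ ≠ L; put M = ⟨L, aLa⁻¹⟩ and let J be the subgroup generated by the elements x · a x a⁻¹ with x ∈ L (the diagonal). Then every element of M outside J·Z(M) generates M together with J. -/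
theorem result {H : Type*} [Group H] [Finite H] (a : H) (ha : orderOf a = 2) (L : Subgroup H) (hL : Cfsg.IsComponent L)
    (hLa : L.map (MulAut.conj a).toMonoidHom ≠ L) (x : H) (hxM : x ∈ L ⊔ L.map (MulAut.conj a).toMonoidHom)
    (hxJ : x ∉ Subgroup.closure {y : H | ∃ l ∈ L, y = l * (a * l * a⁻¹)} ⊔
      ((L ⊔ L.map (MulAut.conj a).toMonoidHom) ⊓ Subgroup.centralizer ((L ⊔ L.map (MulAut.conj a).toMonoidHom : Subgroup H) : Set H))) :
    Subgroup.closure {y : H | ∃ l ∈ L, y = l * (a * l * a⁻¹)} ⊔ Subgroup.zpowers x = L ⊔ L.map (MulAut.conj a).toMonoidHom := by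
  have ha2 : a * a = 1 := by rw [← pow_two, ← ha, pow_orderOf_eq_one]
  set L' := L.map (MulAut.conj a).toMonoidHom with hL'
  set J := Subgroup.closure {y : H | ∃ l ∈ L, y = l * (a * l * a⁻¹)} with hJ
  have c1 : H8.Comp ⊤ L := H8.comp_top_iff.mpr hL
  have c2 : H8.Comp ⊤ L' := c1.cj_of_mem (g := a) (Subgroup.le_normalizer (Subgroup.mem_top a))
  have hc : ⁅L, L'⁆ = ⊥ := c1.comm_of_ne c2 hLa.symm
  have hcc : ∀ l ∈ L, ∀ m ∈ L', l * m = m * l := fun l hl m hm =>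
    commutatorElement_eq_one_iff_mul_comm.mp (Subgroup.mem_bot.mp (hc ▸ Subgroup.commutator_mem_commutator hl hm))
  have hcj : ∀ l ∈ L, a * l * a⁻¹ ∈ L' := fun l hl => ⟨l, hl, rfl⟩
  have hJm : ∀ l ∈ L, l * (a * l * a⁻¹) ∈ J := fun l hl => Subgroup.subset_closure ⟨l, hl, rfl⟩
  refine le_antisymm (sup_le ((Subgroup.closure_le _).mpr ?_) (Subgroup.zpowers_le.mpr hxM)) ?_
  · rintro _ ⟨l, hl, rfl⟩
    exact Subgroup.mul_mem_sup hl (hcj l hl)
  set K := J ⊔ Subgroup.zpowers x with hK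
  obtain ⟨l, hl, m, hm, rfl⟩ := H8.mem_sup_of_norm_right (c1.le_normalizer c2) hxM
  have h1 : (l * (a * l * a⁻¹))⁻¹ * (l * m) = (a * l * a⁻¹)⁻¹ * m := by group
  have h2 : (a * l * a⁻¹)⁻¹ * m ∈ K ⊓ L' :=
    ⟨h1 ▸ K.mul_mem (K.inv_mem (Subgroup.mem_sup_left (hJm l hl))) (Subgroup.mem_sup_right (Subgroup.mem_zpowers _)),
      L'.mul_mem (L'.inv_mem (hcj l hl)) hm⟩
  have h3 : L' ≤ Subgroup.normalizer ((K ⊓ L' : Subgroup H) : Set H) := by
    rintro _ ⟨u, hu, rfl⟩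
    refine Subgroup.mem_normalizer_fintype fun y hy => ?_
    have hy' : a * u * a⁻¹ * y * (a * u * a⁻¹)⁻¹ ∈ L' := L'.mul_mem (L'.mul_mem (hcj u hu) hy.2) (L'.inv_mem (hcj u hu))
    refine ⟨?_, hy'⟩
    have e : a * u * a⁻¹ * y * (a * u * a⁻¹)⁻¹ = (u * (a * u * a⁻¹)) * y * (u * (a * u * a⁻¹))⁻¹ := by
      calc _ = u * (a * u * a⁻¹ * y * (a * u * a⁻¹)⁻¹) * u⁻¹ := by rw [hcc u hu _ hy', mul_inv_cancel_right]
        _ = _ := by group
    have hu' : u * (a * u * a⁻¹) ∈ K := Subgroup.mem_sup_left (hJm u hu)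
    show a * u * a⁻¹ * y * (a * u * a⁻¹)⁻¹ ∈ K
    rw [e]
    exact K.mul_mem (K.mul_mem hu' hy.1) (K.inv_mem hu')
  rcases H8.qs_norm c2.qs inf_le_right h3 with h | h
  · have h4 : L' ≤ K := inf_eq_right.mp h
    refine sup_le (fun u hu => ?_) h4
    have := K.mul_mem (Subgroup.mem_sup_left (hJm u hu)) (K.inv_mem (h4 (hcj u hu)))
    rwa [mul_inv_cancel_right] at this
  · refine absurd ?_ hxJ
    rw [show l * m = (l * (a * l * a⁻¹)) * ((a * l * a⁻¹)⁻¹ * m) by group]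
    refine Subgroup.mul_mem_sup (hJm l hl) ⟨Subgroup.mem_sup_right h2.2, ?_⟩
    refine Subgroup.le_centralizer_iff.mp (sup_le ?_ ?_ : L ⊔ L' ≤ Subgroup.centralizer
      ((Subgroup.zpowers ((a * l * a⁻¹)⁻¹ * m) : Subgroup H) : Set H)) (Subgroup.mem_zpowers _)
    · exact Subgroup.le_centralizer_iff.mp (Subgroup.zpowers_le.mpr fun u hu => hcc u hu _ h2.2)
    · exact Subgroup.le_centralizer_iff.mp (Subgroup.zpowers_le.mpr fun u hu =>
        (commutatorElement_eq_one_iff_mul_comm.mp (Subgroup.mem_bot.mp (h ▸ Subgroup.commutator_mem_commutator h2 hu))).symm)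

end Cfsg.Agent.S1921
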