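import Cfsg.Statements.S1922
import Cfsg.Agent.H9.TJ
import Cfsg.Agent.H2.Count

set_option autoImplicit false
open Cfsg

namespace Cfsg.Agent.S1922

open Cfsg.Agent Cfsg.Agent.H9
open scoped Pointwise
theorem par {α : Type*} [DecidableEq α] (S : Finset α) (f : α → α) (h1 : ∀ x ∈ S, f x ∈ S) (h2 : ∀ x ∈ S, f (f x) = x) :
    (S.card : ZMod 2) = (S.filter fun x => f x = x).card := by
  rw [← Finset.card_filter_add_card_filter_not (s := S) (fun x => f x = x), Nat.cast_add, add_eq_left,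
    Finset.card_eq_sum_ones, Nat.cast_sum]
  refine Finset.sum_involution (fun x _ => f x) (fun _ _ => rfl) (fun x hx _ => (Finset.mem_filter.mp hx).2)
    (fun x hx => ?_) (fun x hx => h2 x (Finset.mem_filter.mp hx).1)
  obtain ⟨a, b⟩ := Finset.mem_filter.mp hx
  exact Finset.mem_filter.mpr ⟨h1 x a, fun e => b (e.symm.trans (h2 x a))⟩

theorem inv_pow_dih {G : Type*} [Group G] {a b : G} (ha : a * a = 1) (hb : b * b = 1) (k : ℕ) :
    a * (a * b) ^ k = ((a * b) ^ k)⁻¹ * a := by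
  have h1 : a * (a * b) * a⁻¹ = (a * b)⁻¹ := by
    rw [← mul_assoc, ha, one_mul, mul_inv_rev, inv_eq_of_mul_eq_one_right hb]
  rw [← inv_pow, ← h1, conj_pow]; group

theorem conj_dih {G : Type*} [Group G] {z a b : G} (ha : a * a = 1) (hb : b * b = 1) (h1 : IsConj z a) (h2 : IsConj z b)
    (m : ℕ) : IsConj z (a * (a * b) ^ m) := by
  rcases Nat.even_or_odd' m with ⟨j, rfl | rfl⟩
  · refine h1.trans (isConj_iff.mpr ⟨((a * b) ^ j)⁻¹, ?_⟩)
    rw [← inv_pow_dih ha hb, two_mul, pow_add]; group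
  · refine h2.trans (isConj_iff.mpr ⟨((a * b) ^ j)⁻¹, ?_⟩)
    calc ((a * b) ^ j)⁻¹ * b * ((a * b) ^ j)⁻¹⁻¹ = (((a * b) ^ j)⁻¹ * a) * (a * b) * (a * b) ^ j := by
          rw [mul_assoc _ a, ← mul_assoc a a, ha, one_mul, inv_inv]
      _ = _ := by rw [← inv_pow_dih ha hb, show 2 * j + 1 = j + 1 + j by ring, pow_add, pow_succ]; group

theorem odd_class {G Ω : Type*} [Group G] [Fintype G] [MulAction G Ω] {z : G} (hz : z * z = 1)
    (hU : ∀ d, IsConj z d → ∃! ω : Ω, d • ω = ω)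
    (hU2 : ∀ d t, IsConj z d → IsConj z t → t ≠ d → t * d = d * t → ∃! ω : Ω, (d * t) • ω = ω)
    {β : Ω} (hβ : z • β ≠ β) {s : G} (hs : IsConj z s) (hsβ : s • β = β) : Odd (Nat.card {y // IsConj z y}) := by
  classical
  have hsq : ∀ d, IsConj z d → d * d = 1 := fun d hd => by
    obtain ⟨c, rfl⟩ := isConj_iff.mp hd
    rw [conj_mul, hz]; group
  have hfix : ∀ {d y : G} {ω : Ω}, IsConj z d → d • ω = ω → y * d = d * y → y • ω = ω := fun {d y ω} hd h hc =>
    (hU d hd).unique (by rw [← mul_smul, ← hc, mul_smul, h]) h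
  have hodd : ∀ {a b : G} {ω ω' : Ω}, IsConj z a → IsConj z b → a • ω = ω → b • ω' = ω' → ω ≠ ω' →
      Odd (orderOf (a * b)) := by
    intro a b ω ω' ha hb h1 h2 hne
    by_contra hev
    obtain ⟨m, hm⟩ := Nat.not_odd_iff_even.mp hev
    have hw : (a * b) ^ m * (a * b) ^ m = 1 := by rw [← pow_add, ← hm, pow_orderOf_eq_one]
    have hw1 : (a * b) ^ m ≠ 1 := pow_ne_one_of_lt_orderOf (by have := orderOf_pos (a * b); omega)
      (by have := orderOf_pos (a * b); omega)
    have c1 : a * (a * b) ^ m = (a * b) ^ m * a := by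
      rw [inv_pow_dih (hsq a ha) (hsq b hb), inv_eq_of_mul_eq_one_right hw]
    have c2 : b * (a * b) ^ m = (a * b) ^ m * b := by
      apply mul_left_cancel (a := a)
      rw [← mul_assoc, ← mul_assoc, c1, ← pow_succ', mul_assoc, ← pow_succ]
    have := hU2 a (a * (a * b) ^ m) ha (conj_dih (hsq a ha) (hsq b hb) ha hb m) (by simpa using hw1)
      (by rw [mul_assoc, ← c1])
    rw [← mul_assoc, hsq a ha, one_mul] at this
    exact hne (this.unique (hfix ha h1 c1.symm) (hfix hb h2 c2.symm))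
  have hcj : ∀ {d : G} (c : G), IsConj z d → IsConj z (c * d * c⁻¹) := fun c hd => hd.trans (isConj_iff.mpr ⟨c, rfl⟩)
  have hcc : ∀ {d : G} (x : G), IsConj z d → d * (d * x * d⁻¹) * d⁻¹ = x := fun {d} x hd => by
    rw [inv_eq_of_mul_eq_one_right (hsq d hd)]
    calc d * (d * x * d) * d = (d * d) * x * (d * d) := by group
      _ = x := by rw [hsq d hd]; group
  have hss : ∀ {d : G} (ω : Ω), IsConj z d → d • d • ω = ω := fun {d} ω hd => by rw [← mul_smul, hsq d hd, one_smul]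
  have hi : ∀ {d : G}, IsConj z d → d⁻¹ = d := fun {d} hd => inv_eq_of_mul_eq_one_right (hsq d hd)
  let S : Finset G := Finset.univ.filter fun u => IsConj z u ∧ u • β = z • β
  let T : Finset G := Finset.univ.filter fun r => IsConj z r ∧ r • z • β = z • β
  let D : Finset G := Finset.univ.filter fun r => IsConj z r
  have hS : ∀ {u}, u ∈ S ↔ IsConj z u ∧ u • β = z • β := by simp [S]
  have hT : ∀ {u}, u ∈ T ↔ IsConj z u ∧ u • z • β = z • β := by simp [T]
  have hD : ∀ {u}, u ∈ D ↔ IsConj z u := by simp [D]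
  have z0 : IsConj z z := IsConj.refl z
  have e1 : (S.card : ZMod 2) = 1 := by
    rw [par S (fun u => z * u * z⁻¹) (fun u hu => hS.mpr ⟨hcj z (hS.mp hu).1, by
      rw [hi z0, mul_smul, mul_smul, ← (hS.mp hu).2, hss _ (hS.mp hu).1, (hS.mp hu).2]⟩) fun u _ => hcc u z0]
    have : (S.filter fun u => z * u * z⁻¹ = u) = {z} := by
      refine Finset.eq_singleton_iff_unique_mem.mpr ⟨Finset.mem_filter.mpr ⟨hS.mpr ⟨z0, rfl⟩, by group⟩, fun u hu => ?_⟩
      obtain ⟨h1, h2⟩ := Finset.mem_filter.mp hu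
      obtain ⟨h3, h4⟩ := hS.mp h1
      have hc : u * z = z * u := (mul_inv_eq_iff_eq_mul.mp h2).symm
      by_contra hne
      obtain ⟨α, hα, -⟩ := hU z z0
      have := (hU2 z u z0 h3 hne hc).unique (y₁ := α) (y₂ := β) (hfix z0 hα (by rw [mul_assoc, hc]))
        (by rw [mul_smul, h4, hss _ z0])
      exact hβ (this ▸ hα)
    rw [this]; rfl
  have e2 : S.card = T.card := by
    refine Finset.card_bij (fun u _ => u * s * u⁻¹) (fun u hu => hT.mpr ⟨hcj u hs, ?_⟩) (fun u hu v hv h => ?_)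
      fun r hr => ?_
    · rw [← (hS.mp hu).2, mul_smul, mul_smul, inv_smul_smul, hsβ]
    · obtain ⟨u1, u2⟩ := hS.mp hu
      obtain ⟨v1, v2⟩ := hS.mp hv
      obtain ⟨ω, hω, -⟩ := hU u u1
      obtain ⟨ω', hω', -⟩ := hU v v1
      obtain ⟨i, hi'⟩ := (hodd hs u1 hsβ hω (by rintro rfl; exact hβ (u2.symm.trans hω))).mul
        (hodd hs v1 hsβ hω' (by rintro rfl; exact hβ (v2.symm.trans hω')))
      have a1 : (s * u) ^ (2 * i + 1) = 1 := by rw [← hi', pow_mul, pow_orderOf_eq_one, one_pow]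
      have a2 : (s * v) ^ (2 * i + 1) = 1 := by rw [← hi', mul_comm, pow_mul, pow_orderOf_eq_one, one_pow]
      have a3 : (s * u) ^ 2 = (s * v) ^ 2 := by
        simp only [hi u1, hi v1] at h
        rw [pow_two, pow_two, mul_assoc s, mul_assoc s, ← mul_assoc u, ← mul_assoc v, h]
      rw [pow_succ, pow_mul] at a1 a2
      rw [a3] at a1
      exact mul_left_cancel (mul_left_cancel (a1.trans a2.symm))
    · obtain ⟨r1, r2⟩ := hT.mp hr
      obtain ⟨j, hj⟩ := hodd hs r1 hsβ r2 hβ.symm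
      have u1 := conj_dih (hsq s hs) (hsq r r1) hs r1 (j + 1)
      have u2 : s * (s * r) ^ (j + 1) * s * (s * (s * r) ^ (j + 1))⁻¹ = r := by
        rw [hi u1, mul_assoc, ← mul_assoc s s, hsq s hs, one_mul, mul_assoc, ← pow_add,
          show j + 1 + (j + 1) = (2 * j + 1) + 1 by ring, pow_succ, ← hj, pow_orderOf_eq_one, one_mul, ← mul_assoc,
          hsq s hs, one_mul]
      refine ⟨_, hS.mpr ⟨u1, (hU r r1).unique ?_ r2⟩, u2⟩
      generalize s * (s * r) ^ (j + 1) = u at u2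
      rw [← u2, mul_smul, inv_smul_smul, mul_smul, hsβ]
  have r1 : IsConj z (z * s * z⁻¹) := hcj z hs
  have r2 : (z * s * z⁻¹) • z • β = z • β := by rw [mul_smul, inv_smul_smul, mul_smul, hsβ]
  generalize z * s * z⁻¹ = r at r1 r2
  have e3 : (D.card : ZMod 2) = T.card := by
    rw [par D (fun u => r * u * r⁻¹) (fun u hu => hD.mpr (hcj r (hD.mp hu))) (fun u _ => hcc u r1),
      par T (fun u => r * u * r⁻¹) (fun u hu => hT.mpr ⟨hcj r (hT.mp hu).1, by
        rw [hi r1, mul_smul, mul_smul, r2, (hT.mp hu).2, r2]⟩) fun u _ => hcc u r1]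
    congr 2
    ext u
    simp only [Finset.mem_filter, hD, hT]
    exact ⟨fun h => ⟨⟨h.1, hfix r1 r2 (mul_inv_eq_iff_eq_mul.mp h.2).symm⟩, h.2⟩, fun h => ⟨h.1.1, h.2⟩⟩
  rw [Nat.card_eq_fintype_card, Fintype.card_subtype, ← ZMod.natCast_eq_one_iff_odd]
  exact e3.trans (e2 ▸ e1)

/-- Let z be an involution of a finite group G and H a proper subgroup such that z lies in gHg⁻¹ exactly when g ∈ H. Then the following are equivalent: (1) for every conjugate t ≠ z of z commuting with z, the product zt lies in gHg⁻¹ exactly when g ∈ H; (2) z lies in the centre of some Sylow 2-subgroup of G, and for every conjugate t ≠ z of z commuting with z, the centralizer of zt is contained in H. -/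
theorem result {G : Type*} [Group G] [Finite G] (z : G) (hz : orderOf z = 2) (H : Subgroup G) (hH : H ≠ ⊤)
    (h0 : ∀ g : G, z ∈ H.map (MulAut.conj g).toMonoidHom ↔ g ∈ H) :
    (∀ t : G, IsConj z t → t ≠ z → t * z = z * t → ∀ g : G, z * t ∈ H.map (MulAut.conj g).toMonoidHom ↔ g ∈ H) ↔
      ((∃ P : Sylow 2 G, z ∈ (Subgroup.center ↥(P : Subgroup G)).map (P : Subgroup G).subtype) ∧
        ∀ t : G, IsConj z t → t ≠ z → t * z = z * t → Subgroup.centralizer ({z * t} : Set G) ≤ H) := by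
  classical
  haveI := Fintype.ofFinite G
  have hz2 : z * z = 1 := by rw [← pow_two, ← hz, pow_orderOf_eq_one]
  have hm : ∀ x g : G, x ∈ H.map (MulAut.conj g).toMonoidHom ↔ x • (g : G ⧸ H) = (g : G ⧸ H) := by
    intro x g
    rw [MulAction.Quotient.smul_coe, smul_eq_mul, eq_comm, QuotientGroup.eq]
    constructor
    · rintro ⟨y, hy, rfl⟩
      simpa [mul_assoc] using hy
    · intro h
      exact ⟨_, h, by simp [mul_assoc]⟩
  have hg : ∀ g : G, g ∈ H ↔ (g : G ⧸ H) = ((1 : G) : G ⧸ H) := fun g => by rw [eq_comm, QuotientGroup.eq]; simp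
  have hg' : ∀ g : G, g ∈ H ↔ g • ((1 : G) : G ⧸ H) = ((1 : G) : G ⧸ H) := fun g => by
    rw [hg, MulAction.Quotient.smul_coe, smul_eq_mul, mul_one]
  have hun : ∀ x c : G, (∀ g : G, x ∈ H.map (MulAut.conj g).toMonoidHom ↔ g ∈ H) →
      ∃! ω : G ⧸ H, (c * x * c⁻¹) • ω = ω := by
    intro x c hx
    have h1 : ∀ ω : G ⧸ H, x • ω = ω ↔ ω = ((1 : G) : G ⧸ H) := fun ω => by
      obtain ⟨g, rfl⟩ := QuotientGroup.mk_surjective ω
      rw [← hm, hx, hg]
    refine ⟨c • ((1 : G) : G ⧸ H), ?_, fun ω hω => ?_⟩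
    · show (c * x * c⁻¹) • _ = _
      rw [mul_smul, inv_smul_smul, mul_smul, (h1 _).mpr rfl]
    · rw [← (h1 (c⁻¹ • ω)).mp (by rw [eq_inv_smul_iff, ← mul_smul, ← mul_smul]; exact hω), smul_inv_smul]
  have hU : ∀ d, IsConj z d → ∃! ω : G ⧸ H, d • ω = ω := fun d hd => by
    obtain ⟨c, rfl⟩ := isConj_iff.mp hd
    exact hun z c h0
  have hzH : z ∈ H := by simpa using (h0 1).mpr H.one_mem
  constructor
  · intro h1
    refine ⟨?_, fun t ht hne hc g hg => ?_⟩
    · obtain ⟨g, hgH⟩ : ∃ g, g ∉ H := by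
        by_contra h
        push Not at h
        exact hH ((Subgroup.eq_top_iff' H).mpr h)
      have hodd := odd_class (Ω := G ⧸ H) hz2 hU (fun d t hd ht hne hc => by
        obtain ⟨c, rfl⟩ := isConj_iff.mp hd
        have := hun _ c (h1 (c⁻¹ * t * c) (ht.trans (isConj_iff.mpr ⟨c⁻¹, by group⟩))
          (fun e => hne (by rw [← e]; group)) (by
            calc c⁻¹ * t * c * z = c⁻¹ * (t * (c * z * c⁻¹)) * c := by group
              _ = _ := by rw [hc]; group))
        rwa [show c * (z * (c⁻¹ * t * c)) * c⁻¹ = c * z * c⁻¹ * t by group] at this)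
        (β := (g : G ⧸ H)) (fun e => hgH ((h0 g).mp ((hm _ _).mpr e))) (s := g * z * g⁻¹) (isConj_iff.mpr ⟨g, rfl⟩)
        ((hm _ _).mp ⟨z, hzH, rfl⟩)
      rw [H2.card_isConj_eq_index] at hodd
      let C := Subgroup.centralizer ({z} : Set G)
      let z' : C := ⟨z, Subgroup.mem_centralizer_singleton_iff.mpr rfl⟩
      obtain ⟨Q, hQ⟩ := (IsPGroup.of_card (p := 2) (n := 1) (G := Subgroup.zpowers z') (by
        rw [Nat.card_zpowers, ← Subgroup.orderOf_coe]; exact hz)).exists_le_sylow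
      have hi : ¬ 2 ∣ ((Q : Subgroup C).map C.subtype).index := by
        rw [Subgroup.index_map_subtype]
        exact fun h => (Nat.prime_two.dvd_mul.mp h).elim Q.not_dvd_index hodd.not_two_dvd_nat
      refine ⟨(Q.isPGroup'.map C.subtype).toSylow hi, ⟨z, z', hQ (Subgroup.mem_zpowers _), rfl⟩,
        Subgroup.mem_center_iff.mpr ?_, rfl⟩
      rintro ⟨_, y, -, rfl⟩
      exact Subtype.ext (Subgroup.mem_centralizer_singleton_iff.mp y.2)
    · refine (h1 t ht hne hc g).mp ⟨z * t, by simpa using (h1 t ht hne hc 1).mpr H.one_mem, ?_⟩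
      show g * (z * t) * g⁻¹ = z * t
      rw [Subgroup.mem_centralizer_singleton_iff.mp hg]; group
  · rintro ⟨⟨P, ⟨z', hz', rfl⟩⟩, h2⟩ t ht hne hc g
    change t * z' = z' * t at hc
    change (z' : G) * z' = 1 at hz2
    have hw : (z' : G) * t ∈ H := h2 t ht hne hc (Subgroup.mem_centralizer_singleton_iff.mpr rfl)
    refine ⟨fun hg1 => ?_, fun hg1 => ⟨g⁻¹ * (z' * t) * g, H.mul_mem (H.mul_mem (H.inv_mem hg1) hw) hg1, by
      simp [mul_assoc]⟩⟩
    have hidx : ¬ 2 ∣ H.index := by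
      have hp : IsPGroup 2 (Subgroup.zpowers (z' : G)) := IsPGroup.of_card (n := 1) (by rw [Nat.card_zpowers]; exact hz)
      have h3 := hp.card_modEq_card_fixedPoints (G ⧸ H)
      obtain ⟨ω, hω, hω'⟩ := hU _ (IsConj.refl _)
      have h4 : MulAction.fixedPoints (Subgroup.zpowers (z' : G)) (G ⧸ H) = {ω} := by
        refine Set.eq_singleton_iff_unique_mem.mpr ⟨fun ⟨_, k, rfl⟩ => ?_, fun y hy => hω' y (hy ⟨_, Subgroup.mem_zpowers _⟩)⟩
        exact (MulAction.stabilizer G ω).zpow_mem hω k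
      rw [h4, Nat.card_unique (α := ({ω} : Set (G ⧸ H)))] at h3
      intro h
      exact absurd ((Nat.modEq_zero_iff_dvd.mpr h).symm.trans h3) (by decide)
    let K := H.map (MulAut.conj g).toMonoidHom
    have hKi : K.index = H.index := Subgroup.index_map_of_bijective (MulAut.conj g).bijective H
    have ht2 : t * t = 1 := by
      obtain ⟨c, rfl⟩ := isConj_iff.mp ht
      rw [conj_mul]; erw [hz2]; group
    let w : K := ⟨z' * t, hg1⟩
    have hwp : IsPGroup 2 (Subgroup.zpowers w) := by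
      rintro ⟨_, k, rfl⟩
      refine ⟨1, Subtype.ext (Subtype.ext ?_)⟩
      show (((z' : G) * t) ^ k) ^ 2 = 1
      rw [← zpow_natCast, ← zpow_mul, mul_comm, zpow_mul, zpow_natCast, pow_two, mul_assoc, ← mul_assoc t, hc,
        mul_assoc, ← mul_assoc, ht2, mul_one]
      rw [hz2, one_zpow]
    obtain ⟨Q, hQ⟩ := hwp.exists_le_sylow
    have hi : ¬ 2 ∣ ((Q : Subgroup K).map K.subtype).index := by
      rw [Subgroup.index_map_subtype, hKi]
      exact fun h => (Nat.prime_two.dvd_mul.mp h).elim Q.not_dvd_index hidx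
    obtain ⟨c, hc'⟩ := MulAction.exists_smul_eq G P ((Q.isPGroup'.map K.subtype).toSylow hi)
    have hR : ∀ x, x ∈ (Q : Subgroup K).map K.subtype ↔ c⁻¹ * x * c ∈ P := fun x => by
      have : (Q : Subgroup K).map K.subtype = MulAut.conj c • (P : Subgroup G) := (congrArg Sylow.toSubgroup hc').symm
      rw [this, Subgroup.mem_pointwise_smul_iff_inv_smul_mem]; simp; rfl
    have a1 : c * z' * c⁻¹ ∈ K := Subgroup.map_subtype_le _ ((hR _).mpr (by simpa [mul_assoc] using z'.2))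
    have a2 : c * z' * c⁻¹ ∈ H := h2 t ht hne hc (Subgroup.mem_centralizer_singleton_iff.mpr (by
      have := congrArg Subtype.val (Subgroup.mem_center_iff.mp hz' ⟨_, (hR _).mp ⟨w, hQ (Subgroup.mem_zpowers w), rfl⟩⟩)
      change c⁻¹ * (z' * t) * c * z' = z' * (c⁻¹ * (z' * t) * c) at this
      calc c * z' * c⁻¹ * (z' * t) = c * (z' * (c⁻¹ * (z' * t) * c)) * c⁻¹ := by group
        _ = _ := by rw [← this]; simp [mul_assoc]))
    exact (hg g).mpr ((hU _ (isConj_iff.mpr ⟨c, rfl⟩)).unique ((hm _ _).mp a1) ((hg' _).mp a2))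

end Cfsg.Agent.S1922
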