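import Cfsg.Statements.S1932
import Mathlib
import Cfsg.Agent.H9.GlN
import Cfsg.Agent.H9.Stab

set_option autoImplicit false
open Cfsg

namespace Cfsg.Agent.S1932

open Cfsg.Agent Cfsg.Agent.H9

/-- Let G be a finite group that is 2-constrained and has no section isomorphic to the symmetric group of degree 4, and let S be a Sylow 2-subgroup of G of nilpotency class at most 2. Then G = N_G(J(S))·O_{2'}(G), where J(S) is the Thompson subgroup generated by the elementary abelian subgroups of S of largest order. -/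
theorem result {G : Type*} [Group G] [Finite G] (hcon : Cfsg.IsPConstrained 2 G) (hS4 : ¬ Cfsg.Involves (Equiv.Perm (Fin 4)) G) (S : Sylow 2 G) (hcl : Subgroup.lowerCentralSeries (S : Subgroup G) 2 = ⊥) : Subgroup.normalizer ((Cfsg.thompsonSubgroupOf 2 (S : Subgroup G)) : Set G) ⊔ Cfsg.pPrimeCore 2 G = ⊤ := by
  have hN := L.pPrimeCore_coprime 2 (G := G)
  have hf := QuotientGroup.mk'_surjective (pPrimeCore 2 G)
  have hS := H2.sylIn_top S
  have h1 : ⁅⁅(S : Subgroup G), (S : Subgroup G)⁆, (S : Subgroup G)⁆ = ⊥ := hcl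
  have h2 := JJ_normal_of_class2 (p := 2) (hS.map_surj _ hf) (charP_quot_iff.2 (constrained_iff.1 hcon))
    (by rw [← Subgroup.map_commutator, ← Subgroup.map_commutator, h1, Subgroup.map_bot])
    (fun h => not_qd_of_S4 (p := 2) (Or.inr hS4) rfl (h.trans (H2.Sec.quot _)))
  rw [sup_comm, ← JJ_eq]
  exact sup_normalizer_eq_top hN (hS.pgrp.to_le (JJ_le 2 _)) ((pf_JJ (.inr rfl)).normal_of_quot hS.pgrp hN h2)

end Cfsg.Agent.S1932
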