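import Cfsg.Statements.S1944
import Cfsg.Agent.H9.Gl2
import Cfsg.Agent.S5294

set_option autoImplicit false
open Cfsg

namespace Cfsg.Agent.S1944

open Cfsg.Agent Cfsg.Agent.H9

/-- Let S be a Sylow p-subgroup of the finite group G and suppose that the centre Z(S) lies in O_{p',p}(G). The elements of S each of which is its only G-conjugate in S form a subgroup W of Z(S); W is then a direct factor of Z(S): there is a subgroup K of Z(S) with W ∩ K = 1 and WK = Z(S). -/
theorem result {G : Type*} [Group G] [Finite G] {p : ℕ} [Fact p.Prime] (S : Sylow p G)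
    (hZ : ((S : Subgroup G) ⊓ Subgroup.centralizer ((S : Subgroup G) : Set G)) ≤ Cfsg.pPrimePCore p G) :
    ∃ W K : Subgroup G, (∀ x : G, x ∈ W ↔ (x ∈ (S : Subgroup G) ∧ ∀ g : G, g * x * g⁻¹ ∈ (S : Subgroup G) → g * x * g⁻¹ = x)) ∧
      K ≤ ((S : Subgroup G) ⊓ Subgroup.centralizer ((S : Subgroup G) : Set G)) ∧ W ⊓ K = ⊥ ∧ W ⊔ K = ((S : Subgroup G) ⊓ Subgroup.centralizer ((S : Subgroup G) : Set G)) := by
  have h := sat_group S
  refine ⟨(groupFusionSystem (S : Subgroup G)).center, ?_⟩
  have hk := H1.coprime_pPrimeCore p G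
  have hf := (grpFS_group (S : Subgroup G)).fac (syl_top S) (pHom_hom (QuotientGroup.mk' (pPrimeCore p G)) ⊤)
    (E := groupFusionSystem _) (by
      rw [im_hom _ ⊤, Subgroup.map_top_of_surjective _ (QuotientGroup.mk'_surjective _)]
      exact grpFS_group _) rfl
  have e : pre (S : Subgroup G) (QuotientGroup.mk' (pPrimeCore p G)) ⊥ = ⊥ := by
    refine eq_bot_iff.2 fun x hx => ?_
    rw [← H2.inf_ker_mk'_eq_bot S.isPGroup' _ hk]
    exact hf.mem_pre.1 hx
  rw [e] at hf
  have hle : pCore p (G ⧸ pPrimeCore p G) ≤ im (QuotientGroup.mk' (pPrimeCore p G)) (S : Subgroup G) := by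
    rw [im_hom]
    exact ((H2.sylIn_top S).map_surj _ (QuotientGroup.mk'_surjective _)).pCore_le
  have := hf.finite
  have h1 := hf.normal_pre ((grpFS_group _).normal hle fun g _ x hx => Subgroup.Normal.conj_mem inferInstance x hx g)
  obtain ⟨K, hK⟩ := S5294.result p S.isPGroup' _ h.sat
    (le_trans (fun x hx => hf.mem_pre.2 ⟨hx.1, hZ hx⟩) (le_core h1))
  refine ⟨K, fun x => ?_, hK⟩
  rw [h.mem_center_iff, fix_group_iff]
  exact and_congr_right fun hx => forall_congr' fun g => ⟨fun h => h hx, fun h _ => h⟩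

end Cfsg.Agent.S1944
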