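import Cfsg.Statements.S5295
import Cfsg.Agent.H9.Gl2
import Cfsg.Agent.S5294

set_option autoImplicit false
universe u
open Cfsg

namespace Cfsg.Agent.S5295

open Cfsg.Agent Cfsg.Agent.H9

/-- Let F be a saturated fusion system over a finite p-group S with p odd. Then the centre Z(F) of F is a direct factor of Z(S): there is a subgroup K of Z(S) with Z(F) ∩ K = 1 and Z(F)K = Z(S). (At the prime 2 this can fail.) -/
theorem result {Ω : Type u} [Group Ω] {S : Subgroup Ω} [Finite S] (p : ℕ) [Fact p.Prime] (hp : p ≠ 2) (hS : IsPGroup p S)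
    (F : Cfsg.FusionSystem S) (hF : F.IsSaturated p) :
    ∃ K : Subgroup Ω, K ≤ (S ⊓ Subgroup.centralizer (S : Set Ω)) ∧ F.center ⊓ K = ⊥ ∧ F.center ⊔ K = (S ⊓ Subgroup.centralizer (S : Set Ω)) := by
  have h : Sat p F := ⟨hS, hF⟩
  have h1 := JJ_le 0 S
  have h5 := (chr_JJ (.inl rfl) hS).le_N h1
  obtain ⟨_, E, e1, e2, -, e3⟩ := h.exists_nm (fn_of_normal F h1 h5) (eq_N_of_le h5)
  have h6 : E.IsNormal (JJ 0 S) := normal_of_nm h1 fun P σ hσ => by
    obtain ⟨a, τ, b, c, d⟩ := (e3 P σ).1 hσ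
    exact ⟨a, τ, (e3 _ τ).2 (nm_of (b.le.trans h5) b le_rfl le_sup_right d), c, d⟩
  have e : F.center = E.center := by
    ext z
    rw [h.mem_center_iff, e1.mem_center_iff]
    exact and_congr_right fun hz => ⟨fun h7 P σ hσ => h7 P σ (hσ.of_sub e2), fun h7 =>
      h.fix_J (fun e => absurd e hp) (h7.mem_C hz) fun P σ hσ => h7 P σ ((e3 P σ).2 hσ)⟩
  rw [e]
  exact S5294.result p hS E e1.sat ((center_le_JJ S).trans (le_core h6))

end Cfsg.Agent.S5295
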