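import Cfsg.Statements.S1945
import Cfsg.Agent.H9.Gl2
import Cfsg.Agent.S5295
import Cfsg.Agent.S1944
import Cfsg.Agent.H2.BG1

set_option autoImplicit false
open Cfsg

namespace Cfsg.Agent.S1945

open Cfsg.Agent Cfsg.Agent.H9

/-- Let S be a Sylow p-subgroup of the finite group G, and assume that p is odd or that G is solvable. The elements of S each of which is its only G-conjugate in S form a subgroup W of Z(S); W is then a direct factor of Z(S): there is a subgroup K of Z(S) with W ∩ K = 1 and WK = Z(S). (For p = 2 and G not solvable this can fail.) -/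
theorem result {G : Type*} [Group G] [Finite G] {p : ℕ} [Fact p.Prime] (S : Sylow p G) (h : p ≠ 2 ∨ Group.IsSolvable G) :
    ∃ W K : Subgroup G, (∀ x : G, x ∈ W ↔ (x ∈ (S : Subgroup G) ∧ ∀ g : G, g * x * g⁻¹ ∈ (S : Subgroup G) → g * x * g⁻¹ = x)) ∧
      K ≤ ((S : Subgroup G) ⊓ Subgroup.centralizer ((S : Subgroup G) : Set G)) ∧ W ⊓ K = ⊥ ∧ W ⊔ K = ((S : Subgroup G) ⊓ Subgroup.centralizer ((S : Subgroup G) : Set G)) := by
  rcases h with h | h
  · obtain ⟨K, hK⟩ := S5295.result p h S.isPGroup' _ (sat_group S).sat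
    refine ⟨_, K, fun x => ?_, hK⟩
    rw [(sat_group S).mem_center_iff, fix_group_iff]
    exact and_congr_right fun hx => forall_congr' fun g => ⟨fun h => h hx, fun h _ => h⟩
  · refine S1944.result S ?_
    have h1 := (H2.sylIn_top S).inf_normal' (N := pPrimePCore p G) Subgroup.le_normalizer_of_normal le_top
    rw [← H2.OppP_top] at h1 ⊢
    refine le_trans ?_ (H2.solvable_p_constrained inferInstance h1)
    exact le_inf le_top (inf_le_right.trans (Subgroup.centralizer_le inf_le_left))

end Cfsg.Agent.S1945
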