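import Cfsg.Statements.S1981
import Cfsg.Agent.H9.KInf2

set_option autoImplicit false
open Cfsg

namespace Cfsg.Agent.S1981

open Cfsg.Agent Cfsg.Agent.H9

/-- Let P be a finite p-group generated by its abelian normal subgroups. Then both K-infinity subgroups of P equal P. -/
theorem result {P : Type*} [Group P] [Finite P] {p : ℕ} [Fact p.Prime] (hP : IsPGroup p P) (hgen : ⨆ A ∈ {A : Subgroup P | A.Normal ∧ IsMulCommutative ↥A}, A = ⊤) : Cfsg.kInfLower P = ⊤ ∧ Cfsg.kInfUpper P = ⊤ := by
  have h : ∀ b, KB b (⊤ : Subgroup P) = ⊤ := fun b => top_le_iff.1 (hgen.ge.trans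
    (iSup₂_le fun A hA => by
      haveI := hA.1
      exact le_KB_of_comm b hA.2 le_top Subgroup.le_normalizer_of_normal))
  rw [← KL_top, ← KU_top]
  exact ⟨h false, h true⟩

end Cfsg.Agent.S1981
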