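import Cfsg.Statements.S1985
import Cfsg.Agent.H9.Qd3

set_option autoImplicit false
universe u
open Cfsg

namespace Cfsg.Agent.S1985

open Cfsg.Agent Cfsg.Agent.H9

/-- Let p be an odd prime and G a finite group. Then the lower K-infinity subgroup controls weak closure of elements in G: the lower K-infinity subgroup of every p-subgroup P of G contains Z(P), and for some (equivalently, every) Sylow p-subgroup S of G, with K the lower K-infinity subgroup of S, every element of S commuting with all of N_G(K) is weakly closed in S with respect to G (every G-conjugate of it lying in S equals it). -/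
theorem result {G : Type u} [Group G] [Finite G] {p : ℕ} [Fact p.Prime] (hp : p ≠ 2) : Cfsg.ControlsWeakClosureOfElementsIn p (Cfsg.inducedFunctor (G := G) Cfsg.kInfLower) ⊤ := by
  have e : Cfsg.inducedFunctor (G := G) Cfsg.kInfLower = KB false := funext induced_KL
  rw [e]
  obtain ⟨T, hT, -⟩ := H2.exists_sylIn_ge (p := p) (Q := ⊥) (H := (⊤ : Subgroup G)) IsPGroup.of_bot bot_le
  refine ⟨fun P _ => Zc_le_KB false P, T, hT.le, hT.pgrp, hT.not_dvd_relIndex, fun x hx h hh hhx => ?_⟩
  refine wc_elt (cf_KB false) (fun P _ => Zc_le_KB false P) hT (fun K R hR hn => ?_) hx.1 hx.2 hh hhx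
  obtain ⟨g, h1, h2, h3⟩ := K_loc false K R hR hn
  refine ⟨g, h1, h2, fun U V hU hUO => ?_⟩
  haveI := hU.2.2.1
  have h2p := (Fact.out : p.Prime).two_le
  refine H2.ic_le_of_le (m := 2) ?_ Subgroup.le_normalizer_of_normal (by omega)
  exact ((H2.ic_mono hUO le_rfl 2).trans h3.le).trans bot_le

end Cfsg.Agent.S1985
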