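import Cfsg.Statements.S1989
import Cfsg.Agent.H9.Qd3

set_option autoImplicit false
universe u
open Cfsg

namespace Cfsg.Agent.S1989

open Cfsg.Agent Cfsg.Agent.H9

/-- Let p be an odd prime and G a finite group. Then Qd(p) (the natural semidirect product of an elementary abelian group of order p² by SL₂(p)) is not involved in G if and only if, in every section K/R of G and for every Sylow p-subgroup T of K/R, the lower K-infinity subgroup of T controls strong fusion in K/R. -/
theorem result {G : Type u} [Group G] [Finite G] {p : ℕ} [Fact p.Prime] (hp : p ≠ 2) : ¬ Cfsg.Involves ↥(Cfsg.qd p) G ↔ ∀ (K R : Subgroup G) [hR : (R.subgroupOf K).Normal], ∀ T : Sylow p (↥K ⧸ R.subgroupOf K), Cfsg.ControlsStrongFusion p (Cfsg.inducedFunctor (G := (↥K ⧸ R.subgroupOf K)) Cfsg.kInfLower (T : Subgroup (↥K ⧸ R.subgroupOf K))) := by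
  rw [← H2.sec_iff_involves]
  refine ⟨fun h K R _ T => ?_, fun h => not_qd_of_csf (𝓦 := {KBT false}) ?_ fun K R _ => ?_⟩
  · rw [induced_KL]
    refine ctl_KB false (fun X _ hX => pSt_sec_of_not_qd hp h X ?_) (H2.sylIn_top T)
    exact hX.trans ((H2.Sec.quot _).trans (H2.Sec.sub K))
  · rintro W rfl
    exact charP_KBT false
  · obtain ⟨T⟩ : Nonempty (Sylow p (K ⧸ R.subgroupOf K)) := inferInstance
    exact (H2.csf_single_iff (charP_KBT false) (H2.sylIn_top T)).2 (KBT_false ▸ h K R T)

end Cfsg.Agent.S1989
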