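import Cfsg.Statements.S2010
import Cfsg.Agent.H9.GlN

set_option autoImplicit false
open Cfsg

namespace Cfsg.Agent.S2010

open Cfsg.Agent Cfsg.Agent.H9

/-- Let G be a finite solvable group with no section isomorphic to the symmetric group of degree 4, whose Sylow 2-subgroup S has nilpotency class at most 2. Then G = N_G(J_e(S)) · O_{2'}(G), where J_e(S) is the subgroup generated by the elementary abelian subgroups of S of largest order. -/
theorem result {G : Type*} [Group G] [Finite G]
    [Group.IsSolvable G] (hS4 : ¬ Cfsg.Involves (Equiv.Perm (Fin 4)) G) (S : Sylow 2 G)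
    (hcl : Subgroup.lowerCentralSeries (S : Subgroup G) 2 = ⊥) :
    Subgroup.normalizer ((Cfsg.thompsonSubgroupOf 2 (S : Subgroup G)) : Set G) ⊔ Cfsg.pPrimeCore 2 G = ⊤ := by
  have hN := L.pPrimeCore_coprime 2 (G := G)
  have hf := QuotientGroup.mk'_surjective (pPrimeCore 2 G)
  have hS := H2.sylIn_top S
  have hk := H2.inf_ker_mk'_eq_bot hS.pgrp _ hN
  have h1 : ⁅⁅(S : Subgroup G), (S : Subgroup G)⁆, (S : Subgroup G)⁆ = ⊥ := hcl
  have h2 := JJ_normal_of_class2 (p := 2) (hS.map_surj _ hf)
    (H1.centralizer_pCore_le inferInstance (H1.pPrimeCore_quotient_eq_bot _ rfl))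
    (by rw [← Subgroup.map_commutator, ← Subgroup.map_commutator, h1, Subgroup.map_bot])
    (fun h => not_qd_of_S4 (p := 2) (Or.inr hS4) rfl (h.trans (H2.Sec.quot _)))
  rw [← map_JJ hk] at h2
  have h3 := H2.map_normalizer_of_coprime (hS.pgrp.to_le (JJ_le 2 (S : Subgroup G))) _ hN
  rw [Subgroup.normalizer_eq_top_iff.2 h2] at h3
  rw [← JJ_eq, ← QuotientGroup.ker_mk' (pPrimeCore 2 G), ← Subgroup.comap_map_eq, h3, Subgroup.comap_top]

end Cfsg.Agent.S2010
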