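import Cfsg.Statements.S2063
import Cfsg.Agent.H6.OMat2

set_option autoImplicit false
open Cfsg

namespace Cfsg.Agent.S2063

open Cfsg.Agent
open scoped Pointwise commutatorElement

/-- The outer automorphism group of the Mathieu group M₂₃ (the stabiliser of a point in the automorphism group of the length-24 binary code) is trivial: every automorphism is inner. -/
theorem result : Nat.card (Cfsg.Out ↥Cfsg.Spor.M23) = 1 := by
  exact H6.SMat.out23

end Cfsg.Agent.S2063
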