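import Cfsg.Statements.S2119
import Cfsg.Agent.H9.SymI
import Cfsg.Agent.H9.TJ
import Cfsg.Agent.S4275

set_option autoImplicit false
open Cfsg

namespace Cfsg.Agent.S2119

open Cfsg.Agent Cfsg.Agent.H9

/-- Automorphisms of the alternating groups: for n ≥ 4 with n ≠ 6, every automorphism of the alternating group of degree n is conjugation by a unique permutation, i.e. conjugation induces an isomorphism from the symmetric group of degree n onto the automorphism group of the alternating group (so the outer automorphism group has order 2). -/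
theorem result (n : ℕ) (hn : 4 ≤ n) (h6 : n ≠ 6) : Function.Bijective (MulAut.conjNormal : Equiv.Perm (Fin n) →* MulAut ↥(alternatingGroup (Fin n))) := by
  obtain ⟨m, rfl⟩ : ∃ m, n = m + 1 := ⟨n - 1, by omega⟩
  have hc : Nat.card (Fin (m + 1)) = m + 1 := by simp
  constructor
  · rw [injective_iff_map_eq_one]
    intro g hg
    ext x
    congr 1
    by_contra hne
    obtain ⟨a, b, hab, hax, hay, hbx, hby⟩ := SymI.exists_two hc (by omega) x (g x)
    have h1 := Equiv.Perm.mul_mem_alternatingGroup_of_isSwap (g := Equiv.swap (g x) a) (g' := Equiv.swap a b)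
      ⟨_, _, hay.symm, rfl⟩ ⟨_, _, hab, rfl⟩
    have h2 : g * (Equiv.swap (g x) a * Equiv.swap a b) * g⁻¹ = Equiv.swap (g x) a * Equiv.swap a b :=
      congrArg (fun φ : MulAut (alternatingGroup (Fin (m + 1))) => (φ ⟨_, h1⟩ : Equiv.Perm (Fin (m + 1)))) hg
    have h3 := congrArg (fun σ : Equiv.Perm (Fin (m + 1)) => σ (g x)) h2
    have hne' : x ≠ g x := fun h => hne h.symm
    simp only [Equiv.Perm.coe_mul, Function.comp_apply, Equiv.Perm.coe_inv, Equiv.symm_apply_apply] at h3
    rw [Equiv.swap_apply_of_ne_of_ne hax.symm hbx.symm, Equiv.swap_apply_of_ne_of_ne hne' hax.symm,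
      Equiv.swap_apply_of_ne_of_ne hay.symm hby.symm, Equiv.swap_apply_left] at h3
    exact hay h3.symm
  · intro α
    have htr : MulAction.IsPretransitive (alternatingGroup (Fin (m + 1))) (Fin (m + 1)) :=
      alternatingGroup.isPretransitive_of_three_le_card _ (by omega)
    set K := (MulAction.stabilizer (alternatingGroup (Fin (m + 1))) (0 : Fin (m + 1))).map α.toMonoidHom with hK
    have hKc : 2 * Nat.card (K.map (alternatingGroup (Fin (m + 1))).subtype) = m.factorial := by
      rw [Subgroup.card_map_of_injective (Subgroup.subtype_injective _), hK,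
        Subgroup.card_map_of_injective α.injective]
      have h1 := (MulAction.stabilizer (alternatingGroup (Fin (m + 1))) (0 : Fin (m + 1))).card_mul_index
      haveI : Nontrivial (Fin (m + 1)) := Fin.nontrivial_iff_two_le.2 (by omega)
      have h2 := two_mul_nat_card_alternatingGroup (α := Fin (m + 1))
      rw [MulAction.index_stabilizer_of_transitive, hc] at h1
      rw [Nat.card_perm, hc, Nat.factorial_succ, ← h1] at h2
      exact Nat.eq_of_mul_eq_mul_left (Nat.succ_pos m) (by linarith)
    obtain ⟨x, hx⟩ := SymI.fix_of_index hc (by omega) (by omega) (Subgroup.map_subtype_le _) hKc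
    obtain ⟨σ, -, hσ⟩ := (S4275.result _ htr 0 α).2 ⟨x, fun g hg => hx _ ⟨g, hg, rfl⟩⟩
    exact ⟨σ, MulEquiv.ext fun g => Subtype.ext (hσ g).symm⟩

end Cfsg.Agent.S2119
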