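import Cfsg.Statements.S2238
import Cfsg.Agent.H5.Sz5

set_option autoImplicit false
open Cfsg

namespace Cfsg.Agent.S2238

/-- The partition of the Suzuki group: with q = 2^(2m+1), m ≥ 1, r = 2^m and the Suzuki group realised as the stabiliser in SL₄ of the Suzuki–Tits ovoid, every non-identity element lies in exactly one subgroup that is either a Sylow 2-subgroup or a cyclic subgroup of order q − 1, q + 2r + 1 or q − 2r + 1. -/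
theorem result {F : Type*} [Field F] [Fintype F] {m : ℕ} (hm : 1 ≤ m) (hF : Fintype.card F = 2 ^ (2 * m + 1)) (g : ↥(Cfsg.Sz F m)) (hg : g ≠ 1) :
    ∃! U : Subgroup ↥(Cfsg.Sz F m), ((∃ P : Sylow 2 ↥(Cfsg.Sz F m), U = (P : Subgroup ↥(Cfsg.Sz F m))) ∨
      (IsCyclic ↥U ∧ Nat.card ↥U ∈ ({2 ^ (2 * m + 1) - 1, 2 ^ (2 * m + 1) + 2 ^ (m + 1) + 1, 2 ^ (2 * m + 1) - 2 ^ (m + 1) + 1} : Set ℕ))) ∧ g ∈ U := by
  have := H5.Suz.charP hF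
  have Z := H5.Suz.szO hm hF
  have hq := H5.Suz.natCard_eq hF
  have hr := H5.Suz.r_sq hF
  rw [← hq]
  have key : ∀ U : Subgroup (Cfsg.Sz F m), ((∃ P : Sylow 2 (Cfsg.Sz F m), U = P) ∨ (IsCyclic U ∧ Nat.card U ∈
      ({Nat.card F - 1, Nat.card F + 2 ^ (m + 1) + 1, Nat.card F - 2 ^ (m + 1) + 1} : Set ℕ))) ↔
      (∃ a, U = Z.K a) ∨ (∃ a b : suzukiOvoid F m, a ≠ b ∧ U = H7.St _ a b) ∨ H5.Suz.Tor (suzukiOvoid F m) U := fun U => by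
    constructor
    · rintro (⟨P, rfl⟩ | ⟨h, h' | h'⟩)
      exacts [.inl (Z.exists_K P), .inr (.inl (Z.St_of_cyclic h h')), .inr (.inr (Z.tor_of_cyclic hr h h'))]
    · rintro (⟨a, rfl⟩ | ⟨a, b, h, rfl⟩ | h)
      exacts [.inl ⟨Z.syl a, rfl⟩, .inr ⟨Z.St_cyclic h, .inl (Z.card_St h)⟩,
        .inr ⟨(H5.Suz.SzG.Tor.cyc Z h).1, .inr (H5.Suz.SzG.Tor.card Z hr h)⟩]
  simp only [key]
  have sc : ∀ U : Subgroup (Cfsg.Sz F m), (∃ a b : suzukiOvoid F m, a ≠ b ∧ U = H7.St _ a b) ∨ H5.Suz.Tor (suzukiOvoid F m) U →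
      g ∈ U → U = Subgroup.centralizer {g} ∧ ∀ a, g ∉ Z.K a := by
    rintro _ (⟨a, b, h, rfl⟩ | h) hU
    · exact ⟨(Z.sc_St h g hU hg).symm, fun c hc => h ((Z.fix_unique hc hg hU.1).trans (Z.fix_unique hc hg hU.2).symm)⟩
    · exact ⟨(H5.Suz.SzG.Tor.sc Z h g hU hg).symm, fun c hc => H5.Suz.SzG.Tor.fpf Z h hU hg c hc.1⟩
  refine existsUnique_of_exists_of_unique ?_ ?_
  · rcases Z.tri g with ⟨a, h⟩ | ⟨a, b, hab, h⟩ | h
    exacts [⟨_, .inl ⟨a, rfl⟩, h⟩, ⟨_, .inr (.inl ⟨a, b, hab, rfl⟩), h⟩,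
      ⟨_, .inr (.inr ⟨g, h, rfl⟩), Subgroup.mem_centralizer_singleton_iff.2 rfl⟩]
  · rintro U V ⟨⟨a, rfl⟩ | hU, h⟩ ⟨⟨b, rfl⟩ | hV, h'⟩
    · rw [Z.fix_unique h hg h'.1]
    · exact ((sc _ hV h').2 a h).elim
    · exact ((sc _ hU h).2 b h').elim
    · exact (sc _ hU h).1.trans (sc _ hV h').1.symm

end Cfsg.Agent.S2238
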