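import Cfsg.Statements.S2271
import Mathlib

set_option autoImplicit false
open Cfsg

namespace Cfsg.Agent.S2271

open Equiv Equiv.Perm Finset

variable {n : ℕ}

theorem fixsign {h τ : Perm (Fin n)} (hτ : sign τ = -1) : h ∈ alternatingGroup (Fin n) ∨ h * τ ∈ alternatingGroup (Fin n) := by
  rcases Int.units_eq_one_or (sign h) with e | e <;> simp [mem_alternatingGroup, e, hτ]

theorem ex {ι : Type*} [Fintype ι] {f g : ι → Fin n} (hf : Function.Injective f) (hg : Function.Injective g)
    (h : Fintype.card ι + 2 ≤ n) : ∃ k ∈ alternatingGroup (Fin n), ∀ i, k (f i) = g i := by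
  obtain ⟨k, hk⟩ := Equiv.Perm.exists_extending_pair _ _ hf hg
  obtain ⟨u, hu, v, hv, e⟩ := one_lt_card.1 (show 1 < #(univ.image f)ᶜ by
    rw [card_compl, card_image_of_injective _ hf, card_univ, Fintype.card_fin]; omega)
  rcases fixsign (h := k) (sign_swap e) with a | a
  · exact ⟨k, a, hk⟩
  · refine ⟨_, a, fun i => ?_⟩
    rw [Perm.mul_apply, swap_apply_of_ne_of_ne, hk] <;> rintro rfl <;> simp at hu hv

/-- Number of even permutations mapping a pair to a pair. -/
def N (x x' y y' : Fin n) : ℕ := #{g : alternatingGroup (Fin n) | g.1 x = y ∧ g.1 x' = y'}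

theorem N_eq {x x' y y' u u' v v' : Fin n} {h k : Perm (Fin n)} (hh : h ∈ alternatingGroup (Fin n))
    (hk : k ∈ alternatingGroup (Fin n)) (a : h u = x) (a' : h u' = x') (b : k y = v) (b' : k y' = v') :
    N x x' y y' = N u u' v v' :=
  card_equiv ((Equiv.mulLeft ⟨k, hk⟩).trans (Equiv.mulRight ⟨h, hh⟩)) fun g => by simp [← a, ← a', ← b, ← b']

theorem count (hn : 5 ≤ n) (b c : Perm (Fin n)) {t : ℕ}
    (h : ∀ g ∈ alternatingGroup (Fin n), #{x | g (b x) = c (g x)} = t) :
    (t : ℤ) * (n - 1) = #{x | b x = x} * #{x | c x = x} + n - #{x | b x = x} - #{x | c x = x} := by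
  obtain ⟨o, i, oi⟩ : ∃ o i : Fin n, o ≠ i := ⟨⟨0, by omega⟩, ⟨1, by omega⟩, by simp⟩
  have t1 : ∀ x y : Fin n, ∃ k ∈ alternatingGroup (Fin n), k x = y := fun x y =>
    (ex (ι := Unit) (f := fun _ => x) (g := fun _ => y) (fun _ _ _ => rfl) (fun _ _ _ => rfl) (by simp; omega)).imp
      fun _ h => ⟨h.1, h.2 ()⟩
  have inj : ∀ x x' : Fin n, x ≠ x' → Function.Injective ![x, x'] := fun x x' e => by
    simp [Function.Injective, Fin.forall_fin_two, e, e.symm]
  have t2 : ∀ x x' y y' : Fin n, x ≠ x' → y ≠ y' → ∃ k ∈ alternatingGroup (Fin n), k x = y ∧ k x' = y' :=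
    fun x x' y y' e e' => (ex (inj _ _ e) (inj _ _ e') (by simp; omega)).imp fun _ h => ⟨h.1, h.2 0, h.2 1⟩
  have hN : ∀ x x' y y' : Fin n, (N x x' y y' : ℤ) = (if x' = x then 1 else 0) * (if y' = y then 1 else 0) * N o o o o +
      (1 - if x' = x then 1 else 0) * (1 - if y' = y then 1 else 0) * N o i o i := fun x x' y y' => by
    split_ifs with e e' e'
    · subst e e'
      obtain ⟨h, h1, h2⟩ := t1 o x'
      obtain ⟨k, k1, k2⟩ := t1 y' o
      simp [N_eq h1 k1 h2 h2 k2 k2]
    · simpa [N, e] using fun g _ a b => e' (b.symm.trans a)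
    · simpa [N, e'] using fun (g : Perm (Fin n)) _ a b => e (g.injective (b.trans a.symm))
    · obtain ⟨h, h1, h2, h3⟩ := t2 o i x x' oi (Ne.symm e)
      obtain ⟨k, k1, k2, k3⟩ := t2 y y' o i (Ne.symm e') oi
      simp [N_eq h1 k1 h2 h3 k2 k3]
  generalize N o o o o = c1, N o i o i = c2 at hN
  have tot : ∀ x x' : Fin n, (Fintype.card (alternatingGroup (Fin n)) : ℤ) = ∑ y, ∑ y', (N x x' y y' : ℤ) := fun x x' => by
    rw [← sum_product', ← Nat.cast_sum, ← card_univ,
      card_eq_sum_card_fiberwise (f := fun g : alternatingGroup (Fin n) => (g.1 x, g.1 x')) (t := univ ×ˢ univ) (by simp)]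
    simp [N, Prod.ext_iff]
  have g1 := tot o o
  have g2 := tot o i
  simp only [hN, if_true, if_neg oi.symm, sub_self, zero_mul, add_zero, zero_add, sub_zero, one_mul, ← sum_mul,
    sum_sub_distrib, sum_ite_eq', mem_univ, sum_const, card_univ, Fintype.card_fin, nsmul_eq_mul, mul_one] at g1 g2
  have g3 : ∑ g : alternatingGroup (Fin n), (#{x | g.1 (b x) = c (g.1 x)} : ℤ) = ∑ x, ∑ y, (N x (b x) y (c y) : ℤ) := by
    simp only [N, card_filter, Nat.cast_sum]
    rw [sum_comm]
    refine sum_congr rfl fun x _ => ?_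
    rw [sum_comm]
    refine sum_congr rfl fun g _ => ?_
    rw [sum_eq_single (g.1 x) (fun y _ e => by simp [e.symm]) (by simp)]
    simp
  rw [sum_congr rfl fun g _ => by rw [h g.1 g.2]] at g3
  simp only [hN, sum_add_distrib, ← sum_mul, ← mul_sum, sum_sub_distrib, sum_boole, sum_const, card_univ,
    Fintype.card_fin, nsmul_eq_mul, mul_one] at g3
  have g0 : (Fintype.card (alternatingGroup (Fin n)) : ℤ) ≠ 0 := Nat.cast_ne_zero.2 Fintype.card_ne_zero
  have n0 : (n : ℤ) ≠ 0 := by omega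
  refine mul_left_cancel₀ g0 (mul_left_cancel₀ n0 ?_)
  linear_combination (n * (n - 1)) * g3 - (#{x | b x = x} * #{x | c x = x} * (n - 1)) * g1 -
    ((n - #{x | b x = x}) * (n - #{x | c x = x})) * g2

theorem arcs (hn : 5 ≤ n) {b : Perm (Fin n)} (hb : b ≠ 1) (h : #{x | b x = x} ≤ 1) :
    ∃ x u, Function.Injective ![x, b x, u, b u] := by
  obtain ⟨x, hx⟩ : ∃ x, b x ≠ x := by
    by_contra! e
    exact hb (Equiv.ext e)
  obtain ⟨u, -, hu⟩ := exists_mem_notMem_of_card_lt_card (s := insert x (insert (b x) (insert (b⁻¹ x) (univ.filter fun x => b x = x))))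
    (t := univ) (by
      have := card_insert_le x (insert (b x) (insert (b⁻¹ x) (univ.filter fun x => b x = x)))
      have := card_insert_le (b x) (insert (b⁻¹ x) (univ.filter fun x => b x = x))
      have := card_insert_le (b⁻¹ x) (univ.filter fun x => b x = x)
      rw [card_univ, Fintype.card_fin]; omega)
  simp only [mem_insert, mem_filter, mem_univ, true_and, not_or, Perm.eq_inv_iff_eq] at hu
  obtain ⟨a1, a2, a3, a4⟩ := hu
  exact ⟨x, u, by simp [Function.Injective, Fin.forall_fin_succ, hx, hx.symm, a1, a2, a3, a4, Ne.symm a1, Ne.symm a2,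
    Ne.symm a3, Ne.symm a4]⟩

theorem five : ∀ b : Perm (Fin 5), #{x | b x = x} = 1 → sign b = -1 ∨ ∀ x, b (b x) = x := by
  decide +kernel

theorem main (hn : 5 ≤ n) {b c : Perm (Fin n)} (hb : b ≠ 1) (hc : c ≠ 1) (hle : #{x | c x = x} ≤ #{x | b x = x}) {t : ℕ}
    (h : ∀ g ∈ alternatingGroup (Fin n), #{x | g (b x) = c (g x)} = t) : False := by
  have e := count hn b c h
  have bd : ∀ b : Perm (Fin n), b ≠ 1 → #{x | b x = x} + 2 ≤ n := fun b hb => by
    have := two_le_card_support_of_ne_one hb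
    have := card_filter_add_card_filter_not (s := univ) fun x => b x = x
    rw [card_univ, Fintype.card_fin] at this
    exact (Nat.add_le_add_left (two_le_card_support_of_ne_one hb) _).trans this.le
  have mv : ∀ b : Perm (Fin n), b ≠ 1 → ∃ x, b x ≠ x := fun b hb => by
    by_contra! e
    exact hb (Equiv.ext e)
  have two : ∀ g ∈ alternatingGroup (Fin n), ∀ x u, x ≠ u → g (b x) = c (g x) → g (b u) = c (g u) → 2 ≤ t :=
    fun g hg x u e a a' => h g hg ▸ one_lt_card.2 ⟨x, by simpa using a, u, by simpa using a', e⟩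
  have s2 := bd b hb
  obtain ⟨x, hx⟩ := mv b hb
  obtain ⟨y, hy⟩ := mv c hc
  obtain r0 | r1 | r2 : #{x | c x = x} = 0 ∨ #{x | c x = x} = 1 ∨ 2 ≤ #{x | c x = x} := by omega
  · obtain ⟨g, g1, g2⟩ := ex (f := ![x, b x]) (g := ![y, c y]) (by simp [Function.Injective, hx, hx.symm])
      (by simp [Function.Injective, hy, hy.symm]) (by simp; omega)
    have t1 : 0 < t := h g g1 ▸ card_pos.2 ⟨x, mem_filter.2 ⟨mem_univ _, (g2 1).trans (congrArg c (g2 0).symm)⟩⟩
    rw [r0] at e
    have s1 : #{x | b x = x} = 1 ∧ t = 1 := by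
      obtain rfl | t2 : t = 1 ∨ 2 ≤ t := by omega
      · push_cast at e; omega
      · exfalso
        have : (2 : ℤ) * (n - 1) ≤ t * (n - 1) := mul_le_mul_of_nonneg_right (by omega) (by omega)
        push_cast at e; omega
    obtain ⟨x, u, i1⟩ := arcs hn hb s1.1.le
    obtain ⟨y, v, i2⟩ := arcs hn hc (by omega)
    have xu : x ≠ u := fun e => by simpa using i1 (a₁ := 0) (a₂ := 2) e
    suffices 2 ≤ t by omega
    rcases hn.eq_or_lt with rfl | hn
    · obtain ⟨g, g2⟩ := Equiv.Perm.exists_extending_pair _ _ i1 i2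
      obtain ⟨τ, τ1, τ2⟩ : ∃ τ : Perm (Fin 5), sign τ = -1 ∧ ∀ z, τ (b z) = b (τ z) := by
        rcases five b s1.1 with a | a
        · exact ⟨b, a, fun _ => rfl⟩
        · refine ⟨swap x (b x), sign_swap fun e => by simpa using i1 (a₁ := 0) (a₂ := 1) e, fun z => ?_⟩
          rw [← b.injective.swap_apply, a, swap_comm]
      have a1 : g (b x) = c (g x) := (g2 1).trans (congrArg c (g2 0).symm)
      have a2 : g (b u) = c (g u) := (g2 3).trans (congrArg c (g2 2).symm)
      rcases fixsign (h := g) τ1 with a | a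
      · exact two g a x u xu a1 a2
      · exact two _ a (τ⁻¹ x) (τ⁻¹ u) (τ⁻¹.injective.ne xu) (by simpa [τ2] using a1) (by simpa [τ2] using a2)
    · obtain ⟨g, g1, g2⟩ := ex i1 i2 (by simp; omega)
      exact two g g1 x u xu ((g2 1).trans (congrArg c (g2 0).symm)) ((g2 3).trans (congrArg c (g2 2).symm))
  · obtain ⟨u, hu⟩ := card_pos.1 (show 0 < #{x | b x = x} by omega)
    obtain ⟨v, hv⟩ := card_pos.1 (show 0 < #{x | c x = x} by omega)
    have inj : ∀ (b : Perm (Fin n)) x u, b x ≠ x → b u = u → Function.Injective ![x, b x, u] := fun b x u hx hu => by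
      have a : x ≠ u := fun e => hx (e ▸ hu)
      have a' : b x ≠ u := fun e => a (b.injective (e.trans hu.symm))
      simp [Function.Injective, Fin.forall_fin_succ, hx, hx.symm, a, a', a.symm, a'.symm]
    replace hu := (mem_filter.1 hu).2
    replace hv := (mem_filter.1 hv).2
    obtain ⟨g, g1, g2⟩ := ex (inj b x u hx hu) (inj c y v hy hv) (by simp; omega)
    have := two g g1 x u (fun e => hx (e ▸ hu)) ((g2 1).trans (congrArg c (g2 0).symm))
      (by rw [hu, show g u = v from g2 2, hv])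
    have : (2 : ℤ) * (n - 1) ≤ t * (n - 1) := mul_le_mul_of_nonneg_right (by omega) (by omega)
    rw [r1] at e
    push_cast at e; omega
  · obtain ⟨f⟩ := Function.Embedding.nonempty_of_card_le (α := {x // c x = x}) (β := {x // b x = x})
      (by simpa [Fintype.card_subtype] using hle)
    obtain ⟨g, g1, g2⟩ := ex (f := fun i => (f i).1) (g := Subtype.val) (Subtype.val_injective.comp f.injective)
      Subtype.val_injective (by simpa [Fintype.card_subtype] using bd c hc)
    have : #{x | c x = x} ≤ t := by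
      rw [← h g g1, ← Fintype.card_subtype, ← card_univ]
      exact card_le_card_of_injOn (fun i => (f i).1) (fun i _ => by simp [(f i).2, g2, i.2])
        (Subtype.val_injective.comp f.injective).injOn
    have a : (#{x | c x = x} : ℤ) * (n - 1) ≤ t * (n - 1) := mul_le_mul_of_nonneg_right (by omega) (by omega)
    have a' : ((#{x | c x = x} : ℤ) - 1) * #{x | b x = x} ≤ (#{x | c x = x} - 1) * (n - 2) :=
      mul_le_mul_of_nonneg_left (by omega) (by omega)
    have a'' : (1 : ℤ) * n ≤ (#{x | c x = x} - 1) * n := mul_le_mul_of_nonneg_right (by omega) (by omega)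
    nlinarith

/-- Let n ≥ 5 and let a, b be non-identity permutations in the symmetric group S_n. Then the number of fixed points is not constant on the set of products a′b′ with a′ conjugate to a and b′ conjugate to b under the alternating group: there are even permutations g₁, h₁, g₂, h₂ such that (g₁ a g₁⁻¹)(h₁ b h₁⁻¹) and (g₂ a g₂⁻¹)(h₂ b h₂⁻¹) have different numbers of fixed points. -/
theorem result (n : ℕ) (hn : 5 ≤ n) (a b : Equiv.Perm (Fin n)) (ha : a ≠ 1) (hb : b ≠ 1) :
    ∃ g₁ h₁ g₂ h₂ : Equiv.Perm (Fin n), g₁ ∈ alternatingGroup (Fin n) ∧ h₁ ∈ alternatingGroup (Fin n) ∧ g₂ ∈ alternatingGroup (Fin n) ∧ h₂ ∈ alternatingGroup (Fin n) ∧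
      Nat.card (Function.fixedPoints ⇑(g₁ * a * g₁⁻¹ * (h₁ * b * h₁⁻¹))) ≠
        Nat.card (Function.fixedPoints ⇑(g₂ * a * g₂⁻¹ * (h₂ * b * h₂⁻¹))) := by
  by_contra! h
  have key : ∀ g : Perm (Fin n), Nat.card (Function.fixedPoints ⇑(1 * a * 1⁻¹ * (g * b * g⁻¹))) =
      #{x | g (b x) = a⁻¹ (g x)} := fun g => by
    rw [← Fintype.card_subtype, ← Nat.card_eq_fintype_card]
    exact Nat.card_congr (Equiv.subtypeEquiv g⁻¹ fun x => by
      simp [Function.IsFixedPt, Equiv.eq_symm_apply])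
  have h1 : ∀ g ∈ alternatingGroup (Fin n), #{x | g (b x) = a⁻¹ (g x)} = _ := fun g hg =>
    (key g).symm.trans (h 1 g 1 1 (one_mem _) hg (one_mem _) (one_mem _))
  rcases le_total #{x | a⁻¹ x = x} #{x | b x = x} with e | e
  · exact main hn hb (inv_ne_one.2 ha) e h1
  · refine main hn (inv_ne_one.2 ha) hb e fun g hg => Eq.trans ?_ (h1 _ (inv_mem hg))
    exact card_equiv g fun x => by simp [Equiv.eq_symm_apply, eq_comm]

end Cfsg.Agent.S2271
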