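import Cfsg.Statements.S2272
import Cfsg.Agent.H4.Linear

set_option autoImplicit false
open Cfsg

namespace Cfsg.Agent.S2272

open Matrix Matrix.SpecialLinearGroup

variable {F : Type*} [Field F] {d : ℕ}

theorem conj_tv (a b : Fin d) (X : Matrix (Fin d) (Fin d) F) (p q : Fin d) :
    ((1 + single a b 1) * X * (1 - single a b 1) - X : Matrix (Fin d) (Fin d) F) p q =
      (if p = a then X b q else 0) - (if q = b then X p a else 0) - if p = a ∧ q = b then X b a else 0 := by
  simp only [add_mul, mul_sub, one_mul, mul_one, Matrix.sub_apply, Matrix.add_apply, single_mul_mul_single]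
  by_cases h1 : p = a <;> by_cases h2 : q = b <;> simp [h1, h2, eq_comm (a := a), eq_comm (a := b)]
  ring

theorem conj_tv3 {i j k : Fin d} (hij : i ≠ j) (h3 : k ≠ i) (h4 : k ≠ j) (X Y Z : Matrix (Fin d) (Fin d) F)
    (hY : (1 + single j i 1) * X * (1 - single j i 1) - X = Y) (hZ : (1 + single k i 1) * Y * (1 - single k i 1) - Y = Z) :
    (1 + single j k 1) * Z * (1 - single j k 1) - Z = -X i j • single j i (1 : F) := by
  have h1 : ∀ p q, Y p q = _ := fun p q => by rw [← hY, conj_tv]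
  have h2 : ∀ p q, Z p q = _ := fun p q => by rw [← hZ, conj_tv, h1, h1, h1]
  ext p q
  rw [conj_tv, h2, h2, h2]
  by_cases e1 : j = p <;> by_cases e2 : i = q <;> by_cases e3 : q = k <;>
    simp [single_apply, hij, hij.symm, h3, h3.symm, h4, h4.symm, e1, e2, e3] <;> grind

theorem tv_inv {a b : Fin d} (h : a ≠ b) : ((transvection h (1 : F))⁻¹).1 = 1 - single a b 1 := by
  rw [transvection_inv, transvection_coe, sub_eq_add_neg, ← single_neg]

theorem exists_offdiag {B : SpecialLinearGroup (Fin d) F} (hB : B ∉ Subgroup.center _) :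
    ∃ (g : SpecialLinearGroup (Fin d) F) (i j : Fin d), i ≠ j ∧ (g * B * g⁻¹).1 i j ≠ 0 := by
  by_contra! h
  have h1 : ∀ i j, i ≠ j → B.1 i j = 0 := by simpa using h 1
  refine hB (Subgroup.mem_center_iff.2 (H4.SL_transvection_induction _ (by simp) (fun i j hij c => Subtype.ext ?_)
    fun A C h1 h2 => by rw [mul_assoc, h2, ← mul_assoc, h1, mul_assoc]))
  have h2 := conj_tv i j B.1 i j
  have h3 := h (transvection hij 1) i j hij
  simp only [coe_mul, tv_inv, transvection_coe] at h3
  simp [h3, h1 _ _ hij, h1 _ _ hij.symm] at h2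
  ext p q
  simp only [coe_mul, transvection_coe, add_mul, mul_add, one_mul, mul_one, Matrix.add_apply]
  by_cases h4 : p = i <;> by_cases h5 : q = j <;> simp [h4, h5] <;> grind

theorem single_mem (hd : 3 ≤ d) {P : Matrix (Fin d) (Fin d) F → Prop}
    (h1 : ∀ {a b X}, a ≠ b → P X → P ((1 + single a b 1) * X * (1 - single a b 1) - X))
    (h0 : ∀ (c : F) X, c ≠ 0 → P (c • X) → P X) {i j : Fin d} {X : Matrix (Fin d) (Fin d) F} (hij : i ≠ j) (hX : P X)
    (hX0 : X i j ≠ 0) {a b : Fin d} (hab : a ≠ b) : P (single b a 1) := by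
  have h2 : ∀ {i j X}, i ≠ j → P X → X i j ≠ 0 → P (single j i 1) := fun {i j X} hij hX h => by
    obtain ⟨k, h3, h4⟩ := H4.exists_third (i := i) (j := j) (by simpa using hd)
    have h5 := h1 h4.symm (h1 h3 (h1 hij.symm hX))
    rw [conj_tv3 hij h3 h4 _ _ _ rfl rfl] at h5
    exact h0 _ _ (neg_ne_zero.2 h) h5
  have h3 : ∀ {i j a}, i ≠ j → a ≠ i → P (single j i 1) → P (single i a 1) := fun {i j a} hij hai hX => by
    by_cases e : a = j
    · exact h2 hai hX (by simp [e])
    · exact h2 hai (h1 e hX) (by rw [conj_tv]; simp [e, Ne.symm e, hij])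
  by_cases e : b = i
  · subst e; exact h3 hij hab (h2 hij hX hX0)
  · exact h3 e hab (h3 hij e (h2 hij hX hX0))

theorem offdiag_eq_zero (hd : 3 ≤ d) {M : Matrix (Fin d) (Fin d) F} {B : SpecialLinearGroup (Fin d) F}
    (hB : B ∉ Subgroup.center _) (h : ∀ g : SpecialLinearGroup (Fin d) F, (M * (g * B * g⁻¹).1).trace = 0)
    {a b : Fin d} (hab : a ≠ b) : M a b = 0 := by
  obtain ⟨g, i, j, hij, h4⟩ := exists_offdiag hB
  have h5 := single_mem hd (P := fun X => ∀ g : SpecialLinearGroup (Fin d) F, (M * (g.1 * X * g⁻¹.1)).trace = 0)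
    (fun h hX g => ?_) (fun c X hc hX g => by simpa [hc] using hX g) hij (fun k => ?_) h4 hab 1
  · simpa [trace_mul_single] using h5
  · have := hX (g * transvection h 1)
    rw [_root_.mul_inv_rev, coe_mul, coe_mul, tv_inv, transvection_coe] at this
    rw [mul_sub g.1, sub_mul, mul_sub, trace_sub, hX, sub_zero, ← this]
    simp only [mul_assoc]
  · rw [← coe_mul, ← coe_mul, ← h (k * g), show k * (g * B * g⁻¹) * k⁻¹ = k * g * B * (k * g)⁻¹ by group]

/-- Let F be a finite field and d ≥ 3, and let a, b be non-identity elements of PSL_d(F). Then the product of the conjugacy classes of a and b is not a single conjugacy class: there are conjugates a′ of a and b′ of b such that a′b′ is not conjugate to ab. -/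
theorem result {F : Type*} [Field F] [Fintype F] (d : ℕ) (hd : 3 ≤ d)
    (a b : Matrix.ProjectiveSpecialLinearGroup (Fin d) F) (ha : a ≠ 1) (hb : b ≠ 1) :
    ∃ g h : Matrix.ProjectiveSpecialLinearGroup (Fin d) F, ¬ IsConj (a * b) (g * a * g⁻¹ * (h * b * h⁻¹)) := by
  by_contra! h
  obtain ⟨A, rfl⟩ := QuotientGroup.mk_surjective a
  obtain ⟨B, rfl⟩ := QuotientGroup.mk_surjective b
  rw [Ne, QuotientGroup.eq_one_iff] at ha hb
  have h1 : ∀ g k : SpecialLinearGroup (Fin d) F,
      ((g * A * g⁻¹).1 * (k * B * k⁻¹).1).trace = 0 ↔ (A * B).1.trace = 0 := fun g k => by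
    obtain ⟨c, hc⟩ := isConj_iff.1 (h g k)
    obtain ⟨c, rfl⟩ := QuotientGroup.mk_surjective c
    obtain ⟨r, h2, h3⟩ := mem_center_iff.1 (QuotientGroup.eq.1 (show ((c * (A * B) * c⁻¹ : SpecialLinearGroup (Fin d) F) :
      ProjectiveSpecialLinearGroup (Fin d) F) = (g * A * g⁻¹ * (k * B * k⁻¹) : SpecialLinearGroup (Fin d) F) from hc))
    have h4 : r ≠ 0 := by rintro rfl; simp [zero_pow (by omega : d ≠ 0)] at h2
    rw [← coe_mul, ← mul_inv_cancel_left (c * (A * B) * c⁻¹) (_ * (k * B * _)), coe_mul, ← h3, scalar_apply,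
      ← smul_eq_mul_diagonal, trace_smul, coe_mul, coe_mul, trace_mul_cycle, ← coe_mul]
    simp [h4]
  obtain ⟨g, j, i, hij, h2⟩ := exists_offdiag ha
  obtain ⟨k, h3, h4⟩ := H4.exists_third (i := i) (j := j) (by simpa using hd)
  replace h1 := h1 g
  generalize (g * A * g⁻¹).1 = X at *
  let N : Matrix (Fin d) (Fin d) F := single i k (X j i) - single i j (X k i)
  have h5 : N * N = 0 := by simp [N, sub_mul, mul_sub, h3, hij]
  have h6 : N * X * N = 0 := by
    ext p q
    simp only [N, sub_mul, mul_sub, single_mul_mul_single, Matrix.sub_apply, single_apply, Matrix.zero_apply]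
    grind
  obtain ⟨u, hu⟩ := not_forall.1 fun h => (by simpa [N, mul_sub, sub_mul, hij, h3, h4, h4.symm] using h2 :
    (X * N - N * X) j k ≠ 0) (offdiag_eq_zero hd hb h h4.symm)
  have h7 : ∀ c : F, ∃ l : F, (X * (u * B * u⁻¹).1).trace + l * ((X * N - N * X) * (u * B * u⁻¹).1).trace = c :=
    fun c => ⟨(c - _) / _, by rw [div_mul_cancel₀ _ hu, add_sub_cancel]⟩
  have h8 : ∀ l : F, (X * (u * B * u⁻¹).1).trace + l * ((X * N - N * X) * (u * B * u⁻¹).1).trace = 0 ↔
      (A * B).1.trace = 0 := fun l => by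
    let t := transvection h3.symm (l * X j i) * transvection hij.symm (-(l * X k i))
    have h9 : t.1 = 1 + l • N := by
      simp [t, N, transvection_coe, add_mul, mul_add, h3, smul_sub, sub_eq_add_neg, ← single_neg]
      abel
    have h10 : t⁻¹.1 = 1 - l • N := by
      have : t.1 * (1 - l • N) = 1 := by rw [h9]; simp [add_mul, mul_sub, h5]
      calc t⁻¹.1 = t⁻¹.1 * (t.1 * (1 - l • N)) := by rw [this, mul_one]
        _ = _ := by rw [← mul_assoc, ← coe_mul, inv_mul_cancel, coe_one, one_mul]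
    rw [← h1 (t * u), show t * u * B * (t * u)⁻¹ = t * (u * B * u⁻¹) * t⁻¹ by group, coe_mul (t * _), coe_mul t, h9, h10]
    generalize (u * B * u⁻¹).1 = Y
    have h11 : (X * (N * Y * N)).trace = 0 := by rw [← mul_assoc, trace_mul_comm, ← mul_assoc, ← mul_assoc, h6]; simp
    have h12 : (X * (Y * N)).trace = (N * (X * Y)).trace := by rw [← mul_assoc, trace_mul_comm]
    simp only [add_mul, mul_sub, mul_add, sub_mul, one_mul, mul_one, smul_mul_assoc, mul_smul_comm, trace_sub, trace_add,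
      trace_smul, h11, h12, mul_assoc X, mul_assoc N X, smul_eq_mul, mul_zero, add_zero, add_sub_assoc]
  obtain ⟨l, hl⟩ := h7 0
  obtain ⟨l', hl'⟩ := h7 1
  exact one_ne_zero (hl'.symm.trans ((h8 l').2 ((h8 l).1 hl)))

end Cfsg.Agent.S2272
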