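import Cfsg.Statements.S2375
import Cfsg.Agent.H5.Ag7

set_option autoImplicit false
open Cfsg

namespace Cfsg.Agent.S2375

/-- The group E₈(q) contains a cyclic subgroup of order q⁸ + q⁷ − q⁵ − q⁴ − q³ + q + 1 which is its own centralizer. -/
theorem result {F : Type*} [Field F] [Fintype F] (q : ℕ) (hF : Fintype.card F = q) :
    ∃ H : Subgroup ↥(Cfsg.Lie.chevE8.group F), IsCyclic ↥H ∧ Nat.card ↥H = q ^ 8 + q ^ 7 - q ^ 5 - q ^ 4 - q ^ 3 + q + 1 ∧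
      Subgroup.centralizer (H : Set ↥(Cfsg.Lie.chevE8.group F)) = H := by
  have hq : 2 ≤ q := hF ▸ Fintype.one_lt_card
  have h0 : q ^ 3 + q ^ 4 + q ^ 5 ≤ q ^ 8 + q ^ 7 := by
    have := Nat.pow_le_pow_right (by omega : 0 < q) (by omega : 5 ≤ 7)
    have := Nat.pow_le_pow_right (by omega : 0 < q) (by omega : 4 ≤ 7)
    have := Nat.pow_le_pow_right (by omega : 0 < q) (by omega : 3 ≤ 7)
    have : q ^ 7 * 2 ≤ q ^ 8 := Nat.mul_le_mul_left (q ^ 7) hq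
    omega
  obtain ⟨H, h1, h2, h3⟩ := H5.rsE8.cyc_tor H5.goodE8 (by decide) (H5.StN.hp_inj_of_ker (H5.rsE8.st_rel3 _ _) H5.kerE8.ker_eq_bot)
    hF hq (n := q ^ 8 + q ^ 7 - q ^ 5 - q ^ 4 - q ^ 3 + q + 1) [7, 1, 6, 2, 4, 0, 5, 3]
    [[1, 1, 0, 0, 0, -1, 0, 1], [0, 1, 1, 1, 0, 0, -1, 0], [1, 1, 1, 1, 0, -1, 0, 0], [0, 1, 2, 2, 1, 0, -1, -1],
      [0, 1, 2, 1, 1, 0, -1, -1], [1, 1, 1, 0, 0, 0, 0, 0], [1, 1, 0, 0, 0, 0, 0, 0], [1, 0, 0, 0, 0, 0, 0, 0]]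
    [[0, 0, 0, 0, 0, 0, 0, 1], [0, 0, 0, 0, 0, 0, 1, -1], [0, 0, 0, 0, 0, 1, -1, 0], [0, 0, 0, 1, -1, 0, 0, 0],
      [1, -1, -1, 1, 0, 0, 0, 0], [0, 0, -1, 1, -1, 1, 0, 0], [0, -1, 0, 1, -1, 1, 0, -1], [1, 0, -1, 1, -1, 1, -1, 0],
      [0, -1, -1, 2, -1, 0, 0, 0]] [[1, 1, 0, -1, -1, -1, 0, 1, 1]] [[-1, 0, -1, 0, 0, -1, -1, -1]]
    (by
      rw [Nat.sub_sub, Nat.sub_sub, Nat.cast_add, Nat.cast_add, Nat.cast_sub (by omega)]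
      change _ = H5.evq 9 _ _
      simp [H5.evq, Finset.sum_range_succ, H5.tb]; ring) (by decide +kernel)
  exact ⟨H, h1, by simpa [H5.kerE8.ker_eq_bot] using h2.symm, h3⟩

end Cfsg.Agent.S2375
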