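import Cfsg.Statements.S2378
import Cfsg.Agent.H5.Hc1
import Cfsg.Agent.H5.EmbC
import Cfsg.Agent.S1059
import Cfsg.Agent.S1060
import Cfsg.Agent.S1061
import Cfsg.Agent.S1062
import Cfsg.Agent.S1063
import Cfsg.Agent.S1064
import Cfsg.Agent.S1065

set_option autoImplicit false
open Cfsg

namespace Cfsg.Agent.S2378

def hcG2 : List H5.HC := [([], [], [], 0, []), ([], [9, 1], [[1, 1], [0, 1]], 1, []), ([0, 1, 0, 1, 0, 1], [10, 11], [[1, 0], [1, 1]], 2, [1]), ([1, 0, 1, 0], [3], [[-1, -1]], 3, [1]), ([], [], [], 0, []), ([], [], [], 0, []), ([0, 1], [6], [[0, 1]], 6, [3, 2])]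

def hcB2 : List H5.HC := [([], [], [], 0, []), ([], [1, 2], [[-1, -1], [-1, 0]], 2, []), ([0, 1, 0, 1], [1, 2], [[-1, -1], [-1, 0]], 4, [1]), ([], [], [], 0, []), ([0, 1], [5], [[1, 0]], 4, [2])]

def hcD4 : List H5.HC := [([], [], [], 0, []), ([], [8, 19, 22, 7], [[0, -1, 0, -1], [1, 1, 0, 0], [1, 1, 1, 1], [0, -1, -1, 0]], 2, []), ([0, 1, 0, 2, 1, 0, 3, 1, 0, 2, 1, 3], [4, 22, 8, 7], [[-1, -1, 0, 0], [1, 1, 1, 1], [0, -1, 0, -1], [0, -1, -1, 0]], 4, [1]), ([0, 1, 0, 2], [7], [[0, -1, -1, 0]], 1, [1]), ([1, 0, 3, 1, 0, 2], [18, 10], [[1, 0, 0, 0], [0, 0, -1, 0]], 4, [2]), ([], [], [], 0, []), ([1, 0, 2, 3, 1, 0], [12], [[0, 0, 0, 1]], 2, [3, 2])]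

def hcF4 : List H5.HC := [([], [], [], 0, []), ([], [3, 45, 42, 15], [[-1, -1, -1, 0], [0, 1, 0, 0], [0, 0, 0, 1], [0, -1, -1, -1]], 1, []), ([0, 1, 0, 2, 1, 0, 2, 1, 2, 3, 2, 1, 0, 2, 1, 2, 3, 2, 1, 0, 2, 1, 2, 3], [46, 0, 45, 7], [[1, 1, 1, 0], [-1, -1, -1, -1], [1, 1, 0, 0], [1, 0, 0, 0]], 2, [1]), ([0, 1, 2, 1, 0, 2, 3, 2, 1, 0, 2, 1, 2, 3, 2, 1], [41, 30], [[1, 0, 0, -1], [-1, 0, -1, -1]], 3, [1]), ([0, 1, 0, 2, 3, 2, 1, 0, 2, 1, 3, 2], [4, 42], [[0, 1, 0, 0], [1, 1, 0, 0]], 2, [2]), ([], [], [], 0, []), ([0, 3, 2, 1, 0, 2, 1, 2], [33, 23], [[1, 0, 0, 0], [0, 0, 0, -1]], 6, [3, 2]), ([], [], [], 0, []), ([0, 1, 3, 2, 1, 0, 2, 1], [1], [[-1, -1, -1, 0]], 2, [4]), ([], [], [], 0, []), ([], [], [], 0, []), ([], [], [], 0, []), ([0, 1, 2, 1, 3, 2, 1, 0, 2, 1], [6],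 [[-1, -1, 0, 1]], 6, [6, 4])]

def hcE6 : List H5.HC := [([], [], [], 0, []), ([], [17, 70, 13, 41, 5, 52], [[0, -3, 0, -3, 0, 0], [0, 0, 3, 3, 3, 0], [-2, 0, -1, 0, 1, -1], [-1, -3, -2, -3, -1, 1], [-2, -3, -1, -3, -2, -1], [1, 0, 2, 0, 1, 2]], 3, []), ([0, 1, 2, 0, 3, 1, 2, 0, 3, 2, 4, 3, 1, 2, 0, 3, 2, 4, 3, 1, 5, 4, 3, 1, 2, 0, 3, 2, 4, 3, 1, 5, 4, 3, 2, 0], [39, 2, 8, 18], [[0, 0, 1, 1, 0, 1], [0, 0, -1, -1, -1, -1], [0, -1, -1, -1, 0, -1], [0, -1, -1, -1, 0, 0]], 2, [1]), ([1, 2, 3, 1, 2, 0, 3, 2, 4, 3, 1, 2, 5, 4, 3, 1, 2, 0, 3, 2, 4, 3, 5, 4], [32, 18, 34], [[0, 1, 0, -1, -1, -1], [0, -1, -1, -1, 0, 1], [0, 1, 0, 0, -1, 0]], 3, [1]), ([0, 1, 2, 0, 3, 4, 3, 1, 2, 0, 5, 4, 3, 2], [65, 5], [[0, 0, 0, -1, -1, 0], [0, 0, 0, 1, 0, 0]], 2, [2]), ([0, 1, 3, 2], [68],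 [[0, 0, 0, -1, -1, 0]], 1, [1]), ([0, 1, 2, 0, 3, 2, 4, 3, 1, 2, 5, 4, 3, 1, 2, 0, 3, 2, 4, 3], [55, 48], [[-1, 0, 0, 1, 1, 1], [1, 1, 0, 1, 1, 0]], 6, [3, 2]), ([], [], [], 0, []), ([2, 3, 2, 0, 4, 5, 4, 3, 1, 2, 0, 3, 2], [61], [[0, 0, 0, 0, -1, 0]], 2, [4]), ([0, 1, 3, 1, 4, 3, 5, 4, 3, 2], [24], [[0, -1, 0, -1, 0, 0]], 3, [3]), ([], [], [], 0, []), ([], [], [], 0, []), ([2, 0, 3, 1, 4, 5, 4, 3, 1, 2, 0, 3, 4, 5], [59], [[0, -1, -1, 0, 1, -1]], 6, [6, 4])]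

def hcE7 : List H5.HC := [([], [], [], 0, []), ([], [70, 44, 117, 112, 107, 87, 68], [[-1, -2, -2, -2, -1, -1, -1], [0, -1, 0, -1, -1, -1, 0], [1, 1, 2, 3, 2, 2, 1], [1, 1, 2, 2, 2, 1, 0], [2, 2, 2, 3, 2, 1, 1], [0, 2, 2, 3, 2, 1, 1], [-1, 0, 0, 0, 1, 1, 1]], 2, []), ([0, 1, 2, 0, 3, 1, 2, 0, 3, 2, 4, 3, 1, 2, 0, 3, 2, 4, 3, 1, 5, 4, 3, 1, 2, 0, 3, 2, 4, 3, 1, 5, 4, 3, 2, 0, 6, 5, 4, 3, 1, 2, 0, 3, 2, 4, 3, 1, 5, 4, 3, 2, 0, 6, 5, 4, 3, 1, 2, 3, 4, 5, 6], [8, 109, 76, 33, 7, 119, 2], [[-2, -1, -2, -2, -1, -2, -1], [0, 1, 2, 2, 1, 0, 1], [-2, -2, -2, -2, -2, -2, -2], [0, -2, -2, -2, -2, -2, -2], [-2, -1, -2, -2, -3, -2, -1], [2, 2, 2, 2, 2, 2, 0], [2, 1, 2, 0, 1, 2, 1]], 4, [1]), ([1, 2, 3, 4, 3, 1, 2, 0, 3, 2, 4, 3, 1, 5, 4, 3, 1, 2, 0, 3, 2, 4, 3, 5], [109, 88,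 61], [[1, 0, 2, 1, 0, 0, 0], [-2, -1, -3, -3, -3, -3, -3], [-1, 1, -1, 0, 0, -1, 0]], 3, [1]), ([1, 2, 3, 2, 0, 4, 3, 1, 2, 0, 3, 2, 4, 5, 4, 3, 1, 2, 0, 3, 4, 5, 6, 5], [17, 10], [[0, 0, 0, 0, 0, -1, 0], [0, 1, 0, 0, 0, 0, 1]], 2, [2]), ([0, 1, 2, 3, 1, 2, 4, 3, 1, 2, 0, 3, 4, 5, 4, 3, 1, 2, 3, 4, 5, 6, 5, 4, 3, 1, 2, 0, 3, 2, 4, 3, 1, 5, 4, 3], [40], [[0, 0, -1, -1, -1, 0, 0]], 1, [1]), ([1, 2, 3, 1, 2, 0, 3, 4, 3, 1, 2, 3, 4, 5, 4, 3, 2, 0, 6, 5, 4], [49, 41, 24], [[0, 0, -1, -1, -2, -2, -1], [0, 0, -1, -1, 1, 1, 2], [-1, 0, -1, -1, 0, -1, 1]], 6, [3, 2]), ([2, 0, 4, 3, 5, 4, 3, 1, 2, 3, 4, 5, 6, 5, 4, 3], [104], [[1, 1, 1, 2, 1, 1, 0]], 1, [1]), ([2, 3, 2, 0, 4, 5, 4, 3, 1, 2, 6, 5, 4, 3, 1, 2, 0, 3, 2], [41], [[0, 0, 0, 0, 0, 1, 0]], 2, [4]), ([2, 3, 1, 2, 4,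 3, 2, 5, 4, 3, 1, 2, 6, 5, 4, 3, 1, 2, 0, 3, 2, 4, 3, 1], [99], [[1, 1, 1, 1, 0, 0, 0]], 3, [3]), ([3, 1, 2, 4, 3, 1, 2, 0, 3, 2, 4, 5, 4, 3, 1, 2, 0, 3, 2, 4, 5, 6, 5, 4, 3, 1, 2, 0, 3, 2, 4, 3, 1, 5, 4, 3, 2, 0, 6, 5, 4, 3, 2], [73], [[0, 0, 1, 0, 0, 0, 0]], 2, [5, 2]), ([], [], [], 0, []), ([1, 3, 1, 4, 3, 1, 2, 3, 4, 5, 4, 3, 2, 6, 5, 4, 3, 1, 2, 0, 3, 2, 4, 5, 6], [21], [[-1, 1, -1, 0, 1, 0, 1]], 6, [6, 4]), ([], [], [], 0, []), ([2, 0, 3, 1, 2, 3, 4, 5, 4, 3, 1, 2, 0, 3, 2, 6, 5, 4, 3, 2, 0], [121], [[-1, 0, 0, -1, 0, 0, 0]], 2, [7, 2]), ([], [], [], 0, []), ([], [], [], 0, []), ([], [], [], 0, []), ([0, 2, 3, 1, 2, 3, 4, 3, 1, 5, 4, 3, 1, 2, 0, 3, 2, 4, 6, 5, 4, 3, 1, 2, 0, 3, 2, 4, 3, 1, 5, 4, 3, 2, 6, 5, 4], [68], [[-1, 1, 0, -1, -1, 1, 0]], 6, [9, 6])]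

def hcE8 : List H5.HC := [([], [], [], 0, []), ([], [16, 233, 81, 153, 116, 28, 64, 55], [[-1, -1, -2, -3, -3, -2, -1, 0], [1, 2, 2, 3, 2, 2, 2, 1], [-1, -1, -2, -3, -2, -2, -2, -2], [-1, 0, -1, -1, -1, -1, -1, -1], [-1, -1, -2, -2, -1, -2, -2, -2], [1, 1, 2, 3, 2, 2, 2, 1], [-1, 0, -1, -2, -2, -1, 0, 0], [-1, -1, -2, -2, -1, -1, -1, -1]], 1, []), ([0, 1, 2, 0, 3, 1, 2, 0, 3, 2, 4, 3, 1, 2, 0, 3, 2, 4, 3, 1, 5, 4, 3, 1, 2, 0, 3, 2, 4, 3, 1, 5, 4, 3, 2, 0, 6, 5, 4, 3, 1, 2, 0, 3, 2, 4, 3, 1, 5, 4, 3, 2, 0, 6, 5, 4, 3, 1, 2, 3, 4, 5, 6, 7, 6, 5, 4, 3, 1, 2, 0, 3, 2, 4, 3, 1, 5, 4, 3, 2, 0, 6, 5, 4, 3, 1, 2, 3, 4, 5, 6, 7, 6, 5, 4, 3, 1, 2, 0, 3, 2, 4, 3, 1, 5, 4, 3, 2, 0, 6, 5, 4, 3, 1, 2, 3, 4, 5, 6, 7], [52, 181, 223, 75, 24, 111, 1, 206], [[0, 0, 0, 0, 0, -1, -1,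 -1], [1, 1, 1, 1, 1, 1, 0, 0], [1, 1, 2, 2, 2, 1, 0, 0], [-1, 0, -1, -1, -1, 0, 0, 0], [0, 0, 0, -1, -1, -1, -1, -1], [0, 1, 1, 1, 0, 0, -1, -1], [0, -1, -1, -2, -1, -1, -1, 0], [1, 1, 1, 1, 1, 0, 0, 0]], 2, [1]), ([3, 2, 4, 3, 1, 2, 0, 3, 2, 4, 3, 1, 5, 4, 3, 1, 2, 0, 3, 2, 4, 3, 1, 6, 5, 4, 3, 1, 2, 0, 3, 2, 4, 3, 1, 5, 4, 3, 2, 0, 6, 5, 4, 3, 1, 2, 3, 4, 5, 7, 6, 5, 4, 3, 1, 2, 0, 3, 2, 4, 3, 1, 5, 4, 3, 2, 0, 6, 5, 4, 3, 1, 2, 3, 4, 5, 6, 7, 6, 5], [82, 37, 52, 188], [[1, -1, -1, -1, -1, -1, -1, 0], [-1, 0, -1, -2, -2, -1, -1, -1], [0, -1, -2, -2, -1, -1, -1, -1], [1, 1, 2, 2, 2, 1, 0, 0]], 3, [1]), ([2, 3, 1, 2, 3, 4, 3, 1, 2, 0, 3, 4, 5, 4, 3, 1, 2, 0, 3, 2, 4, 3, 1, 5, 6, 5, 4, 3, 1, 2, 0, 3, 2, 4, 3, 1, 5, 4, 3, 2, 0, 6, 5, 4, 3, 1, 2, 7, 6, 5, 4, 3, 1, 2,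 0, 3, 4, 5, 6, 7], [144, 103, 93, 125], [[0, 1, 1, 1, 1, 1, 0, 0], [1, 1, 1, 1, 1, 1, 1, 0], [0, 0, 0, -1, -1, 0, 0, -1], [0, 0, 0, -1, -1, 0, 0, 0]], 2, [2]), ([0, 1, 2, 3, 1, 2, 4, 3, 1, 2, 5, 4, 3, 1, 2, 0, 3, 2, 4, 5, 6, 5, 4, 3, 1, 2, 0, 3, 2, 4, 3, 5, 4, 6, 5, 7, 6, 5, 4, 3, 1, 2, 0, 3, 2, 4, 3, 1, 5, 4, 3, 2, 0, 6, 5, 4, 3, 1, 2, 3, 4, 5, 7, 6, 5, 4, 3, 2], [71, 10], [[-1, 1, 1, -1, -2, -1, -1, -2], [-1, -1, -2, -1, 1, -2, 0, 0]], 5, [1]), ([0, 1, 2, 0, 3, 1, 2, 4, 5, 4, 3, 6, 5, 4, 3, 1, 2, 3, 4, 7, 6, 5, 4, 3, 1, 2, 0, 3, 2, 4, 3, 1, 5, 4, 3, 2, 6, 5, 4, 3], [150, 131, 60, 49], [[-2, 0, -2, -2, -1, -1, 0, 0], [-2, -1, -2, -2, -1, -2, -2, -1], [0, 1, 2, 3, 1, 1, 1, 1], [1, 1, 2, 3, 2, 2, 0, -1]], 6, [3, 2]), ([5, 4, 3, 1, 6, 5, 7, 6, 5, 4, 3, 1], [55], [[0,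 0, -1, -1, -1, 0, 0, 0]], 1, [1]), ([2, 0, 4, 3, 2, 5, 4, 3, 1, 2, 0, 3, 4, 5, 6, 5, 4, 3, 1, 2, 3, 7, 6, 5, 4, 3, 1, 2, 0, 3, 2, 4, 3, 1, 5, 4, 3, 2, 0, 6, 5, 4, 3, 1, 7, 6, 5, 4], [4, 47], [[0, 0, 0, 0, 1, 0, 0, 0], [0, -1, -1, -1, -1, -1, -1, -1]], 2, [4]), ([0, 1, 2, 3, 4, 5, 4, 3, 1, 2, 0, 3, 2, 4, 5, 7, 6, 5, 4, 3, 1, 2], [22], [[-1, -1, 0, -1, 0, -1, -1, 0]], 3, [3]), ([0, 2, 3, 1, 2, 0, 4, 3, 1, 2, 0, 3, 2, 5, 4, 3, 1, 2, 3, 4, 5, 6, 5, 4, 3, 1, 2, 0, 3, 2, 4, 3, 1, 5, 4, 3, 2, 0, 6, 5, 7, 6, 5, 4, 3, 1, 2, 0, 3, 2, 4, 3, 1, 5, 4, 3, 2, 6, 5, 4, 3, 1, 7, 6], [90, 206], [[1, -1, 0, 1, 0, -1, 0, 0], [1, 2, 2, 2, 1, -1, 0, 1]], 10, [5, 2]), ([], [], [], 0, []), ([3, 1, 4, 3, 1, 2, 3, 5, 4, 3, 2, 6, 5, 4, 3, 1, 2, 0, 3, 2, 4, 3, 5, 4, 6, 7, 6, 5], [102, 73], [[0,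 0, -1, -1, -1, 0, 0, 0], [-1, 0, -1, -1, -1, -1, 0, 0]], 6, [6, 4]), ([], [], [], 0, []), ([0, 1, 3, 1, 4, 6, 5, 4, 3, 2, 7], [77], [[-1, 0, 0, 0, 0, 0, 0, 0]], 2, [7, 2]), ([0, 3, 2, 4, 3, 1, 2, 0, 3, 4, 5, 4, 3, 1, 2, 3, 4, 6, 5, 7, 6, 5, 4, 3, 1, 2, 3, 4], [15], [[3, 3, -2, -2, 1, 1, -1, -3]], 15, [5, 3]), ([], [], [], 0, []), ([], [], [], 0, []), ([0, 1, 3, 1, 2, 3, 4, 3, 2, 0, 5, 4, 3, 2, 0, 6, 5, 4, 7, 6, 5, 4, 3, 1, 2, 0, 3, 4, 5], [182], [[0, 0, 0, -1, 0, 1, 0, 1]], 6, [9, 6]), ([], [], [], 0, []), ([0, 3, 1, 4, 3, 1, 2, 3, 4, 6, 5, 4, 3, 1, 2, 3, 4, 5, 7, 6, 5, 4, 3, 1, 2, 3], [176], [[1, 1, 0, 1, 0, 0, 1, -1]], 10, [10, 4]), ([], [], [], 0, []), ([], [], [], 0, []), ([], [], [], 0, []), ([0, 2, 0, 4, 3, 2, 5, 6, 5, 4, 3, 1, 2, 0, 7, 6, 5, 4, 3, 1, 2, 0,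 3, 2], [187], [[1, 1, 1, 1, 0, -1, 0, 1]], 6, [12, 8]), ([], [], [], 0, []), ([], [], [], 0, []), ([], [], [], 0, []), ([], [], [], 0, []), ([], [], [], 0, []), ([0, 1, 2, 4, 3, 1, 2, 3, 6, 5, 4, 3, 1, 2, 0, 3, 4, 5, 6, 7, 6, 5, 4, 3, 1, 2, 0, 3, 2, 4, 3, 1, 5, 4, 3, 2, 6, 5, 4, 3, 1, 7], [191], [[1, -2, -1, -3, -2, 3, 1, -3]], 30, [15, 10, 6])]


theorem chk {D : Cfsg.Lie.ChevalleyDatum} {R : H5.RS D} (hR : R.Good) {K : Type*} [Field K] {u v} (h : R.KerData 0 1 u v) :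
    Function.Injective (R.st K hR).hp := H5.StN.hp_inj_of_ker (R.st_rel3 K hR) h.ker_eq_bot
theorem cG2 : H5.rsG2.toCert.homAll Cfsg.Lie.chevG2.rank Cfsg.Lie.chevG2.nroots [2, 6] hcG2 = true := by decide +kernel
theorem cB2 : H5.rsB2.toCert.homAll Cfsg.Lie.chevB2.rank Cfsg.Lie.chevB2.nroots [2, 4] hcB2 = true := by decide +kernel
theorem cD4 : H5.rsD4.toCert.homAll Cfsg.Lie.chevD4.rank Cfsg.Lie.chevD4.nroots [2, 4, 4, 6] hcD4 = true := by decide +kernel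
theorem cF4 : H5.rsF4.toCert.homAll Cfsg.Lie.chevF4.rank Cfsg.Lie.chevF4.nroots [2, 6, 8, 12] hcF4 = true := by decide +kernel
theorem cE6 : H5.rsE6.toCert.homAll Cfsg.Lie.chevE6.rank Cfsg.Lie.chevE6.nroots [2, 5, 6, 8, 9, 12] hcE6 = true := by decide +kernel
theorem cE7 : H5.rsE7.toCert.homAll Cfsg.Lie.chevE7.rank Cfsg.Lie.chevE7.nroots [2, 6, 8, 10, 12, 14, 18] hcE7 = true := by decide +kernel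
theorem cE8 : H5.rsE8.toCert.homAll Cfsg.Lie.chevE8.rank Cfsg.Lie.chevE8.nroots [2, 8, 12, 14, 18, 20, 24, 30] hcE8 = true := by decide +kernel

/-- Sylow subgroups for primes away from the characteristic and the Weyl group. Let `G` be the Chevalley group of type G₂, B₂, D₄, F₄, E₆, E₇ or E₈ over a field with `q` elements, with the degrees of its Weyl group listed beside the type (their product is the order of the Weyl group), and let `r` be a prime dividing the order of `G`, not dividing `q` and not dividing the order of the Weyl group. Let `d` be the multiplicative order of `q` modulo `r`, `a` the number of degrees divisible by `d`, and `m` the `r`-part of the value at `q` of the `d`-th cyclotomic polynomial. Then every Sylow `r`-subgroup of `G` is homocyclic: a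 direct product of `a` cyclic groups of order `m` (in particular abelian). -/
theorem result {F : Type*} [Field F] [Fintype F] {q : ℕ} (hq : Fintype.card F = q)
    (c : Cfsg.Lie.ChevalleyDatum × List ℕ)
    (hc : c ∈ [(Cfsg.Lie.chevG2, [2, 6]), (Cfsg.Lie.chevB2, [2, 4]), (Cfsg.Lie.chevD4, [2, 4, 4, 6]), (Cfsg.Lie.chevF4, [2, 6, 8, 12]),
      (Cfsg.Lie.chevE6, [2, 5, 6, 8, 9, 12]), (Cfsg.Lie.chevE7, [2, 6, 8, 10, 12, 14, 18]), (Cfsg.Lie.chevE8, [2, 8, 12, 14, 18, 20, 24, 30])])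
    (r : ℕ) [Fact r.Prime] (hrq : ¬ r ∣ q) (hrW : ¬ r ∣ c.2.prod) (hrG : r ∣ Nat.card ↥(c.1.group F)) (P : Sylow r ↥(c.1.group F)) :
    Nonempty (↥(P : Subgroup ↥(c.1.group F)) ≃*
      (Fin (c.2.filter (fun e => orderOf (q : ZMod r) ∣ e)).length →
        Multiplicative (ZMod (r ^ padicValNat r ((Polynomial.cyclotomic (orderOf (q : ZMod r)) ℤ).eval (q : ℤ)).natAbs)))) := by
  simp only [List.mem_cons, List.not_mem_nil, or_false] at hc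
  rcases hc with rfl | rfl | rfl | rfl | rfl | rfl | rfl
  · exact H5.RS.sylow_homo H5.goodG2 (chk H5.goodG2 H5.kerG2) hq cG2 (z := 1) (N := 6)
      (by simpa [mul_assoc] using S1059.result hq) (one_dvd _) r hrq hrW hrG P
  · exact H5.RS.sylow_homo H5.goodB2 (H5.hp_injB2 _) hq cB2 (z := Nat.gcd 2 (q - 1)) (N := 4)
      (by simpa [mul_assoc] using S1060.result hq) ((Nat.gcd_dvd_left _ _).trans (by decide)) r hrq hrW hrG P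
  · exact H5.RS.sylow_homo H5.goodD4 (H5.hp_injD4 _) hq cD4 (z := Nat.gcd 2 (q - 1) ^ 2) (N := 12)
      (by simpa [mul_assoc] using S1061.result hq) ((pow_dvd_pow_of_dvd (Nat.gcd_dvd_left _ _) 2).trans (by decide)) r hrq hrW hrG P
  · exact H5.RS.sylow_homo H5.goodF4 (chk H5.goodF4 H5.kerF4) hq cF4 (z := 1) (N := 24)
      (by simpa [mul_assoc] using S1062.result hq) (one_dvd _) r hrq hrW hrG P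
  · exact H5.RS.sylow_homo H5.goodE6 (H5.hp_injE6 _) hq cE6 (z := Nat.gcd 3 (q - 1)) (N := 36)
      (by simpa [mul_assoc] using S1063.result hq) ((Nat.gcd_dvd_left _ _).trans (by decide)) r hrq hrW hrG P
  · exact H5.RS.sylow_homo H5.goodE7 (H5.hp_injE7 _) hq cE7 (z := Nat.gcd 2 (q - 1)) (N := 63)
      (by simpa [mul_assoc] using S1064.result hq) ((Nat.gcd_dvd_left _ _).trans (by decide)) r hrq hrW hrG P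
  · exact H5.RS.sylow_homo H5.goodE8 (chk H5.goodE8 H5.kerE8) hq cE8 (z := 1) (N := 120)
      (by simpa [mul_assoc] using S1065.result hq) (one_dvd _) r hrq hrW hrG P

end Cfsg.Agent.S2378
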