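import Cfsg.Statements.S2419
import Cfsg.Agent.H5.Wz

set_option autoImplicit false
open Cfsg

namespace Cfsg.Agent.S2419

/-- The Coxeter groups of types B₂, G₂, E₆, E₇, E₈ are generated by the Coxeter element `s₁ s₂ ⋯ s_l` together with one suitable reflection (a conjugate of a simple reflection); for types D₄ and F₄ the Coxeter element together with two suitable reflections suffices. -/
theorem result (c : (Σ n : ℕ, CoxeterMatrix (Fin n)) × ℕ)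
    (hc : c ∈ [(⟨2, CoxeterMatrix.B 2⟩, 1), (⟨2, CoxeterMatrix.G₂⟩, 1), (⟨4, Cfsg.Lie.coxeterD4⟩, 2), (⟨4, CoxeterMatrix.F₄⟩, 2),
      (⟨6, CoxeterMatrix.E₆⟩, 1), (⟨7, CoxeterMatrix.E₇⟩, 1), (⟨8, CoxeterMatrix.E₈⟩, 1)]) :
    ∃ T : Finset c.1.2.Group, T.card = c.2 ∧ (∀ t ∈ T, ∃ (g : c.1.2.Group) (i : Fin c.1.1), t = g * c.1.2.simple i * g⁻¹) ∧
      Subgroup.closure (({((List.finRange c.1.1).map c.1.2.simple).prod} : Set c.1.2.Group) ∪ ↑T) = ⊤ := by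
  simp only [List.mem_cons, List.not_mem_nil, or_false] at hc
  rcases hc with rfl | rfl | rfl | rfl | rfl | rfl | rfl
  · exact H5.rsB2.wz_2419 H5.coxB2 (List.finRange 2) ([0] : List (Fin 2)) (by decide : ([0] : List (Fin 2)).Nodup)
      (![[2], [2, 0]] : Fin 2 → List ℕ) (by decide +kernel)
  · exact H5.rsG2.wz_2419 H5.coxG2 (List.finRange 2) ([0] : List (Fin 2)) (by decide : ([0] : List (Fin 2)).Nodup)
      (![[2], [2, 0]] : Fin 2 → List ℕ) (by decide +kernel)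
  · exact H5.rsD4.wz_2419 H5.coxD4 (List.finRange 4) ([1, 2] : List (Fin 4)) (by decide : ([1, 2] : List (Fin 4)).Nodup)
      (![[1, 2, 0], [2], [3], [0, 3, 2, 3, 1]] : Fin 4 → List ℕ) (by decide +kernel)
  · exact H5.rsF4.wz_2419 H5.coxF4 (List.finRange 4) ([0, 2] : List (Fin 4)) (by decide : ([0, 2] : List (Fin 4)).Nodup)
      (![[2], [0, 2, 1], [3], [0, 3, 1]] : Fin 4 → List ℕ) (by decide +kernel)
  · exact H5.rsE6.wz_2419 H5.coxE6 (List.finRange 6) ([3] : List (Fin 6)) (by decide : ([3] : List (Fin 6)).Nodup)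
      (![[1,1,1,1,1,2,0,0,0,0,0],[2,1,1,1,2,0,0,0,2],[1,1,1,1,2,0,0,0,0],[2],[0,2,1],[0,0,2,1,1]] : Fin 6 → List ℕ)
      (by decide +kernel)
  · exact H5.rsE7.wz_2419 H5.coxE7 (List.finRange 7) ([3] : List (Fin 7)) (by decide : ([3] : List (Fin 7)).Nodup)
      (![[1,2,1,1,1,1,2,0,0,0,0,2,0],[2,0,2,1,1,1,1,2,0,0,0,0,2,1,2],[2,1,1,1,1,2,0,0,0,0,2],[2],[0,2,1],[0,0,2,1,1],
        [0,0,0,2,1,1,1]] : Fin 7 → List ℕ) (by decide +kernel)
  · exact H5.rsE8.wz_2419 H5.coxE8 (List.finRange 8) ([3] : List (Fin 8)) (by decide : ([3] : List (Fin 8)).Nodup)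
      (![[1,2,0,0,0,0,0,0,2,1,1,1,1,1,1,2,0],[2,0,2,0,0,0,0,0,0,2,1,1,1,1,1,1,2,1,2],[2,0,0,0,0,0,0,2,1,1,1,1,1,1,2],[2],
        [0,2,1],[0,0,2,1,1],[0,0,0,2,1,1,1],[0,0,0,0,2,1,1,1,1]] : Fin 8 → List ℕ) (by decide +kernel)

end Cfsg.Agent.S2419
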