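import Cfsg.Statements.S2467
import Cfsg.Agent.GS.Spec2

set_option autoImplicit false
open Cfsg

namespace Cfsg.Agent.S2467

open Cfsg.Agent.H1

/-- Adjacency of 2 and an odd prime in the prime graph of the alternating groups: let r be an odd prime at most n, with n ≥ 4. The alternating group of degree n has an element of order 2r if and only if r + 4 ≤ n. -/
theorem result (n r : ℕ) (hn : 4 ≤ n) (hr : r.Prime) (hr2 : r ≠ 2) (hrn : r ≤ n) :
    (2 * r ∈ Set.range (orderOf : alternatingGroup (Fin n) → ℕ)) ↔ r + 4 ≤ n := by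
  open Subgroup Pointwise commutatorElement Cfsg.Agent.BG Cfsg.Agent.GS in
  open Cfsg.Agent.H2 hiding card_lt_of_lt card_lt_of_ne_top isMulCommutative_of_le isPGroup_zpowers_iff mem_of_pow_mem_of_coprime inf_eq_bot_of_cop exists_maxElem_ge Sec in
  open Cfsg.Agent.H8 (Op Opp Fit SN) in
  open Cfsg.Agent.L (FPF) in focus
    have o := hr.odd_of_ne_two hr2
    have t := hr.two_le
    refine ⟨fun h => ?_, fun h => mem_spec_alt.2 ⟨{r, 2, 2}, by simpa using h, by simp [t], by simp [parity_simps, *], ?_⟩⟩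
    · obtain ⟨m, a, b, c, d⟩ := mem_spec_alt.1 h
      obtain ⟨x, x1, x2⟩ := exists_dvd_of_dvd_lcm hr (d ▸ dvd_mul_left r 2)
      obtain ⟨y, y1, y2⟩ := exists_dvd_of_dvd_lcm Nat.prime_two (d ▸ dvd_mul_right 2 r)
      have k : ∀ s : Multiset ℕ, (∀ a ∈ s, 2 ≤ a) → s = 0 ∨ 2 ≤ s.sum := fun s h => (em _).imp_right fun e => by
        obtain ⟨a, ha⟩ := Multiset.exists_mem_of_ne_zero e
        exact (h a ha).trans (Multiset.single_le_sum (fun _ _ => Nat.zero_le _) a ha)
      obtain ⟨m, rfl⟩ := Multiset.exists_cons_of_mem x1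
      have x0 : 0 < x := by have := b x x1; omega
      rw [Nat.even_iff] at c
      by_cases e : 2 ∣ x
      · have := Nat.le_of_dvd x0 (((Nat.coprime_primes Nat.prime_two hr).2 hr2.symm).mul_dvd_of_dvd_of_dvd e x2)
        rcases k m fun a ha => b a (Multiset.mem_cons_of_mem ha) with rfl | f <;> simp at a c <;> omega
      · obtain ⟨m, rfl⟩ := Multiset.exists_cons_of_mem ((Multiset.mem_cons.1 y1).resolve_left (by rintro rfl; exact e y2))
        have := Nat.le_of_dvd x0 x2
        have := b y y1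
        rcases k m fun a ha => b a (Multiset.mem_cons_of_mem (Multiset.mem_cons_of_mem ha)) with rfl | f <;> simp at a c <;> omega
    · simpa [mul_comm, lcm_eq_nat_lcm] using ((Nat.coprime_primes hr Nat.prime_two).2 hr2).lcm_eq_mul

end Cfsg.Agent.S2467
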