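import Cfsg.Statements.S2510
import Cfsg.Agent.H8.GLo

set_option autoImplicit false
open Cfsg

namespace Cfsg.Agent.S2510

open Subgroup hiding commutator_def
open Function Cfsg.Agent.Hopf Cfsg.Agent.Reg
open scoped commutatorElement Pointwise

open Cfsg.Agent.GS Matrix
open scoped MatrixGroups

section
variable {F : Type*} [Field F] [Fintype F] {n r : ℕ}

theorem dich (p : ℕ) [hp : Fact p.Prime] [CharP F p] (hn : 0 < n) (hr : r.Prime) (hrn : ¬ r ∣ n) {z : F}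
    (hz : orderOf z = r) (g : PSL(n, F)) {P : ℕ} (hP : ∀ e, p ^ e ∈ spec PSL(n, F) → p ^ e ∣ P) :
    (orderOf g).lcm r ∈ spec PSL(n, F) ∨ orderOf g ∣ (sing (Fintype.card F) n).lcm P := by
  obtain ⟨g, rfl⟩ := QuotientGroup.mk_surjective g
  rcases idem_or hn (Reg.mt g) with ⟨e, he, h0, h1, hc⟩ | ⟨f, hf, h⟩
  · exact Or.inl (lcm_of_idem hr hrn hz g he h0 h1 hc)
  right
  have h1 := primary_dvd hn g hf h
  refine (Nat.dvd_iff_prime_pow_dvd_dvd _ _).2 fun s e hs h2 => ?_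
  by_cases hsp : s = p
  · subst hsp
    exact (hP e (mem_spec_of_dvd ⟨_, rfl⟩ h2)).trans (Nat.dvd_lcm_right _ _)
  obtain ⟨k, -, hk⟩ := FiniteField.card F p
  refine (Nat.Coprime.dvd_of_dvd_mul_left ?_ (h2.trans h1)).trans (Nat.dvd_lcm_left _ _)
  rw [hk]
  exact (((Nat.coprime_primes hs hp.out).2 hsp).pow_right _).pow _ _

theorem ex_idem {a : ℕ} (h : a + 1 = n) (ha : 0 < a) :
    blk (F := F) h (1, 0) * blk h (1, 0) = blk h (1, 0) ∧ blk (F := F) h (1, 0) ≠ 0 ∧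
      blk (F := F) h (1, 0) ≠ 1 := by
  haveI : Nonempty (Fin a) := ⟨⟨0, ha⟩⟩
  refine ⟨by rw [← map_mul]; simp, fun e => ?_, fun e => ?_⟩
  · have := (blk_pow_eq h (A := (1 : Matrix _ _ F)) (B := 0) (k := 1) (c := 0)).1 (by simpa using e)
    simp at this
  · have := (blk_pow_eq h (A := (1 : Matrix _ _ F)) (B := 0) (k := 1) (c := 1)).1 (by simpa using e)
    simp at this

theorem ex_W (p : ℕ) [hp : Fact p.Prime] [CharP F p] (hn : 2 ≤ n) (hr : r.Prime) (hrn : ¬ r ∣ n) {z : F}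
    (hz : orderOf z = r) (hj : ¬ ∃ j : ℕ, n - 1 = p ^ j) :
    ∃ P, P.lcm r ∈ spec PSL(n, F) ∧ ∀ e, p ^ e ∈ spec PSL(n, F) → p ^ e ∣ P := by
  have h : n - 1 + 1 = n := by omega
  obtain ⟨N, h1, h2⟩ := exists_jordan (F := F) (n - 1)
  haveI : Nonempty (Fin (n - 1)) := ⟨⟨0, by omega⟩⟩
  have hd : (blk h (1 + N, 1)).det = 1 := by rw [blk_det, det_unip p ⟨_, h1⟩, det_one, mul_one]
  obtain ⟨e1, e2, e3⟩ := ex_idem (F := F) h (by omega)
  refine ⟨_, lcm_of_idem hr hrn hz (mkSL' _ hd) e1 e2 e3 ?_, ?_⟩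
  · rw [mt_mk]
    refine Commute.map ?_ _
    ext1 <;> simp
  · rintro e ⟨g, hg⟩
    have h3 : orderOf ((mkSL' _ hd : SL(n, F)) : PSL(n, F)) ∣ p ^ n := by
      refine psl_dvd.2 ⟨1, ?_⟩
      rw [mt_mk, blk_pow_eq, unip_pow' p (c := 1) (by simpa using ⟨_, h1⟩)
        ((Nat.sub_le _ _).trans (Nat.lt_pow_self hp.out.one_lt).le)]
      simp
    obtain ⟨b, -, hb⟩ := (Nat.dvd_prime_pow hp.out).1 h3
    rw [hb]
    refine ppow_dvd p hg ?_
    obtain ⟨c, hc⟩ := psl_dvd.1 hb.dvd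
    rw [mt_mk, blk_pow_eq, one_pow, add_pow_char_pow_of_commute _ _ (Commute.one_left N), one_pow] at hc
    rw [show c = 1 by simpa using (congrFun (congrFun hc.2 0) 0).symm, one_smul, add_eq_left] at hc
    have h4 : ¬ p ^ b < n - 1 := fun h => h2 _ h hc.1
    have h5 : n - 1 ≠ p ^ b := fun h => hj ⟨b, h⟩
    omega

theorem ord_vec {m : ℕ} (hr : r.Prime) (x : Multiplicative (Fin m → ZMod r)) : orderOf x ∣ r := by
  refine orderOf_dvd_of_pow_eq_one (Multiplicative.toAdd.injective ?_)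
  ext i
  simp

end

/-- Let F be a finite field with q = p^a elements, n ≥ 2 (with q ≥ 4 when n = 2), L = PSL(n, F), and let r be a prime dividing q − 1 and not dividing n. Then for every m the direct product L × L × L × (ℤ/r)^m has the same set of element orders as L × L × L; and if n − 1 ≠ p^j for every j ≥ 0 (so never when n = 2, since 1 = p^0), then already L × L × (ℤ/r)^m has the same set of element orders as L × L. -/
theorem result {F : Type*} [Field F] [Fintype F] (p a n r m : ℕ) (hp : p.Prime) (ha : 1 ≤ a) (hF : Fintype.card F = p ^ a)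
    (hn : 2 ≤ n) (hn2 : n = 2 → 4 ≤ Fintype.card F) (hr : r.Prime) (hrq : r ∣ Fintype.card F - 1) (hrn : ¬ r ∣ n) :
    Set.range (orderOf : Matrix.ProjectiveSpecialLinearGroup (Fin n) F × Matrix.ProjectiveSpecialLinearGroup (Fin n) F × Matrix.ProjectiveSpecialLinearGroup (Fin n) F × Multiplicative (Fin m → ZMod r) → ℕ) =
      Set.range (orderOf : Matrix.ProjectiveSpecialLinearGroup (Fin n) F × Matrix.ProjectiveSpecialLinearGroup (Fin n) F × Matrix.ProjectiveSpecialLinearGroup (Fin n) F → ℕ) ∧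
    ((¬ ∃ j : ℕ, n - 1 = p ^ j) →
      Set.range (orderOf : Matrix.ProjectiveSpecialLinearGroup (Fin n) F × Matrix.ProjectiveSpecialLinearGroup (Fin n) F × Multiplicative (Fin m → ZMod r) → ℕ) =
        Set.range (orderOf : Matrix.ProjectiveSpecialLinearGroup (Fin n) F × Matrix.ProjectiveSpecialLinearGroup (Fin n) F → ℕ)) := by
  haveI := Fact.mk hp
  haveI := Fact.mk hr
  haveI : CharP F p := charP_of_card_eq_prime_pow hF
  obtain ⟨z, hz⟩ := exists_prime_orderOf_dvd_card' (G := Fˣ) r (by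
    rwa [Nat.card_units, Nat.card_eq_fintype_card])
  rw [← orderOf_units] at hz
  have hs := sing_mem (F := F) (n := n) (by omega)
  have one : ∀ x : Multiplicative (Fin m → ZMod r), ∀ k : ℕ, k.lcm (orderOf x) ∣ k.lcm r := fun x k =>
    Nat.lcm_dvd (Nat.dvd_lcm_left _ _) ((ord_vec hr x).trans (Nat.dvd_lcm_right _ _))
  refine ⟨Set.Subset.antisymm ?_ (spec_sub ((MonoidHom.id _).prodMap ((MonoidHom.id _).prodMap
    (MonoidHom.inl _ _))) fun x y e => by simpa [Prod.ext_iff] using e), fun hj => Set.Subset.antisymm ?_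
    (spec_sub ((MonoidHom.id _).prodMap (MonoidHom.inl _ _)) fun x y e => by simpa [Prod.ext_iff] using e)⟩
  · rintro _ ⟨⟨x, y, w, v⟩, rfl⟩
    obtain ⟨u, hu⟩ := hp.exists_orderOf_eq_pow_factorization_exponent (G := PSL(n, F))
    have hP : ∀ e, p ^ e ∈ spec PSL(n, F) → p ^ e ∣ orderOf u := by
      rintro e ⟨g, hg⟩
      rw [hu, pow_dvd_pow_iff hp.ne_zero (by simpa using hp.ne_one),
        ← hp.pow_dvd_iff_le_factorization Monoid.exponent_ne_zero_of_finite, ← hg]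
      exact Monoid.order_dvd_exponent g
    have h : n - 1 + 1 = n := by omega
    obtain ⟨e1, e2, e3⟩ := ex_idem (F := F) h (by omega)
    have h1 := lcm_of_idem hr hrn hz 1 e1 e2 e3 (by rw [map_one]; exact Commute.one_right _)
    rw [QuotientGroup.mk_one, orderOf_one, Nat.lcm_one_left] at h1
    have hv := ord_vec hr v
    simp only [Prod.orderOf]
    rcases dich p (by omega) hr hrn hz x hP with hx | hx
    · refine mem_spec_of_dvd (lcm_mem_prod hx (lcm_mem_prod ⟨y, rfl⟩ ⟨w, rfl⟩)) ?_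
      simp only [Nat.lcm_dvd_iff]
      exact ⟨(Nat.dvd_lcm_left _ _).trans (Nat.dvd_lcm_left _ _),
        (Nat.dvd_lcm_left _ _).trans (Nat.dvd_lcm_right _ _),
        (Nat.dvd_lcm_right _ _).trans (Nat.dvd_lcm_right _ _),
        hv.trans ((Nat.dvd_lcm_right _ _).trans (Nat.dvd_lcm_left _ _))⟩
    rcases dich p (by omega) hr hrn hz y hP with hy | hy
    · refine mem_spec_of_dvd (lcm_mem_prod ⟨x, rfl⟩ (lcm_mem_prod hy ⟨w, rfl⟩)) ?_
      simp only [Nat.lcm_dvd_iff]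
      exact ⟨Nat.dvd_lcm_left _ _,
        (Nat.dvd_lcm_left _ _).trans ((Nat.dvd_lcm_left _ _).trans (Nat.dvd_lcm_right _ _)),
        (Nat.dvd_lcm_right _ _).trans (Nat.dvd_lcm_right _ _),
        hv.trans ((Nat.dvd_lcm_right _ _).trans ((Nat.dvd_lcm_left _ _).trans (Nat.dvd_lcm_right _ _)))⟩
    rcases dich p (by omega) hr hrn hz w hP with hw | hw
    · refine mem_spec_of_dvd (lcm_mem_prod ⟨x, rfl⟩ (lcm_mem_prod ⟨y, rfl⟩ hw)) ?_
      exact Nat.lcm_dvd (Nat.dvd_lcm_left _ _) ((Nat.lcm_dvd (Nat.dvd_lcm_left _ _) ((one v _).trans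
        (Nat.dvd_lcm_right _ _))).trans (Nat.dvd_lcm_right _ _))
    refine mem_spec_of_dvd (lcm_mem_prod hs (lcm_mem_prod ⟨u, rfl⟩ h1)) ?_
    rw [← Nat.lcm_assoc (sing _ _)]
    simp only [Nat.lcm_dvd_iff]
    exact ⟨hx.trans (Nat.dvd_lcm_left _ _), hy.trans (Nat.dvd_lcm_left _ _), hw.trans (Nat.dvd_lcm_left _ _),
      hv.trans (Nat.dvd_lcm_right _ _)⟩
  · rintro _ ⟨⟨x, y, v⟩, rfl⟩
    obtain ⟨P, h1, hP⟩ := ex_W p hn hr hrn hz hj
    have hv := ord_vec hr v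
    simp only [Prod.orderOf]
    rcases dich p (by omega) hr hrn hz x hP with hx | hx
    · refine mem_spec_of_dvd (lcm_mem_prod hx ⟨y, rfl⟩) ?_
      simp only [Nat.lcm_dvd_iff]
      exact ⟨(Nat.dvd_lcm_left _ _).trans (Nat.dvd_lcm_left _ _), Nat.dvd_lcm_right _ _,
        hv.trans ((Nat.dvd_lcm_right _ _).trans (Nat.dvd_lcm_left _ _))⟩
    rcases dich p (by omega) hr hrn hz y hP with hy | hy
    · refine mem_spec_of_dvd (lcm_mem_prod ⟨x, rfl⟩ hy) ?_
      exact Nat.lcm_dvd (Nat.dvd_lcm_left _ _) ((one v _).trans (Nat.dvd_lcm_right _ _))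
    refine mem_spec_of_dvd (lcm_mem_prod hs h1) ?_
    rw [← Nat.lcm_assoc (sing _ _)]
    simp only [Nat.lcm_dvd_iff]
    exact ⟨hx.trans (Nat.dvd_lcm_left _ _), hy.trans (Nat.dvd_lcm_left _ _), hv.trans (Nat.dvd_lcm_right _ _)⟩

end Cfsg.Agent.S2510
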