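import Cfsg.Statements.S2513
import Cfsg.Agent.H8.GLo

set_option autoImplicit false
open Cfsg

namespace Cfsg.Agent.S2513

open Subgroup hiding commutator_def
open Function Cfsg.Agent.Hopf Cfsg.Agent.Reg
open scoped commutatorElement Pointwise

open Cfsg.Agent.GS in
theorem aux {F : Type*} [Field F] [Fintype F] (hF : Fintype.card F = 2) (n : ℕ) :
    ∃ y : Fin ((n + 3) / 2) → Matrix.ProjectiveSpecialLinearGroup (Fin n) F,
      Monoid.exponent (Matrix.ProjectiveSpecialLinearGroup (Fin n) F) ∣ orderOf y := by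
  haveI : Fact (Nat.Prime 2) := ⟨Nat.prime_two⟩
  haveI : CharP F 2 := charP_of_card_eq_prime hF
  have hs : ∀ d : ℕ, ∃ s : Matrix.ProjectiveSpecialLinearGroup (Fin n) F, 0 < d → d ≤ n →
      orderOf s = 2 ^ d - 1 := by
    intro d
    by_cases h : 0 < d ∧ d ≤ n
    · obtain ⟨A, hA, -⟩ := exists_singer (F := F) h.1
      have e : d + (n - d) = n := by omega
      have ho : orderOf (blk e (A, 1)) = 2 ^ d - 1 := by
        rw [blk_order, orderOf_one, Nat.lcm_one_right, hA, hF]
      obtain ⟨s, hs⟩ := mem_spec_of_cop (A := blk e (A, 1)) (by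
        rw [ho]; exact (Nat.sub_pos_of_lt (Nat.one_lt_two_pow h.1.ne')).ne') ho.symm.dvd
        (by rw [hF]; exact Nat.coprime_one_right _)
      exact ⟨s, fun _ _ => hs⟩
    · exact ⟨1, fun a b => absurd ⟨a, b⟩ h⟩
  choose s hs using hs
  obtain ⟨u, hu⟩ := Nat.prime_two.exists_orderOf_eq_pow_factorization_exponent
    (G := Matrix.ProjectiveSpecialLinearGroup (Fin n) F)
  let y : Fin ((n + 3) / 2) → Matrix.ProjectiveSpecialLinearGroup (Fin n) F :=
    fun i => if i.1 = 0 then u else s (n + 1 - i.1)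
  have hy : ∀ i, orderOf (y i) ∣ orderOf y := fun i => orderOf_map_dvd (Pi.evalMonoidHom _ i) y
  refine ⟨y, (Nat.dvd_iff_prime_pow_dvd_dvd _ _).2 fun r e hr h => ?_⟩
  have hE := Monoid.exponent_ne_zero_of_finite (G := Matrix.ProjectiveSpecialLinearGroup (Fin n) F)
  rw [hr.pow_dvd_iff_le_factorization hE] at h
  by_cases h2 : r = 2
  · subst h2
    refine (pow_dvd_pow 2 h).trans (hu ▸ ?_)
    simpa [y] using hy ⟨0, by omega⟩
  rcases Nat.eq_zero_or_pos e with rfl | he
  · simp
  obtain ⟨g, hg⟩ := hr.exists_orderOf_eq_pow_factorization_exponent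
    (G := Matrix.ProjectiveSpecialLinearGroup (Fin n) F)
  obtain ⟨g, rfl⟩ := QuotientGroup.mk_surjective g
  have h3 : r ^ e ∣ orderOf (mt g) := by
    rw [mt_order]
    exact ((pow_dvd_pow r h).trans hg.symm.dvd).trans (orderOf_map_dvd (QuotientGroup.mk' _) g)
  obtain ⟨f, hf, hd, h4, h5⟩ := exists_factor 2 (by
    rw [mt_order]; exact (orderOf_pos g).ne') hr h2 he.ne' h3
  have h6 := ordX_dvd_card hf h5
  have h7 := deg_le _ hd
  have h8 := hf.natDegree_pos
  rw [hF] at h6
  generalize f.natDegree = d at h6 h7 h8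
  have h9 := Nat.div_add_mod n d
  have h10 := Nat.mod_lt n h8
  have h11 : d ≤ d * (n / d) := Nat.le_mul_of_pos_right _ (Nat.div_pos h7 h8)
  have := hy ⟨n + 1 - d * (n / d), by omega⟩
  simp only [y] at this
  rw [if_neg (by omega), show n + 1 - (n + 1 - d * (n / d)) = d * (n / d) by omega,
    hs _ (by omega) (by omega)] at this
  exact (h4.trans h6).trans ((Nat.pow_sub_one_dvd_pow_sub_one 2 (dvd_mul_right _ _)).trans this)

/-- Let F be the field with two elements, n ≥ 2, L = PSL(n, F) and k₀ = ⌊(n + 3)/2⌋. Then for every k ≥ k₀ the direct product of k copies of L has the same set of element orders as the direct product of k₀ copies of L. -/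
theorem result {F : Type*} [Field F] [Fintype F] (hF : Fintype.card F = 2) (n k : ℕ) (hn : 2 ≤ n) (hk : (n + 3) / 2 ≤ k) :
    Set.range (orderOf : (Fin k → Matrix.ProjectiveSpecialLinearGroup (Fin n) F) → ℕ) = Set.range (orderOf : (Fin ((n + 3) / 2) → Matrix.ProjectiveSpecialLinearGroup (Fin n) F) → ℕ) := by
  obtain ⟨y, hy⟩ := aux hF n
  apply Set.Subset.antisymm
  · rintro _ ⟨g, rfl⟩
    refine GS.mem_spec_of_dvd ⟨y, rfl⟩ (dvd_trans (orderOf_dvd_of_pow_eq_one ?_) hy)
    ext i
    exact Monoid.pow_exponent_eq_one _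
  · refine GS.spec_sub (G := Fin ((n + 3) / 2) → Matrix.ProjectiveSpecialLinearGroup (Fin n) F)
      { toFun := fun g i => if h : i.1 < (n + 3) / 2 then g ⟨i, h⟩ else 1
        map_one' := by ext i; simp
        map_mul' := fun a b => by ext i; by_cases h : i.1 < (n + 3) / 2 <;> simp [h] } fun a b e => ?_
    ext i
    simpa using congrFun e ⟨i, by omega⟩

end Cfsg.Agent.S2513
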