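import Cfsg.Statements.S2514
import Cfsg.Agent.GS.Spec2

set_option autoImplicit false
open Cfsg

namespace Cfsg.Agent.S2514

open Cfsg.Agent.H1

section
open Subgroup Pointwise commutatorElement Cfsg.Agent.BG Cfsg.Agent.GS
open Cfsg.Agent.H2 hiding card_lt_of_lt card_lt_of_ne_top isMulCommutative_of_le isPGroup_zpowers_iff mem_of_pow_mem_of_coprime inf_eq_bot_of_cop exists_maxElem_ge Sec
open Cfsg.Agent.H8 (Op Opp Fit SN)
open Cfsg.Agent.L (FPF)
universe u

theorem ex {G : Type*} [Group G] [Finite G] (x : G) : ∃ y : G, orderOf x ∣ orderOf y ∧ ∀ m ∈ Set.range (orderOf : G → ℕ), orderOf y ∣ m → m = orderOf y := by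
  obtain ⟨y, a, b⟩ := Set.exists_max_image {y : G | orderOf x ∣ orderOf y} orderOf (Set.toFinite _) ⟨x, dvd_rfl⟩
  exact ⟨y, a, by rintro _ ⟨z, rfl⟩ h; exact (b z (dvd_trans a h)).antisymm (Nat.le_of_dvd (orderOf_pos z) h)⟩

end

/-- For a finite group X write μ(X) for the set of element orders of X that are maximal under divisibility. Let G and H be finite groups and k ≥ 1 such that μ(H) ⊆ μ(G) and μ(G) has fewer than k elements outside μ(H). Then the direct product of k copies of G has the same set of element orders as the direct product of k − 1 copies of G with H. -/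
theorem result {G H : Type*} [Group G] [Finite G] [Group H] [Finite H] (k : ℕ) (hk : 1 ≤ k)
    (hsub : {n : ℕ | n ∈ Set.range (orderOf : H → ℕ) ∧ ∀ m ∈ Set.range (orderOf : H → ℕ), n ∣ m → m = n} ⊆ {n : ℕ | n ∈ Set.range (orderOf : G → ℕ) ∧ ∀ m ∈ Set.range (orderOf : G → ℕ), n ∣ m → m = n})
    (hfew : ({n : ℕ | n ∈ Set.range (orderOf : G → ℕ) ∧ ∀ m ∈ Set.range (orderOf : G → ℕ), n ∣ m → m = n} \ {n : ℕ | n ∈ Set.range (orderOf : H → ℕ) ∧ ∀ m ∈ Set.range (orderOf : H → ℕ), n ∣ m → m = n}).ncard < k) :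
    Set.range (orderOf : (Fin k → G) → ℕ) = Set.range (orderOf : (Fin (k - 1) → G) × H → ℕ) := by
  open Subgroup Pointwise commutatorElement Cfsg.Agent.BG Cfsg.Agent.GS in
  open Cfsg.Agent.H2 hiding card_lt_of_lt card_lt_of_ne_top isMulCommutative_of_le isPGroup_zpowers_iff mem_of_pow_mem_of_coprime inf_eq_bot_of_cop exists_maxElem_ge Sec in
  open Cfsg.Agent.H8 (Op Opp Fit SN) in
  open Cfsg.Agent.L (FPF) in focus
    obtain ⟨k, rfl⟩ := Nat.exists_eq_add_of_le' hk
    refine Set.Subset.antisymm ?_ ?_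
    · rintro _ ⟨x, rfl⟩
      choose g a b using fun i => ex (x i)
      obtain ⟨i, h, c⟩ : ∃ (i : Fin (k + 1)) (h : H), orderOf (g i) ∣ orderOf h ∨ ∃ j, j ≠ i ∧ orderOf (g i) = orderOf (g j) := by
        by_contra! c
        refine hfew.not_ge (le_trans (by simp) (Set.ncard_le_ncard_of_injOn (s := Set.univ) (fun i => orderOf (g i)) (fun i _ => ⟨⟨⟨_, rfl⟩, b i⟩, ?_⟩)
          (fun i _ j _ e => by_contra fun f => (c i 1).2 j (Ne.symm f) e) ((Set.finite_range orderOf).subset fun _ h => h.1.1)))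
        rintro ⟨⟨h, e⟩, -⟩
        exact (c i h).1 e.symm.dvd
      let y : (Fin k → G) × H := (fun j => g (i.succAbove j), h)
      have d : ∀ j, j ≠ i → orderOf (g j) ∣ orderOf y := fun j e => by
        obtain ⟨j, rfl⟩ := Fin.exists_succAbove_eq e
        exact orderOf_dvd_of_pow_eq_one (congrFun (congrArg Prod.fst (pow_orderOf_eq_one y)) j)
      refine mem_spec_of_dvd ⟨y, rfl⟩ (orderOf_dvd_of_pow_eq_one (funext fun j => orderOf_dvd_iff_pow_eq_one.1 ((a j).trans ?_)))
      rcases eq_or_ne j i with rfl | e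
      · rcases c with c | ⟨l, c, e⟩
        exacts [c.trans (orderOf_dvd_of_pow_eq_one (congrArg Prod.snd (pow_orderOf_eq_one y))), e ▸ d l c]
      · exact d j e
    · rintro _ ⟨⟨y, h⟩, rfl⟩
      obtain ⟨z, a, b⟩ := ex h
      obtain ⟨⟨g, c⟩, -⟩ := hsub ⟨⟨z, rfl⟩, b⟩
      let x : Fin (k + 1) → G := Fin.cons g y
      refine mem_spec_of_dvd ⟨x, rfl⟩ (orderOf_dvd_of_pow_eq_one (Prod.ext (funext fun j => congrFun (pow_orderOf_eq_one x) j.succ)
        (orderOf_dvd_iff_pow_eq_one.1 (a.trans (c ▸ orderOf_dvd_of_pow_eq_one (congrFun (pow_orderOf_eq_one x) 0))))))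

end Cfsg.Agent.S2514
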