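import Cfsg.Statements.S2515
import Cfsg.Agent.H8.Ree3

set_option autoImplicit false
open Cfsg

namespace Cfsg.Agent.S2515

open Subgroup hiding commutator_def
open Function Cfsg.Agent.Hopf Cfsg.Agent.Reg
open scoped commutatorElement Pointwise


/-- Let q = 3^α with α ≥ 3 odd. There is a finite group H having a non-trivial normal 3-subgroup and whose element orders maximal under divisibility are exactly 6, 9, q − 1 and (q + 1)/2. -/
theorem result (α : ℕ) (hα : 3 ≤ α) (hodd : Odd α) :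
    ∃ (H : Type) (_ : Group H) (_ : Fintype H), (∃ P : Subgroup H, P.Normal ∧ P ≠ ⊥ ∧ IsPGroup 3 ↥P) ∧
      {n : ℕ | n ∈ Set.range (orderOf : H → ℕ) ∧ ∀ m ∈ Set.range (orderOf : H → ℕ), n ∣ m → m = n} = ({6, 9, 3 ^ α - 1, (3 ^ α + 1) / 2} : Set ℕ) := by
  obtain ⟨H, _, _, K, h1, h2, -, h4, h5⟩ := exists_H3 hα hodd
  refine ⟨H, inferInstance, Fintype.ofFinite H, ⟨K, h1, h2, h4⟩, ?_⟩
  change Set.range orderOf = _ at h5
  rw [h5]
  obtain ⟨q, hq⟩ : ∃ q, q = 3 ^ α := ⟨_, rfl⟩
  have h27 : 27 ≤ q := hq ▸ (Nat.pow_le_pow_right (by norm_num) hα : 3 ^ 3 ≤ 3 ^ α)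
  have h3 : 3 ∣ q := hq ▸ dvd_pow_self 3 (by omega)
  have h43 : q % 4 = 3 := by
    obtain ⟨k, rfl⟩ := hodd
    rw [hq, pow_succ, pow_mul, Nat.mul_mod, Nat.pow_mod]; simp
  rw [← hq]
  have n1 : ¬ 3 ∣ q - 1 := by omega
  have n2 : ¬ 3 ∣ (q + 1) / 2 := by omega
  have n3 : ¬ (q + 1) / 2 ∣ q - 1 := by
    rintro ⟨c, hc⟩
    rcases Nat.lt_or_ge c 2 with h | h
    · interval_cases c <;> omega
    · have := Nat.mul_le_mul_left ((q + 1) / 2) h
      omega
  ext n
  simp only [Set.mem_setOf_eq, Set.mem_insert_iff, Set.mem_singleton_iff]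
  constructor
  · rintro ⟨h | h | h | h, hm⟩
    · exact Or.inl (hm 6 (Or.inl dvd_rfl) h).symm
    · exact Or.inr (Or.inl (hm 9 (Or.inr (Or.inl dvd_rfl)) h).symm)
    · exact Or.inr (Or.inr (Or.inl (hm _ (Or.inr (Or.inr (Or.inl dvd_rfl))) h).symm))
    · exact Or.inr (Or.inr (Or.inr (hm _ (Or.inr (Or.inr (Or.inr dvd_rfl))) h).symm))
  · rintro (rfl | rfl | rfl | rfl)
    · refine ⟨Or.inl dvd_rfl, fun m hm h => ?_⟩
      rcases hm with hm | hm | hm | hm
      · exact Nat.dvd_antisymm hm h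
      · exact absurd (h.trans hm) (by norm_num)
      · exact absurd ((show 3 ∣ 6 by norm_num).trans (h.trans hm)) n1
      · exact absurd ((show 3 ∣ 6 by norm_num).trans (h.trans hm)) n2
    · refine ⟨Or.inr (Or.inl dvd_rfl), fun m hm h => ?_⟩
      rcases hm with hm | hm | hm | hm
      · exact absurd (h.trans hm) (by norm_num)
      · exact Nat.dvd_antisymm hm h
      · exact absurd ((show 3 ∣ 9 by norm_num).trans (h.trans hm)) n1
      · exact absurd ((show 3 ∣ 9 by norm_num).trans (h.trans hm)) n2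
    · refine ⟨Or.inr (Or.inr (Or.inl dvd_rfl)), fun m hm h => ?_⟩
      rcases hm with hm | hm | hm | hm
      · have := Nat.le_of_dvd (by norm_num) (h.trans hm); omega
      · have := Nat.le_of_dvd (by norm_num) (h.trans hm); omega
      · exact Nat.dvd_antisymm hm h
      · have := Nat.le_of_dvd (by omega) (h.trans hm); omega
    · refine ⟨Or.inr (Or.inr (Or.inr dvd_rfl)), fun m hm h => ?_⟩
      rcases hm with hm | hm | hm | hm
      · have := Nat.le_of_dvd (by norm_num) (h.trans hm); omega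
      · have := Nat.le_of_dvd (by norm_num) (h.trans hm); omega
      · exact absurd (h.trans hm) n3
      · exact Nat.dvd_antisymm hm h

end Cfsg.Agent.S2515
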