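import Cfsg.Statements.S2516
import Cfsg.Agent.H8.Spc

set_option autoImplicit false
open Cfsg

namespace Cfsg.Agent.S2516

open Subgroup hiding commutator_def
open Function Cfsg.Agent.Hopf Cfsg.Agent.Reg
open scoped commutatorElement Pointwise


/-- Let F be a field of characteristic p > 0, V a non-zero finite-dimensional F-vector space, G a finite group and ρ a representation of G on V; form the semidirect product V ⋊ G. For g ∈ G of order k, the coset Vg contains an element of order pk if and only if the minimal polynomial of ρ(g) does not divide 1 + X + ⋯ + X^(k−1). -/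
theorem result {F : Type*} [Field F] (p : ℕ) [Fact p.Prime] [CharP F p] {V : Type*} [AddCommGroup V] [Module F V] [FiniteDimensional F V] [Nontrivial V]
    {G : Type*} [Group G] [Finite G] (ρ : Representation F G V) (g : G) :
    (∃ x : Multiplicative V ⋊[(MulAutMultiplicative V).symm.toMonoidHom.comp
        ((DistribMulAction.toAddAut ((V →ₗ[F] V)ˣ) V).comp ρ.asGroupHom)] G,
        x.right = g ∧ orderOf x = p * orderOf g) ↔
      ¬ (minpoly F (ρ g) ∣ ∑ i ∈ Finset.range (orderOf g), (Polynomial.X : Polynomial F) ^ i) := by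
  have hp : p.Prime := Fact.out
  have key : ∀ v : Multiplicative V, (∏ i ∈ Finset.range (orderOf g),
      ((MulAutMultiplicative V).symm.toMonoidHom.comp
        ((DistribMulAction.toAddAut ((V →ₗ[F] V)ˣ) V).comp ρ.asGroupHom)) (g ^ i) v).toAdd =
      Polynomial.aeval (ρ g) (∑ i ∈ Finset.range (orderOf g), (Polynomial.X : Polynomial F) ^ i) v.toAdd := by
    intro v
    rw [toAdd_prod, map_sum, LinearMap.sum_apply]
    refine Finset.sum_congr rfl fun i _ => ?_
    rw [map_pow (Polynomial.aeval (ρ g)), Polynomial.aeval_X, ← map_pow ρ]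
    rfl
  have hexp : ∀ v : Multiplicative V, v ^ p = 1 := fun v =>
    show p • v.toAdd = 0 by rw [← Nat.cast_smul_eq_nsmul F, CharP.cast_eq_zero, zero_smul]
  rw [minpoly.dvd_iff]
  constructor
  · rintro ⟨x, rfl, hx⟩ h
    rw [sd_order_eq (x := x) (Multiplicative.toAdd.injective (by rw [key, h]; rfl))] at hx
    have := orderOf_pos x.right
    have h2 := hp.two_le
    nlinarith
  · intro h
    obtain ⟨v, hv⟩ : ∃ v, Polynomial.aeval (ρ g) (∑ i ∈ Finset.range (orderOf g), (Polynomial.X : Polynomial F) ^ i) v ≠ 0 := by
      by_contra h'; push Not at h'; exact h (LinearMap.ext h')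
    refine ⟨⟨Multiplicative.ofAdd v, g⟩, rfl, sd_order_mul hp hexp fun e => hv ?_⟩
    have := key (Multiplicative.ofAdd v)
    erw [e] at this
    exact this.symm

end Cfsg.Agent.S2516
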