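import Cfsg.Statements.S2551
import Cfsg.Agent.H6.Mat2
import Cfsg.Agent.S2119

set_option autoImplicit false
open Cfsg

namespace Cfsg.Agent.S2551

open Function Matrix Cfsg.Agent.H6 Subgroup Equiv

def nl : List Net := [2, 3, 4, 5, 6, 7].map fun d => .cons d 1 (.cons 1 1 .nil)
theorem ok : NetsOk 8 (lk Net.nil nl) vT := netsOk_of (by decide +kernel)
noncomputable def p : ℕ → Perm (Fin 8) := finG ok
def ml : List (List ℕ) := [[2, 3, 8, 12], [3, 1, 13, 7], [4, 15, 5, 3], [5, 12, 1, 15], [6, 14, 9, 11], [7, 13, 12, 4]]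
def LL : SLev := (.cons [[5]] [[], [0], [0, 0], [1, 0, 0], [2, 0, 0], [3, 0, 0], [4, 0, 0], [5, 0, 0]] [[(1, []), (2, []), (0, []), (3, [0, 0]), (4, [1, 1]), (5, [2, 2]), (6, [3, 3]), (7, [4, 4])], [(0, [0]), (2, [0, 0]), (3, []), (1, [0]), (4, [1, 1, 0]), (5, [2, 2, 0]), (6, [3, 3, 0]), (7, [4, 4, 0])], [(0, [1]), (2, [1, 1]), (4, []), (3, [0, 0, 1]), (1, [1]), (5, [2, 2, 1]), (6, [3, 3, 1]), (7, [4, 4, 1])], [(0, [2]), (2, [2, 2]), (5, []), (3, [0, 0, 2]), (4, [1, 1, 2]), (1, [2]), (6, [3, 3, 2]), (7, [4, 4, 2])], [(0, [3]), (2, [3, 3]), (6, []), (3, [0, 0, 3]), (4, [1, 1, 3]), (5, [2, 2, 3]), (1, [3]), (7, [4, 4, 3])], [(0, [4]), (2, [4, 4]), (7, []), (3, [0, 0, 4]), (4, [1, 1, 4]), (5, [2, 2, 4]), (6, [3, 3, 4]), (1, [4])]] (.cons [[4]] [[], [0], [0, 0], [1, 0, 0], [2, 0, 0], [3, 0, 0], [4, 0, 0]] [[(1, []), (2, []), (0, []), (3, [0, 0]), (4, [1,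 1]), (5, [2, 2]), (6, [3, 3])], [(0, [0]), (2, [0, 0]), (3, []), (1, [0]), (4, [1, 1, 0]), (5, [2, 2, 0]), (6, [3, 3, 0])], [(0, [1]), (2, [1, 1]), (4, []), (3, [0, 0, 1]), (1, [1]), (5, [2, 2, 1]), (6, [3, 3, 1])], [(0, [2]), (2, [2, 2]), (5, []), (3, [0, 0, 2]), (4, [1, 1, 2]), (1, [2]), (6, [3, 3, 2])], [(0, [3]), (2, [3, 3]), (6, []), (3, [0, 0, 3]), (4, [1, 1, 3]), (5, [2, 2, 3]), (1, [3])]] (.cons [[3]] [[], [0], [0, 0], [1, 0, 0], [2, 0, 0], [3, 0, 0]] [[(1, []), (2, []), (0, []), (3, [0, 0]), (4, [1, 1]), (5, [2, 2])], [(0, [0]), (2, [0, 0]), (3, []), (1, [0]), (4, [1, 1, 0]), (5, [2, 2, 0])], [(0, [1]), (2, [1, 1]), (4, []), (3, [0, 0, 1]), (1, [1]), (5, [2, 2, 1])], [(0, [2]), (2, [2, 2]), (5, []), (3, [0, 0, 2]), (4, [1, 1, 2]), (1, [2])]] (.cons [[2]] [[], [0], [0, 0], [1, 0, 0], [2, 0, 0]] [[(1, []), (2, []), (0, []), (3, [0, 0]), (4, [1,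 1])], [(0, [0]), (2, [0, 0]), (3, []), (1, [0]), (4, [1, 1, 0])], [(0, [1]), (2, [1, 1]), (4, []), (3, [0, 0, 1]), (1, [1])]] (.cons [[1]] [[], [0], [0, 0], [1, 0, 0]] [[(1, []), (2, []), (0, []), (3, [0, 0])], [(0, [0]), (2, [0, 0]), (3, []), (1, [0])]] (.cons [[0]] [[], [0], [0, 0]] [[(1, []), (2, []), (0, [])]] .nil))))))
def LV : Lev := (.cons 7 8 [[5]] (.cons 6 7 [[4]] (.cons 5 6 [[3]] (.cons 4 5 [[2]] (.cons 3 4 [[1]] (.cons 2 3 [[0]] .nil))))))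
def W : List (List ℕ) := [[], [], [], [], [], [], [], [], [], [], [], [], [], [], [], [], [], [], [], [1, 2, 2, 1], [2, 0, 4, 1], [3, 0, 1, 4], [1, 0, 3, 2], [4, 0, 2, 3], [0, 4, 3, 1], [0, 2, 1, 3], [0, 1, 2, 4], [0, 3, 4, 2], [2, 1], [1, 2], [4, 3], [3, 4], [], [1, 3, 3, 1], [], [0], [0, 2, 1], [0, 3, 4], [0, 1, 2], [0, 4, 3], [3, 4, 1], [1, 2, 3], [1, 4, 0], [3, 2, 0], [1, 0, 0, 3], [1, 0, 4, 2], [3, 0, 0, 1], [3, 0, 2, 4], [], [0, 0], [1, 4, 4, 1], [], [4, 3, 1], [1, 2, 4], [3, 4, 2], [2, 1, 3], [0, 0, 2, 1], [0, 0, 4, 3], [0, 0, 3, 4], [0, 0, 1, 2], [0, 3, 4, 1], [0, 3, 2, 0], [0, 1, 2, 3], [0, 1, 4, 0], [], [0, 0, 1, 4], [0, 4, 1, 2], [1, 3, 0], [], [1, 0, 0, 4], [0, 2, 1, 0], [3, 1], [2, 0, 0, 3, 4], [1, 1, 4], [3, 2, 2], [0, 4, 4, 3], [2, 0, 0, 4, 3], [0, 4], [2, 0, 0], [0, 3, 3], [], [0, 0, 4, 1], [0, 1, 4, 3], [1, 4, 2], [2, 0, 1, 4], [], [2,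 4], [0, 1, 3, 4], [1, 0, 3], [0, 1, 1, 2], [1, 2, 0, 0, 3], [4, 4, 1], [0, 2, 2], [3, 0, 0], [0, 1], [1, 0, 0, 2, 3], [], [0, 0, 2, 3], [0, 3, 2, 1], [2, 4, 0], [0, 1, 2, 0], [4, 2], [], [2, 0, 0, 3], [0, 3, 3, 4], [3, 0, 1], [2, 2, 3], [1, 0, 0, 4, 3], [0, 3], [1, 0, 0, 3, 4], [0, 4, 4], [1, 0, 0], [], [0, 0, 3, 2], [0, 2, 3, 4], [2, 3, 1], [1, 3], [0, 2, 4, 3], [1, 0, 2, 3], [], [3, 3, 2], [1, 1, 0, 2, 4], [0, 2, 2, 1], [1, 4, 4], [4, 0, 0], [0, 1, 1], [1, 0, 0, 4, 2], [0, 2], [], [0, 1, 3, 0], [1, 4], [2, 0, 0, 1], [2, 2, 0, 4, 3], [3, 0], [0, 0, 4], [2, 2, 0], [], [0, 3, 1], [2, 4, 1], [3, 0, 2, 1], [2, 2, 0, 3, 4], [1, 3, 3], [0, 1, 1, 4], [4, 4, 2], [], [0, 2, 3, 1], [3, 2], [1, 0, 3, 4], [4, 4, 0], [0, 0, 2], [1, 0], [1, 1, 0, 4, 2], [0, 1, 3], [], [1, 0, 4, 3], [4, 2, 3], [0, 3, 3, 2], [2, 2, 4], [1, 3, 0, 2, 4], [2, 0, 1], [], [0, 1, 4, 2], [4,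 1], [2, 0, 4, 3], [2, 0], [1, 1, 0, 2, 3], [3, 3, 0], [0, 0, 1], [3, 1, 4], [2, 0, 3, 4], [], [0, 2, 4], [1, 1, 3], [0, 4, 4, 1], [1, 0, 2], [1, 0, 0, 3, 2], [], [0, 2, 4, 0], [2, 3], [1, 0, 0, 2], [0, 0, 3], [1, 1, 0], [1, 1, 0, 3, 4], [4, 0], [4, 0, 1, 2], [1, 3, 2], [0, 4, 2], [], [2, 4, 4], [1, 1, 0, 4, 3], [3, 3, 1], [0, 2, 2, 3], [], [4, 1, 2], [2, 0, 1, 3], [0, 1, 4], [2, 1, 0, 3, 4], [0, 4, 4, 2], [4, 4, 3], [1, 0, 4], [2, 1, 0, 4, 3], [0, 2, 2, 0], [3, 3], [4], [], [2, 1, 0], [0, 0, 3, 1], [0, 2, 4, 1], [], [3, 2, 1], [1, 0, 2, 4], [0, 2, 3], [3, 3, 4], [2, 0, 3], [1, 2, 0, 4, 3], [0, 3, 3, 1], [3], [4, 4], [0, 1, 1, 0], [1, 2, 0, 3, 4], [1, 2, 0], [], [0, 1, 3, 2], [0, 0, 4, 2], [], [2, 3, 4], [4, 0, 3, 1], [0, 3, 2], [1, 2, 2], [2, 2, 1], [0, 2, 2, 4], [1, 0, 0, 2, 4], [0, 4, 4, 0], [1, 3, 0, 4, 2], [2], [1, 1], [0, 0, 1, 3], [0, 4, 2, 3],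 [], [2, 4, 3], [], [1, 4, 3], [3, 0, 4, 2], [0, 4, 1], [0, 1, 1, 3], [1, 1, 0, 3, 2], [2, 1, 1], [1, 1, 2], [2, 2], [1], [1, 4, 0, 2, 3], [0, 3, 3, 0], [0, 3, 1, 4], [0, 0, 2, 4], [1, 3, 4], []]

theorem hp (u : List ℕ) (i : Fin 8) : wp p u i = finX 8 (fnWc (lk Net.nil nl) u i) := by
  rw [fnWc_eq, ← (finModel ok).toIsPre.cmpW (fun _ _ => rfl) i.2, finX, Fin.ofNat_val_eq_self]; rfl

theorem cA : Nat.card (alternatingGroup (Fin 8)) = 20160 := by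
  rw [nat_card_alternatingGroup, Nat.card_eq_fintype_card, Fintype.card_fin]; rfl

theorem hA : cl p LL.ws = alternatingGroup (Fin 8) :=
  (finModel ok).cl_eq_of_chain (k := 1) (r := 10) (L := LV) (by decide +kernel)
    (cl_le.2 (by decide +kernel : ∀ w ∈ LV.ws, Perm.sign (wp (finG ok) w) = 1)) (cA.trans_le (by decide +kernel))

theorem kL : LL.chk (fun u w => band (nall (fun i => Nat.beq (fnWc (lk Net.nil nl) u i) (fnWc (lk Net.nil nl) w i)) 8)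
    ((cdP 2).eqv 4 (lk (idm 2 4) ml) u w)) = true := by decide +kernel

set_option synthInstance.maxSize 2000 in
theorem kW : ∀ r < 16, ∀ s < 16, r ≠ 0 → s ≠ 0 → r ≠ s → (∀ l ∈ lk [] W (16 * r + s), [l] ∈ LL.ws) ∧
    fnWc (lk Net.nil nl) (lk [] W (16 * r + s)) 7 = 7 ∧ (cdP 2).wK 4 (lk (idm 2 4) ml) (lk [] W (16 * r + s))
      (fun X => nall (fun i => band (Nat.beq (ent 2 X i 0) (dg 2 r i)) (Nat.beq (ent 2 X i 1) (dg 2 s i))) 4) = true := by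
  decide +kernel

theorem main {F : Type*} [Field F] [Fintype F] (hF : Fintype.card F = 2) :
    ∃ ι : alternatingGroup (Fin 8) →* GL (Fin 4) F, Bijective ι ∧ ∀ v w : Fin 4 → F, v ≠ 0 → w ≠ 0 → v ≠ w →
      ∃ a : alternatingGroup (Fin 8), a.1 7 = 7 ∧ (ι a).1 *ᵥ Pi.single 0 1 = v ∧ (ι a).1 *ᵥ Pi.single 1 1 = w := by
  haveI : CharP F 2 := charP_of_card (k := 1) Nat.prime_two hF
  obtain ⟨g, hg⟩ := mrep_GL (semP (F := F) 2 (by decide)) (ixFin 4) (ml := ml) (inv := [[3, 1, 12, 4], [2, 3, 9, 15], [5, 13, 1, 11], [4, 14, 5, 7], [7, 12, 13, 3], [6, 15, 8, 12]]) (by decide +kernel)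
  obtain ⟨a, b⟩ := SLev.card_le (gens := fun l => (p l, g l)) (fun u w h => by
    rw [band_eq, nall_eq] at h
    have e1 : ∀ u, (wp (fun l => (p l, g l)) u).1 = wp p u := map_wp (MonoidHom.fst _ (GL (Fin 4) F)) (fun l => (p l, g l))
    have e2 : ∀ u, (wp (fun l => (p l, g l)) u).2 = wp g u := map_wp (MonoidHom.snd (Perm (Fin 8)) _) (fun l => (p l, g l))
    exact Prod.ext (by rw [e1, e1]; exact Equiv.ext fun i => by rw [hp, hp, beq_eq.1 (h.1 i i.2)])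
      (by rw [e2, e2, hg.eqv _ _ h.2])) kL
  obtain ⟨φ, -, d⟩ := exists_hom_of_graph a (b.trans (by rw [hA, cA]; decide +kernel))
  have m : ∀ {G : Type _} [Group G] (x : ℕ → G) (u : List ℕ), (∀ l ∈ u, [l] ∈ LL.ws) → wp x u ∈ cl x LL.ws :=
    fun x u h => wp_mem fun l hl => by simpa using wp_mem_cl (gens := x) (h l hl)
  have m' : ∀ (u : List ℕ), (∀ l ∈ u, [l] ∈ LL.ws) → wp p u ∈ alternatingGroup (Fin 8) :=
    fun u h => hA ▸ wp_mem fun l hl => by simpa using wp_mem_cl (gens := p) (h l hl)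
  let ι := φ.comp (inclusion hA.ge)
  have k : ∀ u h, ι ⟨wp p u, m' u h⟩ = wp g u := fun u h => d u (m _ u h) _
  refine ⟨ι, (Nat.bijective_iff_injective_and_card _).2 ⟨(MonoidHom.ker_eq_bot_iff _).1
    (((alternatingGroup.isSimpleGroup (by simp)).eq_bot_or_eq_top_of_normal _ inferInstance).resolve_right fun h =>
      hg.nev (injP 2) (u := [0]) (w := []) (i := 0) (j := 0) (by decide +kernel)
        ((k _ (by decide +kernel)).symm.trans ((MonoidHom.mem_ker (f := ι)).1 (h.ge (mem_top _))))), ?_⟩, fun v w a b c => ?_⟩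
  · rw [cA, card_GL_field, hF]; decide
  have h0 : ∀ x : F, ∃ b : Fin 2, x = ((b : ℕ) : F) := fun x => by
    by_cases h : x = 0
    · exact ⟨0, by simp [h]⟩
    · exact ⟨1, by simpa [hF] using FiniteField.pow_card_sub_one_eq_one x h⟩
  have h1 : ∀ v : Fin 4 → F, ∃ r < 16, v = fun j : Fin 4 => ((dg 2 r j : ℕ) : F) := fun v => by
    choose b hb using fun j => h0 (v j)
    obtain ⟨r, x, y⟩ := (by decide +kernel : ∀ b : Fin 4 → Fin 2, ∃ r < 16, ∀ j : Fin 4, dg 2 r j = b j) b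
    exact ⟨r, x, funext fun j => by rw [y, hb]⟩
  have h2 : (fun j : Fin 4 => ((dg 2 0 j : ℕ) : F)) = 0 := funext fun j => by
    rw [(by decide +kernel : ∀ j : Fin 4, dg 2 0 j = 0) j]; simp
  obtain ⟨r, hr, rfl⟩ := h1 v
  obtain ⟨s, hs, rfl⟩ := h1 w
  obtain ⟨x, y, z⟩ := kW r hr s hs (fun e => a (e ▸ h2)) (fun e => b (e ▸ h2)) fun e => c (e ▸ rfl)
  obtain ⟨X, -, e, f⟩ := hg.wK z
  simp only [nall_eq, band_eq, beq_eq] at f
  refine ⟨⟨_, m' _ x⟩, (hp _ 7).trans (congrArg _ y), ?_⟩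
  rw [k _ x, show (wp g (lk [] W (16 * r + s))).1 = _ from e, mulVec_single_one, mulVec_single_one]
  exact ⟨funext fun i => congrArg _ (f i i.2).1, funext fun i => congrArg _ (f i i.2).2⟩

/-- Let F be the field with 2 elements. GL_4(F) (≅ A_8) has a subgroup isomorphic to the alternating group A_7, and every such subgroup acts 2-transitively on the 15 non-zero vectors of F⁴: any ordered pair of distinct non-zero vectors is carried to any other by some element of the subgroup. -/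
theorem result {F : Type*} [Field F] [Fintype F] (hF : Fintype.card F = 2) : (∃ H : Subgroup (Matrix.GeneralLinearGroup (Fin 4) F), Nonempty (H ≃* alternatingGroup (Fin 7))) ∧ ∀ H : Subgroup (Matrix.GeneralLinearGroup (Fin 4) F), Nonempty (H ≃* alternatingGroup (Fin 7)) → ∀ v w v' w' : Fin 4 → F, v ≠ 0 → w ≠ 0 → v ≠ w → v' ≠ 0 → w' ≠ 0 → v' ≠ w' → ∃ g ∈ H, (g : Matrix (Fin 4) (Fin 4) F).mulVec v = v' ∧ (g : Matrix (Fin 4) (Fin 4) F).mulVec w = w' := by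
  obtain ⟨ι, hι, T⟩ := main hF
  refine ⟨⟨_, ⟨(MonoidHom.ofInjective (f := ι.comp (((Perm.extendDomainHom (finSuccAboveEquiv (7 : Fin 8))).comp
    (alternatingGroup (Fin 7)).subtype).codRestrict _ fun x => (Perm.sign_extendDomain _ _).trans x.2))
    (hι.1.comp fun x y h => Subtype.ext (Perm.extendDomainHom_injective _ (congrArg Subtype.val h)))).symm⟩⟩, ?_⟩
  rintro H ⟨eH⟩ v w v' w' a b c a' b' c'
  have i8 : Nat.card (GL (Fin 4) F ⧸ H) = 8 := by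
    have := H.card_mul_index
    rw [Nat.card_congr eH.toEquiv, nat_card_alternatingGroup, ← Nat.card_eq_of_bijective _ hι, cA, Nat.card_eq_fintype_card,
      Fintype.card_fin, show Nat.factorial 7 / 2 = 2520 from rfl, index_eq_card] at this
    omega
  haveI : Finite (GL (Fin 4) F ⧸ H) := Nat.finite_of_card_ne_zero (by omega)
  let q := Finite.equivFinOfCardEq i8
  let χ := q.permCongrHom.toMonoidHom.comp ((MulAction.toPermHom _ (GL (Fin 4) F ⧸ H)).comp ι)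
  have f : ∀ x, χ x (q (QuotientGroup.mk 1)) = q (QuotientGroup.mk 1) → ι x ∈ H := fun x h => by
    have : (QuotientGroup.mk (ι x * 1) : _ ⧸ H) = QuotientGroup.mk 1 := by simpa [χ] using h
    simpa using QuotientGroup.eq.1 this
  have i : Injective χ := (MonoidHom.ker_eq_bot_iff _).1
    (((alternatingGroup.isSimpleGroup (by simp)).eq_bot_or_eq_top_of_normal _ inferInstance).resolve_right fun h => by
      have : H = ⊤ := eq_top_iff.2 fun g _ => by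
        obtain ⟨x, rfl⟩ := hι.2 g
        exact f x (by rw [(MonoidHom.mem_ker (f := χ)).1 (h.ge (mem_top x))]; rfl)
      rw [← index_eq_card, this, index_top] at i8
      omega)
  have r : χ.range = alternatingGroup (Fin 8) := Perm.eq_alternatingGroup_of_index_eq_two (by
    have := χ.range.card_mul_index
    rw [← Nat.card_congr (MonoidHom.ofInjective i).toEquiv, cA, Nat.card_perm, Nat.card_eq_fintype_card, Fintype.card_fin,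
      show Nat.factorial 8 = 40320 from rfl] at this
    omega)
  obtain ⟨σ, hσ⟩ := (S2119.result 8 (by decide) (by decide)).2 ((MonoidHom.ofInjective i).trans (MulEquiv.subgroupCongr r))
  obtain ⟨d, -, d1, d2⟩ := (by decide +kernel : ∀ t : Fin 8, ∃ d ∈ [1, swap t 7 * swap 0 1], Perm.sign d = 1 ∧ d 7 = t)
    (σ⁻¹ (q (QuotientGroup.mk 1)))
  lift d to alternatingGroup (Fin 8) using d1
  have m : ∀ x y (u : Fin 4 → F), (ι (x * y)).1 *ᵥ u = (ι x).1 *ᵥ (ι y).1 *ᵥ u := fun x y u => by simp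
  have o : ∀ x (u : Fin 4 → F), (ι x).1 *ᵥ (ι x⁻¹).1 *ᵥ u = u := fun x u => by rw [← m]; simp
  have o' : ∀ x (u : Fin 4 → F), (ι x⁻¹).1 *ᵥ (ι x).1 *ᵥ u = u := fun x u => by rw [← m]; simp
  have n : ∀ {u u' : Fin 4 → F}, u ≠ u' → (ι d⁻¹).1 *ᵥ u ≠ (ι d⁻¹).1 *ᵥ u' := fun {u _} h e => h (by rw [← o d u, e, o])
  have z : ∀ {u : Fin 4 → F}, u ≠ 0 → (ι d⁻¹).1 *ᵥ u ≠ 0 := fun h => mulVec_zero (ι d⁻¹).1 ▸ n h
  obtain ⟨x, x1, x2, x3⟩ := T _ _ (z a) (z b) (n c)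
  obtain ⟨y, y1, y2, y3⟩ := T _ _ (z a') (z b') (n c')
  refine ⟨ι (d * (y * (x⁻¹ * d⁻¹))), f _ ?_, by rw [m, m, m, ← x2, o', y2, o], by rw [m, m, m, ← x3, o', y3, o]⟩
  have e : χ (d * (y * (x⁻¹ * d⁻¹))) = σ * (d * (y * (x⁻¹ * d⁻¹)) : alternatingGroup (Fin 8)) * σ⁻¹ :=
    (congrArg (fun t : MulAut (alternatingGroup (Fin 8)) => (t (d * (y * (x⁻¹ * d⁻¹)))).1) hσ).symm
  have x4 : x.1⁻¹ 7 = 7 := Perm.inv_eq_iff_eq.2 x1.symm
  rw [e, Perm.mul_apply, Perm.mul_apply, ← Perm.eq_inv_iff_eq, ← d2]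
  simp only [Subgroup.coe_mul, Subgroup.coe_inv, Perm.mul_apply, x4, y1,
    show d.1⁻¹ (d.1 7) = 7 from d.1.symm_apply_apply 7]

end Cfsg.Agent.S2551
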