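import Cfsg.Statements.S2758
import Mathlib
import Cfsg.Agent.H2.Dih

set_option autoImplicit false
open Cfsg

namespace Cfsg.Agent.S2758

open Cfsg.Agent.H2 Cfsg.Agent.H2.Dh Cfsg.Agent.BG Subgroup

/-- For an odd prime p and a finite group G the following are equivalent: the dihedral group of order 2p is involved in G; some element of 2-power order normalizes but does not centralize some p-subgroup of G; some element of 2-power order inverts some nonidentity element of p-power order. -/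
theorem result {G : Type*} [Group G] [Finite G] {p : ℕ} [Fact p.Prime] (hp : p ≠ 2) : (Cfsg.Involves (DihedralGroup p) G ↔ ∃ (x : G) (P : Subgroup G), (∃ k : ℕ, orderOf x = 2 ^ k) ∧ IsPGroup p ↥P ∧ x ∈ Subgroup.normalizer (P : Set G) ∧ x ∉ Subgroup.centralizer (P : Set G)) ∧ (Cfsg.Involves (DihedralGroup p) G ↔ ∃ x y : G, (∃ k : ℕ, orderOf x = 2 ^ k) ∧ (∃ k : ℕ, orderOf y = p ^ k) ∧ y ≠ 1 ∧ x * y * x⁻¹ = y⁻¹) := by
  have o : ∀ {q : ℕ} [Fact q.Prime] {x : G}, IsPGroup q (zpowers x) ↔ ∃ k, orderOf x = q ^ k := fun {q} _ x => by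
    rw [IsPGroup.iff_card, Nat.card_zpowers]
  have h2 : Cfsg.Involves (DihedralGroup p) G ↔ ∃ x y : G, Iv p x y ∧ y ≠ 1 :=
    sec_iff_involves.symm.trans ⟨iv_of_sec hp, fun ⟨_, _, h, h1⟩ => h.sec hp h1⟩
  refine ⟨h2.trans ⟨fun ⟨x, y, h, h1⟩ => ⟨x, zpowers y, o.1 h.two, h.pg, mem_normalizer_iff_cj.2 (by
    rw [cj_zpowers, h.inv, zpowers_inv]), fun e => h1 (eq_one_of_inv hp h.pg (by
      rw [← h.inv, ← e y (mem_zpowers y), mul_inv_cancel_right]))⟩, fun ⟨x, P, h1, h3, h4, h5⟩ => exists_iv (o.2 h1) h3 h4 h5⟩,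
    h2.trans ⟨fun ⟨x, y, h, h1⟩ => ⟨x, y, o.1 h.two, o.1 h.pg, h1, h.inv⟩, fun ⟨x, y, h1, h3, h4, h5⟩ =>
      ⟨x, y, ⟨o.2 h1, o.2 h3, h5⟩, h4⟩⟩⟩

end Cfsg.Agent.S2758
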