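import Cfsg.Statements.S2759
import Mathlib
import Cfsg.Agent.H2.Dih

set_option autoImplicit false
open Cfsg

namespace Cfsg.Agent.S2759

open Cfsg.Agent.H2 Cfsg.Agent.H2.Dh Cfsg.Agent.BG Subgroup

set_option maxRecDepth 100000 in
def v4 : Subgroup (Equiv.Perm (Fin 4)) where
  carrier := {g | g * g = 1 ∧ Equiv.Perm.sign g = 1}
  one_mem' := by simp
  mul_mem' := by
    intro a b
    simp only [Set.mem_setOf_eq]
    revert a b
    decide
  inv_mem' := fun {a} h => ⟨by rw [← mul_inv_rev, h.1, inv_one], by rw [Equiv.Perm.sign_inv, h.2]⟩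

theorem v4_normal : v4.Normal := ⟨fun n h g => ⟨by rw [conj_mul, h.1]; simp, by
  rw [map_mul, map_mul, h.2, map_inv]; simp⟩⟩

theorem v4_cent : ∀ g : Equiv.Perm (Fin 4), (∀ v : Equiv.Perm (Fin 4), v * v = 1 ∧ Equiv.Perm.sign v = 1 →
    v * g = g * v) → g = g⁻¹ := by decide

/-- For a finite group G, the symmetric group of degree 4 is involved in G if and only if there is a 2-subgroup T of G such that the symmetric group of degree 3 is involved in N(T)/C(T). -/
theorem result {G : Type*} [Group G] [Finite G] : Cfsg.Involves (Equiv.Perm (Fin 4)) G ↔ ∃ T : Subgroup G, IsPGroup 2 ↥T ∧ Cfsg.Involves (Equiv.Perm (Fin 3)) (↥(Subgroup.normalizer (T : Set G)) ⧸ (Subgroup.centralizer (T : Set G)).subgroupOf (Subgroup.normalizer (T : Set G))) := by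
  have : Fact (Nat.Prime 3) := ⟨Nat.prime_three⟩
  rw [← sec_iff_involves]
  refine ⟨fun ⟨K, f, hf⟩ => ?_, fun ⟨T, hT, h⟩ => ?_⟩
  · have := v4_normal
    obtain ⟨T, hT⟩ := exists_sylIn 2 (v4.comap f)
    have e : T.map f = v4 := by
      have := hT.map f
      rw [map_comap_eq_self_of_surjective hf] at this
      exact (this.max _ le_rfl (H1.isPGroup_of_forall_pow fun x hx => (pow_two x).trans hx.1) this.le).symm
    have hs : Function.Surjective (f.comp (𝒩 T).subtype) := fun s => by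
      obtain ⟨g, rfl⟩ := hf s
      obtain ⟨c, hc, hn⟩ := hT.frattini' (g := g) (le_normalizer_of_normal (mem_top g))
      obtain ⟨t, ht, e1⟩ := e.ge hc
      exact ⟨⟨g * c⁻¹ * t, mul_mem hn (le_normalizer ht)⟩, by simp [e1]⟩
    obtain ⟨x, y, h, h1⟩ := Iv.lift (p := 3) (by decide) hs (a := Equiv.swap 0 1) (b := Equiv.swap 0 1 * Equiv.swap 1 2)
      ⟨isPGroup_zpowers_iff.2 ⟨1, by decide⟩, isPGroup_zpowers_iff.2 ⟨1, by decide⟩, by decide⟩ (by decide)
    have n : ∀ z : 𝒩 T, ((z : K) : G) ∈ 𝒩 (T.map K.subtype) := fun z => le_normalizer_map _ (mem_map_of_mem _ z.2)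
    refine ⟨T.map K.subtype, hT.pgrp.map _, sec_iff_involves.1 (((h.map (((K.subtype.comp (𝒩 T).subtype).codRestrict _ n))).map
      (QuotientGroup.mk' _)).s3 fun e1 => h1 (eq_one_of_inv (by decide) (h.map _).pg (v4_cent _ fun v hv => ?_)))⟩
    obtain ⟨t, ht, rfl⟩ := e.ge hv
    have := (QuotientGroup.eq_one_iff _).1 e1 t (mem_map_of_mem _ ht)
    exact (map_mul f _ _).symm.trans ((congrArg f (Subtype.ext this)).trans (map_mul f _ _))
  · obtain ⟨a, b, h, h1⟩ := iv_of_s3 (sec_iff_involves.2 h)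
    obtain ⟨x, y, h, h1⟩ := h.lift (by decide) (QuotientGroup.mk'_surjective _) h1
    exact s4_of hT (h.map (𝒩 T).subtype) x.2 y.2 fun e => h1 ((QuotientGroup.eq_one_iff y).2 e)

end Cfsg.Agent.S2759
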