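import Cfsg.Statements.S2794
import Cfsg.Agent.H9.Qd3

set_option autoImplicit false
open Cfsg

namespace Cfsg.Agent.S2794

open Cfsg.Agent Cfsg.Agent.H9

/-- For an odd prime p and a finite group G, the group Qd(p) is not involved in G if and only if in every section K/R of G, for every Sylow p-subgroup S* of K/R, the centre of J(S*) (J generated by the abelian subgroups of largest order) controls strong fusion in K/R. -/
theorem result {G : Type*} [Group G] [Finite G] {p : ℕ} [Fact p.Prime] (hp : p ≠ 2) : ¬ Cfsg.Involves ↥(Cfsg.qd p) G ↔ ∀ (K R : Subgroup G) [hR : (R.subgroupOf K).Normal], ∀ T : Sylow p (K ⧸ R.subgroupOf K), Cfsg.ControlsStrongFusion p (Cfsg.centerThompsonAOf (T : Subgroup (K ⧸ R.subgroupOf K))) := by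
  rw [← H2.sec_iff_involves]
  refine ⟨fun h K R _ T => ?_, fun h => not_qd_of_csf (𝓦 := {ZJT 0}) ?_ fun K R _ => ?_⟩
  · have hT := H2.sylIn_top T
    rw [← ZJ_zero_eq, ← induced_ZJT]
    rw [H2.ctl_iff (U := inducedFunctor (ZJT 0) _) hT (Subgroup.map_subtype_le _) ?_]
    · intro V hV g hg
      have := zw_ctlAll_of_not_qd (G := K ⧸ R.subgroupOf K) hp (Or.inl rfl) true
        (fun h' => h (h'.trans ((H2.Sec.quot _).trans (H2.Sec.sub K)))) T T hT
        ⟨le_rfl, fun _ _ _ _ h => h⟩ V hV g trivial hg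
      rwa [induced_ZJT]
    · rw [induced_ZJT]
      exact Subgroup.le_normalizer.trans ((pf_ZW (p := p) (Or.inl rfl) true).normalizer_le hT.pgrp)
  · rintro W rfl
    exact charP_ZJT (Or.inl rfl)
  · obtain ⟨T⟩ : Nonempty (Sylow p (K ⧸ R.subgroupOf K)) := inferInstance
    refine (H2.csf_single_iff (charP_ZJT (Or.inl rfl)) (H2.sylIn_top T)).2 ?_
    rw [induced_ZJT, ZJ_zero_eq]
    exact h K R T

end Cfsg.Agent.S2794
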