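import Cfsg.Statements.S2803
import Cfsg.Agent.H8.Red

set_option autoImplicit false
open Cfsg

namespace Cfsg.Agent.S2803

open Cfsg.Agent.H8

open Subgroup

/-- Let L be a finite group and p a prime with C_L(O_p(L)) ≤ O_p(L), T a Sylow p-subgroup, and Y the largest p-reduced normal subgroup of L. Put T_L = C_T(Y) and L_T = N_L(T_L). Then L = L_T · C_L(Y) (elementwise), T_L = O_p(L_T), and Y = Ω₁(Z(T_L)). -/
theorem result {L : Type*} [Group L] [Finite L] {p : ℕ} [Fact p.Prime] (hchar : Subgroup.centralizer (Cfsg.pCore p L : Set L) ≤ Cfsg.pCore p L) (T : Sylow p L) (Y : Subgroup L) (hY : (Cfsg.IsPReducedNormal p Y ∧ ∀ V : Subgroup L, Cfsg.IsPReducedNormal p V → V ≤ Y)) (TL : Subgroup L) (hTL : TL = (T : Subgroup L) ⊓ Subgroup.centralizer (Y : Set L)) : (∀ g : L, ∃ a ∈ Subgroup.normalizer (TL : Set L), ∃ c ∈ Subgroup.centralizer (Y : Set L), g = a * c) ∧ (Cfsg.pCore p ↥(Subgroup.normalizer (TL : Set L))).map (Subgroup.normalizer (TL : Set L)).subtype = TL ∧ Y = Cfsg.omegaOne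 p (TL ⊓ Subgroup.centralizer (TL : Set L)) := by
  have hYe : Yr p ⊤ = Y := Yr_eq_of (red_top_iff.2 hY.1) fun W hW => hY.2 W (red_top_iff.1 hW)
  have hR := red_top_iff.2 hY.1
  have hS := H2.sylIn_top T
  subst hTL
  have hSM : (T : Subgroup L) ≤
      normalizer (((T : Subgroup L) ⊓ centralizer (Y : Set L) : Subgroup L) : Set L) :=
    le_normalizer_inf_centralizer' (le_top.trans hR.norm)
  have he := normalizer_sup_centralizer hS hR.norm
  rw [top_inf_eq] at he
  refine ⟨fun g => ?_, ?_, ?_⟩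
  · refine mem_sup_of_norm_right (le_normalizer_centralizer (le_top.trans hR.norm)) ?_
    rw [he]
    exact mem_sup_left (mem_top g)
  · exact (hR.of_sup_eq ((hR.le_sylIn hS).trans hSM) he).red.Op_eq (hS.mono hSM le_top)
      (le_top.trans hR.norm) le_rfl
  · have := Yr_eq_omega (char_top_iff_Fs.1 hchar) hS
    rwa [hYe] at this

end Cfsg.Agent.S2803
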