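import Cfsg.Statements.S2806
import Mathlib
import Cfsg.Agent.H2.Loc2

set_option autoImplicit false
open Cfsg

namespace Cfsg.Agent.S2806

open Cfsg.Agent.H2 Cfsg.Agent.H8 Subgroup

universe u
variable {G : Type u} [Group G] [Finite G] {p : ℕ} [hp : Fact p.Prime]
def LC (p : ℕ) (X : Subgroup G) : Prop :=
  ∀ U : Subgroup G, IsPGroup p U → U ≠ ⊥ → U ≤ X → CP p (X ⊓ normalizer (U : Set G))
theorem LC.of_sn {X E : Subgroup G} (h : LC p X) (hE : SN X E) : LC p E := fun U h1 h2 h3 => by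
  have := (h U h1 h2 (h3.trans hE.le)).of_sn (hE.inf_right _)
  exact this
theorem k0 {X T E Z : Subgroup G} (h : LC p X) (hT : SylIn p T X) (hE : SN X E) (hZ : Z ≤ T)
    (h0 : Z ≠ ⊥) (hn : T ≤ normalizer (Z : Set G)) :
    E ⊓ normalizer (Z : Set G) ⊓ centralizer (omegaOne p (Zc T) : Set G) =
      E ⊓ normalizer (Z : Set G) ⊓ centralizer (omegaOne p (Zc (T ⊓ E)) : Set G) := by
  have := kieler (h _ (hT.pgrp.to_le hZ) h0 (hZ.trans hT.le))
    (hT.mono (le_inf hT.le hn) inf_le_left) (hE.inf_right _)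
  rwa [inf_comm E, ← inf_assoc T, inf_eq_left.2 hn, inf_comm _ E] at this
theorem k1 {X T E : Subgroup G} (h : LC p X) (hT : SylIn p T X) (hE : SN X E) (h0 : T ⊓ E ≠ ⊥) :
    E ⊓ centralizer (omegaOne p (Zc T) : Set G) = E ⊓ centralizer (omegaOne p (Zc (T ⊓ E)) : Set G) := by
  refine le_antisymm ?_ ?_
  · have h1 : T ≠ ⊥ := fun e => h0 (by rw [e, bot_inf_eq])
    have := k0 h hT hE (omega_Zc_le p T) (omega_Zc_ne_bot hT.pgrp h1)
      (le_normalizer.trans (normalizer_le_omega_Zc p T))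
    exact le_inf inf_le_left (le_trans (le_inf (inf_le_inf_left _ (centralizer_le_normalizer _))
      inf_le_right) (this.le.trans inf_le_right))
  · induction hE with
    | refl => rw [inf_eq_left.2 hT.le]
    | step A B hAB hB hn ih =>
      have h1 : T ⊓ B ≠ ⊥ := fun e => h0 (le_bot_iff.1 (e ▸ inf_le_inf_left _ hAB))
      have e : T ⊓ B ⊓ A = T ⊓ A := by rw [inf_assoc, inf_eq_right.2 hAB]
      have := k0 (h.of_sn hB) (hB.sylIn_inf hT) (SN.of_norm hAB hn)
        ((omega_Zc_le p (T ⊓ A)).trans (inf_le_inf_left _ hAB))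
        (omega_Zc_ne_bot (hT.pgrp.to_le inf_le_left) h0)
        ((le_normalizer_inf (inf_le_left.trans le_normalizer) (inf_le_right.trans hn)).trans
          (normalizer_le_omega_Zc p _))
      rw [e] at this
      refine le_inf inf_le_left (le_trans (le_inf (inf_le_left.trans hAB) ?_) ((ih h1).trans inf_le_right))
      exact le_trans (le_inf (inf_le_inf_left _ (centralizer_le_normalizer _))
        inf_le_right) (this.ge.trans inf_le_right)
theorem k2 {T E : Subgroup G} (h : LC p (⊤ : Subgroup G)) (hT : SylIn p T ⊤) (hE : SN ⊤ E) :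
    pointStabilizer p E (T ⊓ E) = Subgroup.closure {x | x ∈ E ⊓ centralizer (omegaOne p (Zc T) : Set G) ∧
      ∃ k : ℕ, orderOf x = p ^ k} := by
  unfold pointStabilizer
  by_cases h0 : T ⊓ E = ⊥
  · have h1 := coprime_iff_not_dvd.2 ((hE.sylIn_inf hT).eq_bot_iff.1 h0)
    have : ∀ Y : Subgroup G, Subgroup.closure {x | x ∈ E ⊓ Y ∧ ∃ k : ℕ, orderOf x = p ^ k} = ⊥ := by
      intro Y
      rw [closure_eq_bot_iff]
      rintro x ⟨hx, k, hk⟩
      exact eq_one_of_mem_pgroup_of_coprime (H8.isPGroup_zpowers hk) (mem_zpowers x)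
        (orderOf_coprime_of_mem h1 hx.1)
    rw [this, this]
  · rw [k1 h hT hE h0]

/-- Let H be a finite group of local characteristic p, T a Sylow p-subgroup, and L₁, L₂ subnormal subgroups of H generating the subgroup L. Then the point stabilizer of L with respect to T ∩ L is generated by the point stabilizers of L₁ and L₂ with respect to T ∩ L₁ and T ∩ L₂ (point stabilizer of X w.r.t. R: the subgroup generated by the p-elements of X centralizing Ω₁(Z(R))). -/
theorem result {H : Type*} [Group H] [Finite H] {p : ℕ} [Fact p.Prime] (hH : Cfsg.IsOfLocalCharacteristic p H) (T : Sylow p H) (L₁ L₂ : Subgroup H) (h₁ : L₁.IsSubnormal) (h₂ : L₂.IsSubnormal) : Cfsg.pointStabilizer p (L₁ ⊔ L₂) ((T : Subgroup H) ⊓ (L₁ ⊔ L₂)) = Cfsg.pointStabilizer p L₁ ((T : Subgroup H) ⊓ L₁) ⊔ Cfsg.pointStabilizer p L₂ ((T : Subgroup H) ⊓ L₂) := by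
  have h : LC p (⊤ : Subgroup H) := fun U h1 h2 _ => by
    rw [top_inf_eq]; exact cp_iff_char.1 (hH.2 U h1 h2)
  have hT := sylIn_top T
  have s1 := SN.of_isSubnormal h₁
  have s2 := SN.of_isSubnormal h₂
  rw [k2 h hT s1, k2 h hT s2, k2 h hT (s1.sup s2)]
  refine le_antisymm ((closure_le _).2 ?_) (sup_le
    (closure_mono fun x hx => ⟨⟨mem_sup_left hx.1.1, hx.1.2⟩, hx.2⟩)
    (closure_mono fun x hx => ⟨⟨mem_sup_right hx.1.1, hx.1.2⟩, hx.2⟩))
  rintro x ⟨⟨hx1, hx2⟩, k, hk⟩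
  obtain ⟨g, hg, hx⟩ := (hT.mono (le_centralizer_omega_Zc p _) le_top).exists_le_cj
    (H8.isPGroup_zpowers hk) (zpowers_le.2 hx2)
  have h1 := hT.cj_of_mem (mem_top g)
  have h2 : H2.cj g T ≤ centralizer (omegaOne p (Zc (T : Subgroup H)) : Set H) :=
    H2.cj_le_of_le (le_centralizer_omega_Zc p _) hg
  refine (wielandt_sup h1 s1 s2).trans (sup_le_sup (fun y hy => ?_) (fun y hy => ?_))
    ⟨hx1, hx (mem_zpowers x)⟩ <;>
    exact subset_closure ⟨⟨hy.1, h2 hy.2⟩, orderOf_pow_of_mem h1.pgrp hy.2⟩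

end Cfsg.Agent.S2806
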