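import Cfsg.Statements.S2810
import Cfsg.Agent.H8.Red

set_option autoImplicit false
open Cfsg

namespace Cfsg.Agent.S2810

open Cfsg.Agent.H8

open Subgroup

/-- Let H be a finite group of characteristic p and L a subgroup of H centralizing every factor of some H-invariant chain 1 = A₀ ≤ A₁ ≤ … ≤ Aₙ = O_p(H) of normal subgroups (that is, [A_{i+1}, L] ≤ Aᵢ for each i). Then L ≤ O_p(H). -/
theorem result {H : Type*} [Group H] [Finite H] {p : ℕ} [Fact p.Prime] (hchar : Subgroup.centralizer (Cfsg.pCore p H : Set H) ≤ Cfsg.pCore p H) (L : Subgroup H) (n : ℕ) (A : Fin (n + 1) → Subgroup H) (h0 : A 0 = ⊥) (hn : A (Fin.last n) = Cfsg.pCore p H) (hmono : Monotone A) (hnorm : ∀ i, (A i).Normal) (hcent : ∀ i : Fin n, ⁅A i.succ, L⁆ ≤ A i.castSucc) : L ≤ Cfsg.pCore p H := by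
  have hO : IsPGroup p (pCore p H) := by rw [← Op_top]; exact Op_isPGroup p ⊤
  have hA : ∀ i, IsPGroup p (A i) := fun i => hO.to_le (hn ▸ hmono (Fin.le_last i))
  have hN : ∀ i : Fin n, ⁅A i.succ, ncl L ⊤⁆ ≤ A i.castSucc := by
    intro i
    have := hnorm i.castSucc
    have := hnorm i.succ
    rw [commutator_comm]
    refine commutator_iSup_le_of_norm (fun x => ?_) fun x => le_top.trans (normal_iff_top_le.1 ‹_›)
    have h1 := cj_mono (hcent i) (x : H)
    rwa [cj_commutator, cj_eq_of_normal, cj_eq_of_normal (A i.castSucc), commutator_comm] at h1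
  have key : ∀ i : Fin (n + 1), H2.resOf p (ncl L ⊤) ≤ centralizer (A i : Set H) := by
    intro i
    induction i using Fin.induction with
    | zero => rw [h0]; exact le_centralizer_iff.1 bot_le
    | succ i ih =>
      exact resOf_le_centralizer_of_chain (hA _) (le_top.trans (normal_iff_top_le.1 (hnorm _)))
        ((commutator_mono le_rfl (H2.resOf_le p _)).trans (hN i)) ih
  have h1 := key (Fin.last n)
  rw [hn] at h1
  rw [← Op_top]
  exact (le_ncl L ⊤).trans (le_Op le_top (le_normalizer_ncl L ⊤)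
    (isPGroup_of_resOf_le (h1.trans hchar) hO))

end Cfsg.Agent.S2810
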