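import Cfsg.Statements.S2813
import Cfsg.Agent.H8.Red

set_option autoImplicit false
open Cfsg

namespace Cfsg.Agent.S2813

open Cfsg.Agent.H8

open Subgroup

/-- Let K be a subgroup of the finite group H with O_p(K) = 1 and Y a p-subgroup of N_H(K) with [K, Y, Y] = 1. Then [K, Y] = 1. -/
theorem result {H : Type*} [Group H] [Finite H] {p : ℕ} [Fact p.Prime] (K : Subgroup H) (hO : Cfsg.pCore p ↥K = ⊥) (Y : Subgroup H) (hY : IsPGroup p ↥Y) (hYK : Y ≤ Subgroup.normalizer (K : Set H)) (hq : ⁅⁅K, Y⁆, Y⁆ = ⊥) : ⁅K, Y⁆ = ⊥ := by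
  have h1 : SN (Y ⊔ K) Y := by
    refine (SN.of_norm (ncl_le_sup Y K) (sup_le ((le_ncl Y K).trans le_normalizer)
      (le_normalizer_ncl Y K))).trans (SN.of_norm (le_ncl Y K) ?_)
    rw [ncl_eq_sup_commutator]
    exact sup_le le_normalizer (le_normalizer_of_commutator_eq_bot (by rwa [commutator_comm Y K]))
  have h2 : SN (Y ⊔ K) K := SN.of_norm le_sup_right (sup_le hYK le_normalizer)
  rw [eq_bot_iff, ← pCore_eq_bot_iff_Op.1 hO, Op_eq_inf_of_sn p h2]
  refine le_inf ((commutator_mono le_rfl (le_Op_of_sn h1 hY)).trans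
    (commutator_le_right_of_norm (le_sup_right.trans (le_normalizer_Op p _))))
    (commutator_le_left_of_norm hYK)

end Cfsg.Agent.S2813
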