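import Cfsg.Statements.S2815
import Cfsg.Agent.H8.PIrr

set_option autoImplicit false
open Cfsg

namespace Cfsg.Agent.S2815

open Cfsg.Agent.H8

open Subgroup

/-- Let H be a finite group and p a prime dividing its order with O_p(H) = 1, and suppose K = O^p(H) (generated by the elements of order prime to p) is quasisimple. Then K = F*(H); for every nontrivial p-subgroup Y of H, K = [K, Y] and K lies in the subgroup generated by the K-conjugates of Y; every normal subgroup of H not containing K has order prime to p; and H is p-irreducible. -/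
theorem result {H : Type*} [Group H] [Finite H] {p : ℕ} [Fact p.Prime] (hp : p ∣ Nat.card H) (hO : Cfsg.pCore p H = ⊥) (hq : Cfsg.IsQuasisimple ↥(Cfsg.pResidual p H)) : Cfsg.pResidual p H = Cfsg.generalizedFittingSubgroup H ∧ (∀ Y : Subgroup H, IsPGroup p ↥Y → Y ≠ ⊥ → ⁅Cfsg.pResidual p H, Y⁆ = Cfsg.pResidual p H ∧ Cfsg.pResidual p H ≤ ⨆ k : ↥(Cfsg.pResidual p H), Y.map (MulAut.conj (k : H)).toMonoidHom) ∧ (∀ C : Subgroup H, C.Normal → ¬ Cfsg.pResidual p H ≤ C → (Nat.card ↥C).Coprime p) ∧ Cfsg.IsPIrreducible p H := by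
  rw [← H2.resOf_top] at hq ⊢
  rw [← Op_top] at hO
  have hK : Comp ⊤ (H2.resOf p (⊤ : Subgroup H)) := ⟨sn_resOf p ⊤, hq⟩
  have hF : H2.resOf p ⊤ = Fs (⊤ : Subgroup H) :=
    le_antisymm hK.le_Fs ((resOf_Fs hO).ge.trans (H2.resOf_mono le_top))
  have h3 : ∀ C : Subgroup H, C.Normal → ¬ H2.resOf p ⊤ ≤ C → (Nat.card C).Coprime p := by
    intro C hC h
    have := (hK.le_or_comm (SN.of_normal C)).resolve_left h
    rw [hF] at this
    exact coprime_of_le (le_Fit_of_comm_Fs le_top this) (Fit_coprime hO)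
  refine ⟨hF.trans Fs_top, fun Y hY hY1 => ?_, h3, pirr_top_iff.2 ⟨fun hc => ?_, fun N _ hn hc => ?_⟩⟩
  · have h1 : ⁅H2.resOf p (⊤ : Subgroup H), Y⁆ = H2.resOf p ⊤ := by
      refine (hK.commutator_eq_or_comm (le_normalizer_top _)
        (le_top.trans (H2.le_normalizer_resOf p ⊤))).resolve_right fun h => hY1 ?_
      exact eq_bot_of_comm_Fs hO hY le_top (by rw [← hF]; exact commutator_eq_bot_symm h)
    refine ⟨h1, ?_⟩
    change _ ≤ ncl Y _
    rw [ncl_eq_sup_commutator, commutator_comm, h1]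
    exact le_sup_right
  · have := hc.sylIn
    rw [hO] at this
    exact this.ne_bot (by simpa using hp) rfl
  · by_contra h
    exact hc (pcl_of_coprime (h3 N (normal_of_top_le hn) h))

end Cfsg.Agent.S2815
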