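import Cfsg.Statements.S2816
import Cfsg.Agent.H8.PIrr

set_option autoImplicit false
open Cfsg

namespace Cfsg.Agent.S2816

open Cfsg.Agent.H8

open Subgroup

/-- Let H be a finite group and p a prime with O_p(H) = 1, and Y a p-subgroup of H. Then for every subnormal subgroup K of H containing Y, [F*(H), Y] = [F*(K), Y] = [F*(K), Y, Y]; and if Y₀ ≤ Y with [F*(H), Y, Y₀] = 1 then Y₀ = 1 (in particular [F*(H), Y] = 1 forces Y = 1). -/
theorem result {H : Type*} [Group H] [Finite H] {p : ℕ} [Fact p.Prime] (hO : Cfsg.pCore p H = ⊥) (Y : Subgroup H) (hY : IsPGroup p ↥Y) : (∀ K : Subgroup H, K.IsSubnormal → Y ≤ K → ⁅Cfsg.generalizedFittingSubgroup H, Y⁆ = ⁅(Cfsg.generalizedFittingSubgroup ↥K).map K.subtype, Y⁆ ∧ ⁅(Cfsg.generalizedFittingSubgroup ↥K).map K.subtype, Y⁆ = ⁅⁅(Cfsg.generalizedFittingSubgroup ↥K).map K.subtype, Y⁆, Y⁆) ∧ (∀ Y₀ : Subgroup H, Y₀ ≤ Y → ⁅⁅Cfsg.generalizedFittingSubgroup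 H, Y⁆, Y₀⁆ = ⊥ → Y₀ = ⊥) := by
  rw [← Op_top] at hO
  rw [← Fs_top]
  have key : ∀ Y : Subgroup H, IsPGroup p Y → ⁅⁅Fs ⊤, Y⁆, Y⁆ = ⁅Fs (⊤ : Subgroup H), Y⁆ := fun Y hY =>
    commutator_commutator_of_Fs (Fs_Fs ⊤) (Op_Fs_eq_bot hO) hY (le_top.trans (le_normalizer_Fs ⊤))
  refine ⟨fun K hK hYK => ?_, fun Y₀ h1 h2 => ?_⟩
  · have hK' := SN.of_isSubnormal hK
    refine ⟨le_antisymm ?_ (commutator_mono (Fs_le_Fs_of_sn hK') le_rfl), ?_⟩
    · rw [← key Y hY]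
      refine commutator_mono ?_ le_rfl
      refine le_trans ?_ (Fs_eq_inf_of_sn hK').ge
      exact le_inf (commutator_le_left_of_norm (le_top.trans (le_normalizer_Fs ⊤)))
        (hK'.le_of_le_commutator le_top hYK (key Y hY).ge)
    · exact (commutator_commutator_of_Fs (Fs_Fs K) (Op_Fs_eq_bot (Op_eq_bot_of_sn hO hK')) hY
        (hYK.trans (le_normalizer_Fs K))).symm
  · refine eq_bot_of_comm_Fs hO (hY.to_le h1) le_top (commutator_eq_bot_symm ?_)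
    rw [← key Y₀ (hY.to_le h1)]
    exact commutator_eq_bot_mono h2 (commutator_mono le_rfl h1) le_rfl

end Cfsg.Agent.S2816
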