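import Cfsg.Statements.S2817
import Cfsg.Agent.H8.Frat

set_option autoImplicit false
open Cfsg

namespace Cfsg.Agent.S2817

open Cfsg.Agent.H8

open Subgroup

/-- Let H be a finite group and p a prime with O_p(H) = 1, Q a p-subgroup of H, L = [F*(H), Q], and F the largest normal subgroup of F*(H) centralized by Q (a normal subgroup of F*(H) centralized by Q and containing every such). Then F = C_{F*(H)}(LQ); L = [L, Q]; L ∩ F ≤ Φ(L); every p-subgroup B of N_H(Q) with [L, B] ≤ F satisfies [L, B] = 1; and C_H(FL) has order prime to p. -/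
theorem result {H : Type*} [Group H] [Finite H] {p : ℕ} [Fact p.Prime] (hO : Cfsg.pCore p H = ⊥) (Q : Subgroup H) (hQ : IsPGroup p ↥Q) (L : Subgroup H) (hL : L = ⁅Cfsg.generalizedFittingSubgroup H, Q⁆) (F : Subgroup H) (hF : F ≤ Cfsg.generalizedFittingSubgroup H ∧ Cfsg.generalizedFittingSubgroup H ≤ Subgroup.normalizer (F : Set H) ∧ Q ≤ Subgroup.centralizer (F : Set H) ∧ ∀ N : Subgroup H, N ≤ Cfsg.generalizedFittingSubgroup H → Cfsg.generalizedFittingSubgroup H ≤ Subgroup.normalizer (N : Set H) → Q ≤ Subgroup.centralizer (N : Set H) → N ≤ F) : F = Cfsg.generalizedFittingSubgroup H ⊓ Subgroup.centralizer ((L ⊔ Q : Subgroup H) : Set H) ∧ ⁅L, Q⁆ = L ∧ L ⊓ F ≤ (frattini ↥L).map L.subtype ∧ (∀ B : Subgroup H, IsPGroup p ↥B → B ≤ Subgroup.normalizer (Q : Set H) → ⁅L, B⁆ ≤ F → ⁅L, B⁆ = ⊥) ∧ (Nat.card ↥(Subgroup.centralizer ((F ⊔ L : Subgroup H) : Set H))).Coprime p := by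
  rw [← Op_top] at hO
  rw [← Fs_top] at hL hF ⊢
  obtain ⟨hF1, hF2, hF3, hF4⟩ := hF
  have hn : ∀ Y : Subgroup H, Y ≤ normalizer (Fs (⊤ : Subgroup H) : Set H) := fun Y =>
    le_top.trans (le_normalizer_Fs ⊤)
  have hLF : L ≤ Fs ⊤ := hL ▸ commutator_le_left_of_norm (hn Q)
  have hLn : Fs ⊤ ≤ normalizer (L : Set H) := hL ▸ normalizer_commutator_ge_left _ _
  have hQL : Q ≤ normalizer (L : Set H) := hL ▸ normalizer_commutator_ge_right _ _
  have hsn : SN (Fs ⊤) L := SN.of_norm hLF hLn
  have hL1 : Fs L = L := Fs_eq_self_of_sn_Fs hsn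
  have hL2 : Op p L = ⊥ := Op_eq_bot_of_sn (Op_Fs_eq_bot hO) hsn
  have hncl : ncl Q (Fs ⊤) = L ⊔ Q := by rw [ncl_eq_sup_commutator, commutator_comm, ← hL, sup_comm]
  have h1 : F = Fs ⊤ ⊓ centralizer ((L ⊔ Q : Subgroup H) : Set H) := by
    refine le_antisymm (le_inf hF1 ?_) (hF4 _ inf_le_left (le_normalizer_inf le_normalizer
      (le_normalizer_centralizer (hncl ▸ le_normalizer_ncl _ _))) ?_)
    · rw [← hncl]
      exact le_centralizer_ncl hF2 (le_centralizer_iff.1 hF3)
    · exact le_centralizer_iff.1 (inf_le_right.trans (centralizer_anti le_sup_right))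
  have h2 : ⁅L, Q⁆ = L := by
    rw [hL]; exact commutator_commutator_of_Fs (Fs_Fs ⊤) (Op_Fs_eq_bot hO) hQ (hn Q)
  have h3 : L ⊓ F ≤ H2.Phi L := by
    rw [h1]
    refine le_Phi_of_center_commutator
      ((inf_le_right.trans inf_le_right).trans (centralizer_anti le_sup_left)) ?_
    refine le_trans (inf_le_inf_left _ (inf_le_right.trans (centralizer_anti le_sup_right))) ?_
    refine inf_centralizer_le_commutator hQ hQL h2 ?_ (Fit_le L) (Fit_coprime hL2)
    conv_lhs => rw [← hL1, Fs_eq, ← Lay_perfect]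
    exact sup_le_sup_right (commutator_mono (Lay_le L) (Lay_le L)) _
  refine ⟨h1, h2, h3, fun B hB hBQ hc => ?_, ?_⟩
  · have hBL : B ≤ normalizer (L : Set H) := hL ▸ le_normalizer_commutator (hn B) hBQ
    have h4 := commutator_sup_centralizer_of_Fs hL1 hL2 hB hBL
    have h5 := eq_of_sup_Phi inf_le_left ((le_inf (commutator_le_left_of_norm hBL) hc).trans h3)
      (by rw [sup_comm]; exact h4.ge)
    exact commutator_eq_bot_iff_le_centralizer.2 (h5.ge.trans inf_le_right)
  · rw [coprime_iff_not_dvd]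
    intro hd
    obtain ⟨x, hx, hxp⟩ := exists_orderOf_eq_prime hd
    have hX := isPGroup_zpowers_of_eq hxp
    have hX1 : zpowers x ≤ centralizer ((F ⊔ L : Subgroup H) : Set H) := zpowers_le_of_mem hx
    have hX2 : F ⊔ L ≤ centralizer (zpowers x : Set H) := le_centralizer_iff.1 hX1
    refine zpowers_ne_bot_of_orderOf_eq hxp (eq_bot_of_le_Fit hO hX (le_Fit_of_comm_Lay_Fit le_top ?_ ?_))
    · refine commutator_Lay_eq_bot_iff.2 fun K hK => commutator_eq_bot_iff_le_centralizer.2 ?_
      refine hX1.trans (centralizer_anti ?_)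
      rcases hK.le_commutator_or_comm (le_normalizer_top Q) with h | h
      · exact (h.trans (commutator_mono hK.le_Fs le_rfl)).trans (hL.ge.trans le_sup_right)
      · exact (hF4 K hK.le_Fs (Fs_le_normalizer hK) (le_centralizer_iff.1
          (commutator_eq_bot_iff_le_centralizer.1 h))).trans le_sup_left
    · have hN : ∀ Y : Subgroup H, Y ≤ normalizer (Fit (⊤ : Subgroup H) : Set H) := fun Y =>
        le_top.trans (le_normalizer_Fit ⊤)
      have h6 : Fit ⊤ ⊓ centralizer (L : Set H) ≤ F ⊔ L := by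
        rw [← centralizer_sup_commutator hQ (le_normalizer_inf (hN Q) (le_normalizer_centralizer hQL))
          (coprime_of_le inf_le_left (Fit_coprime hO))]
        refine sup_le_sup ?_ ((commutator_mono (inf_le_left.trans (Fit_le_Fs ⊤)) le_rfl).trans hL.ge)
        rw [h1, centralizer_sup_eq, inf_assoc]
        exact inf_le_inf_right _ (Fit_le_Fs ⊤)
      have h7 : ⁅Fit (⊤ : Subgroup H), zpowers x⁆ ≤ Fit ⊤ ⊓ centralizer (L : Set H) := by
        refine le_inf (commutator_le_left_of_norm (hN _)) ?_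
        refine le_trans ?_ (le_centralizer_iff.1 (le_centralizer_ncl ((Fit_le_Fs ⊤).trans hLn)
          (le_sup_right.trans hX2)))
        rw [ncl_eq_sup_commutator, commutator_comm]
        exact le_sup_right
      rw [commutator_comm, ← commutator_commutator_eq hX (hN _) (Fit_coprime hO)]
      exact commutator_eq_bot_iff_le_centralizer.2 ((h7.trans h6).trans hX2)

end Cfsg.Agent.S2817
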