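import Cfsg.Statements.S2818
import Cfsg.Agent.H8.PIrr

set_option autoImplicit false
open Cfsg

namespace Cfsg.Agent.S2818

open Cfsg.Agent.H8

open Subgroup
open scoped commutatorElement

/-- Let P be a finite p-subgroup of a group G and H a subgroup of N_G(P) with [P, H] ≤ Ω₁(Z(P)) (the elements of order dividing p in the centre of P). Then H centralizes the Frattini subgroup of P. -/
theorem result {G : Type*} [Group G] [Finite G] {p : ℕ} [Fact p.Prime] (P : Subgroup G) (hP : IsPGroup p ↥P) (H : Subgroup G) (hH : H ≤ Subgroup.normalizer (P : Set G)) (h : ⁅P, H⁆ ≤ Cfsg.omegaOne p (P ⊓ Subgroup.centralizer (P : Set G))) : ⁅(frattini ↥P).map P.subtype, H⁆ = ⊥ := by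
  rw [commutator_comm, commutator_eq_bot_iff_le_centralizer]
  intro x hx
  have hz : ∀ y ∈ P, ⁅y, x⁆ ∈ omegaOne p (H2.Zc P) := fun y hy => h (commutator_mem_commutator hy hx)
  have hc : ∀ y ∈ P, ∀ z ∈ P, z * ⁅y, x⁆ = ⁅y, x⁆ * z := fun y hy z hz' =>
    mem_centralizer_iff.1 (omega_Zc_le_centralizer p P (hz y hy)) z hz'
  have hm : ∀ y ∈ P, ∀ z ∈ P, ⁅y * z, x⁆ = ⁅y, x⁆ * ⁅z, x⁆ := by
    intro y hy z hz'
    rw [commutatorElement_mul_left, hc z hz' y hy, mul_inv_cancel_right,
      hc y hy _ (omega_Zc_le p P (hz z hz'))]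
  let f : P →* G := MonoidHom.mk' (fun y => ⁅(y : G), x⁆) fun a b => hm a a.2 b b.2
  have hk : ∀ y (hy : y ∈ P), f ⟨y, hy⟩ = 1 → y ∈ centralizer {x} := fun y hy h1 =>
    mem_centralizer_singleton_iff.2 (commutatorElement_eq_one_iff_mul_comm.1 h1)
  have := H1.map_frattini_le_of_elementary (P := P) (N := centralizer {x}) (p := p) Fact.out ?_ ?_
  · exact mem_centralizer_iff.2 fun y hy => mem_centralizer_singleton_iff.1 (this hy)
  · refine commutator_le.2 fun a ha b hb => hk _ (commutator_le_right_of_norm le_normalizer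
      (commutator_mem_commutator ha hb)) ?_
    have : (⟨⁅a, b⁆, commutator_le_right_of_norm le_normalizer (commutator_mem_commutator ha hb)⟩ : P)
      = ⁅(⟨a, ha⟩ : P), ⟨b, hb⟩⁆ := rfl
    rw [this, map_commutatorElement, commutatorElement_eq_one_iff_mul_comm]
    exact hc b hb _ (omega_Zc_le p P (hz a ha))
  · intro y hy
    refine hk _ (pow_mem hy p) ?_
    have : (⟨y ^ p, pow_mem hy p⟩ : P) = ⟨y, hy⟩ ^ p := rfl
    rw [this, map_pow]
    exact (elem_omega_Zc p P).2 _ (hz y hy)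

end Cfsg.Agent.S2818
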