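import Cfsg.Statements.S2819
import Cfsg.Agent.H8.Frat

set_option autoImplicit false
open Cfsg

namespace Cfsg.Agent.S2819

open Cfsg.Agent.H8

open Subgroup
open scoped commutatorElement

/-- Let P be a finite p-subgroup of a group G, H a subgroup of N_G(P), and Y a subgroup of H centralizing the derived subgroup P' such that [P, Y] is elementary abelian. Then O^p(⟨Y^H⟩), the subgroup of the normal closure of Y in H generated by its elements of order prime to p, centralizes the Frattini subgroup of P. -/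
theorem result {G : Type*} [Group G] [Finite G] {p : ℕ} [Fact p.Prime] (P : Subgroup G) (hP : IsPGroup p ↥P) (H : Subgroup G) (hH : H ≤ Subgroup.normalizer (P : Set G)) (Y : Subgroup G) (hYH : Y ≤ H) (hYc : Y ≤ Subgroup.centralizer ((⁅P, P⁆ : Subgroup G) : Set G)) (hel : Cfsg.IsElementaryAbelian p ⁅P, Y⁆) (NY : Subgroup G) (hNY : NY = (Subgroup.normalClosure ((Y.subgroupOf H : Subgroup ↥H) : Set ↥H)).map H.subtype) : (Cfsg.pResidual p ↥NY).map NY.subtype ≤ Subgroup.centralizer (((frattini ↥P).map P.subtype : Subgroup G) : Set G) := by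
  rw [ncl_subgroupOf hYH] at hNY
  rw [H2.pResidual_map_subtype]
  have hNH : NY ≤ H := hNY ▸ ncl_le_of_le hYH
  have hn1 : H ≤ normalizer ((⁅P, P⁆ : Subgroup G) : Set G) := le_normalizer_commutator hH hH
  have hn2 : H ≤ normalizer (H2.Phi P : Set G) := hH.trans (H2.normalizer_le_Phi P)
  have h1 : ⁅H2.Phi P, Y⁆ ≤ ⁅P, P⁆ := by
    have hn3 : P ⊔ Y ≤ normalizer (P : Set G) := sup_le le_normalizer (hYH.trans hH)
    obtain ⟨Z, _, _, f, hf, hk⟩ := exists_hom_kr_eq
      ((commutator_le_left_of_norm le_normalizer).trans (le_sup_left : P ≤ P ⊔ Y))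
      (le_normalizer_commutator hn3 hn3)
    have hc : IsMulCommutative (im f P) := H2.isMulCommutative_iff_comm.2
      ((commutator_im_eq_bot_iff f le_sup_left le_sup_left).2 hk.ge)
    rw [← hk, ← commutator_im_eq_bot_iff f ((H2.Phi_le P).trans le_sup_left) le_sup_right,
      commutator_eq_bot_iff_le_centralizer, im_le_iff f ((H2.Phi_le P).trans le_sup_left)]
    refine H1.map_frattini_le_of_elementary (p := p) Fact.out (hk.ge.trans (kr_le_pre f _)) ?_
    intro x hx
    refine (mem_pre f).2 ⟨mem_sup_left (pow_mem hx p), mem_centralizer_iff.2 fun y hy => ?_⟩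
    obtain ⟨y, hy', rfl⟩ := (mem_im f).1 hy
    have hxP : f ⟨x, mem_sup_left hx⟩ ∈ im f P := mem_im_of_mem f _ hx
    have hz : ⁅(y : G), x⁆ ∈ ⁅P, Y⁆ := by
      rw [commutator_comm]; exact commutator_mem_commutator hy' hx
    have hzP : ⁅(y : G), x⁆ ∈ P := commutator_le_left_of_norm (hYH.trans hH) hz
    have e1 : f y * f ⟨x, mem_sup_left hx⟩ * (f y)⁻¹ =
        f ⟨_, mem_sup_left hzP⟩ * f ⟨x, mem_sup_left hx⟩ := by
      rw [← map_inv, ← map_mul, ← map_mul, ← map_mul]
      congr 1
      apply Subtype.ext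
      simp [commutatorElement_def]
    have e2 : f ⟨_, mem_sup_left hzP⟩ ^ p = 1 := by
      rw [← map_pow, ← map_one f]
      congr 1
      exact Subtype.ext (hel.2 _ hz)
    have e3 : Commute (f ⟨_, mem_sup_left hzP⟩) (f ⟨x, mem_sup_left hx⟩) :=
      L.mul_comm_of_isMulCommutative (H := im f P) (mem_im_of_mem f _ hzP) hxP
    have e4 : f ⟨x ^ p, mem_sup_left (pow_mem hx p)⟩ = f ⟨x, mem_sup_left hx⟩ ^ p := by
      rw [← map_pow]; rfl
    rw [e4, ← mul_inv_eq_iff_eq_mul, ← conj_pow, e1, e3.mul_pow, e2, one_mul]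
  have h2 : ⁅H2.Phi P, NY⁆ ≤ ⁅P, P⁆ := by
    rw [commutator_comm, hNY]
    refine commutator_iSup_le_of_norm (fun x => ?_) fun x => (cj_le_of_mem' hYH x.2).trans hn1
    have := cj_mono h1 (x : G)
    rwa [cj_commutator, cj_eq_of_mem_normalizer (hn1 x.2), cj_eq_of_mem_normalizer (hn2 x.2),
      commutator_comm] at this
  refine resOf_le_centralizer_of_chain (hP.to_le (H2.Phi_le P)) (hNH.trans hn2)
    ((commutator_mono le_rfl (H2.resOf_le p NY)).trans h2) ((H2.resOf_le p NY).trans ?_)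
  rw [hNY]
  exact ncl_le hYc (le_normalizer_centralizer hn1)

end Cfsg.Agent.S2819
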