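import Cfsg.Statements.S2823
import Cfsg.Agent.H8.Red

set_option autoImplicit false
open Cfsg

namespace Cfsg.Agent.S2823

open Cfsg.Agent.H8

open Subgroup

/-- Let H be a finite group, p a prime, T a Sylow p-subgroup and L a subgroup of characteristic p containing T; let Z_L be the subgroup generated by the Ω₁(Z(S)) over the Sylow p-subgroups S of L and O^p(L) the subgroup generated by the elements of L of order prime to p. Then Z_L = Ω₁(Z(L))·[Z_L, O^p(L)] and [Z_L, L] = [Z_L, O^p(L)]. -/
theorem result {H : Type*} [Group H] [Finite H] {p : ℕ} [Fact p.Prime] (T : Sylow p H) (L : Subgroup H) (hTL : (T : Subgroup H) ≤ L) (hL : Subgroup.centralizer (Cfsg.pCore p ↥L : Set ↥L) ≤ Cfsg.pCore p ↥L) : Cfsg.sylowCenterClosure p L = (Cfsg.omegaOne p (L ⊓ Subgroup.centralizer ((L : Subgroup H) : Set H))) ⊔ ⁅Cfsg.sylowCenterClosure p L, (Cfsg.pResidual p ↥L).map L.subtype⁆ ∧ ⁅Cfsg.sylowCenterClosure p L, L⁆ = ⁅Cfsg.sylowCenterClosure p L, (Cfsg.pResidual p ↥L).map L.subtype⁆ := by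
  have hc := (char_iff_Fs L).1 hL
  have hZ := red_sylowCenterClosure hc
  rw [H2.pResidual_map_subtype]
  have hn : L ≤ normalizer ((⁅sylowCenterClosure p L, H2.resOf p L⁆ : Subgroup H) : Set H) :=
    le_normalizer_commutator hZ.norm (H2.le_normalizer_resOf p L)
  have h1 : sylowCenterClosure p L = omegaOne p (L ⊓ centralizer (L : Set H)) ⊔
      ⁅sylowCenterClosure p L, H2.resOf p L⁆ := by
    refine le_antisymm (sylowCenterClosure_le_iff.2 fun S hS => ?_) (sup_le ?_ ?_)
    · refine (omega_Zc_le_commutator_sup hS hZ.elem hZ.le hZ.norm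
        (omega_Zc_le_sylowCenterClosure hS)).trans ?_
      exact sup_le (inf_le_left.trans le_sup_right) le_sup_left
    · have hS := H2.sylIn_of_le T hTL
      refine le_trans ?_ (omega_Zc_le_sylowCenterClosure hS)
      refine le_omega_Zc (elem_omega_Zc p L) ((red_omega_Zc p L).le_sylIn hS)
        ((omega_Zc_le_centralizer p L).trans (centralizer_anti hTL))
    · exact commutator_le_left_of_norm ((H2.resOf_le p L).trans hZ.norm)
  refine ⟨h1, le_antisymm ?_ (commutator_mono le_rfl (H2.resOf_le p L))⟩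
  conv_lhs => rw [h1]
  refine commutator_sup_le_of_norm ?_ (commutator_le_left_of_norm hn) (h1.ge.trans (hZ.le.trans hn))
  rw [commutator_eq_bot_iff_le_centralizer.2 (omega_Zc_le_centralizer p L)]
  exact bot_le

end Cfsg.Agent.S2823
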