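import Cfsg.Statements.S2824
import Cfsg.Agent.H8.Red

set_option autoImplicit false
open Cfsg

namespace Cfsg.Agent.S2824

open Cfsg.Agent.H8

open Subgroup

/-- Let H be a finite group, p a prime, T a Sylow p-subgroup, L and M subgroups of characteristic p containing T, Y_L the largest p-reduced normal subgroup of L and T₀ = C_T(Y_L). If M·C_H(Y_L) = L·C_H(Y_L), then L* := N_M(T₀) has Y_{L*} = Y_L and L·C_H(Y_L) = L*·C_H(Y_L). -/
theorem result {H : Type*} [Group H] [Finite H] {p : ℕ} [Fact p.Prime] (T : Sylow p H) (L M : Subgroup H) (hTL : (T : Subgroup H) ≤ L) (hTM : (T : Subgroup H) ≤ M) (hL : Subgroup.centralizer (Cfsg.pCore p ↥L : Set ↥L) ≤ Cfsg.pCore p ↥L) (hM : Subgroup.centralizer (Cfsg.pCore p ↥M : Set ↥M) ≤ Cfsg.pCore p ↥M) (T₀ : Subgroup H) (hT₀ : T₀ = (T : Subgroup H) ⊓ Subgroup.centralizer (((Cfsg.largestPReducedOf p L) : Subgroup H) : Set H)) (hfac : M ⊔ Subgroup.centralizer (((Cfsg.largestPReducedOf p L) : Subgroup H) : Set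 H) = L ⊔ Subgroup.centralizer (((Cfsg.largestPReducedOf p L) : Subgroup H) : Set H)) (Ls : Subgroup H) (hLs : Ls = M ⊓ Subgroup.normalizer ((T₀ : Subgroup H) : Set H)) : (Cfsg.largestPReducedOf p Ls) = (Cfsg.largestPReducedOf p L) ∧ L ⊔ Subgroup.centralizer (((Cfsg.largestPReducedOf p L) : Subgroup H) : Set H) = Ls ⊔ Subgroup.centralizer (((Cfsg.largestPReducedOf p L) : Subgroup H) : Set H) := by
  have hc := (char_iff_Fs L).1 hL
  have hS := H2.sylIn_of_le T hTL
  have hSM := H2.sylIn_of_le T hTM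
  have hY := red_Yr p L
  have hYM := hY.of_sup_eq ((hY.le_sylIn hS).trans hTM) hfac
  subst hT₀
  have he := normalizer_sup_centralizer hSM hYM.norm
  rw [← hLs, hfac] at he
  have hTs : (T : Subgroup H) ≤ Ls := by
    rw [hLs]; exact le_inf hTM (le_normalizer_inf_centralizer' (hTL.trans hY.norm))
  have hYs := hY.of_sup_eq ((hY.le_sylIn hS).trans hTs) he
  refine ⟨le_antisymm ?_ hYs.le_Yr, he.symm⟩
  have h1 := hYs.red.Op_eq (H2.sylIn_of_le T hTs) (hTL.trans hY.norm) (by rw [hLs]; exact inf_le_right)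
  have h2 := (red_Yr p Ls).le_omega
  rwa [h1, ← Yr_eq_omega hc hS] at h2

end Cfsg.Agent.S2824
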