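import Cfsg.Statements.S2825
import Cfsg.Agent.H8.Red

set_option autoImplicit false
open Cfsg

namespace Cfsg.Agent.S2825

open Cfsg.Agent.H8

open Subgroup

/-- Let L be a subnormal subgroup of the finite group H, p a prime, Y_H and Y_L the largest p-reduced normal subgroups. Then Y_H ∩ L = Y_H ∩ Y_L and this subgroup is a p-reduced normal subgroup of L; C_L(Y_L) = C_L(Y_H) = C_L(Y_H ∩ L); and if O^p(H) ≤ L, then [Y_L, L] = 1 if and only if [Y_H, H] = 1. -/
theorem result {H : Type*} [Group H] [Finite H] {p : ℕ} [Fact p.Prime] (L : Subgroup H) (hL : L.IsSubnormal) : Cfsg.largestPReduced p H ⊓ L = Cfsg.largestPReduced p H ⊓ (Cfsg.largestPReducedOf p L) ∧ Cfsg.IsPReducedNormal p ((Cfsg.largestPReduced p H ⊓ L).subgroupOf L) ∧ L ⊓ Subgroup.centralizer ((Cfsg.largestPReducedOf p L : Subgroup H) : Set H) = L ⊓ Subgroup.centralizer (Cfsg.largestPReduced p H : Set H) ∧ L ⊓ Subgroup.centralizer (Cfsg.largestPReduced p H : Set H) = L ⊓ Subgroup.centralizer ((Cfsg.largestPReduced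 p H ⊓ L : Subgroup H) : Set H) ∧ (Cfsg.pResidual p H ≤ L → (⁅(Cfsg.largestPReducedOf p L), L⁆ = ⊥ ↔ ⁅Cfsg.largestPReduced p H, (⊤ : Subgroup H)⁆ = ⊥)) := by
  have h := SN.of_isSubnormal hL
  rw [← Yr_top]
  have h1 := (red_Yr p ⊤).inf_sn h
  have h2 := inf_centralizer_Yr (p := p) h
  refine ⟨le_antisymm (le_inf inf_le_left h1.le_Yr) (inf_le_inf_left _ (Yr_le p L)),
    (red_subgroupOf_iff h1.le).2 h1, h2, inf_centralizer_Yr_inf h, fun hO => ?_⟩
  rw [commutator_eq_bot_iff_le_centralizer, commutator_eq_bot_iff_le_centralizer,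
    le_centralizer_iff, le_centralizer_iff (K := ⊤)]
  constructor
  · intro h3
    refine (red_Yr p ⊤).red ⊤ SN.refl ?_
    rw [H2.resOf_top]
    exact hO.trans (((le_inf le_rfl h3).trans h2.le).trans inf_le_right)
  · intro h3
    exact ((le_inf le_rfl (le_top.trans h3)).trans h2.ge).trans inf_le_right

end Cfsg.Agent.S2825
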