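import Cfsg.Statements.S2832
import Cfsg.Agent.H8.PIrr
import Cfsg.Agent.H2.Chief

set_option autoImplicit false
open Cfsg

namespace Cfsg.Agent.S2832

open Cfsg.Agent.H8

open Subgroup

/-- Let H be a finite group with Sylow p-subgroup T such that H is T-minimal (generated by the conjugates of T, with T in exactly one maximal subgroup), and let N be a normal subgroup of H. Then either H/N is a p-group or H/N is minimal over the image of T in the same sense. -/
theorem result {H : Type*} [Group H] [Finite H] {p : ℕ} [Fact p.Prime] (T : Sylow p H) (hmin : Cfsg.IsMinimalOver (T : Subgroup H)) (N : Subgroup H) [N.Normal] : IsPGroup p (H ⧸ N) ∨ Cfsg.IsMinimalOver ((T : Subgroup H).map (QuotientGroup.mk' N)) := by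
  obtain ⟨M, h⟩ := minOver_top_iff.1 hmin
  have hs := QuotientGroup.mk'_surjective N
  by_cases hN : N ≤ M
  · refine Or.inr (minOver_top_iff.2 ⟨M.map (QuotientGroup.mk' N), ⟨map_mono h.le,
      (H1.isCoatom_map_mk' hN h.isCoatom).lt_top, fun X h1 h2 => ?_⟩, ?_⟩)
    · rw [← map_comap_eq_self_of_surjective hs X]
      refine map_mono (h.max _ (map_le_iff_le_comap.1 h1) (lt_top_iff_ne_top.2 fun h0 => h2.ne ?_))
      rw [← map_comap_eq_self_of_surjective hs X, h0, map_top_of_surjective _ hs]
    · rw [← map_top_of_surjective _ hs, ← H2.map_ncl, h.ncl_eq]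
  · left
    have h1 := congrArg (Subgroup.map (QuotientGroup.mk' N)) (h.sup_eq_of_not_le le_top hN)
    rw [Subgroup.map_sup, (Subgroup.map_eq_bot_iff _).2 (by rw [QuotientGroup.ker_mk']), bot_sup_eq,
      map_top_of_surjective _ hs] at h1
    have h2 := T.isPGroup'.map (QuotientGroup.mk' N)
    rw [h1] at h2
    exact h2.of_equiv topEquiv

end Cfsg.Agent.S2832
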