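import Cfsg.Statements.S2833
import Cfsg.Agent.H8.Frat

set_option autoImplicit false
open Cfsg

namespace Cfsg.Agent.S2833

open Cfsg.Agent.H8

open Subgroup

/-- Let V be a subgroup of a finite group G normalized by the subgroup L, let X ≤ L and g ∈ L with [V, X, X] = 1 and L generated by X and gXg⁻¹. Put W = [V, L]. Then W = [V, X]·[V, gXg⁻¹], C_W(X) = [V, X], and C_W(L) = [V, X] ∩ [V, gXg⁻¹]. -/
theorem result {G : Type*} [Group G] [Finite G] (V L : Subgroup G) (hLV : L ≤ Subgroup.normalizer (V : Set G)) (X : Subgroup G) (hX : X ≤ L) (g : G) (hg : g ∈ L) (hq : ⁅⁅V, X⁆, X⁆ = ⊥) (hgen : X ⊔ X.map (MulAut.conj g).toMonoidHom = L) (W : Subgroup G) (hW : W = ⁅V, L⁆) : ⁅V, X⁆ ⊔ ⁅V, X.map (MulAut.conj g).toMonoidHom⁆ = W ∧ W ⊓ Subgroup.centralizer (X : Set G) = ⁅V, X⁆ ∧ W ⊓ Subgroup.centralizer (L : Set G) = ⁅V, X⁆ ⊓ ⁅V, X.map (MulAut.conj g).toMonoidHom⁆ := by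
  change ⁅V, X⁆ ⊔ ⁅V, cj X g⁆ = W ∧ _ ∧ _ = ⁅V, X⁆ ⊓ ⁅V, cj X g⁆
  change X ⊔ cj X g = L at hgen
  have hX' : cj X g ≤ L := cj_le_of_mem' hX hg
  have e : ⁅V, cj X g⁆ = cj ⁅V, X⁆ g := by rw [cj_commutator, cj_eq_of_mem_normalizer (hLV hg)]
  have a1 : ⁅V, X⁆ ≤ V := commutator_le_left_of_norm (hX.trans hLV)
  have a2 : ⁅V, cj X g⁆ ≤ V := commutator_le_left_of_norm (hX'.trans hLV)
  have b1 : ⁅V, X⁆ ≤ centralizer (X : Set G) := commutator_eq_bot_iff_le_centralizer.1 hq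
  have b2 : ⁅V, cj X g⁆ ≤ centralizer (cj X g : Set G) := by
    rw [e, ← cj_centralizer]; exact cj_mono b1 g
  have hn : ∀ Y, Y ≤ L → ⁅V, Y⁆ ≤ ⁅V, X⁆ ⊔ ⁅V, cj X g⁆ →
      Y ≤ normalizer ((⁅V, X⁆ ⊔ ⁅V, cj X g⁆ : Subgroup G) : Set G) := fun Y hY h =>
    le_normalizer_iff_commutator_le_left.2 ((commutator_mono (sup_le a1 a2) le_rfl).trans h)
  have h1 : ⁅V, X⁆ ⊔ ⁅V, cj X g⁆ = W := by
    rw [hW]
    refine le_antisymm (sup_le (commutator_mono le_rfl hX) (commutator_mono le_rfl hX')) ?_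
    rw [← hgen]
    exact H1.commutator_sup_right_le le_sup_left le_sup_right (hn _ hX le_sup_left)
      (hn _ hX' le_sup_right)
  have hn2 : ⁅V, cj X g⁆ ≤ normalizer ((⁅V, X⁆ : Subgroup G) : Set G) :=
    a2.trans (normalizer_commutator_ge_left _ _)
  have hn1 : ⁅V, X⁆ ≤ normalizer ((⁅V, cj X g⁆ : Subgroup G) : Set G) :=
    a1.trans (normalizer_commutator_ge_left _ _)
  have hWn : L ≤ normalizer (W : Set G) := hW ▸ le_normalizer_commutator hLV le_normalizer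
  have c1 : W ⊓ centralizer (X : Set G) = (⁅V, cj X g⁆ ⊓ centralizer (L : Set G)) ⊔ ⁅V, X⁆ := by
    rw [← h1, sup_comm, sup_inf_of_norm' hn2 b1, ← hgen, centralizer_sup_eq, inf_comm (centralizer _),
      ← inf_assoc, inf_of_le_left b2]
  have c2 : ⁅V, cj X g⁆ ⊓ centralizer (L : Set G) ≤ ⁅V, X⁆ := by
    intro x hx
    rw [e, mem_inf, mem_cj] at hx
    have := mem_centralizer_iff_conj.1 hx.2 g⁻¹ (inv_mem hg)
    rw [inv_inv] at this
    rw [← this]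
    exact hx.1
  have h2 : W ⊓ centralizer (X : Set G) = ⁅V, X⁆ := by rw [c1, sup_of_le_right c2]
  refine ⟨h1, h2, ?_⟩
  have h3 := congrArg (fun Y => cj Y g) h2
  simp only [cj_inf, cj_centralizer, cj_eq_of_mem_normalizer (hWn hg), ← e] at h3
  rw [← h2, ← h3, ← hgen, centralizer_sup_eq, inf_inf_distrib_left]

end Cfsg.Agent.S2833
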