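import Cfsg.Statements.S2836
import Cfsg.Agent.H8.Frat

set_option autoImplicit false
open Cfsg

namespace Cfsg.Agent.S2836

open Cfsg.Agent.H8

open Subgroup

/-- Let L be a finite group, L₀ a maximal subgroup, T a Sylow p-subgroup of L₀, Y ≤ T, and suppose L is Y-minimal. Let D be the intersection of the conjugates of L₀ (the core of L₀). Then D contains O_p(L) and D/O_p(L) is the Frattini subgroup of L/O_p(L), so D is p-closed; and every normal subgroup N of L contained in L₀ is p-closed with N/O_p(N) a nilpotent group of order prime to p. -/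
theorem result {L : Type*} [Group L] [Finite L] {p : ℕ} [Fact p.Prime] (L₀ : Subgroup L) (hL₀ : IsCoatom L₀) (T : Sylow p ↥L₀) (Y : Subgroup L) (hYT : Y ≤ (T : Subgroup ↥L₀).map L₀.subtype) (hmin : Cfsg.IsMinimalOver Y) : (Cfsg.pCore p L ≤ L₀.normalCore ∧ (L₀.normalCore).map (QuotientGroup.mk' (Cfsg.pCore p L)) = frattini (L ⧸ Cfsg.pCore p L) ∧ Cfsg.IsPClosed p ↥(L₀.normalCore)) ∧ ∀ (N : Subgroup L) [N.Normal], N ≤ L₀ → Cfsg.IsPClosed p ↥N ∧ Group.IsNilpotent (↥N ⧸ Cfsg.pCore p ↥N) ∧ (Nat.card (↥N ⧸ Cfsg.pCore p ↥N)).Coprime p := by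
  have hT := H2.sylIn_map_subtype T
  have h := minOv_of_coatom hmin hL₀ (hYT.trans hT.le)
  have hY := hT.pgrp.to_le hYT
  have hTL := h.sylIn hT hYT
  have hO : pCore p L ≤ L₀.normalCore := normal_le_normalCore.2 ((Op_top p).ge.trans (h.Op_le hY))
  have hs := QuotientGroup.mk'_surjective (pCore p L)
  have hcl : ∀ (N : Subgroup L) [N.Normal], N ≤ L₀ → PCl p N := fun N _ hN =>
    h.pcl_of_le hY hN (normal_iff_top_le.1 ‹_›)
  have hcop : ∀ (N : Subgroup L) [N.Normal], N ≤ L₀ →
      (Nat.card (N.map (QuotientGroup.mk' (pCore p L)))).Coprime p := by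
    intro N _ hN
    have h1 := (hcl N hN).sylIn.map (QuotientGroup.mk' (pCore p L))
    rw [(Subgroup.map_eq_bot_iff _).2 (by
      rw [QuotientGroup.ker_mk', ← Op_top]; exact Op_le_Op_of_sn p (SN.of_normal N))] at h1
    exact coprime_iff_not_dvd.2 (h1.eq_bot_iff.1 rfl)
  have hF : (L₀.normalCore).map (QuotientGroup.mk' (pCore p L)) = frattini (L ⧸ pCore p L) := by
    refine le_antisymm (H1.le_frattini_of_forall_sup fun K hK => ?_) ?_
    · by_contra hne
      have h1 : (K.index).Coprime p := by
        rw [← relIndex_top_right, ← hK]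
        have := (normalCore_normal L₀).map _ hs
        exact Nat.Coprime.coprime_dvd_left (relIndex_sup_dvd_card'
          (le_top.trans (normal_iff_top_le.1 this))) (hcop _ (normalCore_le L₀))
      obtain ⟨S, hS⟩ := H2.exists_sylIn p (K.comap (QuotientGroup.mk' (pCore p L)))
      have h2 := hS.trans_of_not_dvd le_top (by
        rw [relIndex_top_right, index_comap_of_surjective _ hs]; exact coprime_iff_not_dvd.1 h1)
      obtain ⟨g, -, hg⟩ := h2.exists_cj_eq hTL
      have h3 : cj (K.comap (QuotientGroup.mk' (pCore p L))) g ≤ L₀ := by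
        refine h.le_of_ne (hYT.trans (hg.ge.trans (cj_mono hS.le g))) le_top fun h0 => hne ?_
        rw [cj_eq_iff, cj_top] at h0
        rw [← map_comap_eq_self_of_surjective hs K, h0, map_top_of_surjective _ hs]
      have h4 : K.comap (QuotientGroup.mk' (pCore p L)) ⊔ L₀.normalCore = ⊤ := by
        have := congrArg (comap (QuotientGroup.mk' (pCore p L))) hK
        rwa [← comap_sup_eq _ _ _ hs, comap_map_eq, QuotientGroup.ker_mk', sup_of_le_left hO,
          comap_top] at this
      have h5 := congrArg (fun X => cj X g) h4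
      simp only [cj_sup, cj_top, cj_eq_of_normal] at h5
      exact h.not_le (h5.ge.trans (sup_le h3 (normalCore_le L₀)))
    · rw [← map_comap_eq_self_of_surjective hs (frattini _)]
      refine map_mono (normal_le_normalCore.2 ?_)
      have := comap_mono (f := QuotientGroup.mk' (pCore p L))
        (frattini_le_coatom (H1.isCoatom_map_mk' (hO.trans (normalCore_le L₀)) hL₀))
      rwa [comap_map_eq, QuotientGroup.ker_mk', sup_of_le_left (hO.trans (normalCore_le L₀))] at this
  refine ⟨⟨hO, hF, pcl_iff.2 (hcl _ (normalCore_le L₀))⟩, fun N _ hN => ⟨pcl_iff.2 (hcl N hN), ?_⟩⟩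
  have hk : pCore p N = ((QuotientGroup.mk' (pCore p L)).subgroupMap N).ker := by
    rw [← subgroupOf_map_subtype_self (pCore p N)]
    change (Op p N).subgroupOf N = _
    rw [Op_eq_inf_of_sn p (SN.of_normal N), Op_top]
    ext x
    rw [MonoidHom.mem_ker, mem_subgroupOf, Subtype.ext_iff, mem_inf, and_iff_left x.2,
      ← QuotientGroup.eq_one_iff]
    rfl
  have e := (QuotientGroup.quotientMulEquivOfEq hk).trans
    (QuotientGroup.quotientKerEquivOfSurjective _ (MonoidHom.subgroupMap_surjective _ _))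
  refine ⟨?_, by rw [Nat.card_congr e.toEquiv]; exact hcop N hN⟩
  have h1 : Group.IsNilpotent (N.map (QuotientGroup.mk' (pCore p L))) :=
    nilpotent_of_le ((map_mono (normal_le_normalCore.2 hN)).trans hF.le) frattini_nilpotent
  exact nilpotent_of_mulEquiv e.symm

end Cfsg.Agent.S2836
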