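import Cfsg.Statements.S2837
import Cfsg.Agent.H8.Frat

set_option autoImplicit false
open Cfsg

namespace Cfsg.Agent.S2837

open Cfsg.Agent.H8

open Subgroup

/-- Let L be a finite group of characteristic p, L₀ a maximal subgroup, Y an elementary abelian p-subgroup of L₀ with L Y-minimal and O_p(L) ≤ N_L(Y). Put A = the normal closure of O_p(L) ∩ Y in L. Then for every g ∈ L outside L₀: Φ(A) = A' = [A ∩ Y, A] = [A ∩ Y, A ∩ gYg⁻¹] ≤ C_Y(L), and Y ∩ gYg⁻¹ = (A ∩ Y) ∩ (A ∩ gYg⁻¹) = C_Y(L) = C_A(L). -/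
theorem result {L : Type*} [Group L] [Finite L] {p : ℕ} [Fact p.Prime] (hchar : Subgroup.centralizer (Cfsg.pCore p L : Set L) ≤ Cfsg.pCore p L) (L₀ : Subgroup L) (hL₀ : IsCoatom L₀) (Y : Subgroup L) (hYL₀ : Y ≤ L₀) (hYel : Cfsg.IsElementaryAbelian p Y) (hmin : Cfsg.IsMinimalOver Y) (hOY : Cfsg.pCore p L ≤ Subgroup.normalizer (Y : Set L)) (A : Subgroup L) (hA : A = Subgroup.normalClosure (((Cfsg.pCore p L ⊓ Y : Subgroup L)) : Set L)) (g : L) (hg : g ∉ L₀) : (frattini ↥A).map A.subtype = ⁅A, A⁆ ∧ ⁅A, A⁆ = ⁅A ⊓ Y, A⁆ ∧ ⁅A ⊓ Y, A⁆ = ⁅A ⊓ Y, A ⊓ Y.map (MulAut.conj g).toMonoidHom⁆ ∧ ⁅A ⊓ Y, A⁆ ≤ Y ⊓ Subgroup.center L ∧ Y ⊓ Y.map (MulAut.conj g).toMonoidHom = Y ⊓ Subgroup.center L ∧ (A ⊓ Y) ⊓ (A ⊓ Y.map (MulAut.conj g).toMonoidHom) = Y ⊓ Subgroup.center L ∧ A ⊓ Subgroup.center L = Y ⊓ Subgroup.center L := by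
  have h := minOv_of_coatom hmin hL₀ hYL₀
  rw [← Op_top] at hchar hOY hA
  rw [← centralizer_univ, ← coe_top]
  set Q := Op p (⊤ : Subgroup L) with hQ
  have hQn : ∀ X : Subgroup L, X ≤ normalizer (Q : Set L) := fun X => le_top.trans (le_normalizer_Op p ⊤)
  have hQg : cj Q g = Q := cj_eq_of_mem_normalizer (hQn ⊤ (mem_top g))
  change _ ∧ _ ∧ _ = ⁅A ⊓ Y, A ⊓ cj Y g⁆ ∧ _ ∧ Y ⊓ cj Y g = _ ∧ (A ⊓ Y) ⊓ (A ⊓ cj Y g) = _ ∧ _
  set Y' := cj Y g with hY'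
  have hgen : Y ⊔ Y' = ⊤ := h.sup_cj_eq (mem_top g) hg
  have hZ : Y ⊓ Y' = Y ⊓ centralizer ((⊤ : Subgroup L) : Set L) := h.inf_cj_eq hYel.1 (mem_top g) hg
  have hOY' : Q ≤ normalizer (Y' : Set L) := by rw [hY', ← cj_normalizer, ← hQg]; exact cj_mono hOY g
  have hel' : IsElementaryAbelian p Y' := ((red_of_central le_rfl hYel
    (H2.isMulCommutative_iff_le.1 hYel.1)).cj g).elem
  have c1 : ⁅Q, Y⁆ ≤ Q ⊓ Y := commutator_le_inf_of_norm (hQn Y) hOY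
  have c2 : ⁅Q, Y'⁆ ≤ Q ⊓ Y' := commutator_le_inf_of_norm (hQn Y') hOY'
  have hB : A = (Q ⊓ Y) ⊔ (Q ⊓ Y') := by
    rw [hA, ← ncl_top]
    refine le_antisymm (ncl_le le_sup_left ?_) (sup_le (le_ncl _ _) ?_)
    · rw [← hgen]
      exact sup_le (le_normalizer_iff_commutator_le_left.2
        ((commutator_mono (sup_le inf_le_left inf_le_left) le_rfl).trans (c1.trans le_sup_left)))
        (le_normalizer_iff_commutator_le_left.2
        ((commutator_mono (sup_le inf_le_left inf_le_left) le_rfl).trans (c2.trans le_sup_right)))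
    · have := cj_le_ncl (Q ⊓ Y) (mem_top g)
      rwa [cj_inf, hQg] at this
  have hAQ : A ≤ Q := hB.le.trans (sup_le inf_le_left inf_le_left)
  have e1 : A ⊓ Y = Q ⊓ Y :=
    le_antisymm (inf_le_inf_right _ hAQ) (le_inf (le_sup_left.trans hB.ge) inf_le_right)
  have e2 : A ⊓ Y' = Q ⊓ Y' :=
    le_antisymm (inf_le_inf_right _ hAQ) (le_inf (le_sup_right.trans hB.ge) inf_le_right)
  rw [e1, e2]
  have d1 : ⁅Q ⊓ Y, Q ⊓ Y'⁆ ≤ Y ⊓ centralizer ((⊤ : Subgroup L) : Set L) := by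
    rw [← hZ]
    refine le_inf ?_ ((commutator_mono inf_le_left inf_le_right).trans (c2.trans inf_le_right))
    rw [commutator_comm]
    exact (commutator_mono inf_le_left inf_le_right).trans (c1.trans inf_le_right)
  have dn : ∀ X : Subgroup L, X ≤ normalizer ((⁅Q ⊓ Y, Q ⊓ Y'⁆ : Subgroup L) : Set L) := fun X =>
    le_normalizer_of_le_centralizer (le_top.trans (le_centralizer_iff.1 (d1.trans inf_le_right)))
  have el1 := elem_of_le hYel (inf_le_right : Q ⊓ Y ≤ Y)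
  have el2 := elem_of_le hel' (inf_le_right : Q ⊓ Y' ≤ Y')
  have d2 : ⁅A, A⁆ ≤ ⁅Q ⊓ Y, Q ⊓ Y'⁆ := hB ▸ commutator_sup_sup_le el1.1 el2.1 le_rfl (dn _)
  have d3 : ⁅Q ⊓ Y, Q ⊓ Y'⁆ ≤ ⁅Q ⊓ Y, A⁆ := commutator_mono le_rfl (le_sup_right.trans hB.ge)
  have d4 : ⁅Q ⊓ Y, A⁆ ≤ ⁅A, A⁆ := commutator_mono (le_sup_left.trans hB.ge) le_rfl
  have hZQ : centralizer ((⊤ : Subgroup L) : Set L) ≤ Q := (centralizer_anti le_top).trans hchar
  refine ⟨le_antisymm (H1.map_frattini_le_of_elementary (p := p) Fact.out le_rfl fun x hx => ?_)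
    (H1.commutator_le_map_frattini ((Op_isPGroup p ⊤).to_le hAQ)), le_antisymm (d2.trans d3) d4,
    le_antisymm (d4.trans d2) d3, (d4.trans d2).trans d1, hZ, ?_, le_antisymm ?_ ?_⟩
  · exact (d3.trans d4) (pow_mem_of_sup el1 el2 le_rfl (dn _) (hB ▸ hx))
  · rw [← inf_inf_distrib_left, hZ, inf_of_le_right (inf_le_right.trans hZQ)]
  · refine le_inf (fun z hz => ?_) inf_le_right
    have hz1 := hz.1
    rw [hB] at hz1
    obtain ⟨a, ha, b, hb, rfl⟩ := mem_sup_of_norm_right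
      (inf_le_left.trans (le_normalizer_inf le_normalizer hOY')) hz1
    refine mul_mem ha.2 ?_
    have hb1 : b ∈ centralizer ((⊤ : Subgroup L) : Set L) := by
      rw [← hgen, centralizer_sup_eq]
      refine mem_inf.2 ⟨?_, H2.isMulCommutative_iff_le.1 hel'.1 hb.2⟩
      simpa using mul_mem (inv_mem (H2.isMulCommutative_iff_le.1 hYel.1 ha.2))
        (centralizer_anti (le_top : Y ≤ ⊤) hz.2)
    have hb2 := mem_cj.1 hb.2
    have := mem_centralizer_iff_conj.1 hb1 g⁻¹ (mem_top _)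
    rw [inv_inv] at this
    rwa [this] at hb2
  · exact le_inf ((le_inf (inf_le_right.trans hZQ) inf_le_left).trans (le_sup_left.trans hB.ge))
      inf_le_right

end Cfsg.Agent.S2837
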