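import Cfsg.Statements.S2841
import Cfsg.Agent.H8.Weak

set_option autoImplicit false
open Cfsg

namespace Cfsg.Agent.S2841

open Cfsg.Agent.H8

open Subgroup

/-- Let Q be a nontrivial p-subgroup of the finite group H that is a weakly closed subgroup and N a normal subgroup of H. Then N = N_N(Q)·[N, Q] and [N, Q] = (Q ∩ [N, Q])·[N, Q, Q]. -/
theorem result {H : Type*} [Group H] [Finite H] {p : ℕ} [Fact p.Prime] (Q : Subgroup H) (hQp : IsPGroup p ↥Q) (hQ1 : Q ≠ ⊥) (hwc : Cfsg.IsWeaklyClosedSubgroup p Q) (N' : Subgroup H) [N'.Normal] : (∀ n : H, n ∈ N' → ∃ a ∈ N' ⊓ Subgroup.normalizer ((Q : Subgroup H) : Set H), ∃ b ∈ ⁅N', Q⁆, n = a * b) ∧ (∀ c : H, c ∈ ⁅N', Q⁆ → ∃ a ∈ Q ⊓ ⁅N', Q⁆, ∃ b ∈ ⁅⁅N', Q⁆, Q⁆, c = a * b) := by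
  have h := (wc_top_iff hQp).1 hwc
  have hn : Q ≤ normalizer (N' : Set H) := le_top.trans (normal_iff_top_le.1 inferInstance)
  refine ⟨fun n h1 => ?_, fun c hc => ?_⟩
  · refine mem_sup_of_norm_right (inf_le_left.trans (normalizer_commutator_ge_left N' Q)) ?_
    rwa [h.inf_normalizer_sup_commutator le_top hn]
  · obtain ⟨a, ha, b, hb, rfl⟩ := mem_sup_of_norm_right (normalizer_commutator_ge_right ⁅N', Q⁆ Q)
      (h.commutator_le_sup le_top hn hc)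
    have h1 : b ∈ ⁅N', Q⁆ := commutator_le_left_of_norm (normalizer_commutator_ge_right N' Q) hb
    exact ⟨a, ⟨ha, by simpa using Subgroup.mul_mem _ hc (Subgroup.inv_mem _ h1)⟩, b, hb, rfl⟩

end Cfsg.Agent.S2841
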