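import Cfsg.Statements.S2842
import Cfsg.Agent.H8.Weak

set_option autoImplicit false
open Cfsg

namespace Cfsg.Agent.S2842

open Cfsg.Agent.H8

open Subgroup

/-- Let Q be a nontrivial p-subgroup of the finite group H that is a weakly closed subgroup with C_H(Q) ≤ Q, and Q ≤ L ≤ H. Suppose H has characteristic p, or more generally that C_H(y) has characteristic p for some nonidentity y ∈ C_{O_p(L)}(Q). Then [Q, C_H(O_p(L))] ≤ Q ∩ O_p(L), C_H(O_p(L)) is a p-group, and L has characteristic p. -/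
theorem result {H : Type*} [Group H] [Finite H] {p : ℕ} [Fact p.Prime] (Q : Subgroup H) (hQp : IsPGroup p ↥Q) (hQ1 : Q ≠ ⊥) (hwc : Cfsg.IsWeaklyClosedSubgroup p Q) (hCQ : Subgroup.centralizer ((Q : Subgroup H) : Set H) ≤ Q) (L : Subgroup H) (hQL : Q ≤ L) (hyp : Subgroup.centralizer (Cfsg.pCore p H : Set H) ≤ Cfsg.pCore p H ∨ ∃ y : H, y ≠ 1 ∧ y ∈ (Cfsg.pCoreOf p L) ⊓ Subgroup.centralizer ((Q : Subgroup H) : Set H) ∧ Subgroup.centralizer (Cfsg.pCore p ↥(Subgroup.centralizer ({y} : Set H)) : Set ↥(Subgroup.centralizer ({y} : Set H))) ≤ Cfsg.pCore p ↥(Subgroup.centralizer ({y} : Set H))) : ⁅Q, Subgroup.centralizer (((Cfsg.pCoreOf p L) : Subgroup H) : Set H)⁆ ≤ Q ⊓ (Cfsg.pCoreOf p L) ∧ IsPGroup p ↥(Subgroup.centralizer (((Cfsg.pCoreOf p L) : Subgroup H) : Set H)) ∧ Subgroup.centralizer (Cfsg.pCore p ↥L : Set ↥L) ≤ Cfsg.pCore p ↥L := by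
  have h := (wc_top_iff hQp).1 hwc
  have key : ⁅Q, ⊤ ⊓ centralizer (Op p L : Set H)⁆ ≤ Q ⊓ Op p L ∧
      IsPGroup p ↥(⊤ ⊓ centralizer (Op p L : Set H)) ∧ Fs L = Op p L := by
    rcases hyp with h1 | ⟨y, -, ⟨h2, h3⟩, h4⟩
    · exact h.core_of_char (inf_le_right.trans hCQ) hQL le_top (char_top_iff_Fs.1 h1)
    · exact h.core_of_local (inf_le_right.trans hCQ) hQL le_top ((char_iff_Fs _).1 h4) le_top
        (le_centralizer_singleton_iff.2 h3)
        (inf_le_right.trans (centralizer_le (Set.singleton_subset_iff.2 h2)))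
  rw [top_inf_eq] at key
  exact ⟨key.1, key.2.1, (char_iff_Fs _).2 key.2.2⟩

end Cfsg.Agent.S2842
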