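import Cfsg.Statements.S2844
import Cfsg.Agent.H8.Weak

set_option autoImplicit false
open Cfsg

namespace Cfsg.Agent.S2844

open Cfsg.Agent.H8

open Subgroup

/-- Let Q be a nontrivial large p-subgroup of the finite group H and Q• = O_p(N_H(Q)). Then for every g ∈ H outside N_H(Q): C_H(Q) ∩ C_H(gQg⁻¹) = 1, C_H(Q•) ∩ C_H(gQ•g⁻¹) = 1, Z(Q) ∩ Z(gQg⁻¹) = 1 and Z(Q•) ∩ Z(gQ•g⁻¹) = 1; moreover N_H(Q) = N_H(Q•) and Q• is large in H. -/
theorem result {H : Type*} [Group H] [Finite H] {p : ℕ} [Fact p.Prime] (Q : Subgroup H) (hQp : IsPGroup p ↥Q) (hQ1 : Q ≠ ⊥) (hL : Cfsg.IsLarge Q) (Qb : Subgroup H) (hQb : Qb = Cfsg.largeBullet p Q) : (∀ g : H, g ∉ Subgroup.normalizer ((Q : Subgroup H) : Set H) → Subgroup.centralizer ((Q : Subgroup H) : Set H) ⊓ Subgroup.centralizer ((((Q : Subgroup H).map (MulAut.conj (g : H)).toMonoidHom) : Subgroup H) : Set H) = ⊥ ∧ Subgroup.centralizer ((Qb : Subgroup H) : Set H) ⊓ Subgroup.centralizer ((((Qb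 : Subgroup H).map (MulAut.conj (g : H)).toMonoidHom) : Subgroup H) : Set H) = ⊥ ∧ (Q ⊓ Subgroup.centralizer ((Q : Subgroup H) : Set H)) ⊓ (((Q : Subgroup H).map (MulAut.conj (g : H)).toMonoidHom) ⊓ Subgroup.centralizer ((((Q : Subgroup H).map (MulAut.conj (g : H)).toMonoidHom) : Subgroup H) : Set H)) = ⊥ ∧ (Qb ⊓ Subgroup.centralizer ((Qb : Subgroup H) : Set H)) ⊓ (((Qb : Subgroup H).map (MulAut.conj (g : H)).toMonoidHom) ⊓ Subgroup.centralizer ((((Qb : Subgroup H).map (MulAut.conj (g : H)).toMonoidHom) : Subgroup H) : Set H)) = ⊥) ∧ Subgroup.normalizer ((Q : Subgroup H) : Set H) = Subgroup.normalizer ((Qb : Subgroup H) : Set H) ∧ Cfsg.IsLarge Qb := by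
  have h := large_wc hL hQp hQ1
  change Qb = Op p _ at hQb
  have h1 : Q ≤ Qb := hQb ▸ le_Op le_normalizer le_rfl hQp
  have h2 : normalizer (Q : Set H) = normalizer (Qb : Set H) := by
    refine le_antisymm (hQb ▸ le_normalizer_Op p _) ?_
    exact (le_inf le_top le_rfl).trans (h.normalizer_le (hQb ▸ Op_isPGroup p _) h1)
  refine ⟨fun g hg => ?_, h2, (centralizer_anti h1).trans (hL.1.trans h1), fun U h3 h4 =>
    h2 ▸ hL.2 U (h3.trans (centralizer_anti h1)) h4⟩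
  have h3 : centralizer (Q : Set H) ⊓ centralizer (cj Q g : Set H) = ⊥ := by
    by_contra h0
    refine hg (mem_normalizer_iff_cj.2 (h.eq g (mem_top g) (isPGroup_sup ?_ hQp (IsPGroup.cj hQp g))))
    exact (le_normalizer_of_le_centralizer (le_centralizer_iff.1 inf_le_left)).trans
      ((large_cj hL g).2 _ inf_le_right h0)
  have h4 : centralizer (Qb : Set H) ⊓ centralizer (cj Qb g : Set H) = ⊥ :=
    eq_bot_mono (inf_le_inf (centralizer_anti h1) (centralizer_anti (cj_mono h1 g))) h3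
  exact ⟨h3, h4, eq_bot_mono (inf_le_inf inf_le_right inf_le_right) h3,
    eq_bot_mono (inf_le_inf inf_le_right inf_le_right) h4⟩

end Cfsg.Agent.S2844
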