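import Cfsg.Statements.S2845
import Cfsg.Agent.H8.Weak

set_option autoImplicit false
open Cfsg

namespace Cfsg.Agent.S2845

open Cfsg.Agent.H8

open Subgroup

/-- Let Q be a nontrivial large p-subgroup of the finite group H. Then for every subgroup L ≥ Q with O_p(L) ≠ 1, C_H(O_p(L)) is a p-group and L has characteristic p, and either the weak closure L° of Q in L equals Q or C_H(L°) = 1; for every subgroup R of H containing a Sylow p-subgroup of H with O_p(R) ≠ 1, C_H(O_p(R)) ≤ O_p(R); and H has parabolic characteristic p. -/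
theorem result {H : Type*} [Group H] [Finite H] {p : ℕ} [Fact p.Prime] (Q : Subgroup H) (hQp : IsPGroup p ↥Q) (hQ1 : Q ≠ ⊥) (hL : Cfsg.IsLarge Q) : (∀ L : Subgroup H, Q ≤ L → Cfsg.pCore p ↥L ≠ ⊥ → IsPGroup p ↥(Subgroup.centralizer (((Cfsg.pCoreOf p L) : Subgroup H) : Set H)) ∧ Subgroup.centralizer (Cfsg.pCore p ↥L : Set ↥L) ≤ Cfsg.pCore p ↥L ∧ (Cfsg.weakClosure Q L = Q ∨ Subgroup.centralizer (((Cfsg.weakClosure Q L) : Subgroup H) : Set H) = ⊥)) ∧ (∀ R : Subgroup H, Cfsg.IsParabolic p R → Cfsg.pCore p ↥R ≠ ⊥ → Subgroup.centralizer (((Cfsg.pCoreOf p R) : Subgroup H) : Set H) ≤ (Cfsg.pCoreOf p R)) ∧ Cfsg.IsOfParabolicCharacteristic p H := by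
  have h := large_wc hL hQp hQ1
  refine ⟨fun L h1 h2 => ?_, fun R h1 h2 => ?_, parChar_iff.2 (large_parChar hL hQp)⟩
  · have h3 := large_isPGroup_centralizer hL hQp h1 (fun h0 => h2 (pCore_eq_bot_iff_Op.2 h0))
    refine ⟨h3.1, (char_iff_Fs _).2 h3.2, ?_⟩
    rw [h.weakClosure_eq h1, or_iff_not_imp_right]
    intro h0
    exact ncl_eq_of_norm ((le_normalizer_centralizer (le_normalizer_ncl Q L)).trans
      (hL.2 _ (centralizer_anti (le_ncl _ _)) h0))
  · obtain ⟨S, hS, h3⟩ := parabolic_iff.1 h1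
    exact large_parChar hL hQp S R hS h3 (fun h0 => h2 (pCore_eq_bot_iff_Op.2 h0))

end Cfsg.Agent.S2845
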