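import Cfsg.Statements.S2847
import Cfsg.Agent.H8.Weak

set_option autoImplicit false
open Cfsg

namespace Cfsg.Agent.S2847

open Cfsg.Agent.H8

open Subgroup
open Cfsg.Agent.H2 (SylIn resOf Phi)

theorem main {H : Type*} [Group H] [Finite H] {p : ℕ} [Fact p.Prime] (hH : ParChar p H)
    {T L : Subgroup H} (hT : SylIn p T ⊤) (hTL : T ≤ L) (hL : Op p L ≠ ⊥) :
    ∃ M Ls : Subgroup H, T ≤ M ∧ IsInFrakM p M ∧ T ≤ Ls ∧ Ls ≤ M ∧ Op p Ls ≠ ⊥ ∧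
      Yr p L = Yr p Ls ∧ Yr p L ≤ Yr p M ∧
      L ⊔ centralizer (Yr p L : Set H) = Ls ⊔ centralizer (Yr p L : Set H) := by
  let F : Subgroup H → Prop := fun X => Op p X ≠ ⊥ ∧ ∃ L₁, T ≤ L₁ ∧ L₁ ≤ X ∧ Yr p L₁ = Yr p L ∧
    L₁ ⊔ centralizer (Yr p L : Set H) = L ⊔ centralizer (Yr p L : Set H)
  have hFT : ∀ X, F X → T ≤ X := fun X ⟨_, _, h1, h2, _⟩ => h1.trans h2
  have mono : ∀ X X', T ≤ X → X ≤ X' → Op p X' ≠ ⊥ → Yr p X ≤ Yr p X' := fun X X' h1 h2 h3 =>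
    Yr_mono (hH.char hT (h1.trans h2) h3) (hT.mono (h1.trans h2) le_top) h1 h2
  obtain ⟨Y, -, ⟨X₀, hX₀, rfl⟩, hmax⟩ := Finite.exists_le_maximal
    (p := fun Y : Subgroup H => ∃ X, F X ∧ Yr p X = Y) (a := Yr p L)
    ⟨L, ⟨hL, L, hTL, le_rfl, rfl, rfl⟩, rfl⟩
  set Y := Yr p X₀ with hY
  have hY1 : Y ≠ ⊥ := Yr_ne_bot' (hH.char hT (hFT _ hX₀) hX₀.1) hX₀.1
  have hYp : IsPGroup p Y := Yr_isPGroup p X₀
  have hOp : ∀ X, Y ≤ X → X ≤ normalizer (Y : Set H) → Op p X ≠ ⊥ := fun X h1 h2 h0 =>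
    hY1 (eq_bot_mono (le_Op h1 h2 hYp) h0)
  have up : ∀ X X', F X → X ≤ X' → Op p X' ≠ ⊥ → F X' := fun X X' ⟨_, L₁, h1, h2, h3⟩ h4 h5 =>
    ⟨h5, L₁, h1, h2.trans h4, h3⟩
  have hmx : ∀ X', F X' → Y ≤ Yr p X' → Yr p X' = Y := fun X' h1 h2 =>
    le_antisymm (hmax ⟨X', h1, rfl⟩ h2) h2
  set X := normalizer (Y : Set H) with hX
  set C := centralizer (Y : Set H) with hC
  have hXO : Op p X ≠ ⊥ := hOp X le_normalizer le_rfl
  have hFX : F X := up X₀ X hX₀ (le_normalizer_Yr p X₀) hXO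
  have hTX : T ≤ X := hFT X hFX
  have hYX : Yr p X = Y := hmx X hFX (mono _ _ (hFT _ hX₀) (le_normalizer_Yr p X₀) hXO)
  have hCX : C ≤ X := le_normalizer_of_le_centralizer le_rfl
  have hXC : X ≤ normalizer (C : Set H) := le_normalizer_centralizer le_rfl
  have hYT : Y ≤ T := hT.normal_le hYp le_top hTX
  obtain ⟨M, ⟨hTM, hMC⟩, hmin⟩ := (wellFounded_lt (α := Subgroup H)).has_min
    {M | T ≤ M ∧ M ⊔ C = X} ⟨X, hTX, sup_eq_left.2 hCX⟩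
  have hMX : M ≤ X := le_sup_left.trans hMC.le
  have hmin' : ∀ K, T ≤ K → K ≤ M → K ⊔ C = X → K = M := fun K h1 h2 h3 => by
    by_contra h0
    exact hmin K ⟨h1, h3⟩ (lt_of_le_of_ne h2 h0)
  have hRX : Red p X Y := hYX ▸ red_Yr p X
  have hRM : Red p M Y := hRX.of_sup_eq (hYT.trans hTM) (hMC.trans (sup_eq_left.2 hCX).symm)
  have hYM : Yr p M = Y := le_antisymm ((mono M X hTM hMX hXO).trans hYX.le) hRM.le_Yr
  have hMO : Op p M ≠ ⊥ := hOp M (hYT.trans hTM) hMX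
  obtain ⟨-, L₁, a1, a2, a3, a4⟩ := hFX
  have b1 : T ≤ (L₁ ⊔ C) ⊓ M := le_inf (a1.trans le_sup_left) hTM
  have b2 : ((L₁ ⊔ C) ⊓ M) ⊔ C = L₁ ⊔ C := by
    rw [inf_comm, ← sup_inf_of_norm' (hMX.trans hXC) le_sup_right, hMC,
      inf_of_le_right (sup_le a2 hCX)]
  have b3 : ∀ V, V ≤ Y → ((L₁ ⊔ C) ⊓ M) ⊔ centralizer (V : Set H) = L₁ ⊔ centralizer (V : Set H) := by
    intro V hV
    rw [← sup_eq_right.2 (centralizer_anti hV), ← sup_assoc, b2, sup_assoc]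
  have b4 : Yr p L ≤ Y := a3.ge.trans ((mono _ _ a1 a2 hXO).trans hYX.le)
  have b5 : Yr p ((L₁ ⊔ C) ⊓ M) ≤ Y := (mono _ _ b1 (inf_le_right.trans hMX) hXO).trans hYX.le
  have b6 : Yr p L = Yr p ((L₁ ⊔ C) ⊓ M) := by
    refine le_antisymm ?_ ?_
    · rw [← a3] at b4 ⊢
      exact ((red_Yr p L₁).of_sup_eq ((b4.trans hYT).trans b1) (b3 _ b4)).le_Yr
    · rw [← a3]
      exact ((red_Yr p _).of_sup_eq ((b5.trans hYT).trans a1) (b3 _ b5).symm).le_Yr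
  have b7 : Op p ((L₁ ⊔ C) ⊓ M) ≠ ⊥ := hOp _ (hYT.trans b1) (inf_le_right.trans hMX)
  have hFM : F M := ⟨hMO, _, b1, inf_le_right, b6.symm, (b3 _ b4).trans a4⟩
  have c1 : ∀ X', M ≤ X' → Op p X' ≠ ⊥ → X' ≤ X := fun X' h1 h2 => by
    have := le_normalizer_Yr p X'
    rwa [hmx X' (up M X' hFM h1 h2) (hYM.ge.trans (mono _ _ hTM h1 h2))] at this
  have hS : SylIn p T M := hT.mono hTM le_top
  have c2 : M ≤ normalizer ((T ⊓ C : Subgroup H) : Set H) := by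
    have := hmin' (M ⊓ normalizer ((T ⊓ C : Subgroup H) : Set H))
      (le_inf hTM (le_normalizer_inf_centralizer' hTX)) inf_le_left
      ((normalizer_sup_centralizer hS hMX).trans hMC)
    exact this.ge.trans inf_le_right
  have c3 : SylIn p (T ⊓ C) (M ⊓ C) := sylIn_inf_centralizer hS hMX
  have c4 : Op p M = T ⊓ C := hRM.red.Op_eq hS hTX c2
  refine ⟨M, _, hTM, ?_, b1, inf_le_right, b7, b6, b4.trans hYM.ge, ((b3 _ b4).trans a4).symm⟩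
  change _ ∧ M ⊔ centralizer (Yr p M : Set H) ∈ _ ∧
    (∀ Z ∈ _, M ≤ Z → Z = M ⊔ centralizer (Yr p M : Set H)) ∧
    Yr p M = Yr p (M ⊔ centralizer (Yr p M : Set H)) ∧
    IsPClosed p ↥(M ⊓ centralizer (Yr p M : Set H)) ∧
    im (QuotientGroup.mk' (pCore p M)) (M ⊓ centralizer (Yr p M : Set H)) ≤ _
  rw [hYM, hMC]
  refine ⟨hH.mem_charP hT hTM hMO, ⟨hH.mem_charP hT hTX hXO, fun Z hZ h1 =>
    le_antisymm (c1 Z (hMX.trans h1) (mem_charP_iff.1 hZ).1) h1⟩, fun Z hZ h1 =>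
    (hZ.2 X (hH.mem_charP hT hTX hXO) (c1 Z h1 (mem_charP_iff.1 hZ.1).1)).symm, hYX.symm,
    pcl_iff.2 (pcl_of_sylIn c3 (inf_le_left.trans c2)), H1.le_frattini_of_forall_sup fun K hK => ?_⟩
  set f := QuotientGroup.mk' (pCore p M) with hf
  have hs : Function.Surjective f := QuotientGroup.mk'_surjective _
  have hk : kr f = Op p M := kr_mk' _
  have d1 : pre f K ⊔ (M ⊓ C) = M := by
    have := congrArg (pre f) hK
    rw [pre_sup f hs, pre_im f inf_le_left, pre_top, hk,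
      sup_eq_left.2 (c4.le.trans (inf_le_inf_right _ hTM))] at this
    exact this
  have d2 : ¬ p ∣ (pre f K).relIndex M := by
    have := relIndex_sup_of_norm' ((pre_le f K).trans (le_normalizer_inf le_normalizer (hMX.trans hXC)))
    rw [d1] at this
    rw [this]
    exact c3.not_dvd_relIndex_of_le (c4.ge.trans (hk.ge.trans (kr_le_pre f K)))
  obtain ⟨S, hS'⟩ := H2.exists_sylIn p (pre f K)
  obtain ⟨m, hm, d3⟩ := (hS'.trans_of_not_dvd (pre_le f K) d2).exists_cj_eq hS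
  have d4 : cj (pre f K) m = M := by
    refine hmin' _ (d3.ge.trans (cj_mono hS'.le m)) (cj_le_of_mem' (pre_le f K) hm) ?_
    have d5 : pre f K ⊔ C = X := by
      rw [← hMC]
      conv_rhs => rw [← d1, sup_assoc, sup_eq_right.2 (inf_le_right : M ⊓ C ≤ C)]
    rw [← cj_eq_of_mem_normalizer (hXC (hMX hm)), ← cj_sup, d5, cj_eq_of_mem (hMX hm)]
  rw [cj_eq_iff, cj_eq_of_mem (M.inv_mem hm)] at d4
  exact pre_injective f hs (d4.trans (pre_top f).symm)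

/-- Let H be a finite group of parabolic characteristic p, T a Sylow p-subgroup and L a subgroup containing T with O_p(L) ≠ 1 and C_H(O_p(L)) ≤ O_p(L). Then there are M ≥ T with the basic property (M ∈ 𝔐_H) and L* with T ≤ L* ≤ M, O_p(L*) ≠ 1, C_H(O_p(L*)) ≤ O_p(L*), such that Y_L = Y_{L*} ≤ Y_M and L·C_H(Y_L) = L*·C_H(Y_L), Y denoting largest p-reduced normal subgroups. -/
theorem result {H : Type*} [Group H] [Finite H] {p : ℕ} [Fact p.Prime] (hH : Cfsg.IsOfParabolicCharacteristic p H) (T : Sylow p H) (L : Subgroup H) (hTL : (T : Subgroup H) ≤ L) (hL : L ∈ Cfsg.charPSubgroups p H) : ∃ M Ls : Subgroup H, (T : Subgroup H) ≤ M ∧ Cfsg.IsInFrakM p M ∧ (T : Subgroup H) ≤ Ls ∧ Ls ≤ M ∧ Ls ∈ Cfsg.charPSubgroups p H ∧ (Cfsg.largestPReducedOf p L) = (Cfsg.largestPReducedOf p Ls) ∧ (Cfsg.largestPReducedOf p L) ≤ (Cfsg.largestPReducedOf p M) ∧ L ⊔ Subgroup.centralizer (((Cfsg.largestPReducedOf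 p L) : Subgroup H) : Set H) = Ls ⊔ Subgroup.centralizer (((Cfsg.largestPReducedOf p L) : Subgroup H) : Set H) := by
  obtain ⟨M, Ls, h1, h2, h3, h4, h5, h6⟩ := main (parChar_iff.1 hH) (H2.sylIn_top T) hTL
    (mem_charP_iff.1 hL).1
  exact ⟨M, Ls, h1, h2, h3, h4, (parChar_iff.1 hH).mem_charP (H2.sylIn_top T) h3 h5, h6⟩

end Cfsg.Agent.S2847
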