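import Cfsg.Statements.S2849
import Cfsg.Agent.H8.Weak

set_option autoImplicit false
open Cfsg

namespace Cfsg.Agent.S2849

open Cfsg.Agent.H8

open Subgroup

/-- Standing hypotheses: G a finite group, S a Sylow p-subgroup, Q a nontrivial large p-subgroup of G contained in S (C_G(Q) ≤ Q and N_G(U) ≤ N_G(Q) for all nontrivial U ≤ C_G(Q)), and M a subgroup containing S with the basic property (M ∈ 𝔐_G(S)); Y_M denotes the largest p-reduced normal subgroup of M and M† = M·C_G(Y_M). Suppose Y_M is asymmetric in G. Then for every subgroup R with Y_M ≤ R ≤ M†, the normal closure of Y_M in N_G(R) is elementary abelian. -/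
theorem result {G : Type*} [Group G] [Finite G] {p : ℕ} [Fact p.Prime] (S : Sylow p G) (Q : Subgroup G) (hQp : IsPGroup p ↥Q) (hQ1 : Q ≠ ⊥) (hQS : Q ≤ (S : Subgroup G)) (hQ : Cfsg.IsLarge Q) (M : Subgroup G) (hSM : (S : Subgroup G) ≤ M) (hM : Cfsg.IsInFrakM p M) (hasym : ¬ Cfsg.IsSymmetricIn (Cfsg.largestPReducedOf p M)) (R : Subgroup G) (hYR : (Cfsg.largestPReducedOf p M) ≤ R) (hRM : R ≤ (M ⊔ Subgroup.centralizer (((Cfsg.largestPReducedOf p M) : Subgroup G) : Set G))) : Cfsg.IsElementaryAbelian p ((Subgroup.normalClosure ((((Cfsg.largestPReducedOf p M)).subgroupOf (Subgroup.normalizer ((R : Subgroup G) : Set G)) : Subgroup ↥(Subgroup.normalizer ((R : Subgroup G) : Set G))) : Set ↥(Subgroup.normalizer ((R : Subgroup G) : Set G)))).map (Subgroup.normalizer ((R : Subgroup G) : Set G)).subtype) := by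
  rw [ncl_subgroupOf (hYR.trans le_normalizer)]
  have h1 : R ≤ normalizer (Yr p M : Set G) := hRM.trans (Dag_le_normalizer p M)
  have h2 : ∀ x ∈ normalizer (R : Set G), R ≤ normalizer (cj (Yr p M) x : Set G) := fun x hx => by
    rw [← cj_normalizer, ← cj_eq_of_mem_normalizer hx]
    exact cj_mono h1 x
  refine elem_ncl (Yr_elem p M) ?_
  rw [← le_centralizer_iff_isMulCommutative]
  refine ncl_le_iff.2 fun x hx => le_centralizer_iff.1 (ncl_le_iff.2 fun y hy => ?_)
  exact commutator_eq_bot_iff_le_centralizer.1 (commutator_eq_bot_of_asym hasym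
    ((cj_le_of_mem hYR hy).trans (h2 x hx)) ((cj_le_of_mem hYR hx).trans (h2 y hy)))

end Cfsg.Agent.S2849
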