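import Cfsg.Statements.S2850
import Cfsg.Agent.H8.Weak

set_option autoImplicit false
open Cfsg

namespace Cfsg.Agent.S2850

open Cfsg.Agent.H8

open Subgroup

/-- Standing hypotheses: G a finite group, S a Sylow p-subgroup, Q a nontrivial large p-subgroup of G contained in S (C_G(Q) ≤ Q and N_G(U) ≤ N_G(Q) for all nontrivial U ≤ C_G(Q)), and M a subgroup containing S with the basic property (M ∈ 𝔐_G(S)); Y_M denotes the largest p-reduced normal subgroup of M and M† = M·C_G(Y_M). Suppose Y_M is asymmetric in G. Then N_G(L) ≤ N_G(O_p(M)) ≤ M† for every p-subgroup L containing O_p(M); O_p(M) is a weakly closed subgroup of G; for every subgroup L containing O_p(M), L ∩ M† contains a Sylow p-subgroup of L; and two elements of Y_M conjugate in G are conjugate in M. -/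
theorem result {G : Type*} [Group G] [Finite G] {p : ℕ} [Fact p.Prime] (S : Sylow p G) (Q : Subgroup G) (hQp : IsPGroup p ↥Q) (hQ1 : Q ≠ ⊥) (hQS : Q ≤ (S : Subgroup G)) (hQ : Cfsg.IsLarge Q) (M : Subgroup G) (hSM : (S : Subgroup G) ≤ M) (hM : Cfsg.IsInFrakM p M) (hasym : ¬ Cfsg.IsSymmetricIn (Cfsg.largestPReducedOf p M)) : (∀ L : Subgroup G, IsPGroup p ↥L → (Cfsg.pCoreOf p M) ≤ L → Subgroup.normalizer ((L : Subgroup G) : Set G) ≤ Subgroup.normalizer (((Cfsg.pCoreOf p M) : Subgroup G) : Set G) ∧ Subgroup.normalizer (((Cfsg.pCoreOf p M) : Subgroup G) : Set G) ≤ (M ⊔ Subgroup.centralizer (((Cfsg.largestPReducedOf p M) : Subgroup G) : Set G))) ∧ Cfsg.IsWeaklyClosedSubgroup p (Cfsg.pCoreOf p M) ∧ (∀ L : Subgroup G, (Cfsg.pCoreOf p M) ≤ L → Cfsg.IsParabolic p ((L ⊓ (M ⊔ Subgroup.centralizer (((Cfsg.largestPReducedOf p M) : Subgroup G) : Set G))).subgroupOf L)) ∧ (∀ x ∈ (Cfsg.largestPReducedOf p M), ∀ g : G, g * x * g⁻¹ ∈ (Cfsg.largestPReducedOf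 p M) → ∃ m ∈ M, m * x * m⁻¹ = g * x * g⁻¹) := by
  have h := fm_of S hQp hQ hSM hM
  have hw := h.wc_Op hasym
  refine ⟨fun L h1 h2 => ⟨(le_inf le_top le_rfl).trans (hw.normalizer_le h1 h2),
    h.normalizer_Op_le_Dag⟩, (wc_top_iff (Op_isPGroup p M)).2 hw, fun L h1 => ?_,
    fun x hx g hg => ?_⟩
  · obtain ⟨T, h2, -, h3⟩ := h.exists_sylIn_le_Dag hasym h1
    exact parabolic_subgroupOf_iff.2 ⟨T, h2, le_inf h2.le h3⟩
  · have h1 : Op p M ≤ centralizer {g * x * g⁻¹} :=
      (Op_le_centralizer_Yr p M).trans (centralizer_le (Set.singleton_subset_iff.2 hg))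
    have h2 : cj (Op p M) g ≤ centralizer {g * x * g⁻¹} := by
      rw [← cj_centralizer_singleton]
      exact cj_mono ((Op_le_centralizer_Yr p M).trans
        (centralizer_le (Set.singleton_subset_iff.2 hx))) g
    obtain ⟨l, hl, h3⟩ := hw.exists_mul h1 le_top (mem_top g) h2
    obtain ⟨m, hm, c, hc, h4⟩ := mem_sup_of_norm_right
      (le_normalizer_centralizer (le_normalizer_Yr p M)) (h.normalizer_Op_le_Dag h3)
    refine ⟨m, hm, ?_⟩
    have h5 : x * c = c * x := hc x hx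
    have h6 : g * x * g⁻¹ * l = l * (g * x * g⁻¹) := hl _ rfl
    have h7 : g = l * (m * c) := by rw [← h4]; group
    calc m * x * m⁻¹ = m * (x * c) * c⁻¹ * m⁻¹ := by group
      _ = l⁻¹ * (g * x * g⁻¹ * l) := by rw [h5, h7]; group
      _ = g * x * g⁻¹ := by rw [h6]; group

end Cfsg.Agent.S2850
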