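import Cfsg.Statements.S2851
import Cfsg.Agent.H8.Weak

set_option autoImplicit false
open Cfsg

namespace Cfsg.Agent.S2851

open Cfsg.Agent.H8

open Subgroup

/-- Standing hypotheses: G a finite group, S a Sylow p-subgroup, Q a nontrivial large p-subgroup of G contained in S, M a subgroup containing S with the basic property (M ∈ 𝔐_G(S)); Y_M the largest p-reduced normal subgroup of M and M† = M·C_G(Y_M). Let F be the preimage in M† of the generalized Fitting subgroup of M†/C_{M†}(Y_M). If Y_M is asymmetric in G and H is a subgroup of characteristic p containing F, then Y_M ≤ Y_H. -/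
theorem result {G : Type*} [Group G] [Finite G] {p : ℕ} [Fact p.Prime] (S : Sylow p G) (Q : Subgroup G) (hQp : IsPGroup p ↥Q) (hQ1 : Q ≠ ⊥) (hQS : Q ≤ (S : Subgroup G)) (hQ : Cfsg.IsLarge Q) (M : Subgroup G) (hSM : (S : Subgroup G) ≤ M) (hM : Cfsg.IsInFrakM p M) (hasym : ¬ Cfsg.IsSymmetricIn (Cfsg.largestPReducedOf p M)) [hn : ((Subgroup.centralizer (((Cfsg.largestPReducedOf p M) : Subgroup G) : Set G)).subgroupOf (M ⊔ Subgroup.centralizer (((Cfsg.largestPReducedOf p M) : Subgroup G) : Set G))).Normal] (F : Subgroup G) (hF : F = ((Cfsg.generalizedFittingSubgroup (↥(M ⊔ Subgroup.centralizer (((Cfsg.largestPReducedOf p M) : Subgroup G) : Set G)) ⧸ (Subgroup.centralizer (((Cfsg.largestPReducedOf p M) : Subgroup G) : Set G)).subgroupOf (M ⊔ Subgroup.centralizer (((Cfsg.largestPReducedOf p M) : Subgroup G) : Set G)))).comap (QuotientGroup.mk' ((Subgroup.centralizer (((Cfsg.largestPReducedOf p M) : Subgroup G) : Set G)).subgroupOf (M ⊔ Subgroup.centralizer (((Cfsg.largestPReducedOf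 p M) : Subgroup G) : Set G))))).map ((M ⊔ Subgroup.centralizer (((Cfsg.largestPReducedOf p M) : Subgroup G) : Set G))).subtype) (H : Subgroup G) (hFH : F ≤ H) (hH : Subgroup.centralizer (Cfsg.pCore p ↥H : Set ↥H) ≤ Cfsg.pCore p ↥H) : (Cfsg.largestPReducedOf p M) ≤ Cfsg.largestPReducedOf p H := by
  have h := fm_of S hQp hQ hSM hM
  set f := QuotientGroup.mk' ((centralizer (Yr p M : Set G)).subgroupOf (Dag p M)) with hf
  change F = pre f _ at hF
  have hs : Function.Surjective f := QuotientGroup.mk'_surjective _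
  have hk : kr f = centralizer (Yr p M : Set G) := kr_mk'_subgroupOf le_sup_right
  have hCH : centralizer (Yr p M : Set G) ≤ H := hk.ge.trans ((kr_le_pre f _).trans (hF.ge.trans hFH))
  obtain ⟨T, h1, -, h2⟩ := h.exists_sylIn_le_Dag hasym ((Op_le_centralizer_Yr p M).trans hCH)
  have hO : Op p (im f (Dag p M)) = ⊥ :=
    (redFor_iff_Op f (hk.trans (inf_of_le_right le_sup_right).symm)).1 h.red_Dag.red
  rw [im_self_of_surj f hs] at hO
  refine Red.le_Yr_of_le (R := H ⊓ Dag p M) ⟨le_inf ((Yr_le_centralizer_self p M).trans hCH)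
    h.red_Dag.le, inf_le_right.trans h.red_Dag.norm, Yr_elem p M, ?_⟩ ((char_iff_Fs _).1 hH) h1
    (le_inf h1.le h2) inf_le_left
  intro N hN h3
  have hND : N ≤ Dag p M := hN.le.trans inf_le_right
  rw [← hk, ← im_eq_bot_iff f hND]
  have h4 : im f N ≤ Op p (im f (H ⊓ Dag p M)) :=
    le_Op_of_sn (hN.im f) ((isPGroup_im_iff f hND).2 (h3.trans hk.ge))
  have h5 : Fs ⊤ ≤ im f (H ⊓ Dag p M) := by
    rw [Fs_top, ← im_pre_of_surj f hs (generalizedFittingSubgroup _)]
    exact im_mono f (le_inf (hF.ge.trans hFH) (pre_le f _))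
  refine eq_bot_mono h4 (eq_bot_of_comm_Fs hO (Op_isPGroup p _) le_top ?_)
  refine eq_bot_mono (commutator_le_inf_of_norm (h5.trans (le_normalizer_Op p _))
    (le_top.trans (le_normalizer_Fs ⊤))) ?_
  exact eq_bot_mono (inf_Op_le p h5) (Op_Fs_eq_bot hO)

end Cfsg.Agent.S2851
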