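import Cfsg.Statements.S2852
import Cfsg.Agent.H8.Weak

set_option autoImplicit false
open Cfsg

namespace Cfsg.Agent.S2852

open Cfsg.Agent.H8

open Subgroup

/-- Standing hypotheses: G a finite group, S a Sylow p-subgroup, Q a nontrivial large p-subgroup of G contained in S, M a subgroup containing S with the basic property (M ∈ 𝔐_G(S)); Y_M the largest p-reduced normal subgroup of M. If Y_M is char-p-tall and asymmetric in G, then some subgroup H of G lies in ℌ_G(O_p(M)): H has characteristic p, O_p(M) ≤ H, Y_M ≰ O_p(H), and Y_M ≤ O_p(P) for every proper subgroup P of H containing O_p(M). -/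
theorem result {G : Type*} [Group G] [Finite G] {p : ℕ} [Fact p.Prime] (S : Sylow p G) (Q : Subgroup G) (hQp : IsPGroup p ↥Q) (hQ1 : Q ≠ ⊥) (hQS : Q ≤ (S : Subgroup G)) (hQ : Cfsg.IsLarge Q) (M : Subgroup G) (hSM : (S : Subgroup G) ≤ M) (hM : Cfsg.IsInFrakM p M) (htall : Cfsg.IsCharPTall p (Cfsg.largestPReducedOf p M)) (hasym : ¬ Cfsg.IsSymmetricIn (Cfsg.largestPReducedOf p M)) : ∃ H : Subgroup G, Cfsg.IsInFrakH p M H := by
  have h := fm_of S hQp hQ hSM hM
  obtain ⟨T, L, h1, h2, h3⟩ := htall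
  obtain ⟨c, hc, h4⟩ := (H2.sylIn_map_subtype T).exists_cj_eq h.sylIn_Op
  have h5 : Op p M ≤ cj L c := h4.ge.trans (cj_mono h1 c)
  have h6 : Fs (cj L c) = Op p (cj L c) := by rw [← cj_Fs, ← cj_Op, (char_iff_Fs _).1 h2]
  have h7 : ¬ Yr p M ≤ Op p (cj L c) := by
    have : cj (Yr p M) c = Yr p M := cj_eq_of_mem_normalizer (le_normalizer_of_le_centralizer le_rfl hc)
    rw [← cj_Op, ← this, cj_le_cj_iff]
    exact h3
  obtain ⟨H, ⟨a1, a2, a3⟩, hmin⟩ := (wellFounded_lt (α := Subgroup G)).has_min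
    {H | Op p M ≤ H ∧ H ≤ cj L c ∧ ¬ Yr p M ≤ Op p H} ⟨_, h5, le_rfl, h7⟩
  refine ⟨H, (char_iff_Fs _).2 (((h.wc_Op hasym).mono h5 le_top).core_of_char
    (inf_le_right.trans h.centralizer_Op_le) a1 a2 h6).2.2, a1, a3, fun P b1 b2 => ?_⟩
  by_contra h0
  exact hmin P ⟨b1, b2.le.trans a2, h0⟩ b2

end Cfsg.Agent.S2852
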