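import Cfsg.Statements.S2854
import Cfsg.Agent.H8.Weak

set_option autoImplicit false
open Cfsg

namespace Cfsg.Agent.S2854

open Cfsg.Agent.H8

open Subgroup
open Cfsg.Agent.H2 (resOf)

/-- Standing hypotheses: G a finite group, S a Sylow p-subgroup, Q a nontrivial large p-subgroup of G contained in S, M a subgroup containing S with the basic property (M ∈ 𝔐_G(S)); Y_M the largest p-reduced normal subgroup of M and M† = M·C_G(Y_M). Suppose Y_M is asymmetric in G, H ∈ ℌ_G(O_p(M)), and H ≤ N_G(gQg⁻¹) for some g ∈ G. Then gQg⁻¹ ≤ O_p(H·gQg⁻¹) ≤ N_G(O_p(M)) ≤ N_G(Y_M) = M†; H is normal in H·gQg⁻¹ with O^p(H) = O^p(H·gQg⁻¹); and H·gQg⁻¹ is p-irreducible. -/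
theorem result {G : Type*} [Group G] [Finite G] {p : ℕ} [Fact p.Prime] (S : Sylow p G) (Q : Subgroup G) (hQp : IsPGroup p ↥Q) (hQ1 : Q ≠ ⊥) (hQS : Q ≤ (S : Subgroup G)) (hQ : Cfsg.IsLarge Q) (M : Subgroup G) (hSM : (S : Subgroup G) ≤ M) (hM : Cfsg.IsInFrakM p M) (hasym : ¬ Cfsg.IsSymmetricIn (Cfsg.largestPReducedOf p M)) (H : Subgroup G) (hH : Cfsg.IsInFrakH p M H) (g : G) (hHQ : H ≤ Subgroup.normalizer ((((Q : Subgroup G).map (MulAut.conj (g : G)).toMonoidHom) : Subgroup G) : Set G)) : ((Q : Subgroup G).map (MulAut.conj (g : G)).toMonoidHom) ≤ Cfsg.pCoreOf p (H ⊔ ((Q : Subgroup G).map (MulAut.conj (g : G)).toMonoidHom)) ∧ Cfsg.pCoreOf p (H ⊔ ((Q : Subgroup G).map (MulAut.conj (g : G)).toMonoidHom)) ≤ Subgroup.normalizer (((Cfsg.pCoreOf p M) : Subgroup G) : Set G) ∧ Subgroup.normalizer (((Cfsg.pCoreOf p M) : Subgroup G) : Set G) ≤ Subgroup.normalizer (((Cfsg.largestPReducedOf p M) : Subgroup G) : Set G) ∧ Subgroup.normalizer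 (((Cfsg.largestPReducedOf p M) : Subgroup G) : Set G) = (M ⊔ Subgroup.centralizer (((Cfsg.largestPReducedOf p M) : Subgroup G) : Set G)) ∧ (H.subgroupOf (H ⊔ ((Q : Subgroup G).map (MulAut.conj (g : G)).toMonoidHom))).Normal ∧ (Cfsg.pResidual p ↥H).map H.subtype = (Cfsg.pResidual p ↥(H ⊔ ((Q : Subgroup G).map (MulAut.conj (g : G)).toMonoidHom))).map (H ⊔ ((Q : Subgroup G).map (MulAut.conj (g : G)).toMonoidHom)).subtype ∧ Cfsg.IsPIrreducible p ↥(H ⊔ ((Q : Subgroup G).map (MulAut.conj (g : G)).toMonoidHom)) := by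
  have h := fm_of S hQp hQ hSM hM
  obtain ⟨a1, a2, a3⟩ := frakH_aux hH
  have h1 : Op p M ≤ H := hH.2.1
  have hY : Yr p M ≤ H := (Yr_le_Op p M).trans h1
  have hQ' : IsPGroup p (cj Q g) := IsPGroup.cj hQp g
  have h2 : cj Q g ≤ Op p (H ⊔ cj Q g) := le_Op le_sup_right (sup_le hHQ le_normalizer) hQ'
  have h3 : Op p (H ⊔ cj Q g) ≤ normalizer (Op p M : Set G) :=
    (h.wc_Op hasym).Op_le_normalizer le_top ((h1.trans le_sup_left).trans le_normalizer)
  have h4 : cj Q g ≤ normalizer (ncl (Yr p M) H : Set G) := by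
    refine le_normalizer_of_commutator_le (K := ncl (Yr p M) H) ?_ le_rfl
    rw [commutator_comm]
    refine commutator_iSup_le_of_norm (fun x => ?_) fun x => (cj_le_ncl _ x.2).trans le_normalizer
    have := cj_mono (commutator_le_left_of_norm ((h2.trans h3).trans h.normalizer_Op_le)) (x : G)
    rw [cj_commutator, cj_eq_of_mem_normalizer (hHQ x.2)] at this
    exact this.trans (cj_le_ncl _ x.2)
  have h5 : H ⊔ cj Q g ≤ normalizer (H : Set G) := by
    refine sup_le le_normalizer ?_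
    conv_rhs => rw [← a1]
    exact le_normalizer_sup h4 (h2.trans h3)
  refine ⟨h2, h3, h.normalizer_Op_le, h.normalizer_Yr,
    (normal_subgroupOf_iff_le_normalizer le_sup_left).2 h5, ?_,
    pirr_iff.2 ((frakH_pirr hH).sup_pgroup hQ' hHQ)⟩
  rw [H2.pResidual_map_subtype, H2.pResidual_map_subtype]
  exact (resOf_sup_pgroup (SN.of_norm le_sup_left h5) hQ' hHQ).symm

end Cfsg.Agent.S2854
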