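import Cfsg.Statements.S2855
import Cfsg.Agent.H8.Frat
import Cfsg.Agent.H2.Chief

set_option autoImplicit false
open Cfsg

namespace Cfsg.Agent.S2855

open Cfsg.Agent.H8

open Subgroup
open Cfsg.Agent.H2 (resOf SylIn)

theorem resOf_le_of_sSup {H : Type*} [Group H] [Finite H] {p : ℕ} [Fact p.Prime]
    {𝒦 : Set (Subgroup H)} {N : Subgroup H} [N.Normal] (hO : Op p ⊤ ≤ N)
    (hnorm : ∀ E ∈ 𝒦, sSup 𝒦 ≤ normalizer ((E ⊔ Op p ⊤ : Subgroup H) : Set H))
    (h : ∀ E ∈ 𝒦, resOf p E ≤ N) : resOf p (sSup 𝒦) ≤ N := by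
  have hk : (QuotientGroup.mk' N).ker = N := QuotientGroup.ker_mk' N
  refine le_trans (H2.resOf_le_ker (QuotientGroup.mk' N) ?_) hk.le
  refine (Op_isPGroup p ((sSup 𝒦).map (QuotientGroup.mk' N))).to_le (map_le_iff_le_comap.2
    (sSup_le fun E hE => map_le_iff_le_comap.1 (le_Op (map_mono (le_sSup hE)) ?_ ?_)))
  · have := le_normalizer_map' (QuotientGroup.mk' N) (hnorm E hE)
    rwa [Subgroup.map_sup, (Subgroup.map_eq_bot_iff (Op p ⊤)).2 (hO.trans hk.ge), sup_bot_eq] at this
  · rw [← resOf_eq_bot_iff, ← H2.map_resOf, Subgroup.map_eq_bot_iff, hk]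
    exact h E hE

/-- Let H be a finite group, p a prime, and 𝒦 a nonempty set of subgroups of H permuted transitively by conjugation, with R the subgroup generated by the members of 𝒦. Suppose O^p(H) ≤ R, each E ∈ 𝒦 has E·O_p(H) normal in R·O_p(H), and each E ∈ 𝒦 is p-minimal (generated by the conjugates of a Sylow p-subgroup T_E of E, with T_E in exactly one maximal subgroup of E). Then H is p-minimal in the same sense. If instead each E ∈ 𝒦 is strongly p-irreducible, then H is p-irreducible and, for E, K ∈ 𝒦, either O^p(E·O_p(H)) = O^p(K·O_p(H)) or [E, K] ≤ O_p(H). -/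
theorem result {H : Type*} [Group H] [Finite H] {p : ℕ} [Fact p.Prime] (𝒦 : Set (Subgroup H)) (hne : 𝒦.Nonempty) (hinv : ∀ h : H, ∀ E ∈ 𝒦, E.map (MulAut.conj h).toMonoidHom ∈ 𝒦) (htr : ∀ E ∈ 𝒦, ∀ K ∈ 𝒦, ∃ h : H, K = E.map (MulAut.conj h).toMonoidHom) (hres : Cfsg.pResidual p H ≤ sSup 𝒦) (hnorm : ∀ E ∈ 𝒦, sSup 𝒦 ⊔ Cfsg.pCore p H ≤ Subgroup.normalizer ((E ⊔ Cfsg.pCore p H : Subgroup H) : Set H)) : ((∀ E ∈ 𝒦, ∀ T : Sylow p ↥E, Cfsg.IsMinimalOver (T : Subgroup ↥E)) → ∀ T : Sylow p H, Cfsg.IsMinimalOver (T : Subgroup H)) ∧ ((∀ E ∈ 𝒦, Cfsg.IsStronglyPIrreducible p ↥E) → Cfsg.IsPIrreducible p H ∧ ∀ E ∈ 𝒦, ∀ K ∈ 𝒦, (Cfsg.pResidual p ↥(E ⊔ Cfsg.pCore p H)).map (E ⊔ Cfsg.pCore p H).subtype = (Cfsg.pResidual p ↥(K ⊔ Cfsg.pCore p H)).map (K ⊔ Cfsg.pCore p H).subtype ∨ ⁅E, K⁆ ≤ Cfsg.pCore p H) := by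
  rw [← Op_top] at hnorm ⊢
  rw [← H2.resOf_top] at hres
  set Q := Op p (⊤ : Subgroup H) with hQ
  set R := sSup 𝒦 with hR
  have hQp : IsPGroup p Q := Op_isPGroup p ⊤
  have hQn : ∀ X : Subgroup H, X ≤ normalizer (Q : Set H) := fun X =>
    le_top.trans (le_normalizer_Op p ⊤)
  have hQN : Q.Normal := normal_of_top_le (hQn ⊤)
  have hRn : ∀ X : Subgroup H, X ≤ normalizer (R : Set H) := fun X =>
    le_normalizer_sSup fun a _ E hE => hinv a E hE
  have hRQn : ∀ X : Subgroup H, X ≤ normalizer ((R ⊔ Q : Subgroup H) : Set H) := fun X =>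
    le_normalizer_sup (hRn X) (hQn X)
  have hER : ∀ E ∈ 𝒦, E ≤ R := fun E hE => le_sSup hE
  have hsn : ∀ E ∈ 𝒦, SN ⊤ (E ⊔ Q) := fun E hE => (SN.of_norm le_top (hRQn ⊤)).trans
    (SN.of_norm (sup_le_sup_right (hER E hE) _) (hnorm E hE))
  have hOE : ∀ E ∈ 𝒦, Op p E ≤ Q := fun E hE => by
    refine le_trans ?_ (Op_le_Op_of_sn p (hsn E hE))
    refine le_sup_left.trans (le_Op (sup_le_sup_right (Op_le p E) Q) (sup_le ?_ ?_)
      (isPGroup_sup (hQn _) (Op_isPGroup p E) hQp))
    · exact le_normalizer_sup (le_normalizer_Op p E) (hQn _)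
    · exact le_sup_right.trans le_normalizer
  obtain ⟨E₀, hE₀⟩ := hne
  constructor
  · intro hmin T
    have hS := H2.sylIn_top T
    have hQT : Q ≤ T := SylIn_Op_le hS
    have hRT : R ⊔ T = ⊤ := top_le_iff.1 (hS.resOf_sup.ge.trans (sup_le_sup_right hres _))
    have key : ∀ E ∈ 𝒦, ∃ M, MinOv ((T : Subgroup H) ⊓ (E ⊔ Q)) (E ⊔ Q) M := by
      intro E hE
      have h1 : SylIn p ((T : Subgroup H) ⊓ (E ⊔ Q)) (E ⊔ Q) := (hsn E hE).sylIn_inf hS
      have h2 : (T : Subgroup H) ⊓ (E ⊔ Q) = ((T : Subgroup H) ⊓ E) ⊔ Q := by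
        rw [inf_comm, sup_inf_of_norm' (hQn E) hQT, inf_comm]
      have h3 : SylIn p ((T : Subgroup H) ⊓ E) E := by
        obtain ⟨S, hS1, hS2⟩ := H2.exists_sylIn_ge (hS.pgrp.to_le inf_le_left)
          (inf_le_right : (T : Subgroup H) ⊓ E ≤ E)
        have h4 := h1.max (S ⊔ Q) (sup_le_sup_right hS1.le _) (isPGroup_sup (hQn S) hS1.pgrp hQp)
          (h2.le.trans (sup_le_sup_right hS2 _))
        rwa [le_antisymm hS2 (le_inf ((le_sup_left.trans h4.le).trans inf_le_left) hS1.le)]
      obtain ⟨S', hS'⟩ := h3.exists_sylow'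
      obtain ⟨M, hM⟩ := (minOver_iff _).1 (hmin E hE S')
      rw [hS'] at hM
      refine ⟨M ⊔ Q, ⟨h2.le.trans (sup_le_sup_right hM.le _), lt_of_le_of_ne
        (sup_le_sup_right hM.lt.le _) fun h0 => hM.not_le ?_, fun X h4 h5 => ?_⟩, ?_⟩
      · have h4 := sup_inf_of_norm (hQn M) hM.lt.le
        rw [h0, inf_of_le_right le_sup_left] at h4
        exact h4.le.trans (sup_le le_rfl ((inf_le_inf_right _ (le_of_eq rfl)).trans
          ((le_Op inf_le_right (le_normalizer_inf (hQn E) le_normalizer)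
            (hQp.to_le inf_le_left)).trans (hM.Op_le h3.pgrp))))
      · have hQX : Q ≤ X := (le_sup_right.trans h2.ge).trans h4
        have h6 := sup_inf_of_norm' (hQn E) hQX
        rw [inf_of_le_right h5.le] at h6
        rw [h6]
        refine sup_le_sup_right (hM.le_of_ne (le_inf inf_le_right
          ((le_sup_left.trans h2.ge).trans h4)) inf_le_left fun h0 => h5.not_ge ?_) _
        exact sup_le (h0.ge.trans inf_le_right) hQX
      · refine le_antisymm (ncl_le_of_le inf_le_right) (sup_le ?_ ?_)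
        · exact hM.ncl_eq.ge.trans (ncl_mono (le_sup_left.trans h2.ge) le_sup_left)
        · exact (le_sup_right.trans h2.ge).trans (le_ncl _ _)
    choose! M hM using key
    let D : Subgroup H := (R ⊔ Q) ⊓ ⨅ E : 𝒦, normalizer (M E : Set H)
    have hTD : (T : Subgroup H) ≤ normalizer (D : Set H) := by
      refine le_normalizer_inf (hRQn _) (le_normalizer_iff_cj.2 fun t ht => le_iInf fun E => ?_)
      have hE' := hinv t⁻¹ E E.2
      refine (cj_mono (iInf_le _ ⟨_, hE'⟩) t).trans ?_
      have h1 := (hM _ hE').toUMax.cj t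
      rw [cj_inf, cj_eq_of_mem ht, cj_sup, cj_eq_of_normal Q, cj_cj_inv] at h1
      rw [cj_normalizer, h1.unique (hM E E.2).toUMax]
    have hfr : ∀ X, (T : Subgroup H) ≤ X → X < ⊤ → X ⊓ (R ⊔ Q) ≤ D := by
      intro X h1 h2
      refine le_inf inf_le_right (le_iInf fun E => ?_)
      have h3 : X ⊓ ((E : Subgroup H) ⊔ Q) ≤ M E := by
        refine (hM E E.2).le_of_ne (inf_le_inf_right _ h1) inf_le_right fun h0 => h2.not_ge ?_
        have h4 : (E : Subgroup H) ⊔ Q ≤ X := h0.ge.trans inf_le_left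
        refine hRT.ge.trans (sup_le (sSup_le fun K hK => ?_) h1)
        obtain ⟨g, rfl⟩ := htr E E.2 K hK
        obtain ⟨t, ht, r, hr, rfl⟩ := mem_sup_of_norm_right (hRn T)
          (show g ∈ (T : Subgroup H) ⊔ R by rw [sup_comm, hRT]; trivial)
        refine (cj_mono (le_sup_left : (E : Subgroup H) ≤ (E : Subgroup H) ⊔ Q) _).trans ?_
        rw [← cj_cj, cj_eq_of_mem_normalizer (hnorm E E.2 (mem_sup_left hr))]
        exact cj_le_of_mem' h4 (h1 ht)
      have h4 : SylIn p ((T : Subgroup H) ⊓ ((E : Subgroup H) ⊔ Q)) (X ⊓ ((E : Subgroup H) ⊔ Q)) :=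
        ((hsn E E.2).sylIn_inf hS).mono (inf_le_inf_right _ h1) inf_le_right
      have h5 := h4.frattini_sup (H := X ⊓ (R ⊔ Q))
        (inf_le_inf_left _ (sup_le_sup_right (hER E E.2) _))
        (le_normalizer_inf (inf_le_left.trans le_normalizer) (inf_le_right.trans (hnorm E E.2)))
      refine h5.ge.trans (sup_le (h3.trans le_normalizer) ?_)
      exact (hM E E.2).toUMax.le_normalizer inf_le_right
        ((inf_le_left.trans inf_le_right).trans (hnorm E E.2))
    refine minOver_top_iff.2 ⟨T ⊔ D, ⟨le_sup_left, lt_top_iff_ne_top.2 fun h0 => ?_,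
      fun X h1 h2 => ?_⟩, ?_⟩
    · have h1 := sup_inf_of_norm' hTD (inf_le_left : D ≤ R ⊔ Q)
      rw [h0, top_inf_eq] at h1
      refine (hM E₀ hE₀).not_le_normalizer (hM E₀ hE₀).le le_rfl
        ((sup_le_sup_right (hER _ hE₀) _).trans (h1.le.trans (sup_le ?_ ?_)))
      · exact (hM E₀ hE₀).toUMax.le_normalizer (le_normalizer_inf (inf_le_left.trans le_normalizer)
          (inf_le_right.trans (hnorm _ hE₀))) (inf_le_right.trans (hnorm _ hE₀))
      · exact inf_le_right.trans (iInf_le _ (⟨E₀, hE₀⟩ : 𝒦))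
    · have h3 := sup_inf_of_norm (hRQn T) h1
      rw [top_le_iff.1 (hRT.ge.trans (sup_le (le_sup_left.trans le_sup_right) le_sup_left)),
        top_inf_eq] at h3
      rw [h3, inf_comm]
      exact sup_le_sup_left (hfr X h1 h2) _
    · refine top_le_iff.1 (hRT.ge.trans (sup_le (sSup_le fun E hE => ?_) (le_ncl _ _)))
      exact le_sup_left.trans ((hM E hE).ncl_eq.ge.trans (ncl_mono inf_le_left le_top))
  · intro hirr
    have hs : ∀ E ∈ 𝒦, SPIrr p E := fun E hE => spirr_iff.1 (hirr E hE)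
    have hn : ∀ X : Subgroup H, X ≤ normalizer (Q : Set H) := hQn
    -- a subgroup normalized by `E` and containing `Q`
    have key : ∀ E ∈ 𝒦, ∀ N : Subgroup H, Q ≤ N → E ≤ normalizer (N : Set H) →
        resOf p E ≤ N ∨ ⁅N ⊓ (E ⊔ Q), E⁆ ≤ Q := by
      intro E hE N h1 h2
      by_cases h3 : ⁅N ⊓ E, E⁆ ≤ Op p E
      · right
        rw [inf_comm, sup_inf_of_norm' (hQn E) h1, inf_comm]
        exact commutator_sup_le_of_norm (h3.trans (hOE E hE)) (commutator_le_left_of_norm (hn _))
          (hn _)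
      · exact Or.inl (((hs E hE).le _ inf_le_right (le_normalizer_inf h2 le_normalizer) h3).trans
          inf_le_left)
    have three : ∀ E ∈ 𝒦, ∀ N : Subgroup H, ⁅⁅N, E⁆, E⁆ ≤ Q → ⁅N, resOf p E⁆ ≤ Q := by
      intro E hE N h
      rw [commutator_comm]
      refine (commutator_mono (hs E hE).pirr.resOf_le_commutator le_rfl).trans ?_
      exact three_subgroups (hn _) (hn _) (hn _) (by rwa [commutator_comm E N]) h
    constructor
    · refine pirr_top_iff.2 ⟨fun h => (hs E₀ hE₀).not_pcl (h.mono le_top), fun N _ hN hc => ?_⟩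
      have hN' := normal_of_top_le hN
      have hNn : ∀ X : Subgroup H, X ≤ normalizer (N : Set H) := fun X => le_top.trans hN
      have hNQ : ∀ X : Subgroup H, X ≤ normalizer ((N ⊔ Q : Subgroup H) : Set H) := fun X =>
        le_normalizer_sup (hNn X) (hQn X)
      by_cases h1 : ∃ E ∈ 𝒦, resOf p E ≤ N ⊔ Q
      · obtain ⟨E, hE, h1⟩ := h1
        have h2 : resOf p R ≤ N ⊔ Q := by
          refine resOf_le_of_sSup le_sup_right (fun E hE => le_sup_left.trans (hnorm E hE))
            fun K hK => ?_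
          obtain ⟨g, rfl⟩ := htr E hE K hK
          rw [← H2.cj_resOf]
          exact cj_le_of_mem h1 (hNQ ⊤ (mem_top g))
        rw [← resOf_eq_of_le hres le_top, ← H2.resOf_resOf]
        refine (H2.resOf_mono h2).trans ?_
        rw [sup_comm]
        exact resOf_sup_le_of_le (hNn Q) (by rw [H2.resOf_eq_bot_of_isPGroup hQp]; exact bot_le)
      exfalso
      push Not at h1
      have h2 : ∀ E ∈ 𝒦, ⁅N ⊓ (E ⊔ Q), E⁆ ≤ Q := fun E hE =>
        (commutator_mono (inf_le_inf_right _ le_sup_left) le_rfl).trans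
          ((key E hE _ le_sup_right (hNQ E)).resolve_left (h1 E hE))
      have h3 : ∀ E ∈ 𝒦, ⁅N ⊓ R, E⁆ ≤ N ⊓ (E ⊔ Q) := fun E hE =>
        le_inf ((commutator_mono inf_le_left le_rfl).trans (commutator_le_left_of_norm (hNn E)))
          ((commutator_mono le_rfl le_sup_left).trans (commutator_le_right_of_norm
            ((inf_le_right.trans le_sup_left).trans (hnorm E hE))))
      -- the centralizer modulo `Q` of a normal subgroup contains `O^p(H)` once it contains each `O^p(E)`
      have h4 : ∀ (X : Subgroup H) [X.Normal], (∀ E ∈ 𝒦, ⁅X, resOf p E⁆ ≤ Q) →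
          ⁅X, resOf p ⊤⁆ ≤ Q := by
        intro X _ h
        rw [← H2.le_cmod_iff', ← resOf_eq_of_le hres le_top]
        exact resOf_le_of_sSup (H2.le_cmod_iff.2 (commutator_le_left_of_norm (hn _)))
          (fun E hE => le_sup_left.trans (hnorm E hE)) fun E hE => H2.le_cmod_iff'.2 (h E hE)
      have hRN : R.Normal := normal_of_top_le (hRn ⊤)
      have h5 : ⁅N ⊓ R, resOf p ⊤⁆ ≤ Q := h4 _ fun E hE =>
        three E hE _ ((commutator_mono (h3 E hE) le_rfl).trans (h2 E hE))
      have hW : (resOf p (⊤ : Subgroup H)).Normal := inferInstance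
      -- `Z = N ∩ O^p(H)` is central modulo `Q`
      have h6 : ∀ E ∈ 𝒦, ⁅N ⊓ resOf p ⊤, E⁆ ≤ Q := by
        intro E hE
        let f := QuotientGroup.mk' Q
        have hk : f.ker = Q := QuotientGroup.ker_mk' Q
        have hO : Op p ((⊤ : Subgroup H).map f) = ⊥ := by
          rw [← map_Op_eq f (hQp.to_le (inf_le_left.trans hk.le)), Subgroup.map_eq_bot_iff, hk]
        have hZ : (Nat.card ((N ⊓ resOf p ⊤).map f)).Coprime p := by
          refine coprime_of_le (le_Fit (map_mono le_top) (le_normalizer_map' f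
            (normal_iff_top_le.1 inferInstance)) (nilpotent_of_comm2 ?_)) (Fit_coprime hO)
          rw [← map_commutator, Subgroup.map_eq_bot_iff, hk]
          exact (commutator_mono (inf_le_inf_left _ hres) inf_le_right).trans h5
        obtain ⟨S, hS⟩ := H2.exists_sylIn p E
        rw [← hS.resOf_sup]
        refine H1.commutator_sup_right_le ((commutator_mono (inf_le_inf_left _ hres)
          (H2.resOf_mono le_top)).trans h5) ?_ (hn _) (hn _)
        rw [← hk, ← Subgroup.map_eq_bot_iff, map_commutator, ← commutator_commutator_eq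
          (hS.pgrp.map f) (le_normalizer_map' f (le_top.trans (normal_iff_top_le.1 inferInstance)))
          hZ, ← map_commutator, ← map_commutator, Subgroup.map_eq_bot_iff, hk]
        exact (commutator_mono ((commutator_mono (inf_le_inf_left _ hres) hS.le).trans (h3 E hE))
          hS.le).trans (h2 E hE)
      have h7 : ⁅N, resOf p ⊤⁆ ≤ Q := by
        refine h4 N fun E hE => ?_
        rw [commutator_comm, ← (hs E hE).pirr.commutator_resOf_self, commutator_comm (resOf p E) E]
        refine three_subgroups (hn _) (hn _) (hn _) ?_ ?_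
        · refine (commutator_mono ?_ le_rfl).trans (h6 E hE)
          rw [commutator_comm]
          exact (commutator_mono le_rfl (H2.resOf_mono le_top)).trans (commutator_le_inf _ _)
        · exact (commutator_mono ((commutator_mono le_rfl (hER E hE)).trans (commutator_le_inf _ _))
            (H2.resOf_mono le_top)).trans h5
      refine hc (pcl_of_resOf_le_centralizer ?_)
      rw [Op_eq_inf_of_sn p (SN.of_normal N)]
      refine le_inf ?_ (commutator_le_right_of_norm (hNn _))
      rw [commutator_comm]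
      exact (commutator_mono le_rfl (H2.resOf_mono le_top)).trans h7
    · intro E hE K hK
      rw [H2.pResidual_map_subtype, H2.pResidual_map_subtype]
      have main : ∀ E ∈ 𝒦, ∀ K ∈ 𝒦, resOf p (E ⊔ Q) = resOf p (K ⊔ Q) ∨ ⁅K, resOf p E⁆ ≤ Q := by
        intro E hE K hK
        rcases key E hE (K ⊔ Q) le_sup_right (((hER E hE).trans le_sup_left).trans (hnorm K hK))
          with h | h
        · left
          have h1 : resOf p (E ⊔ Q) ≤ resOf p (K ⊔ Q) := by
            rw [← H2.resOf_resOf]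
            exact H2.resOf_mono ((resOf_sup_le_of_norm (hQn E)).trans (sup_le h le_sup_right))
          refine eq_of_le_of_card_ge h1 ?_
          obtain ⟨g, rfl⟩ := htr E hE K hK
          have := card_cj (resOf p (E ⊔ Q)) g
          rw [cj, H2.map_resOf, Subgroup.map_sup] at this
          change Nat.card (resOf p (cj E g ⊔ cj Q g)) = _ at this
          rw [cj_eq_of_normal Q] at this
          exact this.le
        · refine Or.inr (three E hE K ((commutator_mono ?_ le_rfl).trans h))
          exact (commutator_mono le_sup_left le_sup_left).trans (commutator_le_inf_of_norm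
            ((sup_le_sup_right (hER E hE) _).trans (hnorm K hK))
            ((sup_le_sup_right (hER K hK) _).trans (hnorm E hE)))
      rcases main E hE K hK with h1 | h1
      · exact Or.inl h1
      rcases main K hK E hE with h2 | h2
      · exact Or.inl h2.symm
      right
      obtain ⟨T, hT⟩ := H2.exists_sylIn p (⊤ : Subgroup H)
      have hQT : Q ≤ T := SylIn_Op_le hT
      have h3 : ∀ E ∈ 𝒦, E ≤ (resOf p E ⊔ Q) ⊔ (T ⊓ (E ⊔ Q)) := fun E hE =>
        le_sup_left.trans (((hsn E hE).sylIn_inf hT).resOf_sup.ge.trans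
          (sup_le_sup_right (resOf_sup_le_of_norm (hQn E)) _))
      have c0 : ∀ A B : Subgroup H, ⁅A, B⁆ ≤ Q → ⁅A ⊔ Q, B ⊔ Q⁆ ≤ Q := fun A B h =>
        commutator_sup_le_of_norm (H1.commutator_sup_right_le h (commutator_le_right_of_norm (hn _))
          (hn _) (hn _)) (commutator_le_left_of_norm (hn _)) (hn _)
      have c1 := c0 _ _ h1
      have c2 := c0 _ _ h2
      have nE := hnorm E hE
      have nK := hnorm K hK
      have lE : E ⊔ Q ≤ R ⊔ Q := sup_le_sup_right (hER E hE) _
      have lK : K ⊔ Q ≤ R ⊔ Q := sup_le_sup_right (hER K hK) _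
      have rE : resOf p E ⊔ Q ≤ E ⊔ Q := sup_le_sup_right (H2.resOf_le _ _) _
      have rK : resOf p K ⊔ Q ≤ K ⊔ Q := sup_le_sup_right (H2.resOf_le _ _) _
      have h4 : ⁅E ⊔ Q, K ⊔ Q⁆ ≤ T := by
        let L := T ⊓ ((E ⊔ Q) ⊓ (K ⊔ Q))
        have hQL : Q ≤ L := le_inf hQT (le_inf le_sup_right le_sup_right)
        have n1 : resOf p E ⊔ Q ≤ normalizer (L : Set H) :=
          le_normalizer_of_commutator_le (K := L) ((commutator_comm _ _).le.trans
            (((commutator_mono (inf_le_right.trans inf_le_right) le_rfl).trans c1).trans hQL)) le_rfl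
        have n2 : resOf p K ⊔ Q ≤ normalizer (L : Set H) :=
          le_normalizer_of_commutator_le (K := L) ((commutator_comm _ _).le.trans
            (((commutator_mono (inf_le_right.trans inf_le_left) le_rfl).trans c2).trans hQL)) le_rfl
        have n3 : ∀ X, X ≤ R ⊔ Q → T ⊓ X ≤ normalizer (L : Set H) := fun X hX =>
          le_normalizer_inf (inf_le_left.trans le_normalizer) (le_normalizer_inf
            ((inf_le_right.trans hX).trans nE) ((inf_le_right.trans hX).trans nK))
        refine (commutator_mono (sup_le (h3 E hE) (le_sup_right.trans le_sup_left))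
          (sup_le (h3 K hK) (le_sup_right.trans le_sup_left))).trans
          (le_trans ?_ (inf_le_left : L ≤ T))
        refine commutator_sup_le_of_norm ?_ (H1.commutator_sup_right_le ?_ ?_ n2 (n3 _ lK))
          (sup_le n1 (n3 _ lE))
        · rw [commutator_comm]
          exact ((commutator_mono (sup_le rK inf_le_right) le_rfl).trans c1).trans hQL
        · exact ((commutator_mono inf_le_right le_rfl).trans c2).trans hQL
        · refine le_inf ((commutator_le_sup _ _).trans (sup_le inf_le_left inf_le_left)) ?_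
          exact (commutator_mono inf_le_right inf_le_right).trans
            (commutator_le_inf_of_norm (lK.trans nE) (lE.trans nK))
      refine (commutator_mono le_sup_left le_sup_left : _ ≤ ⁅E ⊔ Q, K ⊔ Q⁆).trans ?_
      refine le_Op_of_sn ((SN.of_norm le_top (hRQn ⊤)).trans (SN.of_norm ?_
        (le_normalizer_commutator (hnorm E hE) (hnorm K hK)))) (hT.pgrp.to_le h4)
      exact (commutator_le_sup _ _).trans
        (sup_le (sup_le_sup_right (hER E hE) _) (sup_le_sup_right (hER K hK) _))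

end Cfsg.Agent.S2855
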