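import Cfsg.Statements.S2859
import Cfsg.Agent.H8.Weak

set_option autoImplicit false
open Cfsg

namespace Cfsg.Agent.S2859

open Cfsg.Agent.H8

open Subgroup
open Cfsg.Agent.H2 (resOf)

theorem half {G : Type*} [Group G] [Finite G] {p : ℕ} [Fact p.Prime] {Q Hc H₁ H₂ K : Subgroup G}
    (h : WC p Q Hc) (hc : ncl Q Hc = Hc) (a1 : H₁ ≤ Hc) (n1 : Hc ≤ normalizer (H₁ : Set G))
    (a2 : H₂ ≤ Hc) (n2 : Hc ≤ normalizer (H₂ : Set G)) (hprod : H₁ ⊔ H₂ = Hc)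
    (hcomm : ⁅H₁, H₂⁆ ≤ normalizer (Q : Set G)) (hK : K = resOf p (ncl Q (H₁ ⊔ Q))) :
    (⁅K, Q⁆ = K ∧ ⁅K, H₁⁆ = K ∧ K ≤ ⁅H₁, H₁⁆ ∧ Hc ≤ normalizer (K : Set G)) ∧
      ⁅K, H₂⁆ ≤ Op p Hc ∧ K ≤ H₁ ∧ ⁅Q, H₁⁆ ≤ Q ⊔ K := by
  have hQ := h.le
  have hD : Hc ≤ normalizer ((⁅H₁, H₂⁆ : Subgroup G) : Set G) := le_normalizer_commutator n1 n2
  have hD1 : ⁅H₁, H₂⁆ ≤ Hc := (commutator_le_sup _ _).trans hprod.le
  have hO : ∀ X, X ≤ Hc → X ≤ normalizer (Op p Hc : Set G) := fun X hX =>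
    hX.trans (le_normalizer_Op p Hc)
  have h1 : ⁅Hc, ⁅H₁, H₂⁆⁆ ≤ Op p Hc := by
    conv_lhs => rw [← hc]
    refine commutator_iSup_le_of_norm (fun x => ?_) fun x => hO _ (cj_le_of_mem' hQ x.2)
    have h2 : ⁅H₁, H₂⁆ ≤ normalizer (cj Q x : Set G) := by
      rw [← cj_normalizer, ← cj_eq_of_mem_normalizer (hD x.2)]
      exact cj_mono hcomm _
    refine (commutator_le_inf_of_norm h2 ((cj_le_of_mem' hQ x.2).trans hD)).trans
      (le_trans (le_Op inf_le_right (le_normalizer_inf h2 le_normalizer)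
        ((IsPGroup.cj h.pgrp _).to_le inf_le_left)) (Op_le_Op_of_sn p (SN.of_norm hD1 hD)))
  have h1' : ∀ X, X ≤ Hc → ⁅⁅H₁, H₂⁆, X⁆ ≤ Op p Hc := fun X hX =>
    (commutator_comm _ _).le.trans ((commutator_mono hX le_rfl).trans h1)
  have h2 : ⁅⁅H₁, H₁⁆, H₂⁆ ≤ Op p Hc := three_subgroups (hO _ a1) (hO _ a1) (hO _ a2) (h1' _ a1)
    (by rw [commutator_comm H₂ H₁]; exact h1' _ a1)
  have hW : H₁ ⊔ Q ≤ Hc := sup_le a1 hQ
  have k1 : ⁅K, Q⁆ = K := hK ▸ h.commutator_resOf_ncl hW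
  have k2 : K ≤ H₁ := by
    rw [hK]
    refine (H2.resOf_mono ((ncl_le_of_le le_sup_right).trans (sup_comm _ _).le)).trans ?_
    exact resOf_sup_le_of_le (hQ.trans n1) (by rw [H2.resOf_eq_bot_of_isPGroup h.pgrp]; exact bot_le)
  have k3 : K ≤ ⁅H₁, H₁⁆ ⊔ ⁅H₁, H₂⁆ := by
    refine k1.ge.trans ((commutator_mono k2 (hQ.trans hprod.ge)).trans ?_)
    have := le_normalizer_sup (le_normalizer_commutator n1 n1) hD
    exact H1.commutator_sup_right_le le_sup_left le_sup_right (a1.trans this) (a2.trans this)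
  have k4 : ⁅K, H₂⁆ ≤ Op p Hc := (commutator_mono k3 le_rfl).trans
    (commutator_sup_le_of_norm h2 (h1' _ a2) (hO _ (sup_le ((commutator_le_self _).trans a1) hD1)))
  have kr : resOf p K = K := by rw [hK, H2.resOf_resOf]
  have k5 : ∀ X, X ≤ normalizer (ncl Q (H₁ ⊔ Q) : Set G) → X ≤ normalizer (K : Set G) :=
    fun X hX => hK ▸ hX.trans (H2.normalizer_le_normalizer_resOf p _)
  have k6 : Op p Hc ≤ normalizer (K : Set G) := by
    have := h.Op_le_normalizer le_rfl (hQ.trans le_normalizer)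
    exact k5 _ (le_normalizer_ncl_of this (le_normalizer_sup ((Op_le p _).trans n1) this))
  have k7 : resOf p (K ⊔ Op p Hc) = K := (resOf_sup_pgroup (SN.of_norm le_sup_left
    (sup_le le_normalizer k6)) (Op_isPGroup p _) (hO _ (k2.trans a1))).trans kr
  have k8 : Hc ≤ normalizer (K : Set G) := by
    refine hprod.ge.trans (sup_le (k5 _ (le_sup_left.trans (le_normalizer_ncl _ _))) ?_)
    rw [← k7]
    refine le_trans ?_ (H2.normalizer_le_normalizer_resOf p _)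
    refine le_normalizer_of_commutator_le (K := K ⊔ Op p Hc) ?_ le_rfl
    rw [commutator_comm]
    exact commutator_sup_le_of_norm (k4.trans le_sup_right)
      ((commutator_le_left_of_norm (hO _ a2)).trans le_sup_right) le_normalizer
  have k9 : ⁅K, H₁⁆ = K := by
    refine le_antisymm (commutator_le_left_of_norm (a1.trans k8)) (kr.ge.trans ?_)
    have hn := le_normalizer_commutator k8 n1
    have : K ≤ Op p Hc ⊔ ⁅K, H₁⁆ := by
      refine k1.ge.trans ((commutator_mono le_rfl (hQ.trans hprod.ge)).trans ?_)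
      have := le_normalizer_sup (le_normalizer_Op p Hc) hn
      exact H1.commutator_sup_right_le le_sup_right (k4.trans le_sup_left) (a1.trans this)
        (a2.trans this)
    exact (H2.resOf_mono this).trans (resOf_sup_le_of_le ((Op_le p _).trans hn)
      (by rw [H2.resOf_eq_bot_of_isPGroup (Op_isPGroup p _)]; exact bot_le))
  refine ⟨⟨k1, k9, k9.ge.trans (commutator_mono k2 le_rfl), k8⟩, k4, k2, ?_⟩
  rw [hK, h.sup_resOf_ncl hW, ncl_eq_sup_commutator]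
  exact le_sup_of_le_right (commutator_mono le_rfl le_sup_left)

/-- Let Q be a nontrivial p-subgroup of the finite group H that is a weakly closed subgroup, H° the weak closure of Q in H (generated by the conjugates of Q) and H_∘ = O^p(H°). Suppose H₁, H₂ are normal subgroups of H° with H° = H₁H₂ and [H₁, H₂] ≤ N_H(Q), and put Kᵢ = O^p of the weak closure of Q in HᵢQ. Then for i = 1, 2: Kᵢ = [Kᵢ, Q] = [Kᵢ, Hᵢ] ≤ Hᵢ′ and Kᵢ is normal in H°; H_∘ = K₁K₂; and [K₁, K₂] ≤ O_p(H°). -/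
theorem result {G : Type*} [Group G] [Finite G] {p : ℕ} [Fact p.Prime] (Q : Subgroup G) (hQp : IsPGroup p ↥Q) (hQ1 : Q ≠ ⊥) (hwc : Cfsg.IsWeaklyClosedSubgroup p Q) (Hc : Subgroup G) (hHc : Hc = Cfsg.weakClosure Q ⊤) (H₁ H₂ : Subgroup G) (hn₁ : H₁ ≤ Hc ∧ Hc ≤ Subgroup.normalizer ((H₁ : Subgroup G) : Set G)) (hn₂ : H₂ ≤ Hc ∧ Hc ≤ Subgroup.normalizer ((H₂ : Subgroup G) : Set G)) (hprod : H₁ ⊔ H₂ = Hc) (hcomm : ⁅H₁, H₂⁆ ≤ Subgroup.normalizer ((Q : Subgroup G) : Set G)) (K₁ K₂ : Subgroup G) (hK₁ : K₁ = ((Cfsg.pResidual p ↥(Cfsg.weakClosure Q (H₁ ⊔ Q))).map ((Cfsg.weakClosure Q (H₁ ⊔ Q))).subtype)) (hK₂ : K₂ = ((Cfsg.pResidual p ↥(Cfsg.weakClosure Q (H₂ ⊔ Q))).map ((Cfsg.weakClosure Q (H₂ ⊔ Q))).subtype)) : (⁅K₁, Q⁆ = K₁ ∧ ⁅K₁, H₁⁆ = K₁ ∧ K₁ ≤ ⁅H₁, H₁⁆ ∧ Hc ≤ Subgroup.normalizer ((K₁ : Subgroup G) : Set G)) ∧ (⁅K₂, Q⁆ = K₂ ∧ ⁅K₂, H₂⁆ = K₂ ∧ K₂ ≤ ⁅H₂, H₂⁆ ∧ Hc ≤ Subgroup.normalizer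 ((K₂ : Subgroup G) : Set G)) ∧ K₁ ⊔ K₂ = ((Cfsg.pResidual p ↥Hc).map (Hc).subtype) ∧ ⁅K₁, K₂⁆ ≤ (Cfsg.pCoreOf p Hc) := by
  have h := (wc_top_iff hQp).1 hwc
  rw [h.weakClosure_eq le_top] at hHc
  rw [h.weakClosure_eq le_sup_right, H2.pResidual_map_subtype] at hK₁ hK₂
  have hQ : Q ≤ Hc := hHc ▸ le_ncl _ _
  have hc : ncl Q Hc = Hc := by rw [hHc, h.ncl_ncl le_rfl]
  have h' := h.mono hQ le_top
  obtain ⟨a1, a2, a3, a4⟩ := half h' hc hn₁.1 hn₁.2 hn₂.1 hn₂.2 hprod hcomm hK₁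
  obtain ⟨b1, b2, b3, b4⟩ := half h' hc hn₂.1 hn₂.2 hn₁.1 hn₁.2 ((sup_comm _ _).trans hprod)
    (by rwa [commutator_comm]) hK₂
  refine ⟨a1, b1, ?_, (commutator_mono le_rfl b3).trans a2⟩
  rw [H2.pResidual_map_subtype]
  have hn := le_normalizer_sup a1.2.2.2 b1.2.2.2
  refine le_antisymm (sup_le ?_ ?_) ?_
  · rw [hK₁]; exact H2.resOf_mono (ncl_le_of_le le_sup_right |>.trans (sup_le hn₁.1 hQ))
  · rw [hK₂]; exact H2.resOf_mono (ncl_le_of_le le_sup_right |>.trans (sup_le hn₂.1 hQ))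
  have key : ∀ X, X ≤ Hc → ⁅Q, X⁆ ≤ Q ⊔ (K₁ ⊔ K₂) →
      X ≤ normalizer ((Q ⊔ (K₁ ⊔ K₂) : Subgroup G) : Set G) := fun X h1 h2 => by
    refine le_normalizer_of_commutator_le (K := Q ⊔ (K₁ ⊔ K₂)) ?_ le_rfl
    rw [commutator_comm]
    exact commutator_sup_le_of_norm h2
      ((commutator_le_left_of_norm (h1.trans hn)).trans le_sup_right) le_normalizer
  have h3 : Hc ≤ Q ⊔ (K₁ ⊔ K₂) := hc.ge.trans (ncl_le le_sup_left (hprod.ge.trans (sup_le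
    (key _ hn₁.1 (a4.trans (sup_le_sup_left le_sup_left _)))
    (key _ hn₂.1 (b4.trans (sup_le_sup_left le_sup_right _))))))
  exact (H2.resOf_mono h3).trans (resOf_sup_le_of_le (hQ.trans hn)
    (by rw [H2.resOf_eq_bot_of_isPGroup hQp]; exact bot_le))

end Cfsg.Agent.S2859
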