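import Cfsg.Statements.S2860
import Cfsg.Agent.H8.Im2

set_option autoImplicit false
open Cfsg

namespace Cfsg.Agent.S2860

open Cfsg.Agent.H8

open Subgroup
open Cfsg.Agent.H2 (resOf)

/-- Let Q be a nontrivial large p-subgroup of the finite group H, U a nontrivial elementary abelian p-subgroup of H, and Q ≤ E ≤ N_H(U) with Q not normal in E. Suppose O_p(E/C_E(U)) = 1 and O^p(E)·C_E(U)/C_E(U) is quasisimple. Let E° be the weak closure of Q in E (generated by the conjugates of Q inside E) and E_∘ = O^p(E°). Then O^p(E)·C_E(U) = E_∘·C_E(U); E_∘ is perfect and equals O^p(E_∘); E_∘/C_{E_∘}(U) and E_∘/O_p(E_∘) are quasisimple; and E_∘ = [E_∘, Y] for every p-subgroup Y of E not centralizing U. -/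
theorem result {G : Type*} [Group G] [Finite G] {p : ℕ} [Fact p.Prime] (Q : Subgroup G) (hQp : IsPGroup p ↥Q) (hQ1 : Q ≠ ⊥) (hQ : Cfsg.IsLarge Q) (U : Subgroup G) (hU : Cfsg.IsElementaryAbelian p U) (hU1 : U ≠ ⊥) (E : Subgroup G) (hQE : Q ≤ E) (hEU : E ≤ Subgroup.normalizer ((U : Subgroup G) : Set G)) (hQn : ¬ E ≤ Subgroup.normalizer ((Q : Subgroup G) : Set G)) [hn : ((Subgroup.centralizer ((U : Subgroup G) : Set G)).subgroupOf E).Normal] (hred : Cfsg.pCore p (↥E ⧸ (Subgroup.centralizer ((U : Subgroup G) : Set G)).subgroupOf E) = ⊥) (hqs : Cfsg.IsQuasisimple ↥(((Cfsg.pResidual p ↥E) ⊔ (Subgroup.centralizer ((U : Subgroup G) : Set G)).subgroupOf E).map (QuotientGroup.mk' ((Subgroup.centralizer ((U : Subgroup G) : Set G)).subgroupOf E)))) (Er : Subgroup G) (hEr : Er = ((Cfsg.pResidual p ↥(Cfsg.weakClosure Q E)).map ((Cfsg.weakClosure Q E)).subtype)) [hn2 : ((Subgroup.centralizer ((U : Subgroup G) : Set G)).subgroupOf Er).Normal] : ((Cfsg.pResidual p ↥E).map (E).subtype)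 ⊔ (E ⊓ Subgroup.centralizer ((U : Subgroup G) : Set G)) = Er ⊔ (E ⊓ Subgroup.centralizer ((U : Subgroup G) : Set G)) ∧ ⁅Er, Er⁆ = Er ∧ ((Cfsg.pResidual p ↥Er).map (Er).subtype) = Er ∧ Cfsg.IsQuasisimple (↥Er ⧸ (Subgroup.centralizer ((U : Subgroup G) : Set G)).subgroupOf Er) ∧ Cfsg.IsQuasisimple (↥Er ⧸ Cfsg.pCore p ↥Er) ∧ ∀ Y : Subgroup G, Y ≤ E → IsPGroup p ↥Y → ¬ Y ≤ Subgroup.centralizer ((U : Subgroup G) : Set G) → ⁅Er, Y⁆ = Er := by
  have h := large_wc hQ hQp hQ1
  rw [h.weakClosure_eq hQE, H2.pResidual_map_subtype] at hEr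
  rw [H2.pResidual_map_subtype, H2.pResidual_map_subtype]
  set C := centralizer (U : Set G) with hC
  set f := QuotientGroup.mk' (C.subgroupOf E) with hf
  have hs : Function.Surjective f := QuotientGroup.mk'_surjective _
  have hk : kr f = C ⊓ E := kr_mk'_subgroupOf'
  have hO : Op p (⊤ : Subgroup (E ⧸ C.subgroupOf E)) = ⊥ := (Op_top p).trans hred
  have hq : IsQuasisimple (resOf p (⊤ : Subgroup (E ⧸ C.subgroupOf E))) := by
    rw [Subgroup.map_sup, (Subgroup.map_eq_bot_iff _).2 (QuotientGroup.ker_mk' _).ge, sup_bot_eq,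
      ← H2.resOf_top, H2.map_resOf, ← MonoidHom.range_eq_map, MonoidHom.range_eq_top.2 hs] at hqs
    exact hqs
  have hne : ∀ Y, Y ≤ E → ¬ Y ≤ C → im f Y ≠ ⊥ := fun Y h1 h2 h0 =>
    h2 ((((im_eq_bot_iff f h1).1 h0).trans hk.le).trans inf_le_left)
  have hW : ncl Q E ≤ E := ncl_le_of_le hQE
  have hrW : Er ≤ ncl Q E := hEr ▸ H2.resOf_le _ _
  have hrE : Er ≤ E := hrW.trans hW
  have hnE : E ≤ normalizer (Er : Set G) :=
    hEr ▸ (le_normalizer_ncl Q E).trans (H2.normalizer_le_normalizer_resOf p _)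
  have hrr : resOf p Er = Er := by rw [hEr, H2.resOf_resOf]
  have h1 : im f Er = resOf p ⊤ := by
    rw [hEr, im_resOf f hW]
    refine resOf_eq_of_le ?_ le_top
    rw [← commutator_eq_of_qs_resOf hO hq (isPGroup_im f hQp) le_top (hne Q hQE fun h0 =>
      hQn (hEU.trans (hQ.2 U (le_centralizer_iff.1 h0) hU1))), im_ncl f hQE le_rfl,
      im_self_of_surj f hs, ncl_eq_sup_commutator, commutator_comm]
    exact le_sup_of_le_right (commutator_mono le_rfl le_top)
  have h2 := (large_commutator_le hQ hQp (elem_isPGroup hU) hU1 hEU hQE).2.trans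
    inf_le_right
  have h3 : ⁅Er ⊓ C, Er⁆ ≤ Op p Er := by
    rw [Op_eq_inf_of_sn p (hEr ▸ sn_resOf p (ncl Q E) : SN (ncl Q E) Er)]
    refine le_inf ?_ ((commutator_mono inf_le_left le_rfl).trans (commutator_le_self _))
    rw [commutator_comm]
    exact (commutator_mono hrW inf_le_right).trans h2
  have h4 : Group.IsSolvable ↥(Er ⊓ C) := solvable_of_commutator_le
    (solvable_of_isPGroup (Op_isPGroup p Er)) ((commutator_mono le_rfl inf_le_left).trans h3)
  have h5 : ∀ N, N ≤ Er → im f N = im f Er → Er ≤ N ⊔ (Er ⊓ C) := fun N a b => by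
    have c := (im_le_im_iff f hrE (a.trans hrE)).1 b.ge
    have d := sup_inf_of_norm ((a.trans hrE).trans (le_normalizer_kr f)) a
    rw [inf_of_le_right c, hk] at d
    exact d.le.trans (sup_le_sup_left (le_inf inf_le_right (inf_le_left.trans inf_le_left)) _)
  have h6 : ⁅Er, Er⁆ = Er := by
    have a := h5 _ (commutator_le_self Er) (by rw [im_commutator f hrE hrE, h1, qs_perfect hq])
    refine le_antisymm (commutator_le_self _) ?_
    have n1 : Er ≤ normalizer ((⁅Er, Er⁆ : Subgroup G) : Set G) := normalizer_commutator_ge_left _ _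
    have b : ⁅Er, Q⁆ ≤ Op p (ncl Q E) ⊔ ⁅Er, Er⁆ := by
      have n2 : E ≤ normalizer ((Op p (ncl Q E) ⊔ ⁅Er, Er⁆ : Subgroup G) : Set G) :=
        le_normalizer_sup (le_normalizer_Op_of p (le_normalizer_ncl _ _))
          (le_normalizer_commutator hnE hnE)
      refine (commutator_mono a le_rfl).trans (commutator_sup_le_of_norm ?_ ?_
        ((sup_le ((commutator_le_self _).trans hrE) (inf_le_left.trans hrE)).trans n2))
      · exact (commutator_le_left_of_norm (hQE.trans (le_normalizer_commutator hnE hnE))).trans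
          le_sup_right
      · rw [commutator_comm]
        exact ((commutator_mono (le_ncl _ _) inf_le_right).trans h2).trans le_sup_left
    have c : ⁅Er, Q⁆ = Er := hEr ▸ h.commutator_resOf_ncl le_top
    rw [c] at b
    exact hrr.ge.trans ((H2.resOf_mono b).trans (resOf_sup_le_of_le
      (((Op_le p _).trans hW).trans (le_normalizer_commutator hnE hnE))
      (by rw [H2.resOf_eq_bot_of_isPGroup (Op_isPGroup p _)]; exact bot_le)))
  have h7 : IsQuasisimple (Er ⧸ C.subgroupOf Er) := by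
    obtain ⟨e⟩ := nonempty_quot_equiv_im' f hrE (N := C)
      (by rw [hk, inf_assoc, inf_of_le_right hrE])
    exact (qs_congr e).2 (h1 ▸ hq)
  refine ⟨?_, h6, hrr, h7, ?_, fun Y a b c => ?_⟩
  · rw [inf_comm, ← hk, ← pre_im f hrE, ← pre_im f (H2.resOf_le _ _), h1, im_resOf f le_rfl,
      im_self_of_surj f hs]
  · have a : Op p Er ≤ C := by
      refine le_trans ?_ (hk.le.trans inf_le_left)
      rw [← im_eq_bot_iff f ((Op_le p _).trans hrE)]
      refine eq_bot_mono (le_Op le_top ?_ (isPGroup_im f (Op_isPGroup p _))) hO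
      rw [← im_self_of_surj f hs]
      exact im_le_normalizer f (le_normalizer_Op_of p hnE)
    have b : pCore p Er ≤ C.subgroupOf Er := map_subtype_le_iff.1 a
    let g := QuotientGroup.map (pCore p Er) (C.subgroupOf Er) (MonoidHom.id _) b
    have hg : Function.Surjective g := fun x => by
      obtain ⟨y, rfl⟩ := QuotientGroup.mk_surjective x
      exact ⟨y, rfl⟩
    let π := QuotientGroup.mk' (pCore p Er)
    have hπ : Function.Surjective π := QuotientGroup.mk'_surjective _
    refine qs_top_iff.1 (qs_of_map g ?_ ?_ ?_)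
    · rw [← im_self_of_surj π hπ, ← im_commutator π le_rfl le_rfl, h6]
    · have c : g.ker ⊓ ⊤ ≤ im π (Er ⊓ C) := by
        intro x hx
        obtain ⟨y, rfl⟩ := QuotientGroup.mk_surjective x
        exact (mem_im π).2 ⟨y, ⟨y.2, (QuotientGroup.eq_one_iff (N := C.subgroupOf Er) y).1 hx.1⟩, rfl⟩
      refine eq_bot_mono (commutator_mono c (im_self_of_surj π hπ).ge) ?_
      rw [commutator_im_eq_bot_iff π inf_le_left le_rfl, kr_mk']
      exact h3
    · rw [← MonoidHom.range_eq_map, MonoidHom.range_eq_top.2 hg]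
      exact qs_top_iff.2 h7
  · have d : ⁅Er, Y⁆ ≤ Er := commutator_le_left_of_norm (a.trans hnE)
    refine le_antisymm d (le_of_perfect_of_solvable h6 h4
      ((sup_le le_rfl inf_le_left).trans (normalizer_commutator_ge_left _ _)) (h5 _ d ?_))
    rw [im_commutator f hrE a, h1,
      commutator_eq_of_qs_resOf hO hq (isPGroup_im f b) le_top (hne Y a c)]

end Cfsg.Agent.S2860
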