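import Cfsg.Statements.S2864
import Cfsg.Agent.H8.Weak

set_option autoImplicit false
open Cfsg

namespace Cfsg.Agent.S2864

open Cfsg.Agent.H8

open Subgroup
open Cfsg.Agent.H2 (resOf)

/-- Standing hypotheses: G a finite group, S a Sylow p-subgroup, Q a nontrivial large p-subgroup of G contained in S, M a subgroup containing S with the basic property (M ∈ 𝔐_G(S)); Y_M the largest p-reduced normal subgroup of M and M† = M·C_G(Y_M). Let I be a nontrivial normal p-subgroup of M and Y ≤ O_p(M†); let L be a subgroup of G containing Y and A a normal p-subgroup of L with I ≤ A ≤ M. If [Y, A] ≤ [I, A], then Y ≤ O_p(L). -/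
theorem result {G : Type*} [Group G] [Finite G] {p : ℕ} [Fact p.Prime] (S : Sylow p G) (Q : Subgroup G) (hQp : IsPGroup p ↥Q) (hQ1 : Q ≠ ⊥) (hQS : Q ≤ (S : Subgroup G)) (hQ : Cfsg.IsLarge Q) (M : Subgroup G) (hSM : (S : Subgroup G) ≤ M) (hM : Cfsg.IsInFrakM p M) (I : Subgroup G) (hI1 : I ≠ ⊥) (hIp : IsPGroup p ↥I) (hIM : I ≤ M ∧ M ≤ Subgroup.normalizer ((I : Subgroup G) : Set G)) (Y : Subgroup G) (hY : Y ≤ (Cfsg.pCoreOf p (M ⊔ Subgroup.centralizer (((Cfsg.largestPReducedOf p M) : Subgroup G) : Set G)))) (L : Subgroup G) (hYL : Y ≤ L) (A : Subgroup G) (hAp : IsPGroup p ↥A) (hAL : A ≤ L ∧ L ≤ Subgroup.normalizer ((A : Subgroup G) : Set G)) (hIA : I ≤ A) (hAM : A ≤ M) (hc : ⁅Y, A⁆ ≤ ⁅I, A⁆) : Y ≤ (Cfsg.pCoreOf p L) := by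
  have h := fm_of S hQp hQ hSM hM
  have hK : ncl Y L ≤ L := ncl_le_of_le hYL
  have h1 : ⁅ncl Y L, A⁆ ≤ ⁅A, A⁆ := by
    refine commutator_iSup_le_of_norm (fun x => ?_) fun x =>
      (cj_le_of_mem' hYL x.2).trans (le_normalizer_commutator hAL.2 hAL.2)
    have := cj_mono (hc.trans (commutator_mono hIA le_rfl)) (x : G)
    rwa [cj_commutator, cj_commutator, cj_eq_of_mem_normalizer (hAL.2 x.2)] at this
  have h2 : resOf p (ncl Y L) ≤ centralizer (A : Set G) := by
    rw [← commutator_eq_bot_iff_le_centralizer, commutator_comm, ← le_bot_iff]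
    refine commutator_resOf_le (le_normalizer_bot _) fun x hx h3 => ?_
    have h4 : zpowers x ≤ ncl Y L := (zpowers_le).2 hx
    have h5 := H1.commutator_sup_centralizer ((h4.trans hK).trans hAL.2)
      (by rw [Nat.card_zpowers]; exact (coprime_of_isPGroup hAp h3).symm)
      (Or.inr (solvable_of_isPGroup hAp))
    have h6 := eq_of_sup_Phi (inf_le_left : A ⊓ centralizer (zpowers x : Set G) ≤ A)
      (commutator_le_Phi_of_nilpotent hAp.isNilpotent) (h5.ge.trans (sup_le (le_sup_of_le_right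
        ((commutator_comm _ _).le.trans ((commutator_mono h4 le_rfl).trans h1))) le_sup_left))
    exact (commutator_eq_bot_iff_le_centralizer.2 (h6.ge.trans inf_le_right)).le
  have h3 : resOf p (ncl Y L) ≤ Dag p M := (h2.trans (centralizer_anti hIA)).trans
    ((le_normalizer_of_le_centralizer le_rfl).trans (h.normalizer_le_Dag hIp hI1 hIM.2))
  have h4 : SN L (Y ⊔ resOf p (ncl Y L)) := (SN.of_norm hK (le_normalizer_ncl _ _)).trans
    (sn_of_resOf_le le_sup_right (sup_le (le_ncl _ _) (H2.resOf_le _ _)))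
  exact (le_inf hY le_sup_left).trans ((inf_Op_le p (sup_le (hY.trans (Op_le p _)) h3)).trans
    (Op_le_Op_of_sn p h4))

end Cfsg.Agent.S2864
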