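import Cfsg.Statements.S2872
import Mathlib
import Cfsg.Agent.H2.Loc2

set_option autoImplicit false
open Cfsg

namespace Cfsg.Agent.S2872

open Cfsg.Agent.H2 Cfsg.Agent.H8 Subgroup

/-- Let S be a Sylow 2-subgroup of the finite group G. Then G has a proper normal subgroup of 2-power index (O²(G) ≠ G), or Ω₁(Z(S)) is contained in the Frattini subgroup of S, or N_G(S) acts nontrivially on Ω₁(Z(S)) by conjugation. -/
theorem result {G : Type*} [Group G] [Finite G] (S : Sylow 2 G) : Cfsg.pResidual 2 G ≠ ⊤ ∨ Cfsg.omegaOne 2 ((S : Subgroup G) ⊓ Subgroup.centralizer ((S : Subgroup G) : Set G)) ≤ (frattini ↥(S : Subgroup G)).map (S : Subgroup G).subtype ∨ ∃ g ∈ Subgroup.normalizer ((S : Subgroup G) : Set G), ∃ z ∈ Cfsg.omegaOne 2 ((S : Subgroup G) ⊓ Subgroup.centralizer ((S : Subgroup G) : Set G)), g * z * g⁻¹ ≠ z := by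
  by_contra h
  push Not at h
  obtain ⟨h1, h2, h3⟩ := h
  refine h2 fun u hu => ?_
  have hK : resOf 2 (⊤ : Subgroup G) = ⊤ := by rw [resOf_top, h1]
  exact mem_Phi_of_central (sylIn_top S) (omega_Zc_le 2 _ hu) (fun g hg => h3 g hg u hu)
    ((elem_omega_Zc 2 (S : Subgroup G)).2 u hu)
    (le_commutator_of_resOf_eq hK S.isPGroup' le_top (omega_Zc_le 2 _ hu))

end Cfsg.Agent.S2872
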