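import Cfsg.Statements.S2873
import Cfsg.Agent.L.Cores

set_option autoImplicit false
open Cfsg

namespace Cfsg.Agent.S2873

open Cfsg.Agent Subgroup DihedralGroup
open scoped Pointwise commutatorElement
theorem refl {n : ℕ} (h : Odd n) {x : DihedralGroup n} (h1 : x ≠ 1) (h2 : x * x = 1) : ∃ i, x = sr i := by
  rcases x with i | i
  · refine (h1 ?_).elim
    rw [r_mul_r, one_def, r.injEq, ← two_mul] at h2
    rw [((ZMod.isUnit_iff_coprime 2 n).2 h.coprime_two_left).mul_right_eq_zero (b := i) |>.1 (by exact_mod_cast h2), one_def]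
  exact ⟨i, rfl⟩

/-- Let G be a finite group and r an odd prime such that G ⧸ O₂(G) is dihedral of order 2r, and let R be a Sylow r-subgroup of G with C_{O₂(G)}(R) = 1. Then N_G(R) is dihedral of order 2r; for any involution a of N_G(R), every involution of G outside O₂(G) is conjugate to a; and |C_{O₂(G)}(a)|² = |O₂(G)|. -/
theorem result {G : Type*} [Group G] [Finite G] {r : ℕ} [Fact r.Prime] (hr : r ≠ 2) [hN : (Cfsg.pCore 2 G).Normal] (hquot : Nonempty (G ⧸ Cfsg.pCore 2 G ≃* DihedralGroup r)) (R : Sylow r G) (hC : Cfsg.pCore 2 G ⊓ Subgroup.centralizer ((R : Subgroup G) : Set G) = ⊥) : Nonempty (↥(Subgroup.normalizer ((R : Subgroup G) : Set G)) ≃* DihedralGroup r) ∧ ∀ a : G, a ∈ Subgroup.normalizer ((R : Subgroup G) : Set G) → orderOf a = 2 → (∀ b : G, orderOf b = 2 → b ∉ Cfsg.pCore 2 G → ∃ g : G, g * a * g⁻¹ = b) ∧ Nat.card ↥(Cfsg.pCore 2 G ⊓ Subgroup.centralizer ({a} : Set G)) ^ 2 = Nat.card ↥(Cfsg.pCore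 2 G) := by
  have hp : r.Prime := Fact.out
  have ho := hp.odd_of_ne_two hr
  have : NeZero r := ⟨hp.ne_zero⟩
  obtain ⟨e⟩ := hquot
  obtain ⟨φ, hφ, hk⟩ : ∃ φ : G →* DihedralGroup r, Function.Surjective φ ∧ φ.ker = pCore 2 G :=
    ⟨e.toMonoidHom.comp (QuotientGroup.mk' _), e.surjective.comp (QuotientGroup.mk'_surjective _), by ext; simp⟩
  have hO := hk ▸ L.pCore_isPGroup 2 G
  rw [← hk] at hC ⊢
  set N := normalizer (R.1 : Set G)
  have h1 : ∀ x ∈ N, φ x = 1 → x = 1 := fun x hx a => hC.le ⟨a, fun y hy => by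
    have := (IsPGroup.disjoint_of_ne 2 r hr.symm _ _ hO R.2).le_bot (show x * y * x⁻¹ * y⁻¹ ∈ _ from
      ⟨by simp [MonoidHom.mem_ker, show φ x = 1 from a], R.1.mul_mem ((mem_normalizer_iff.1 hx y).1 hy) (R.1.inv_mem hy)⟩)
    rw [mem_bot, mul_inv_eq_one, mul_inv_eq_iff_eq_mul] at this
    exact this.symm⟩
  have inj : ∀ x ∈ N, ∀ y ∈ N, φ x = φ y → x = y := fun x a y b c => mul_inv_eq_one.1 (h1 _ (mul_mem a (inv_mem b)) (by simp [c]))
  have h2 : ∀ g, ∃ o ∈ φ.ker, ∃ n ∈ N, o * n = g := fun g => by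
    have a : (R.mapSurjective hφ).1.Normal := normal_of_index_eq_two (by
      have := (R.mapSurjective hφ).1.card_mul_index
      rw [Sylow.card_eq_multiplicity, nat_card, Nat.factorization_mul two_ne_zero hp.ne_zero, Finsupp.add_apply, hp.factorization_self,
        Nat.factorization_eq_zero_of_not_dvd (by rwa [Nat.prime_dvd_prime_iff_eq hp Nat.prime_two]), zero_add, pow_one, mul_comm] at this
      exact Nat.eq_of_mul_eq_mul_right hp.pos this)
    have : ((R.1.map φ).comap φ).Normal := a.comap φ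
    have b : N ⊔ _ = ⊤ := Sylow.normalizer_sup_eq_top' R (le_comap_map φ R.1)
    rw [comap_map_eq, ← sup_assoc, sup_eq_left.2 le_normalizer, sup_comm] at b
    exact mem_sup_of_normal_left.1 (b.ge (mem_top g))
  have sj : ∀ d, ∃ n ∈ N, φ n = d := fun d => by
    obtain ⟨g, rfl⟩ := hφ d
    obtain ⟨o, a, n, b, rfl⟩ := h2 g
    exact ⟨n, b, by simp [show φ o = 1 from a]⟩
  have key : ∀ b c : G, b * b = 1 → c * c = 1 → ∀ i j, i ≠ j → φ b = sr i → φ c = sr j → ∃ o ∈ φ.ker, o⁻¹ * b * o ∈ N ∧ o⁻¹ * c * o ∈ N := by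
    intro b c hb hc i j ij bi cj
    obtain ⟨k, hk⟩ := IsPGroup.iff_card.1 hO
    have a : φ (b * c) ^ r = 1 := by rw [map_mul, bi, cj, sr_mul_sr, r_pow, ZMod.natCast_self, mul_zero, one_def]
    have a' : orderOf (φ (b * c)) = r := orderOf_eq_prime a (by rw [map_mul, bi, cj, sr_mul_sr, one_def, Ne, DihedralGroup.r.injEq, sub_eq_zero]; exact ij.symm)
    have d : orderOf ((b * c) ^ 2 ^ k) = r := orderOf_eq_prime (by
        rw [← pow_mul, mul_comm, pow_mul, ← hk]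
        exact congrArg Subtype.val (pow_card_eq_one' (x := (⟨(b * c) ^ r, by rwa [MonoidHom.mem_ker, map_pow]⟩ : φ.ker)))) fun e => by
      have := orderOf_dvd_of_pow_eq_one (show φ (b * c) ^ 2 ^ k = 1 by rw [← map_pow, e, map_one])
      exact hr ((Nat.prime_dvd_prime_iff_eq hp Nat.prime_two).1 (hp.dvd_of_dvd_pow (a' ▸ this)))
    have f : ¬ r ∣ (zpowers ((b * c) ^ 2 ^ k)).index := fun f => by
      have g := (zpowers ((b * c) ^ 2 ^ k)).card_mul_index
      rw [Nat.card_zpowers, d, ← φ.ker.card_mul_index, index_ker, MonoidHom.range_eq_top.2 hφ, card_top, nat_card, hk, ← mul_assoc, mul_comm] at g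
      rw [Nat.eq_of_mul_eq_mul_right hp.pos g, ← pow_succ] at f
      exact hr ((Nat.prime_dvd_prime_iff_eq hp Nat.prime_two).1 (hp.dvd_of_dvd_pow f))
    obtain ⟨g, hg⟩ := MulAction.exists_smul_eq G R ((IsPGroup.of_card (n := 1) (by rw [Nat.card_zpowers, d, pow_one])).toSylow f)
    obtain ⟨o, a, n, l, rfl⟩ := h2 g
    rw [mul_smul, Sylow.smul_eq_iff_mem_normalizer.2 l] at hg
    have m : ∀ t : G, t * (b * c) * t⁻¹ = (b * c)⁻¹ → o⁻¹ * t * o ∈ N := fun t ht => by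
      refine Sylow.smul_eq_iff_mem_normalizer.1 ?_
      rw [mul_smul, mul_smul, hg, inv_smul_eq_iff, hg]
      refine Sylow.ext ?_
      change (zpowers _).map (MulAut.conj t).toMonoidHom = zpowers _
      rw [MonoidHom.map_zpowers, map_pow]
      change zpowers ((t * _ * t⁻¹) ^ _) = _
      rw [ht, inv_pow, zpowers_inv]
    have hb' := inv_eq_of_mul_eq_one_right hb
    have hc' := inv_eq_of_mul_eq_one_right hc
    exact ⟨o, a, m b (by rw [← mul_assoc, hb, one_mul, mul_inv_rev, hc']), m c (by rw [mul_inv_rev, hc', hb', mul_assoc, mul_assoc, hc, mul_one])⟩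
  have cj : ∀ x ∈ N, ∀ y ∈ N, ∀ i j, φ x = sr i → φ y = sr j → ∃ g ∈ N, g * x * g⁻¹ = y := fun x hx y hy i j a b => by
    obtain ⟨u, hu⟩ := ((ZMod.isUnit_iff_coprime 2 r).2 ho.coprime_two_left).exists_right_inv
    obtain ⟨g, hg, c⟩ := sj (DihedralGroup.r (u * (i - j)))
    refine ⟨g, hg, inj _ (mul_mem (mul_mem hg hx) (inv_mem hg)) _ hy ?_⟩
    rw [map_mul, map_mul, map_inv, a, b, c, inv_r, r_mul_sr, sr_mul_r, sr.injEq]
    push_cast at hu
    linear_combination (j - i) * hu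
  refine ⟨⟨MulEquiv.ofBijective (φ.comp N.subtype) ⟨fun x y a => Subtype.ext (inj _ x.2 _ y.2 a), fun d => ?_⟩⟩, fun a ha a2 => ?_⟩
  · obtain ⟨n, a, b⟩ := sj d
    exact ⟨⟨n, a⟩, b⟩
  have sq : ∀ x : G, orderOf x = 2 → x * x = 1 := fun x h => by rw [← pow_two, ← h, pow_orderOf_eq_one]
  obtain ⟨i, hi⟩ := refl ho (x := φ a) (fun e => by simp [h1 a ha e] at a2) (by rw [← map_mul, sq a a2, map_one])
  have s : ∀ j, ∃ c ∈ N, φ c = sr j ∧ c * c = 1 := fun j => by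
    obtain ⟨c, hc, d⟩ := sj (sr j)
    exact ⟨c, hc, d, h1 _ (mul_mem hc hc) (by rw [map_mul, d, sr_mul_self])⟩
  have cf : ∀ o ∈ φ.ker, ∀ x, φ (o⁻¹ * x * o) = φ x := fun o h x => by simp [show φ o = 1 from h]
  constructor
  · intro b b2 hb
    obtain ⟨j, hj⟩ := refl ho (x := φ b) hb (by rw [← map_mul, sq b b2, map_one])
    obtain ⟨c, -, d, f⟩ := s (j + 1)
    obtain ⟨o, g, l, -⟩ := key b c (sq b b2) f j _ (by simp) hj d
    obtain ⟨g, -, m⟩ := cj a ha _ l i j hi ((cf o g b).trans hj)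
    exact ⟨o * g, by rw [mul_inv_rev, show o * g * a * (g⁻¹ * o⁻¹) = o * (g * a * g⁻¹) * o⁻¹ by group, m]; group⟩
  obtain ⟨c, hc, d, f⟩ := s (i + 1)
  obtain ⟨g, -, hg⟩ := cj a ha c hc i _ hi d
  have l : Nat.card ↥(φ.ker ⊓ centralizer {c}) = Nat.card ↥(φ.ker ⊓ centralizer {a}) := by
    refine (Nat.card_congr ((MulAut.conj g).toEquiv.subtypeEquiv fun x => ?_)).symm
    simp only [mem_inf, mem_centralizer_singleton_iff, ← hg, MulEquiv.toEquiv_eq_coe, EquivLike.coe_coe, MulAut.conj_apply, conj_mul,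
      mul_left_inj, mul_right_inj, MonoidHom.mem_ker, map_mul, map_inv, conj_eq_one_iff]
  rw [pow_two]
  nth_rw 2 [← l]
  rw [← Nat.card_prod]
  refine Nat.card_congr (Equiv.ofBijective (fun x => ⟨x.1 * x.2, mul_mem x.1.2.1 x.2.2.1⟩) ⟨fun x y h => ?_, fun o => ?_⟩)
  · have h : (y.1 : G)⁻¹ * x.1 = y.2 * (x.2 : G)⁻¹ := by
      rw [inv_mul_eq_iff_eq_mul, ← mul_assoc, eq_mul_inv_iff_mul_eq]; exact congrArg Subtype.val h
    have m : (y.1 : G)⁻¹ * x.1 = 1 := hC.le ⟨(y.1⁻¹ * x.1).2.1, fun z hz => by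
      have n : Commute (a * c) ((y.1 : G)⁻¹ * x.1) := Commute.mul_left ((y.1⁻¹ * x.1).2.2 a rfl) (h ▸ (y.2 * x.2⁻¹).2.2 c rfl)
      obtain ⟨k, hk⟩ := R.2 ⟨z, hz⟩
      rcases u : φ z with j | j
      · rw [inj z (le_normalizer hz) _ (pow_mem (mul_mem ha hc) j.val) (by rw [u, map_pow, map_mul, hi, d, sr_mul_sr, r_pow]; simp)]
        exact n.pow_left _
      have := orderOf_dvd_of_pow_eq_one (show φ z ^ r ^ k = 1 by rw [← map_pow, show z ^ r ^ k = 1 from congrArg Subtype.val hk, map_one])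
      rw [u, orderOf_sr] at this
      exact (hr ((Nat.prime_dvd_prime_iff_eq Nat.prime_two hp).1 (Nat.prime_two.dvd_of_dvd_pow this)).symm).elim⟩
    exact Prod.ext (Subtype.ext (inv_mul_eq_one.1 m).symm) (Subtype.ext (mul_inv_eq_one.1 (h ▸ m)).symm)
  have m := cf _ (inv_mem o.2) c
  rw [inv_inv] at m
  obtain ⟨u, hu, v, w⟩ := key a (o * c * o⁻¹) (sq a a2) (by simp [f]) i _ (by simp) hi (m.trans d)
  have v := inj _ v _ ha (cf u hu a)
  have w := inj _ w _ hc ((cf u hu _).trans m)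
  refine ⟨(⟨u, hu, mem_centralizer_singleton_iff.2 ?_⟩, ⟨u⁻¹ * o, φ.ker.mul_mem (φ.ker.inv_mem hu) o.2, mem_centralizer_singleton_iff.2 ?_⟩), Subtype.ext (by simp)⟩
  · nth_rw 1 [← v]; group
  nth_rw 2 [← w]; simp [mul_assoc]

end Cfsg.Agent.S2873
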