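import Cfsg.Statements.S2874
import Mathlib

set_option autoImplicit false
open Cfsg

namespace Cfsg.Agent.S2874

open Matrix

abbrev M2 (R : Type) := Matrix (Fin 2) (Fin 2) R

theorem d3 : ∀ X : M2 (ZMod 2), X * X * X = 1 → ((X - 1).det = 1 ∧ X 1 0 = 1) ∨ (X * X + X + 1).det = 1 := by
  simp only [Matrix.det_fin_two]
  decide +kernel

def s0 : alternatingGroup (Fin 4) := ⟨Equiv.swap 0 1 * Equiv.swap 1 2, by rw [Equiv.Perm.mem_alternatingGroup]; decide⟩
def t0 : alternatingGroup (Fin 4) := ⟨Equiv.swap 0 1 * Equiv.swap 2 3, by rw [Equiv.Perm.mem_alternatingGroup]; decide⟩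

theorem a4 : s0 * s0 * s0 = 1 ∧ s0 ≠ 1 ∧ t0 * t0 = 1 ∧ t0 ≠ 1 ∧ t0 * (s0 * t0 * s0⁻¹) = s0 * (s0 * t0 * s0⁻¹) * s0⁻¹ ∧
    ∀ g : alternatingGroup (Fin 4), ∃ i : Fin 3, ∃ j : Fin 2, ∃ l : Fin 2,
      g = s0 ^ i.val * t0 ^ j.val * (s0 * t0 * s0⁻¹) ^ l.val := by decide +kernel

section
variable {R : Type} [CommRing R]

def Cg (R : Type) [CommRing R] : GL (Fin 2) R :=
  ⟨!![0, -1; 1, -1], !![-1, 1; -1, 0], by simp [Matrix.one_fin_two], by simp [Matrix.one_fin_two]⟩

def TT (a b : R) : M2 R := !![1 + a, b; a + b, 1 + a]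

def K (R : Type) [CommRing R] : Subgroup (GL (Fin 2) R) :=
  Subgroup.closure {g | g = Cg R ∨ ∃ a b : R, a + a = 0 ∧ b + b = 0 ∧ (g : M2 R) = TT a b}

theorem cj (t : GL (Fin 2) R) (a b : R) (ha : a + a = 0) (hb : b + b = 0) (h : (t : M2 R) = TT a b) :
    ((Cg R * t * (Cg R)⁻¹ : GL (Fin 2) R) : M2 R) = TT b (a + b) := by
  show !![0, -1; 1, -1] * (t : M2 R) * !![-1, 1; -1, 0] = _
  rw [h]
  ext i j
  fin_cases i <;> fin_cases j <;> simp [TT]
  · linear_combination ha
  · linear_combination - ha - hb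
  · linear_combination - hb
  · linear_combination - hb

theorem form (V : ∀ x y : R, x + x = 0 → y + y = 0 → x * y = 0) (t : GL (Fin 2) R) (h1 : t * t = 1)
    (h2 : t * (Cg R * t * (Cg R)⁻¹) = Cg R * (Cg R * t * (Cg R)⁻¹) * (Cg R)⁻¹) :
    ∃ a b : R, a + a = 0 ∧ b + b = 0 ∧ (t : M2 R) = TT a b := by
  have hd : Matrix.GeneralLinearGroup.det t = 1 := by
    have k1 := congrArg Matrix.GeneralLinearGroup.det h2
    simp only [map_mul, map_inv, mul_inv_cancel_comm] at k1
    exact mul_eq_right.1 k1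
  have e1 : (t : M2 R) * t = 1 := congrArg Units.val h1
  have e2 : (t : M2 R) * (!![0, -1; 1, -1] * (t : M2 R) * !![-1, 1; -1, 0]) =
      !![0, -1; 1, -1] * (!![0, -1; 1, -1] * (t : M2 R) * !![-1, 1; -1, 0]) * !![-1, 1; -1, 0] := congrArg Units.val h2
  have e3 : (t : M2 R).det = 1 := congrArg Units.val hd
  generalize (t : M2 R) = T at e1 e2 e3
  rw [Matrix.eta_fin_two T] at e1 e2 e3 ⊢
  generalize T 0 0 = p at *
  generalize T 0 1 = q at *
  generalize T 1 0 = r at *
  generalize T 1 1 = w at *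
  rw [Matrix.det_fin_two_of] at e3
  have a00 := congrFun (congrFun e1 0) 0
  have a01 := congrFun (congrFun e1 0) 1
  have a10 := congrFun (congrFun e1 1) 0
  have a11 := congrFun (congrFun e1 1) 1
  have b00 := congrFun (congrFun e2 0) 0
  simp at a00 a01 a10 a11 b00
  have f1 : p * (p + w) = 2 := by linear_combination a00 + e3
  have f2 : w * (p + w) = 2 := by linear_combination a11 + e3
  have f3 : q * (p + w) = 0 := by linear_combination a01
  have f4 : r * (p + w) = 0 := by linear_combination a10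
  have g1 : 2 * p = p + w := by linear_combination (-p) * f1 + (p + w) * a00 - r * f3
  have g3 : 2 * q = 0 := by linear_combination (-q) * f1 + p * f3
  have g4 : 2 * r = 0 := by linear_combination (-r) * f1 + p * f4
  have hw : w = p := by linear_combination -g1
  subst hw
  have g5 : 2 * w = 2 := by
    linear_combination (-2) * b00 + f1 + (w + q) * g4 - (q - 1) * g3
  obtain ⟨a, rfl⟩ : ∃ a, w = 1 + a := ⟨w - 1, by ring⟩
  have ha : a + a = 0 := by linear_combination g5
  have hq : q + q = 0 := by linear_combination g3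
  have hr : r + r = 0 := by linear_combination g4
  have : r = a + q := by
    linear_combination b00 - V a r ha hr - V a a ha ha - V q r hq hr + V q q hq hq - ha - hq
  exact ⟨a, q, ha, hq, by rw [this]; rfl⟩

theorem core (π : R →+* ZMod 2) (hπ : ∀ x, π x = 1 → IsUnit x) (V : ∀ x y : R, x + x = 0 → y + y = 0 → x * y = 0)
    (U : ∃ h : R, ∀ x : R, x + x = 0 → x = 0 ∨ x = h) (H : Subgroup (GL (Fin 2) R))
    (e : H ≃* alternatingGroup (Fin 4)) : ∃ g : GL (Fin 2) R, H = (K R).map (MulAut.conj g).toMonoidHom := by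
  obtain ⟨r1, r2, r3, r4, r5, r6⟩ := a4
  let φ : alternatingGroup (Fin 4) →* GL (Fin 2) R := H.subtype.comp e.symm.toMonoidHom
  have hφ : Function.Injective φ := H.subtype_injective.comp e.symm.injective
  have hm : ∀ x, φ x ∈ H := fun x => (e.symm x).2
  have k1 : φ s0 * φ s0 * φ s0 = 1 := by rw [← map_mul, ← map_mul, r1, map_one]
  have k2 : φ s0 ≠ 1 := fun h => r2 (hφ (h.trans φ.map_one.symm))
  have k3 : φ t0 * φ t0 = 1 := by rw [← map_mul, r3, map_one]
  have k4 : φ t0 ≠ 1 := fun h => r4 (hφ (h.trans φ.map_one.symm))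
  have k5 := congrArg φ r5
  simp only [map_mul, map_inv] at k5
  have k6 : ∀ x ∈ H, ∃ i j l : ℕ, x = φ s0 ^ i * φ t0 ^ j * (φ s0 * φ t0 * (φ s0)⁻¹) ^ l := fun x hx => by
    obtain ⟨i, j, l, h⟩ := r6 (e ⟨x, hx⟩)
    refine ⟨i, j, l, ?_⟩
    have := congrArg φ h
    simp only [map_mul, map_inv, map_pow] at this
    rw [← this]
    exact (congrArg Subtype.val (e.symm_apply_apply ⟨x, hx⟩)).symm
  have hs := hm s0
  have ht := hm t0
  generalize φ s0 = s at *
  generalize φ t0 = t at *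
  have m1 : (s : M2 R) * s * s = 1 := congrArg Units.val k1
  have m2 : ((s : M2 R) - 1) * (s * s + s + 1) = 0 := by
    rw [← sub_self (1 : M2 R)]
    nth_rewrite 3 [← m1]
    noncomm_ring
  have m3 : (s : M2 R) * s + s + 1 = 0 ∧ IsUnit ((s : M2 R) 1 0) := by
    rcases d3 (π.mapMatrix (s : M2 R)) (by rw [← map_mul, ← map_mul, m1, map_one]) with h | h
    · refine ⟨?_, hπ _ h.2⟩
      have : IsUnit ((s : M2 R) - 1) := (Matrix.isUnit_iff_isUnit_det _).2 (hπ _ (by
        rw [RingHom.map_det, map_sub, map_one]; exact h.1))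
      exact (this.mul_right_eq_zero).1 m2
    · have : IsUnit ((s : M2 R) * s + s + 1) := (Matrix.isUnit_iff_isUnit_det _).2 (hπ _ (by
        rw [RingHom.map_det, map_add, map_add, map_mul, map_one]; exact h))
      exact absurd (Units.ext (sub_eq_zero.1 ((this.mul_left_eq_zero).1 m2))) k2
  let P : GL (Fin 2) R := Matrix.GeneralLinearGroup.mk'' !![1, (s : M2 R) 0 0; 0, (s : M2 R) 1 0] (by simpa using m3.2)
  have hP : s * P = P * Cg R := by
    apply Units.ext
    show (s : M2 R) * !![1, (s : M2 R) 0 0; 0, (s : M2 R) 1 0] = !![1, (s : M2 R) 0 0; 0, (s : M2 R) 1 0] * !![0, -1; 1, -1]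
    have c0 := congrFun (congrFun m3.1 0) 0
    have c1 := congrFun (congrFun m3.1 1) 0
    simp [Matrix.mul_apply, Fin.sum_univ_two] at c0 c1
    ext i j
    fin_cases i <;> fin_cases j <;> simp [Matrix.mul_apply, Fin.sum_univ_two]
    · linear_combination c0
    · linear_combination c1
  have hs' : s = P * Cg R * P⁻¹ := eq_mul_inv_of_mul_eq hP
  clear_value P
  subst hs'
  obtain ⟨u, rfl⟩ : ∃ u, t = P * u * P⁻¹ := ⟨P⁻¹ * t * P, by group⟩
  obtain ⟨a, b, ha, hb, hu⟩ := form V u (by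
      have : u * u = P⁻¹ * (P * u * P⁻¹ * (P * u * P⁻¹)) * P := by group
      rw [this, k3]; group) (by
      have := congrArg (fun x => P⁻¹ * x * P) k5
      beta_reduce at this
      convert this using 1 <;> group)
  have cK : Cg R ∈ K R := Subgroup.subset_closure (Or.inl rfl)
  have uK : u ∈ K R := Subgroup.subset_closure (Or.inr ⟨a, b, ha, hb, hu⟩)
  refine ⟨P, le_antisymm (fun x hx => ?_) (Subgroup.map_le_iff_le_comap.2 ((Subgroup.closure_le _).2 ?_))⟩
  · obtain ⟨i, j, l, rfl⟩ := k6 x hx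
    have n1 : P * Cg R * P⁻¹ ∈ (K R).map (MulAut.conj P).toMonoidHom := ⟨_, cK, rfl⟩
    have n2 : P * u * P⁻¹ ∈ (K R).map (MulAut.conj P).toMonoidHom := ⟨_, uK, rfl⟩
    exact mul_mem (mul_mem (pow_mem n1 _) (pow_mem n2 _)) (pow_mem (mul_mem (mul_mem n1 n2) (inv_mem n1)) _)
  · have n1 : Cg R ∈ H.comap (MulAut.conj P).toMonoidHom := hs
    have n2 : u ∈ H.comap (MulAut.conj P).toMonoidHom := ht
    have n3 := mul_mem (mul_mem n1 n2) (inv_mem n1)
    have n4 := mul_mem (mul_mem n1 n3) (inv_mem n1)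
    have q3 := cj u a b ha hb hu
    have q4 := cj _ b (a + b) hb (by linear_combination ha + hb) q3
    have z : TT (0 : R) 0 = 1 := by simp [TT, Matrix.one_fin_two]
    have hne : ¬ (a = 0 ∧ b = 0) := fun h => k4 (by
      have : u = 1 := Units.ext (by rw [hu, h.1, h.2, z]; rfl)
      rw [this]; group)
    rintro g (rfl | ⟨c, d, hc, hd, hg⟩)
    · exact n1
    have w : ∀ v ∈ H.comap (MulAut.conj P).toMonoidHom, (v : M2 R) = TT c d → g ∈ H.comap (MulAut.conj P).toMonoidHom :=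
      fun v hv h => (Units.ext (h.trans hg.symm) : v = g) ▸ hv
    obtain ⟨h, U⟩ := U
    have hh : h + h = 0 := by
      rcases U a ha with h1 | h1
      · rcases U b hb with h2 | h2
        · exact absurd ⟨h1, h2⟩ hne
        · exact h2 ▸ hb
      · exact h1 ▸ ha
    have w0 := w 1 (one_mem _)
    have w1 := w _ n2
    have w2 := w _ n3
    have w3 := w _ n4
    rw [hu] at w1
    rw [q3] at w2
    rw [q4] at w3
    rcases U c hc with rfl | rfl <;> rcases U d hd with h2 | h2 <;> rcases U a ha with h3 | h3 <;>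
      rcases U b hb with h4 | h4 <;> simp only [h2, h3, h4, hh, add_zero, zero_add, z] at w0 w1 w2 w3 hne <;>
      first | exact w0 rfl | exact w1 trivial | exact w2 trivial | exact w3 trivial | exact w1 rfl | exact w2 rfl | exact w3 rfl | exact absurd ⟨trivial, trivial⟩ hne | simp at hne

end

/-- For k ≥ 2, any two subgroups of GL₂(ℤ/2ᵏℤ) (the automorphism group of the homocyclic group ℤ/2ᵏ × ℤ/2ᵏ) that are isomorphic to the alternating group of degree 4 are conjugate. -/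
theorem result (k : ℕ) (hk : 2 ≤ k) (H₁ H₂ : Subgroup (GL (Fin 2) (ZMod (2 ^ k)))) (h₁ : Nonempty (↥H₁ ≃* ↥(alternatingGroup (Fin 4)))) (h₂ : Nonempty (↥H₂ ≃* ↥(alternatingGroup (Fin 4)))) : ∃ g : GL (Fin 2) (ZMod (2 ^ k)), H₂ = H₁.map (MulAut.conj g).toMonoidHom := by
  obtain ⟨j, rfl⟩ : ∃ j, k = j + 2 := ⟨k - 2, by omega⟩
  have hv : ∀ x : ZMod (2 ^ (j + 2)), x + x = 0 → x = 0 ∨ x = ((2 ^ (j + 1) : ℕ) : ZMod (2 ^ (j + 2))) := fun x hx => by
    rcases (ZMod.neg_eq_self_iff x).1 (neg_eq_iff_add_eq_zero.2 hx) with h | h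
    · exact Or.inl h
    · right
      rw [← ZMod.natCast_zmod_val x]
      have : x.val = 2 ^ (j + 1) := by
        have e : 2 ^ (j + 2) = 2 * 2 ^ (j + 1) := by ring
        omega
      rw [this]
  have hc := fun (H : Subgroup (GL (Fin 2) (ZMod (2 ^ (j + 2))))) (e : H ≃* alternatingGroup (Fin 4)) => core (ZMod.castHom (show 2 ∣ 2 ^ (j + 2) from dvd_pow_self 2 (by omega)) (ZMod 2))
    (fun x hx => by
      rw [← ZMod.natCast_zmod_val x] at hx ⊢
      rw [map_natCast, ZMod.natCast_eq_one_iff_odd] at hx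
      exact (ZMod.isUnit_iff_coprime _ _).2 (Nat.Coprime.pow_right _ (Nat.coprime_two_right.2 hx)))
    (fun x y hx hy => by
      rcases hv x hx with rfl | rfl
      · exact zero_mul _
      · push_cast
        linear_combination (2 ^ j) * hy) ⟨_, hv⟩ H e
  obtain ⟨g1, rfl⟩ := hc H₁ h₁.some
  obtain ⟨g2, rfl⟩ := hc H₂ h₂.some
  refine ⟨g2 * g1⁻¹, ?_⟩
  rw [Subgroup.map_map]
  congr 1
  ext1 x
  simp [mul_assoc]

end Cfsg.Agent.S2874
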