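import Cfsg.Statements.S2879
import Mathlib
import Cfsg.Agent.H2.SL23
import Cfsg.Agent.H2.MC
import Cfsg.Agent.H9.GT
import Cfsg.Agent.L.PSolv

set_option autoImplicit false
open Cfsg

namespace Cfsg.Agent.S2879

open Cfsg.Agent.H2 Subgroup

/-- Let G be a finite solvable group with O(G) = 1 whose Sylow 2-subgroup T is dihedral of order at least 8 or semidihedral, with G ≠ T and Z(T) normal in G. Then G has a normal subgroup isomorphic to SL₂(3). -/
theorem result {G : Type*} [Group G] [Finite G] (hsol : IsSolvable G) (hO : Cfsg.oddCore G = ⊥) (T : Sylow 2 G) (hT : (∃ n : ℕ, 4 ≤ n ∧ Nonempty (↥(T : Subgroup G) ≃* DihedralGroup n)) ∨ Cfsg.IsQuasiDihedral ↥(T : Subgroup G)) (hne : (T : Subgroup G) ≠ ⊤) (hZ : ((T : Subgroup G) ⊓ Subgroup.centralizer ((T : Subgroup G) : Set G)).Normal) : ∃ U : Subgroup G, U.Normal ∧ Nonempty (↥U ≃* Matrix.SpecialLinearGroup (Fin 2) (ZMod 3)) := by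
  obtain ⟨k, x, y, e, h⟩ : ∃ k x y e, MC (T : Subgroup G) k x y e := by
    rcases hT with ⟨n, hn, ⟨f⟩⟩ | hT
    · obtain ⟨k, x, y, h, -⟩ := exists_mc_of_dihedral T.2 f (by omega)
      exact ⟨k, x, y, _, h⟩
    · obtain ⟨n, x, y, -, h⟩ := exists_sdp hT
      exact ⟨_, x, y, _, h.mc⟩
  set Q := pCore 2 G
  have hQ : IsPGroup 2 Q := by
    rw [show Q = H8.Op 2 ⊤ from (H8.Op_top 2).symm]; exact H8.Op_isPGroup 2 ⊤
  have hC : centralizer (Q : Set G) ≤ Q :=
    L.centralizer_pCore_le_of_isPSolvable (H9.pSolv_of_solvable hsol) hO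
  have hQn : ∀ g, g ∈ normalizer (Q : Set G) := fun g =>
    H8.normal_iff_top_le.1 inferInstance (mem_top g)
  have hQT : Q ≤ T := (sylIn_top T).normal_le hQ le_top fun g _ => hQn g
  have hodd : ∀ g, (orderOf g).Coprime 2 → g ∈ centralizer (Q : Set G) → g = 1 := fun g a b =>
    eq_one_of_mem_pgroup_of_coprime hQ (hC b) a
  obtain ⟨r, ho, hr⟩ : ∃ r : G, (orderOf r).Coprime 2 ∧ r ≠ 1 := by
    by_contra! hn
    refine hne ?_
    rw [← pResidual_sup_sylow T, eq_comm, sup_eq_right]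
    exact pResidual_le_iff.2 fun g hg => hn g hg ▸ one_mem _
  have hrc : r ∉ centralizer (Q : Set G) := fun e => hr (hodd r ho e)
  rw [h.center_eq] at hZ
  have hz : ∀ g, g * x ^ (2 * k) * g⁻¹ = x ^ (2 * k) := fun g =>
    (h.mem_Z.1 (hZ.conj_mem _ (mem_zpowers _) g)).resolve_left fun e =>
      h.z_ne_one (by simpa using e)
  have hzQ : x ^ (2 * k) ∈ Q := hC fun g _ => mul_inv_eq_iff_eq_mul.1 (hz g)
  have hfix : ∀ g, (orderOf g).Coprime 2 → ∀ c ∈ zpowers (x ^ (2 * k)), g * c * g⁻¹ = c :=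
    fun g _ c hc => by rcases h.mem_Z.1 hc with rfl | rfl <;> simp [hz]
  obtain ⟨a, ha, -, -, e | e⟩ := h.exists_of_oddAut hQT (oddAut_conj (hQn r) ho)
    (exists_conj_ne hrc)
  · obtain ⟨t, -, -, e'⟩ := h.exists_of_isKleinFour e.isKleinFour hQT
    refine absurd (fun c hc => ?_) hrc
    exact (mul_inv_eq_iff_eq_mul.1 ((oddAut_conj (hQn r) ho).fix_of_ix2 hQ e'.ix2
      (fun c _ => hfix r ho c) hc)).symm
  obtain ⟨K, -, h6, hK⟩ := exists_ker_sec (N := ⊤) (D := zpowers (x ^ (2 * k))) le_top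
    (zpowers_le.2 hzQ) (fun g _ => hQn g) (H8.normal_iff_top_le.1 hZ) (by
      have := card_eq_relIndex_mul (zpowers_le.2 hzQ)
      rw [e.card, Nat.card_zpowers, h.ord_z] at this; omega)
  have hKQ : K ≤ Q := by
    refine H1.le_pCore ⟨fun g hg c => (hK _).2 ⟨mem_top _, fun v hv => ?_⟩⟩ ?_
    · have := hZ.conj_mem _ (((hK g).1 hg).2 _ (H8.conj_mem_of_mem_normalizer' (hQn c) hv)) c
      convert this using 1; group
    · obtain ⟨S, hS⟩ := exists_sylIn 2 K
      suffices resOf 2 K ≤ ⊥ by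
        rw [← hS.resOf_sup, le_bot_iff.1 this, bot_sup_eq]; exact hS.pgrp
      refine resOf_le_iff.2 fun g hg ho => ?_
      refine hodd g ho fun v hv => (mul_inv_eq_iff_eq_mul.1 ?_).symm
      have := ((hK g).1 hg).2 v hv
      exact (oddAut_conj (hQn g) ho).fix_of_mul' hQ hv (mul_inv_cancel_left _ _).symm
        (hfix g ho _ this)
  have h48 : Nat.card G ∣ 48 := by
    rw [← Q.card_mul_index, e.card]
    rw [relIndex_top_right] at h6
    exact Nat.mul_dvd_mul_left _ ((index_dvd_of_le hKQ).trans h6)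
  have h3 : r ^ 3 = 1 := hodd _ (Nat.Coprime.coprime_dvd_left (orderOf_pow_dvd 3) ho)
    (H7.qp_odd (n := 1) e le_rfl hQ (hQn r) ho hrc).2
  obtain ⟨_, ⟨f⟩⟩ := exists_sec_SL23 e (hQn r) ho hrc
  have f' : ↥(Q ⊔ zpowers r) ≃* SL23 := (QuotientGroup.quotientBot.symm.trans
    (QuotientGroup.quotientMulEquivOfEq (by rw [h3]; simp))).trans f
  refine ⟨_, ?_, ⟨f'⟩⟩
  have h7 := (Q ⊔ zpowers r).card_mul_index
  rw [Nat.card_congr f'.toEquiv, card_SL23] at h7
  rw [← h7] at h48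
  rcases (Nat.dvd_prime Nat.prime_two).1 (Nat.dvd_of_mul_dvd_mul_left (by norm_num : 0 < 24) h48)
    with e | e
  · rw [index_eq_one.1 e]; infer_instance
  · exact normal_of_index_eq_two e

end Cfsg.Agent.S2879
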