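import Cfsg.Statements.S2881
import Mathlib
import Cfsg.Agent.H2.ES2

set_option autoImplicit false
open Cfsg

namespace Cfsg.Agent.S2881

open Cfsg.Agent.H2 Subgroup

theorem ord_two : orderOf (2 : ZMod 5) = 4 :=
  orderOf_eq_prime_pow (p := 2) (n := 1) (by decide) (by decide)

/-- Let E be an extraspecial 2-group of order 2^(2m+1) of plus type (containing an elementary abelian subgroup of order 2^(m+1)), and let ω be an automorphism of E of order 5 whose fixed points are exactly the centre of E. Then m is divisible by 4. -/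
theorem result {E : Type*} [Group E] [Finite E] (m : ℕ) (hm : 1 ≤ m) (hE : Cfsg.IsExtraspecial 2 E) (hcard : Nat.card E = 2 ^ (2 * m + 1)) (hplus : ∃ A : Subgroup E, Cfsg.IsElementaryAbelian 2 A ∧ Nat.card A = 2 ^ (m + 1)) (ω : E ≃* E) (hω : orderOf ω = 5) (hfix : ∀ x : E, ω x = x ↔ x ∈ Subgroup.center E) : 4 ∣ m := by
  classical
  have h1 := card_four_plus m hE hcard hplus
  obtain ⟨V, _, _, _, c, a, b⟩ := es_exists hE hcard
  haveI : Fact (Nat.Prime 5) := ⟨by norm_num⟩
  let ρ : MulAut E →* Equiv.Perm {x : E // orderOf x = 4} := MonoidHom.mk'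
    (fun α => Equiv.Perm.subtypePerm α.toEquiv fun x => by simp) fun _ _ => rfl
  haveI := Fintype.ofFinite {x : E // orderOf x = 4}
  have h5 : ρ ω ^ 5 = 1 := by
    rw [← map_pow]
    have : (ω : MulAut E) ^ 5 = 1 := hω ▸ pow_orderOf_eq_one (G := MulAut E) ω
    rw [this, map_one]
  let f : Function.End {x : E // orderOf x = 4} := fun x => ρ ω x
  have h2 := Equiv.Perm.card_fixedPoints_modEq (p := 5) (n := 1) (f := f) (by
      funext x
      exact congrArg (fun σ : Equiv.Perm {x : E // orderOf x = 4} => σ x) h5)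
  have h3 : IsEmpty (Function.fixedPoints f) := by
    refine ⟨fun x => ?_⟩
    have h4 : ω x.1.1 = x.1.1 := congrArg Subtype.val x.2
    rw [hfix, c.nondeg_iff.1 a, ← c.ker] at h4
    refine c.orderOf_eq_four_iff.1 x.1.2 ?_
    rcases c.eq_one_or h4 with h | h <;> rw [h]
    · simp
    · exact c.z_pow
  rw [Fintype.card_eq_zero (α := Function.fixedPoints _), ← Nat.card_eq_fintype_card, h1,
    Nat.modEq_zero_iff_dvd, show 2 ^ (2 * m) - 2 ^ m = 2 ^ m * (2 ^ m - 1) by
      rw [Nat.mul_sub, two_mul, pow_add, mul_one]] at h2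
  have h6 : 5 ∣ 2 ^ m - 1 :=
    (Nat.Coprime.pow_right m (by norm_num : Nat.Coprime 5 2)).dvd_of_dvd_mul_left h2
  have h7 : (2 : ZMod 5) ^ m = 1 := by
    have := (ZMod.natCast_eq_zero_iff _ _).2 h6
    rw [Nat.cast_sub Nat.one_le_two_pow] at this
    simpa [sub_eq_zero] using this
  exact ord_two ▸ orderOf_dvd_of_pow_eq_one h7

end Cfsg.Agent.S2881
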