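import Cfsg.Statements.S2882
import Cfsg.Agent.GS.Mk2

set_option autoImplicit false
open Cfsg

namespace Cfsg.Agent.S2882

/-- In the Mathieu group of degree 24 (realised as the automorphism group of the extended binary Golay code) every Sylow 2-subgroup is self-normalizing. -/
theorem result (S : Sylow 2 ↥Cfsg.M24) : Subgroup.normalizer ((S : Subgroup ↥Cfsg.M24) : Set ↥Cfsg.M24) = (S : Subgroup ↥Cfsg.M24) := by
  open Finset Pointwise Cfsg.Agent.St Cfsg.Agent.H6 in focus
    let P : Sylow 2 M24 := Sylow.ofCard (cl mg LS2.ws) (by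
      rw [card_S2, card_M24, show 244823040 = 2 ^ 10 * 239085 from rfl, Nat.factorization_mul (by norm_num) (by norm_num), Nat.prime_two.factorization_pow]
      simp [Nat.factorization_eq_zero_of_not_dvd (show ¬ 2 ∣ 239085 by norm_num)])
    have h1 := P.card_eq_index_normalizer
    rw [S.card_eq_index_normalizer, show Subgroup.normalizer (P : Set M24) = cl mg LS2.ws from N2_eq] at h1
    have h2 := (Subgroup.normalizer (S : Set M24)).card_mul_index
    have h3 := (cl mg LS2.ws).card_mul_index
    have h4 : Nat.card S = Nat.card (cl mg LS2.ws) := Nat.card_congr (S.equiv P).toEquiv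
    have h5 : (cl mg LS2.ws).index ≠ 0 := Subgroup.index_ne_zero_of_finite
    rw [h1, ← h3] at h2
    exact (Subgroup.eq_of_le_of_card_ge Subgroup.le_normalizer (by rw [h4]; exact (Nat.eq_of_mul_eq_mul_right (Nat.pos_of_ne_zero h5) h2).le)).symm

end Cfsg.Agent.S2882
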