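import Cfsg.Statements.S2911
import Mathlib
import Cfsg.Agent.H2.Loc2

set_option autoImplicit false
open Cfsg

namespace Cfsg.Agent.S2911

open Cfsg.Agent.H2 Cfsg.Agent.H8 Subgroup

abbrev W := Multiplicative (ZMod 2) × DihedralGroup 4
def u : W := (Multiplicative.ofAdd 1, 1)
def z : W := (1, DihedralGroup.r 2)
theorem h1 : ∀ w : W, (∀ v, v * w = w * v) → (∀ v, v * v ≠ w) → w = u ∨ w = u * z := by decide
theorem h2 : ∀ w v : W, w ≠ 1 → v * v = w → w = z := by decide
theorem h3 : (∀ v, v * u = u * v) ∧ (∀ v, v * v ≠ u) ∧ z ≠ 1 ∧ (∃ v, v * v = z) ∧ u * z * z = u ∧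
  u * u = 1 ∧ ∀ a b : W, (a * b * a⁻¹ * b⁻¹).1 = 1 ∧ (a ^ 2).1 = 1 := by decide
theorem h4 (φ : W ≃* W) : φ (φ u) = u := by
  have hz : φ z = z := by
    obtain ⟨v, hv⟩ := h3.2.2.2.1
    exact h2 _ (φ v) (by simpa using h3.2.2.1) (by rw [← map_mul, hv])
  rcases h1 (φ u) (fun v => by
    obtain ⟨v, rfl⟩ := φ.surjective v
    rw [← map_mul, h3.1, map_mul]) (fun v hv => by
    obtain ⟨v, rfl⟩ := φ.surjective v
    rw [← map_mul] at hv
    exact h3.2.1 v (φ.injective hv)) with h | h
  · rw [h, h]
  · rw [h, map_mul, h, hz, h3.2.2.2.2.1]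

/-- A finite group whose Sylow 2-subgroups are isomorphic to the direct product of a group of order 2 and a dihedral group of order 8 has a subgroup of index two. -/
theorem result {G : Type*} [Group G] [Finite G] (S : Sylow 2 G) (hS : Nonempty (↥(S : Subgroup G) ≃* Multiplicative (ZMod 2) × DihedralGroup 4)) : ∃ H : Subgroup G, H.index = 2 := by
  by_contra h
  push Not at h
  obtain ⟨e⟩ := hS
  have hK : resOf 2 (⊤ : Subgroup G) = ⊤ := by rw [resOf_top, pResidual_two_eq_top_iff.2 h]
  set x : S := e.symm u with hx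
  have hc : (S : Subgroup G) ≤ centralizer {(x : G)} := by
    intro s hs
    rw [mem_centralizer_singleton_iff]
    have : (⟨s, hs⟩ : S) * x = x * ⟨s, hs⟩ := e.injective (by simp [hx, h3.1])
    exact congrArg Subtype.val this
  have h5 : normalizer ((S : Subgroup G) : Set G) ≤ centralizer {(x : G)} := by
    rw [← ((sylIn_top S).mono le_normalizer le_top).resOf_sup]
    refine sup_le (resOf_le_iff.2 fun g hg ho => mem_of_pow_mem_of_coprime (n := 2) ?_ ho) hc
    have := h4 (e.symm.trans (((S : Subgroup G).normalizerMonoidHom ⟨g, hg⟩).trans e))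
    simp only [MulEquiv.trans_apply, MulEquiv.symm_apply_apply] at this
    rw [← MulEquiv.eq_symm_apply, ← hx] at this
    have h6 : g * (g * x * g⁻¹) * g⁻¹ = x := congrArg Subtype.val this
    refine mem_cent_of_conj_eq ?_
    rw [← h6, h6]; conv_rhs => rw [← h6]
    rw [sq]; group
  have h7 := mem_Phi_of_central (sylIn_top S) x.2 (fun g hg => conj_eq_of_mem_cent (h5 hg))
    (by
      have : x ^ 2 = 1 := e.injective (by simp [hx, sq, h3.2.2.2.2.2.1])
      exact congrArg Subtype.val this)
    (le_commutator_of_resOf_eq hK S.isPGroup' le_top x.2)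
  have h8 : frattini S ≤ ((MonoidHom.fst _ _).comp e.toMonoidHom).ker := by
    refine H1.frattini_le_of_elementary Nat.prime_two ?_ (fun y => ?_)
    · rw [_root_.commutator_def, Subgroup.commutator_le]
      intro a _ b _
      have := (h3.2.2.2.2.2.2 (e a) (e b)).1
      rw [← map_inv, ← map_inv, ← map_mul, ← map_mul, ← map_mul] at this
      exact this
    · have := (h3.2.2.2.2.2.2 (e y) 1).2
      rw [← map_pow] at this
      exact this
  obtain ⟨y, hy, hy'⟩ := h7
  obtain rfl : y = x := Subtype.ext hy'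
  have h9 : (e (e.symm u)).1 = 1 := h8 hy
  rw [MulEquiv.apply_symm_apply] at h9
  exact absurd h9 (by decide)

end Cfsg.Agent.S2911
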