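import Cfsg.Statements.S4417
import Mathlib
import Cfsg.Agent.H2.DerLen

set_option autoImplicit false
open Cfsg

namespace Cfsg.Agent.S4417

open Cfsg.Agent.H2 Cfsg.Agent.BG Subgroup

theorem orbit_mul_le {P C : Type*} [Group P] [Finite P] [CommGroup C] [MulAction P C] {p q k : ℕ} [hp : Fact p.Prime]
    (hpq : ¬ p ∣ q) (hk : ♯P = p ^ k) (h2 : ∀ c : C, c ^ p ^ k = 1) (hs : ∀ (g : P) (c : C) (n : ℕ), g • c ^ n = (g • c) ^ n)
    {Ω : Set C} [Finite Ω] (hq : ∀ c ∈ Ω, c ^ q ∈ Ω) {μ : C} (hμ : MulAction.orbit P μ ⊆ Ω) (h1 : μ ≠ 1) :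
    ♯(MulAction.orbit P μ) * orderOf (q : ZMod p) ≤ ♯Ω := by
  have h3 : ∀ c ∈ Ω, ∀ i, c ^ q ^ i ∈ Ω := fun c h i => by
    induction i with
    | zero => simpa using h
    | succ i ih => rw [pow_succ, pow_mul]; exact hq _ ih
  have h4 : ∀ (ν ν' : MulAction.orbit P μ) (i j : Fin (orderOf (q : ZMod p))), i ≤ j → ν.1 ^ q ^ i.1 = ν'.1 ^ q ^ j.1 →
      ν = ν' ∧ i = j := fun ν ν' i j hij h => by
    obtain ⟨d, hd⟩ := Nat.exists_eq_add_of_le (show (i : ℕ) ≤ j from hij)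
    have h5 : ν.1 = ν'.1 ^ q ^ d := by
      rw [hd, add_comm, pow_add, pow_mul, ← div_eq_one, ← div_pow] at h
      exact div_eq_one.1 ((pow_eq_one_iff_of_coprime (((Nat.Prime.coprime_iff_not_dvd hp.out).2 hpq).pow k i)).1 ⟨h2 _, h⟩)
    obtain ⟨g, hg⟩ : ν.1 ∈ MulAction.orbit P ν'.1 := by rw [MulAction.orbit_eq_iff.2 ν'.2]; exact ν.2
    have h6 : ∀ t : ℕ, g ^ t • ν'.1 = ν'.1 ^ (q ^ d) ^ t := fun t => by
      induction t with
      | zero => simp
      | succ t ih => rw [pow_succ', mul_smul, ih, hs, pow_succ', pow_mul, ← h5, ← hg]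
    have h7 := h6 (p ^ k)
    rw [← hk, pow_card_eq_one', one_smul, hk] at h7
    have h8 : p ∣ orderOf ν'.1 := by
      obtain ⟨l, -, hl⟩ := (Nat.dvd_prime_pow hp.out).1 (orderOf_dvd_of_pow_eq_one (h2 ν'.1))
      refine hl ▸ dvd_pow_self p fun e => h1 ?_
      obtain ⟨_, g, rfl⟩ := ν'
      have h9 := hs g⁻¹ (g • μ) 0
      rw [e, pow_zero, orderOf_eq_one_iff] at hl
      rwa [pow_zero, pow_zero, ← hl, inv_smul_smul, hl] at h9
    have h9 := (ZMod.natCast_eq_natCast_iff _ _ _).2 ((pow_eq_pow_iff_modEq.1 ((pow_one _).trans h7)).of_dvd h8)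
    rw [Nat.cast_pow, ZMod.pow_card_pow, Nat.cast_one, Nat.cast_pow] at h9
    obtain rfl : d = 0 := Nat.eq_zero_of_dvd_of_lt (orderOf_dvd_of_pow_eq_one h9.symm) (by have := j.2; omega)
    exact ⟨Subtype.ext (by simpa using h5), Fin.ext hd.symm⟩
  have := Nat.card_le_card_of_injective
    (fun x : MulAction.orbit P μ × Fin (orderOf (q : ZMod p)) => (⟨x.1.1 ^ q ^ x.2.1, h3 _ (hμ x.1.2) _⟩ : Ω))
    fun x y h => by
      have h := congrArg Subtype.val h
      exact (le_total x.2 y.2).elim (fun hh => Prod.ext (h4 _ _ _ _ hh h).1 (h4 _ _ _ _ hh h).2)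
        fun hh => Prod.ext (h4 _ _ _ _ hh h.symm).1.symm (h4 _ _ _ _ hh h.symm).2.symm
  simpa using this

theorem frob_wt {F P : Type*} [Field F] [Fintype F] [Group P] {n : ℕ} (ψ : P →* GL (Fin n) F) {K : Type*} [Field K]
    [Algebra F K] {A : Subgroup P} {ν : A →* Kˣ}
    (h : wt (matRep ((Matrix.GeneralLinearGroup.map (algebraMap F K)).comp ψ)) A ν ≠ ⊥) :
    wt (matRep ((Matrix.GeneralLinearGroup.map (algebraMap F K)).comp ψ)) A (ν ^ Fintype.card F) ≠ ⊥ := by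
  obtain ⟨w, h4, h5⟩ := (Submodule.ne_bot_iff _).1 h
  let f : K →+* K := FiniteField.frobeniusAlgHom F K
  refine (Submodule.ne_bot_iff _).2 ⟨f ∘ w, fun a => funext fun j => ?_,
    fun e => h5 (funext fun j => f.injective ((congrFun e j).trans (map_zero f).symm))⟩
  generalize hφ : (Matrix.GeneralLinearGroup.map (algebraMap F K)).comp ψ = φ at h4
  have h6 : (φ a).1.map f = (φ a).1 := hφ ▸ Matrix.ext fun i j => (FiniteField.frobeniusAlgHom F K).commutes _
  rw [matRep_apply, ← h6, ← RingHom.map_mulVec, ← matRep_apply, h4 a]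
  simp [f, mul_pow]

/-- Let F be a field with q elements, p a prime not dividing q, and e the multiplicative order of q modulo p; assume e ≤ n. Then every p-subgroup of GL_n(F) has derived length at most ⌊log₂(n/e)⌋ + 1: that term of its derived series is trivial (n/e is the integer quotient). -/
theorem result {F : Type*} [Field F] [Fintype F] (q : ℕ) (hF : Fintype.card F = q) (p : ℕ) [Fact p.Prime] (hpq : ¬ p ∣ q) (n e : ℕ) (he : e = orderOf (q : ZMod p)) (hen : e ≤ n) (P : Subgroup (GL (Fin n) F)) (hP : IsPGroup p P) : derivedSeries ↥P (Nat.log 2 (n / e) + 1) = ⊥ := by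
  subst hF he
  have hp : p.Prime := Fact.out
  let K := AlgebraicClosure F
  let φ : P →* GL (Fin n) K := (Matrix.GeneralLinearGroup.map (algebraMap F K)).comp P.subtype
  have hφ : Function.Injective φ := fun a b h => Subtype.ext (Units.ext (Matrix.ext fun i j =>
    (algebraMap F K).injective (congrArg (fun M : GL (Fin n) K => M.1 i j) h)))
  obtain ⟨k, hk⟩ := hP.exists_card_eq
  have hq : ((Fintype.card F : ℕ) : ZMod p) ≠ 0 := fun e => hpq ((ZMod.natCast_eq_zero_iff _ _).1 e)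
  have h0 : (♯P : K) ≠ 0 := by
    rw [hk, Nat.cast_pow, ← map_natCast (algebraMap F K)]
    refine pow_ne_zero _ ((map_ne_zero _).2 fun e => hpq ?_)
    have := (CharP.charP_iff_prime_eq_zero hp).2 e
    obtain ⟨m, -, hm⟩ := FiniteField.card F p
    exact hm ▸ dvd_pow_self p m.ne_zero
  have he0 := (isOfFinOrder_iff_pow_eq_one.2 ⟨p - 1, Nat.sub_pos_of_lt hp.one_lt,
    ZMod.pow_card_sub_one_eq_one hq⟩).orderOf_pos
  refine der_eq_bot_of_orbits (ker_matRep hφ) hP h0 fun A _ μ hμ => ?_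
  letI := chAct K A
  refine lt_of_le_of_lt ?_ ((Nat.lt_pow_succ_log_self one_lt_two _).trans_le (Nat.pow_le_pow_left hp.two_le _))
  by_cases h1 : μ = 1
  · refine le_trans (Finite.card_le_one_iff_subsingleton.2 ⟨?_⟩) (Nat.div_pos hen he0)
    rintro ⟨_, g, rfl⟩ ⟨_, h, rfl⟩
    exact Subtype.ext (h1 ▸ (cjw_triv _).trans (cjw_triv _).symm)
  refine (Nat.le_div_iff_mul_le he0).2 ((orbit_mul_le (Ω := {ν | wt (matRep φ) A ν ≠ ⊥}) hpq hk
    (fun ν => MonoidHom.ext fun a => ?_) (fun _ _ _ => rfl) (fun ν hν => by exact frob_wt (K := K) (ν := ν) P.subtype hν) ?_ h1).trans ?_)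
  · show ν a ^ p ^ k = 1
    rw [← map_pow, ← hk, show a ^ ♯P = 1 from Subtype.ext pow_card_eq_one', map_one]
  · rintro _ ⟨g, rfl⟩
    exact wt_cjw_ne_bot hμ _
  · simpa using card_le_finrank_of_wt (ρ := matRep φ) (natCast_ne_zero_of_dvd (card_subgroup_dvd_card A) h0)
      (ι := {ν | wt (matRep φ) A ν ≠ ⊥}) Subtype.val_injective fun ν => ν.2

end Cfsg.Agent.S4417
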