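import Cfsg.Statements.S2912
import Mathlib
import Cfsg.Agent.S4417

set_option autoImplicit false
open Cfsg

namespace Cfsg.Agent.S2912

open Cfsg.Agent.H2 Cfsg.Agent.BG Subgroup Module

theorem dim_wt {K Γ W : Type*} [Field K] [IsAlgClosed K] [Group Γ] [Finite Γ] [AddCommGroup W] [Module K W]
    [FiniteDimensional K W] {p w : ℕ} [hp : Fact p.Prime] (hE : IsExtraspecial p Γ) (hc : ♯Γ = p ^ (2 * w + 1))
    (h0 : (♯Γ : K) ≠ 0) {ρ : Representation K Γ W} {μ : commutator Γ →* Kˣ} (h1 : μ ≠ 1) (h2 : wt ρ _ μ ≠ ⊥) :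
    p ^ w ≤ finrank K (wt ρ _ μ) := by
  haveI := Submodule.nontrivial_iff_ne_bot.2 h2
  let σ := ρ.subrepresentation (wt ρ _ μ) fun g v hv a => by
    rw [← rep_mul_apply, ← mem_center_iff.1 (hE.1.2.2.le a.2) g, rep_mul_apply, hv a, map_smul]
  have h3 := card_le_projW (ρ := σ) (K := ⊤) (hE.1.2.2.le.trans (by simp [centralizer_univ])) h1
    (fun v a => Subtype.ext (v.2 a)) ((hE.1.2.2 ▸ hE.2 :  ♯(commutator Γ) = p) ▸ hp.out)
  have h4 := card_le_finrank_of_wt (ρ := σ.linHom σ) (A := ⊤) (by rwa [card_top]) (ι := projW σ ⊤) Subtype.val_injective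
    fun ⟨_, T, hT⟩ => (Submodule.ne_bot_iff _).2 ⟨_, hT, T.ne_zero⟩
  rw [card_top, top_inf_eq, coe_top, centralizer_univ, hE.2, hc, pow_succ, Nat.mul_le_mul_right_iff hp.out.pos,
    mul_comm, pow_mul] at h3
  rw [finrank_linearMap, ← pow_two] at h4
  exact (Nat.pow_le_pow_iff_left two_ne_zero).1 (h3.trans h4)

/-- Let p and r be distinct primes, let E be an extraspecial subgroup of order p^(2w+1) of a finite group, and let A be an elementary abelian r-subgroup normalized by E on which E acts faithfully (C_E(A) = 1). If n ≥ 1 is least with p dividing rⁿ − 1 (the smallest dimension of a faithful representation of a group of order p over the field with r elements), then the order of A is at least r^(n·p^w). -/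
theorem result {G : Type*} [Group G] [Finite G] {p r : ℕ} [Fact p.Prime] [hr : Fact r.Prime] (hpr : p ≠ r) (E A : Subgroup G) (w : ℕ) (hE : Cfsg.IsExtraspecial p ↥E) (hEcard : Nat.card ↥E = p ^ (2 * w + 1)) (hA : Cfsg.IsElementaryAbelian r A) (hnorm : E ≤ Subgroup.normalizer (A : Set G)) (hfaith : E ⊓ Subgroup.centralizer (A : Set G) = ⊥) (n : ℕ) (hn : 1 ≤ n) (hdiv : p ∣ r ^ n - 1) (hmin : ∀ k : ℕ, 1 ≤ k → p ∣ r ^ k - 1 → n ≤ k) : r ^ (n * p ^ w) ≤ Nat.card ↥A := by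
  classical
  have hp : p.Prime := Fact.out
  obtain ⟨W, _, _, _, ρ, h1, -, h2, -⟩ := exists_rep' (ZMod r) hA hnorm
  rw [subgroupOf_eq_bot.2 (disjoint_iff.2 (inf_comm E _ ▸ hfaith))] at h2
  refine h1 ▸ Nat.pow_le_pow_right hr.out.pos ?_
  let K := AlgebraicClosure (ZMod r)
  let ψ := ((LinearMap.toMatrixAlgEquiv (finBasis (ZMod r) W)).toMulEquiv.toMonoidHom.comp ρ).toHomUnits
  let φ : E →* GL (Fin (finrank (ZMod r) W)) K := (Matrix.GeneralLinearGroup.map (algebraMap (ZMod r) K)).comp ψ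
  have hφ : Function.Injective φ := fun a b h => (MonoidHom.ker_eq_bot_iff ρ).1 h2 ((LinearMap.toMatrixAlgEquiv _).injective
    (Matrix.ext fun i j => (algebraMap (ZMod r) K).injective (congrArg (fun M : GL _ K => M.1 i j) h)))
  have hpq : ¬ p ∣ Fintype.card (ZMod r) := fun e => hpr ((Nat.prime_dvd_prime_iff_eq hp hr.out).1 (ZMod.card r ▸ e))
  have h0 : (♯E : K) ≠ 0 := by
    rw [hEcard, Nat.cast_pow]
    exact pow_ne_zero _ fun e => hpr ((Nat.prime_dvd_prime_iff_eq hr.out hp).1 ((CharP.cast_eq_zero_iff K r p).1 e)).symm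
  have h3 := natCast_ne_zero_of_dvd (card_subgroup_dvd_card (commutator E)) h0
  have h4 : ⁅commutator E, commutator E⁆ = ⊥ := commutator_eq_bot_iff_le_centralizer.2
    (hE.1.2.2.le.trans (center_le_centralizer _))
  obtain ⟨μ, a1, a2⟩ := exists_wt_ne_bot (ρ := matRep φ) h3 fun e => hp.ne_one (by
    rw [h4, fixS_bot, top_le_iff, fixS_eq_top_iff, ker_matRep hφ, le_bot_iff, hE.1.2.2] at e
    rw [← hE.2, e, card_bot])
  letI := chAct K (commutator E)
  haveI := Fintype.ofFinite (commutator E →* Kˣ)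
  have a3 : ∀ ν : commutator E →* Kˣ, ∀ a, ν a ^ p ^ (2 * w + 1) = 1 := fun ν a => by
    rw [← map_pow, ← hEcard, show a ^ ♯E = 1 from Subtype.ext pow_card_eq_one', map_one]
  have a4 := S4417.orbit_mul_le (Ω := {ν | ν ≠ 1 ∧ wt (matRep φ) (commutator E) ν ≠ ⊥}) (μ := μ) hpq hEcard
    (fun ν => MonoidHom.ext (a3 ν)) (fun _ _ _ => rfl) (fun ν hν => ⟨fun e => hν.1 (MonoidHom.ext fun a =>
      (pow_eq_one_iff_of_coprime ((hp.coprime_iff_not_dvd.2 hpq).pow_left _)).1 ⟨a3 ν a, DFunLike.congr_fun e a⟩),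
      by exact S4417.frob_wt (K := K) (ν := ν) ψ hν.2⟩)
    (by rintro _ ⟨g, rfl⟩; exact ⟨cjw_ne_one _ a1, wt_cjw_ne_bot ((Submodule.ne_bot_iff _).2 a2) _⟩) a1
  have hq : ((Fintype.card (ZMod r) : ℕ) : ZMod p) ≠ 0 := fun e => hpq ((ZMod.natCast_eq_zero_iff _ _).1 e)
  have a5 := hmin _ (isOfFinOrder_iff_pow_eq_one.2 ⟨p - 1, Nat.sub_pos_of_lt hp.one_lt,
    ZMod.pow_card_sub_one_eq_one hq⟩).orderOf_pos ((ZMod.natCast_eq_zero_iff _ _).1 (by
    rw [Nat.cast_sub (Nat.one_le_pow _ _ hr.out.pos), Nat.cast_pow, ZMod.card, pow_orderOf_eq_one, Nat.cast_one, sub_self]))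
  have a6 := finrank_fixS_der (matRep φ) h3
  rw [h4, fixS_bot, finrank_top, finrank_fin_fun] at a6
  haveI : Nonempty (MulAction.orbit E μ) := ⟨⟨μ, MulAction.mem_orbit_self μ⟩⟩
  refine (Nat.mul_le_mul_right _ (a5.trans ((Nat.le_mul_of_pos_left _ Nat.card_pos).trans a4))).trans (le_trans ?_ a6.ge)
  rw [Nat.card_eq_card_toFinset, ← smul_eq_mul]
  exact (Finset.card_nsmul_le_sum _ _ _ fun ν hν => dim_wt hE hEcard h0 (Set.mem_toFinset.1 hν).1
    (Set.mem_toFinset.1 hν).2).trans (Finset.sum_le_sum_of_subset (Finset.subset_univ _))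

end Cfsg.Agent.S2912
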