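import Cfsg.Statements.S2968
import Mathlib
import Cfsg.Agent.H2.Loc

set_option autoImplicit false
open Cfsg

namespace Cfsg.Agent.S2968

open Cfsg.Agent.H2 Cfsg.Agent.H8 Subgroup

/-- Let G be a finite group, p a prime, P a Sylow p-subgroup of G and x ∈ P an element of p-power order which is isolated in G (the only conjugate of x commuting with x is x itself). Then x lies in the centre of P, and the subgroup generated by x is both strongly closed and weakly closed in P with respect to G. -/
theorem result {G : Type*} [Group G] [Finite G] {p : ℕ} [Fact p.Prime] (P : Sylow p G) (x : G) (hxP : x ∈ (P : Subgroup G)) (hx : ∃ k : ℕ, orderOf x = p ^ k) (hiso : Cfsg.IsIsolated x) : x ∈ (P : Subgroup G) ⊓ Subgroup.centralizer ((P : Subgroup G) : Set G) ∧ Cfsg.IsStronglyClosed (Subgroup.zpowers x) (P : Subgroup G) ∧ Cfsg.IsWeaklyClosed (Subgroup.zpowers x) (P : Subgroup G) := by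
  obtain ⟨k, hk⟩ := hx
  have hc := iso_comm hiso P.isPGroup' hxP
  refine ⟨⟨hxP, le_centralizer_singleton_iff.1 hc⟩, ⟨zpowers_le.2 hxP, ?_⟩, zpowers_le.2 hxP, ?_⟩
  · intro y hy g hg
    have h1 : x ∈ centralizer ({g * y * g⁻¹} : Set G) := mem_centralizer_singleton_comm.1 (hc hg)
    have h2 : g * x * g⁻¹ ∈ centralizer ({g * y * g⁻¹} : Set G) := by
      rw [← H2.cj_centralizer_singleton]
      exact H2.conj_mem_cj g (mem_centralizer_singleton_comm.1 (zpowers_le_centralizer x hy))
    obtain ⟨m, hm, hmg⟩ := iso_fusion hk hiso h1 h2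
    have h3 := conj_mem_of_mem_normalizer (centralizer_le_normalizer_zpowers x hmg) hy
    have h4 := conj_eq_of_mem_cent hm
    rw [← h4]
    simpa [mul_assoc] using h3
  · intro g hg
    have h1 := iso_eq hiso P.isPGroup' hxP (hg (H2.conj_mem_cj g (mem_zpowers x)))
    change H2.cj g _ = _
    rw [H2.cj_zpowers, h1]

end Cfsg.Agent.S2968
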