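import Cfsg.Statements.S2971
import Mathlib
import Cfsg.Agent.H2.Loc

set_option autoImplicit false
open Cfsg

namespace Cfsg.Agent.S2971

open Cfsg.Agent.H2 Cfsg.Agent.H8 Subgroup

/-- Let G be a finite group and p an odd prime such that G has p-rank at most 1 (no elementary abelian subgroup of order p²). If x ∈ G is an isolated element of order p, then x is central modulo the largest normal subgroup of G of order prime to p. -/
theorem result {G : Type*} [Group G] [Finite G] {p : ℕ} [Fact p.Prime] (hp : p ≠ 2) (hrk : Cfsg.PRankLE p 1 G) (x : G) (hx : orderOf x = p) (hiso : Cfsg.IsIsolated x) : Cfsg.InZStar p x := by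
  obtain ⟨P, hP⟩ := (H8.isPGroup_zpowers (k := 1) (by simpa using hx)).exists_le_sylow
  have hxP := hP (mem_zpowers x)
  have hc : IsCyclic (P : Subgroup G) := by
    refine L.isCyclic_of_odd_of_rank_one hp P.isPGroup' fun E hE he => ?_
    have h1 := isElementaryAbelian_map (P : Subgroup G).subtype hE
    have h2 := hrk _ h1.1 h1.2
    rw [card_map_subtype, he] at h2
    exact absurd h2 (not_le.2 (Nat.pow_lt_pow_right (Fact.out : p.Prime).one_lt (by norm_num)))
  have h1 : x ≠ 1 := by
    rintro rfl
    exact (Fact.out : p.Prime).one_lt.ne (by simpa using hx)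
  intro g
  rw [← Opp_top]
  exact (iso_pNil_of_cyclic hiso h1 (sylIn_top P) hc hxP).commutator_mem (sylIn_top P) hxP
    (iso_comm hiso P.isPGroup' hxP) (mem_top g)

end Cfsg.Agent.S2971
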