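import Cfsg.Statements.S2975
import Mathlib
import Cfsg.Agent.H2.Loc

set_option autoImplicit false
open Cfsg

namespace Cfsg.Agent.S2975

open Cfsg.Agent.H2 Cfsg.Agent.H8 Subgroup

/-- Let G be a finite group, p a prime and x ∈ G an isolated element of order p (the only conjugate of x commuting with x is x) which is not central modulo the largest normal subgroup of order prime to p, while x is central modulo the largest normal subgroup of order prime to p in every proper subgroup containing x, and the image of x is so in every quotient of G by a nontrivial normal subgroup (a minimal counterexample to the Z*_p statement). Then for every prime q, every q-subgroup of G that is normalized by x and maximal among the q-subgroups normalized by x is either trivial or a Sylow q-subgroup of G; and C_G(x) permutes the x-invariant Sylow q-subgroups of G transitively by conjugation. -/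
theorem result {G : Type*} [Group G] [Finite G] {p : ℕ} [Fact p.Prime] (x : G) (hx : orderOf x = p) (hiso : Cfsg.IsIsolated x) (hnz : ¬ Cfsg.InZStar p x) (hmin : ∀ (H : Subgroup G) (hxH : x ∈ H), H ≠ ⊤ → Cfsg.InZStar p (⟨x, hxH⟩ : ↥H)) (hquot : ∀ (N : Subgroup G) [N.Normal], N ≠ ⊥ → Cfsg.InZStar p (QuotientGroup.mk x : G ⧸ N)) (q : ℕ) [Fact q.Prime] : (∀ Q : Subgroup G, IsPGroup q ↥Q → x ∈ Subgroup.normalizer (Q : Set G) → (∀ R : Subgroup G, IsPGroup q ↥R → x ∈ Subgroup.normalizer (R : Set G) → Q ≤ R → R = Q) → Q = ⊥ ∨ ∃ S : Sylow q G, (S : Subgroup G) = Q) ∧ (∀ S₁ S₂ : Sylow q G, x ∈ Subgroup.normalizer ((S₁ : Subgroup G) : Set G) → x ∈ Subgroup.normalizer ((S₂ : Subgroup G) : Set G) → ∃ c ∈ Subgroup.centralizer ({x} : Set G), (S₁ : Subgroup G).map (MulAut.conj c).toMonoidHom = (S₂ : Subgroup G)) := by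
  have h : MinZ p x := ⟨hx, hiso, hnz, hmin, hquot⟩
  constructor
  · intro Q hQ hxQ hmax
    by_cases hQ1 : Q = ⊥
    · exact Or.inl hQ1
    right
    apply SylIn.exists_sylow_top
    by_cases hqp : q = p
    · subst hqp
      have h1 : x ∈ Q := by
        have h2 : IsPGroup q ↥(zpowers x ⊔ Q) := isPGroup_sup (zpowers_le.2 hxQ) h.isPGroup_zp hQ
        have h3 := hmax _ h2 (le_normalizer (mem_sup_left (mem_zpowers x))) le_sup_right
        exact h3 ▸ mem_sup_left (mem_zpowers x)
      obtain ⟨P, hP, hQP⟩ := exists_sylIn_ge hQ le_top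
      rwa [hmax P hP.pgrp (le_normalizer (hQP h1)) hQP] at hP
    · have hN : normalizer (Q : Set G) ≠ ⊤ := by
        intro hN
        haveI : Q.Normal := normal_of_top_le hN.ge
        exact qs_not_le_solvable h.comp.qs (solvable_of_isPGroup hQ) (h.commutator_le hQ1)
      have h1 := (inZStar_iff_sub hxQ).1 (hmin _ hxQ hN)
      set N := normalizer (Q : Set G)
      obtain ⟨R, hR⟩ := exists_sylIn q N
      have hRO : R ≤ normalizer (Opp p N : Set G) := hR.le.trans (le_normalizer_Opp _ _)
      have hc : (Nat.card ↥(R ⊔ Opp p N)).Coprime p :=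
        coprime_sup hRO (coprime_of_isPGroup hR.pgrp
          ((Nat.coprime_primes Fact.out Fact.out).2 (Ne.symm hqp))) (Opp_coprime _ _)
      have hle : R ⊔ Opp p N ≤ N := sup_le hR.le (Opp_le _ _)
      have hxn : zpowers x ≤ normalizer ((R ⊔ Opp p N : Subgroup G) : Set G) := by
        rw [zpowers_le]
        apply H2.mem_normalizer_of_cj_le
        rw [cj_le_iff_forall]
        intro y hy
        have : x * y * x⁻¹ = (y * x * y⁻¹ * x⁻¹)⁻¹ * y := by group
        rw [this]
        exact mul_mem (inv_mem (mem_sup_right (h1 y (hle hy)))) hy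
      obtain ⟨T, hT, hxT⟩ := exists_inv_sylIn h.isPGroup_zp hxn hc q
      have hT' : SylIn q T N := hR.of_card_le hT.pgrp (hT.le.trans hle)
        (hT.card_le hR.pgrp le_sup_left)
      have hQT : Q ≤ T := hT'.normal_le hQ le_normalizer hT'.le
      rw [hmax T hT.pgrp (hxT (mem_zpowers x)) hQT] at hT'
      exact sylIn_of_sylIn_normalizer (by rwa [top_inf_eq])
  · intro S₁ S₂ h1 h2
    obtain ⟨g, hg⟩ := sylow_exists_cj_eq S₁ S₂
    have h3 : g * x * g⁻¹ ∈ normalizer ((S₂ : Subgroup G) : Set G) := by
      rw [← hg, ← H2.cj_normalizer]; exact H2.conj_mem_cj g h1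
    obtain ⟨m, hm, hc⟩ := iso_fusion (p := p) (k := 1) (by simpa using hx) hiso h2 h3
    refine ⟨_, hc, ?_⟩
    change H2.cj _ _ = _
    rw [cj_mul, hg, H2.cj_eq_of_mem_normalizer hm]

end Cfsg.Agent.S2975
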