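import Cfsg.Statements.S3073
import Cfsg.Agent.H9.Qd3

set_option autoImplicit false
universe u
open Cfsg

namespace Cfsg.Agent.S3073

open Cfsg.Agent Cfsg.Agent.H9

/-- For an odd prime p, every finite p-group S has a characteristic subgroup K with C_S(K) ≤ K such that, whenever S is (isomorphic to) a Sylow p-subgroup of a finite group G, G has a normal p-complement if and only if N_G(K)/C_G(K) is a p-group, i.e. every element of N_G(K) of order prime to p centralizes K (K transported into G along the isomorphism). -/
theorem result (p : ℕ) [Fact p.Prime] (hp : p ≠ 2)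
    (S : Type u) [Group S] [Finite S] (hS : IsPGroup p S) :
    ∃ K : Subgroup S, K.Characteristic ∧ Subgroup.centralizer (K : Set S) ≤ K ∧
      ∀ (G : Type u) [Group G] [Finite G] (P : Sylow p G) (e : ↥(P : Subgroup G) ≃* S),
        Cfsg.HasNormalPComplement p G ↔
          ∀ g ∈ Subgroup.normalizer (((K.comap (e : ↥(P : Subgroup G) →* S)).map (P : Subgroup G).subtype : Subgroup G) : Set G),
            (orderOf g).Coprime p →
              g ∈ Subgroup.centralizer (((K.comap (e : ↥(P : Subgroup G) →* S)).map (P : Subgroup G).subtype : Subgroup G) : Set G) := by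
  have hK := charP_KBT.{u} (p := p) false
  refine ⟨KB false ⊤, ?_, ?_, fun G _ _ P e => ?_⟩
  · exact Subgroup.characteristic_iff_map_eq.2 fun φ => by
      rw [map_KB φ.injective, Subgroup.map_top_of_surjective _ φ.surjective]
  · exact (le_inf le_top le_rfl).trans (cent_KB_le false (hS.to_subgroup ⊤))
  have e1 : ((KB false ⊤ : Subgroup S).comap (e : ↥(P : Subgroup G) →* S)).map
      (P : Subgroup G).subtype = KB false (P : Subgroup G) := by
    rw [Subgroup.comap_equiv_eq_map_symm, map_KB e.symm.injective,
      Subgroup.map_top_of_surjective _ e.symm.surjective, map_KB (P : Subgroup G).subtype_injective,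
      ← MonoidHom.range_eq_map, Subgroup.range_subtype]
  have hP := H2.sylIn_top P
  rw [e1, H2.hasNPC_iff_top]
  refine ⟨fun h g hg hc => ?_, fun h => pNil_of_KB hp false hP (pNil_norm_of hP (KB_le _ _)
    (Subgroup.le_normalizer.trans (norm_le_KB _ _)) (cent_KB_le false hP.pgrp) h)⟩
  exact h.mem_centralizer (hP.pgrp.to_le (KB_le _ _)) le_top trivial hg hc

end Cfsg.Agent.S3073
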