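import Cfsg.Statements.S3074
import Cfsg.Agent.H9.Qd3
import Cfsg.Agent.H2.BG4
import Cfsg.Agent.H2.BG4b

set_option autoImplicit false
open Cfsg

namespace Cfsg.Agent.S3074

open Cfsg.Agent Cfsg.Agent.H9

/-- Let p be an odd prime. A Sylow p-subgroup of Qd(p), the split extension of an elementary abelian group of order p² by SL₂(p) acting naturally, is extraspecial of order p³ and exponent p. -/
theorem result (p : ℕ) [Fact p.Prime] (hp : p ≠ 2) (P : Sylow p ↥(Cfsg.qd p)) :
    Cfsg.IsExtraspecial p ↥P ∧ Nat.card P = p ^ 3 ∧ Monoid.exponent ↥P = p := by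
  have hpr : p.Prime := Fact.out
  obtain ⟨g, -, hg⟩ := (sylIn_qdS (p := p)).exists_cj_eq (H2.sylIn_top P)
  have hc : Nat.card P = p ^ 3 := by
    change Nat.card (P : Subgroup (qd p)) = _
    rw [← hg, H2.card_cj, card_qdS]
  have hpow : ∀ (n : ℕ) (a b c : ZMod p), qs a b c ^ n =
      qs ((n : ZMod p) * a) ((n : ZMod p) * b + ((n.choose 2 : ℕ) : ZMod p) * a * c) ((n : ZMod p) * c) := by
    intro n a b c
    induction n with
    | zero => simp [qs_zero]
    | succ n ih =>
      rw [pow_succ, ih, qs_mul, Nat.choose_succ_succ' n 1]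
      push_cast
      rw [Nat.choose_one_right]
      congr 1 <;> ring
  have hna : ¬ ∀ x ∈ (P : Subgroup (qd p)), ∀ y ∈ (P : Subgroup (qd p)), x * y = y * x := by
    intro h
    rw [← hg] at h
    have := h _ (H2.conj_mem_cj g (qs_mem 1 0 0)) _ (H2.conj_mem_cj g (qs_mem 0 0 1))
    simp only [conj_mul, mul_left_inj, mul_right_inj, qs_mul] at this
    simpa using (qs_inj this).2.1
  have hx : ∀ x ∈ (P : Subgroup (qd p)), x ^ p = 1 := by
    intro x hx
    rw [← hg] at hx
    obtain ⟨_, ⟨a, b, c, rfl⟩, rfl⟩ := hx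
    rw [← map_pow, hpow]
    have : ((p.choose 2 : ℕ) : ZMod p) = 0 :=
      (ZMod.natCast_eq_zero_iff _ _).mpr (hpr.dvd_choose_self two_ne_zero
        (lt_of_le_of_ne hpr.two_le (Ne.symm hp)))
    simp [this, qs_zero]
  obtain ⟨k1, k2⟩ := H2.p3_center (p := p) (S := (P : Subgroup (qd p))) hc
    (fun h => hna (H2.isMulCommutative_iff_forall.mp h))
  refine ⟨H2.isExtraspecial_iff.mpr ⟨P.isPGroup', le_antisymm ?_ ?_, k2, k1⟩, hc, ?_⟩
  · exact H1.map_frattini_le_of_elementary hpr k2.le fun x h => by rw [hx x h]; exact one_mem _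
  · rw [← k2]; exact H1.commutator_le_map_frattini P.isPGroup'
  have h1 : Monoid.exponent P ∣ p := by
    rw [Monoid.exponent_dvd_iff_forall_pow_eq_one]
    exact fun x => Subtype.ext (hx x x.2)
  rcases (Nat.dvd_prime hpr).mp h1 with h | h
  · exfalso
    apply hna
    intro x hx y hy
    have := Monoid.pow_exponent_eq_one (⟨x, hx⟩ : (P : Subgroup (qd p)))
    rw [h, pow_one] at this
    rw [show x = 1 from congrArg Subtype.val this]; simp
  · exact h

end Cfsg.Agent.S3074
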