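import Cfsg.Statements.S3532
import Cfsg.Agent.GS.Spec2

set_option autoImplicit false
open Cfsg

namespace Cfsg.Agent.S3532

open Cfsg.Agent.H1

/-- Let q ≥ 4 be a prime power and L = PSL(2,q). There is a finite solvable group with the same set of element orders as L × L (so L × L is not determined by its spectrum). -/
theorem result {F : Type*} [Field F] [Fintype F] (hF : 4 ≤ Fintype.card F) :
    ∃ (H : Type) (_ : Group H) (_ : Finite H), Group.IsSolvable H ∧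
      Set.range (orderOf : H → ℕ) = Set.range (orderOf : Matrix.ProjectiveSpecialLinearGroup (Fin 2) F × Matrix.ProjectiveSpecialLinearGroup (Fin 2) F → ℕ) := by
  open Subgroup Pointwise commutatorElement Cfsg.Agent.BG Cfsg.Agent.GS in
  open Cfsg.Agent.H2 hiding card_lt_of_lt card_lt_of_ne_top isMulCommutative_of_le isPGroup_zpowers_iff mem_of_pow_mem_of_coprime inf_eq_bot_of_cop exists_maxElem_ge Sec in
  open Cfsg.Agent.H8 (Op Opp Fit SN) in
  open Cfsg.Agent.L (FPF) in focus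
    obtain ⟨p, _, n, hp, hq⟩ := FiniteField.card' F
    haveI := Fact.mk hp
    have d : p ∣ Fintype.card F := hq ▸ dvd_pow_self p n.ne_zero
    obtain ⟨A, _, _, a, a'⟩ := exists_spec_cyc (n := (Fintype.card F - 1) / Nat.gcd 2 (Fintype.card F - 1)) hp fun e =>
      hp.ne_one (Nat.dvd_one.1 ((Nat.dvd_sub_iff_right (by omega) d).1 (e.trans (Nat.div_dvd_of_dvd (Nat.gcd_dvd_right _ _)))))
    obtain ⟨B, _, _, b, b'⟩ := exists_spec_cyc (n := (Fintype.card F + 1) / Nat.gcd 2 (Fintype.card F - 1)) hp fun e =>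
      hp.ne_one (Nat.dvd_one.1 ((Nat.dvd_add_right d).1 (e.trans (Nat.div_dvd_of_dvd (by
        rw [show Fintype.card F + 1 = Fintype.card F - 1 + 2 by omega]; exact dvd_add (Nat.gcd_dvd_right _ _) (Nat.gcd_dvd_left _ _))))))
    refine ⟨A × B, inferInstance, inferInstance, inferInstance, Set.ext fun m => ?_⟩
    rw [mem_spec_prod, mem_spec_prod, a', b', spec, S2475.result p hF]
    refine ⟨fun ⟨x, hx, y, hy, e⟩ => ⟨x, hx.imp_right Or.inl, y, hy.imp_right Or.inr, e⟩, ?_⟩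
    rintro ⟨x, hx | hx | hx, y, hy | hy | hy, rfl⟩
    exacts [⟨x, Or.inl hx, y, Or.inl hy, rfl⟩, ⟨y, Or.inr hy, x, Or.inl hx, Nat.lcm_comm ..⟩, ⟨x, Or.inl hx, y, Or.inr hy, rfl⟩,
      ⟨x, Or.inr hx, y, Or.inl hy, rfl⟩, ⟨_, Or.inr (Nat.lcm_dvd hx hy), 1, Or.inl (one_dvd _), by simp⟩, ⟨x, Or.inr hx, y, Or.inr hy, rfl⟩,
      ⟨y, Or.inl hy, x, Or.inr hx, Nat.lcm_comm ..⟩, ⟨y, Or.inr hy, x, Or.inr hx, Nat.lcm_comm ..⟩,
      ⟨1, Or.inl (one_dvd _), _, Or.inr (Nat.lcm_dvd hx hy), by simp⟩]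

end Cfsg.Agent.S3532
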