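import Cfsg.Statements.S3554
import Mathlib
import Cfsg.Agent.H7.Basic

set_option autoImplicit false
open Cfsg

namespace Cfsg.Agent.S3554

/-- Let G act faithfully and transitively on a finite set and suppose G has a non-trivial cyclic normal subgroup. Then some element of G of prime order fixes no point. -/
theorem result {G Ω : Type*} [Group G] [Finite G] [MulAction G Ω] [FaithfulSMul G Ω] [Finite Ω]
    (htrans : MulAction.IsPretransitive G Ω) (C : Subgroup G) (hC : C.Normal) (hC1 : C ≠ ⊥) (hcyc : IsCyclic ↥C) :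
    ∃ g : G, (orderOf g).Prime ∧ ∀ ω : Ω, g • ω ≠ ω := by
  haveI : Nontrivial C := (Subgroup.nontrivial_iff_ne_bot _).2 hC1
  obtain ⟨p, hp, hpd⟩ := Nat.exists_prime_and_dvd (Finite.one_lt_card (α := C)).ne'
  haveI := Fact.mk hp
  obtain ⟨x, hxo⟩ := exists_prime_orderOf_dvd_card' p hpd
  refine ⟨x, by rw [Subgroup.orderOf_coe, hxo]; exact hp, fun ω hω => ?_⟩
  have hN : ((Subgroup.zpowers x).map C.subtype).Normal := by
    have : (Subgroup.zpowers x).Characteristic := by
      rw [Subgroup.characteristic_iff_map_le]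
      intro φ
      obtain ⟨m, hm⟩ := MonoidHom.map_cyclic (φ.toMonoidHom)
      rintro _ ⟨y, hy, rfl⟩
      rw [hm]; exact Subgroup.zpow_mem _ hy _
    exact ConjAct.normal_of_characteristic_of_normal
  have := H7.eq_bot_of_normal_le_stabilizer hN (a := ω) (by
    rw [MonoidHom.map_zpowers, Subgroup.zpowers_le]; exact hω)
  rw [MonoidHom.map_zpowers, Subgroup.zpowers_eq_bot] at this
  have h1 : x = 1 := Subtype.ext this
  rw [h1, orderOf_one] at hxo
  exact hp.one_lt.ne hxo

end Cfsg.Agent.S3554
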