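import Cfsg.Statements.S3626
import Cfsg.Agent.H8.Ree3
import Cfsg.Agent.S1159

set_option autoImplicit false
open Cfsg

namespace Cfsg.Agent.S3626

open Subgroup hiding commutator_def
open Function Cfsg.Agent.Hopf Cfsg.Agent.Reg
open scoped commutatorElement Pointwise

open Cfsg.Agent.GS in
theorem aux {G : Type*} [Group G] [Finite G] {a A B : ℕ} (ha : 3 ≤ a) (ho : Odd a)
    (h : ∀ d, d ∈ spec G ↔ d ∣ 6 ∨ d ∣ 9 ∨ d ∣ 3 ^ a - 1 ∨ d ∣ (3 ^ a + 1) / 2 ∨ d ∣ A ∨ d ∣ B) (N : ℕ) :
    ∃ (H : Type) (_ : Group H) (_ : Fintype H), N < Fintype.card H ∧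
      Set.range (orderOf : H → ℕ) = Set.range (orderOf : G × G × G → ℕ) := by
  obtain ⟨H, _, _, K, h1, h2, h3, -, h5⟩ := exists_H3 ha ho
  have e := spec_three (G := G) (H := H) (A := A) (B := B) (fun m hm => by
      rw [h5] at hm; rw [h]; rcases hm with hm | hm | hm | hm <;> simp [hm])
    (fun m hm => by
      rw [h5]; rw [h] at hm; rcases hm with hm | hm | hm | hm | hm | hm <;> simp [hm])
    ((h _).2 (by simp)) ((h _).2 (by simp))
  refine large_of (G := G × G × H) ((⊥ : Subgroup G).prod ((⊥ : Subgroup G).prod K)) ?_ ?_ e N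
  · rw [Ne, prod_eq_bot_iff, prod_eq_bot_iff]; exact fun e => h2 e.2.2
  · haveI : Group.IsSolvable ((⊥ : Subgroup G).prod K) :=
      Group.isSolvable_of_surjective (f := ((prodEquiv (⊥ : Subgroup G) K).symm.toMonoidHom))
        (prodEquiv (⊥ : Subgroup G) K).symm.surjective
    exact Group.isSolvable_of_surjective
      (f := ((prodEquiv (⊥ : Subgroup G) ((⊥ : Subgroup G).prod K)).symm.toMonoidHom))
      (prodEquiv (⊥ : Subgroup G) _).symm.surjective

/-- Let R be the small Ree group over the field with q = 3^(2m+1) ≥ 27 elements. Then there are finite groups of arbitrarily large order with exactly the same set of element orders as R × R × R. -/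
theorem result {K : Type*} [Field K] [Fintype K] {m : ℕ} (hm : 1 ≤ m) (hK : Fintype.card K = 3 ^ (2 * m + 1)) (N : ℕ) :
    ∃ (H : Type) (_ : Group H) (_ : Fintype H), N < Fintype.card H ∧
      Set.range (orderOf : H → ℕ) = Set.range (orderOf : ↥(Cfsg.Lie.twistedG2 K (3 ^ m)) × ↥(Cfsg.Lie.twistedG2 K (3 ^ m)) × ↥(Cfsg.Lie.twistedG2 K (3 ^ m)) → ℕ) := by
  exact aux (a := 2 * m + 1) (by omega) ⟨m, rfl⟩ (fun d => S1159.result hm hK d) N

end Cfsg.Agent.S3626
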