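import Cfsg.Statements.S3664
import Cfsg.Agent.H8.Pg
import Cfsg.Agent.S2238
import Cfsg.Agent.S0324
import Cfsg.Agent.H5.AutB

set_option autoImplicit false
open Cfsg

namespace Cfsg.Agent.S3664


open Function Cfsg.Agent.Rp Cfsg.Agent.GS Matrix Polynomial
open scoped MatrixGroups

theorem pgS {F : Type*} [Field F] [Fintype F] (hF : Fintype.card F = 3) :
    PG (spec (PSp 3 F)) [2, 3, 5, 7, 13] [6, 10, 14, 15] [21, 26, 35, 39, 65, 91] := by
  haveI : CharP F 3 := charP_of_card_eq_prime hF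
  have h2 : (2 : F) ≠ 0 := fun h => by simpa using (CharP.cast_eq_zero_iff F 3 2).1 h
  have k30 : 30 ∈ spec (PSp 3 F) := by
    obtain ⟨A, hA, a⟩ := exists_torus (F := F) (n := 2) (T := 10) (by decide) (Or.inr (by rw [hF]; rfl))
    obtain ⟨U, hU, b⟩ := exists_reg 3 h2 1
    obtain ⟨P, c, d, e⟩ := sblk_two h2 (n := 3) (rfl : 2 + 1 = 3) (by decide) (by decide) hA hU
    have h3 := a _ d
    have h4 : orderOf U = 3 := orderOf_eq_prime ((b 1).2 (by decide)) fun h => by simpa [h] using b 0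
    have h5 := h4 ▸ orderOf_dvd_of_pow_eq_one e
    have h6 := Nat.dvd_lcm_left P 2
    have h7 := Nat.dvd_lcm_right P 2
    have h8 : 15 ∣ P.lcm 2 := (show 15 ∣ P by omega).trans h6
    exact mem_spec_of_dvd c (by omega)
  have k14 : 14 ∈ spec (PSp 3 F) := by
    obtain ⟨a, b, c⟩ := torus_mem (F := F) (n := 3) (T := 28) (by decide) (Or.inr (by rw [hF]; rfl))
    exact mem_spec_of_dvd b (by omega)
  have k13 : 13 ∈ spec (PSp 3 F) := by
    obtain ⟨a, b, c⟩ := torus_mem (F := F) (n := 3) (T := 26) (by decide) (Or.inl (by rw [hF]; rfl))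
    exact mem_spec_of_dvd b (by omega)
  have key : ∀ r s : ℕ, r.Prime → ¬ r * s ∣ 2 * s * 3 ^ 2 → ∀ g : symplecticGroup (Fin 3) F,
      orderOf (g : PSp 3 F) = r * s → ∃ x ∈ ev g.1, x ≠ 0 ∧ orderOf (x ^ (2 * s)) = r ∧
        ∀ e : ℤ, x ^ e ∈ ev g.1 → x ^ (e * 3) ∈ ev g.1 ∧ x ^ (-e) ∈ ev g.1 := fun r s hr h g hg => by
    obtain ⟨x, a, b⟩ := exists_ev_ne 3 (A := g.1) (k := 2 * s) (b := 2) (by simp) fun e =>
      h (hg ▸ psp_dvd.2 ⟨1, by rw [e, one_smul]⟩)
    have c := ev_pow a (c := 1) ((pow_two_order g).trans (one_smul _ _).symm)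
    haveI := Fact.mk hr
    refine ⟨x, a, ev_ne (by rw [SymplecticGroup.det_eq_one g.2]; simp) a,
      orderOf_eq_prime (by rw [← pow_mul, ← map_one (algebraMap F _), ← c, hg]; congr 1; ring) b, fun e he => ⟨?_, ?_⟩⟩
    · have := ev_pow_mem he
      rwa [hF, ← zpow_natCast, ← _root_.zpow_mul] at this
    · rw [_root_.zpow_neg]
      exact ev_inv_mem ((isUnit_iff_isUnit_det _).2 (isUnit_det_J _ _)) (SymplecticGroup.mem_iff'.1 g.2) he
  have k7 : ∀ s, ¬ 7 * s ∣ 2 * s * 3 ^ 2 → 7 * s ∈ spec (PSp 3 F) → 7 * s ∣ 28 := by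
    rintro s h ⟨g, hg⟩
    obtain ⟨g, rfl⟩ := QuotientGroup.mk_surjective g
    obtain ⟨x, a, b, c, d⟩ := key 7 s (by norm_num) h g hg
    have e1 : x ^ (1 : ℤ) ∈ ev g.1 := by simpa using a
    have e2 := (d _ e1).1
    have e3 := (d _ e2).1
    obtain ⟨h1, h3⟩ := ev_list b c [1, 3, 9, -1, -3, -9] (by
      simp only [List.forall_mem_cons]
      exact ⟨e1, e2, e3, (d _ e1).2, (d _ e2).2, (d _ e3).2, by simp⟩) (by decide) (by simp)
    obtain ⟨e, h4, h5⟩ := h3 _ (d _ e3).1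
    obtain rfl := (by decide : ∀ e ∈ [(1 : ℤ), 3, 9, -1, -3, -9], ((7 : ℕ) : ℤ) ∣ e - 1 * 3 * 3 * 3 → e = -1) e h4
      (zpow_dvd b c h5)
    have h6 : x ^ (28 : ℤ) = 1 := by
      rw [show (28 : ℤ) = 1 * 3 * 3 * 3 + 1 by decide, zpow_add₀ b, ← h5, ← zpow_add₀ b]; simp
    have := pow_of_count (A := g.1) (P := X ^ 28 - C 1) (X_pow_sub_C_ne_zero (by decide) _) (fun y hy => by
      obtain ⟨e, -, rfl⟩ := h3 y hy
      simp only [map_sub, map_pow, aeval_X, map_one]
      rw [← zpow_natCast, ← _root_.zpow_mul, mul_comm, _root_.zpow_mul]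
      erw [h6]; simp) h1
    exact hg ▸ psp_dvd.2 ⟨1, by simpa [sub_eq_zero] using this⟩
  have k13' : ∀ s, ¬ 13 * s ∣ 2 * s * 3 ^ 2 → 13 * s ∈ spec (PSp 3 F) → 13 * s ∣ 13 := by
    rintro s h ⟨g, hg⟩
    obtain ⟨g, rfl⟩ := QuotientGroup.mk_surjective g
    obtain ⟨x, a, b, c, d⟩ := key 13 s (by norm_num) h g hg
    have e1 : x ^ (1 : ℤ) ∈ ev g.1 := by simpa using a
    have e2 := (d _ e1).1
    have e3 := (d _ e2).1
    obtain ⟨h1, h3⟩ := ev_list b c [1, 3, 9, -1, -3, -9] (by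
      simp only [List.forall_mem_cons]
      exact ⟨e1, e2, e3, (d _ e1).2, (d _ e2).2, (d _ e3).2, by simp⟩) (by decide) (by simp)
    obtain ⟨e, h4, h5⟩ := h3 _ (d _ e3).1
    obtain rfl := (by decide : ∀ e ∈ [(1 : ℤ), 3, 9, -1, -3, -9], ((13 : ℕ) : ℤ) ∣ e - 1 * 3 * 3 * 3 → e = 1) e h4
      (zpow_dvd b c h5)
    have h6 : x ^ (13 : ℤ) * x ^ (13 : ℤ) = 1 := by
      rw [← zpow_add₀ b, show (13 + 13 : ℤ) = 1 * 3 * 3 * 3 + -1 by decide, zpow_add₀ b, ← h5, ← zpow_add₀ b]; simp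
    obtain ⟨t, ht, h7⟩ : ∃ t : F, t * t = 1 ∧ x ^ (13 : ℤ) = algebraMap F _ t := by
      rcases mul_self_eq_one_iff.1 h6 with h | h
      exacts [⟨1, by simp, by simpa using h⟩, ⟨-1, by simp, by simpa using h⟩]
    have := pow_of_count (A := g.1) (P := X ^ 13 - C t) (X_pow_sub_C_ne_zero (by decide) _) (fun y hy => by
      obtain ⟨e, he, rfl⟩ := h3 y hy
      have ho := (by decide : ∀ e ∈ [(1 : ℤ), 3, 9, -1, -3, -9], Odd e) e he
      simp only [map_sub, map_pow, aeval_X, aeval_C]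
      rw [← zpow_natCast, ← _root_.zpow_mul, mul_comm, _root_.zpow_mul]
      erw [h7]
      rcases mul_self_eq_one_iff.1 ht with rfl | rfl <;> simp [ho.neg_one_zpow]) h1
    exact hg ▸ psp_dvd.2 ⟨t, by simpa [sub_eq_zero, Algebra.algebraMap_eq_smul_one] using this⟩
  refine pg_of (k := 10) ((Subgroup.card_quotient_dvd_card _).trans ?_) (by norm_num) ?_ ?_ ?_
  · rw [H4.card_Sp, hF]; decide +kernel
  all_goals simp only [List.forall_mem_cons]
  · exact ⟨mem_spec_of_dvd k30 (by decide), mem_spec_of_dvd k30 (by decide), mem_spec_of_dvd k30 (by decide),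
      mem_spec_of_dvd k14 (by decide), k13, by simp⟩
  · exact ⟨mem_spec_of_dvd k30 (by decide), mem_spec_of_dvd k30 (by decide), k14,
      mem_spec_of_dvd k30 (by decide), by simp⟩
  · exact ⟨fun h => absurd (k7 3 (by decide) h) (by decide), fun h => absurd (k13' 2 (by decide) h) (by decide),
      fun h => absurd (k7 5 (by decide) h) (by decide), fun h => absurd (k13' 3 (by decide) h) (by decide),
      fun h => absurd (k13' 5 (by decide) h) (by decide), fun h => absurd (k13' 7 (by decide) h) (by decide), by simp⟩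

section
open Cfsg.Agent.H5.Suz

theorem isSz_map {K F : Type*} [Field K] [Field F] {θ' : K →+* K} {θ : F →+* F} (φ : K →+* F)
    (hφ : ∀ x, φ (θ' x) = θ (φ x)) {M : Matrix (Fin 4) (Fin 4) K} (h : IsSz θ' M) : IsSz θ (M.map φ) := by
  have hJ : (suzukiForm K).map φ = suzukiForm F := by ext i j; fin_cases i <;> fin_cases j <;> simp [suzukiForm]
  refine ⟨by rw [← hJ, ← Matrix.transpose_map, ← Matrix.map_mul, ← Matrix.map_mul, h.1], ?_⟩
  ext i j
  have := congrArg φ (congrFun₂ h.2 i j)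
  simpa [Lie.star4, hφ] using this

variable {K : Type} [Field K] [Fintype K] [CharP K 2] {S Ω : Type} [Group S] [MulAction S Ω] (Z : SzG (th K 1) S Ω)

theorem exists_act : ∃ φ : (K ≃+* K) →* MulAut S, ∀ τ g, Z.ρ (φ τ g) = (Z.ρ g).map τ := by
  choose f hf using fun (τ : K ≃+* K) (g : S) => Z.surj _ (isSz_map (θ := th K 1) τ.toRingHom
    (fun x => by simp [iterateFrobenius_def]) (Z.mem g))
  have hf' : ∀ (τ : K ≃+* K) g, Z.ρ (f τ g) = (Z.ρ g).map τ := hf
  refine ⟨MonoidHom.mk' (fun τ => ⟨⟨f τ, f τ.symm, fun g => Z.inj ?_, fun g => Z.inj ?_⟩, fun a b => Z.inj ?_⟩)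
    fun τ υ => MulEquiv.ext fun g => Z.inj ?_, hf'⟩
  · rw [hf', hf']; ext; simp
  · rw [hf', hf']; ext; simp
  · simp only [map_mul, hf']; exact Matrix.map_mul (f := τ.toRingHom)
  · exact (hf' _ _).trans (((hf' τ _).trans (congrArg (·.map τ) (hf' υ g))).trans (by ext; simp)).symm

theorem orb5 (g : S) {r : ℕ} (hr : r.Prime) (h2 : r ≠ 2) (hg : orderOf g = r) : ∃ x ∈ ev (Z.ρ g), x ≠ 0 ∧
    orderOf (x ^ 1) = r ∧ ∀ e : ℤ, x ^ e ∈ ev (Z.ρ g) → x ^ (-e) ∈ ev (Z.ρ g) := by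
  obtain ⟨x, a, b⟩ := exists_ev_ne 2 (A := Z.ρ g) (k := 1) (b := 2) (by simp) fun e => by
    rw [← map_pow, ← map_one Z.ρ] at e
    have := hg ▸ orderOf_dvd_of_pow_eq_one (Z.inj e)
    exact h2 ((Nat.prime_dvd_prime_iff_eq hr Nat.prime_two).1 (hr.dvd_of_dvd_pow (n := 2) (by simpa using this)))
  have c := ev_pow a (k := r) (c := 1) (by rw [← map_pow, ← hg, pow_orderOf_eq_one, map_one, one_smul])
  haveI := Fact.mk hr
  refine ⟨x, a, ev_ne (by rw [(Z.mem g).det]; simp) a, orderOf_eq_prime (by simpa using c) b, fun e he => ?_⟩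
  rw [_root_.zpow_neg]
  exact ev_inv_mem (IsUnit.of_mul_eq_one _ J_mul_J) (Z.mem g).1 he

theorem fpf13 (hK : Fintype.card K = 8) (g : S) (hg : orderOf g = 13) {Y : Matrix (Fin 4) (Fin 4) K}
    (h : Z.ρ g * Y * ((Z.ρ g).map (frobenius K 2))ᵀ = Y) : Y = 0 := by
  obtain ⟨x, a, b, c, d⟩ := orb5 Z g (by norm_num) (by decide) hg
  have e1 : x ^ (1 : ℤ) ∈ ev (Z.ρ g) := by simpa using a
  have e2 : x ^ (8 : ℤ) ∈ ev (Z.ρ g) := by have := ev_pow_mem a; rwa [hK, ← zpow_natCast] at this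
  obtain ⟨-, h3⟩ := ev_list b c [1, 8, -1, -8] (by
    simp only [List.forall_mem_cons]
    exact ⟨e1, e2, d _ e1, d _ e2, by simp⟩) (by decide) (by simp)
  have h1 : ((Z.ρ g⁻¹).map (frobenius K 2))ᵀ * ((Z.ρ g).map (frobenius K 2))ᵀ = 1 := by
    rw [← transpose_mul, ← Matrix.map_mul, ← map_mul]; simp
  refine sylv (A := Z.ρ g) (B := ((Z.ρ g⁻¹).map (frobenius K 2))ᵀ) (fun y h4 h5 => ?_) ?_
  · rw [ev_inv h1, ev_tr, ev_map, Multiset.map_map] at h5
    obtain ⟨z, h6, h7⟩ := Multiset.mem_map.1 h5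
    obtain ⟨e, h8, rfl⟩ := h3 y h4
    obtain ⟨e', h9, rfl⟩ := h3 z h6
    refine (by decide : ∀ e ∈ [(1 : ℤ), 8, -1, -8], ∀ e' ∈ [(1 : ℤ), 8, -1, -8], ¬ ((13 : ℕ) : ℤ) ∣ -(e' * 2) - e)
      e h8 e' h9 (zpow_dvd b c ?_)
    rw [← h7, _root_.zpow_neg, _root_.zpow_mul]; simp [zpow_ofNat]
  · conv_rhs => rw [← h, mul_assoc, mul_eq_one_comm.1 h1, mul_one]

theorem no_fix (g : S) {r : ℕ} (hr : r = 7 ∨ r = 13) (hg : orderOf g = r) : (Z.ρ g).map (frobenius K 2) ≠ Z.ρ g := by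
  intro h
  obtain ⟨x, a, b, c, d⟩ := orb5 Z g (by rcases hr with rfl | rfl <;> norm_num) (by omega) hg
  have k : ∀ e : ℤ, x ^ e ∈ ev (Z.ρ g) → x ^ (e * 2) ∈ ev (Z.ρ g) := fun e he => by
    rw [← h, ev_map, _root_.zpow_mul]
    exact Multiset.mem_map.2 ⟨_, he, by simp [zpow_ofNat]⟩
  have e1 : x ^ (1 : ℤ) ∈ ev (Z.ρ g) := by simpa using a
  have e2 := k _ e1
  have := ev_len b c [1, 2, 4, -1, -2] (by
    simp only [List.forall_mem_cons]
    exact ⟨e1, e2, k _ e2, d _ e1, d _ e2, by simp⟩) (by rcases hr with rfl | rfl <;> decide)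
  simp at this

/-- The twisted tensor square. -/
noncomputable def act : S →* AddMonoid.End (Matrix (Fin 4) (Fin 4) K) where
  toFun g := AddMonoidHom.mk' (fun Y => Z.ρ g * Y * ((Z.ρ g).map (frobenius K 2))ᵀ) fun a b => by
    rw [mul_add, add_mul]
  map_one' := AddMonoidHom.ext fun Y => by simp; rfl
  map_mul' g h := AddMonoidHom.ext fun Y => by
    show _ = Z.ρ g * (Z.ρ h * Y * _) * _
    simp [mul_assoc]

include Z in
theorem pgL [Finite S] (hK : Fintype.card K = 2 ^ 3) (hc : Nat.card S = 29120)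
    (hS : ∀ m ∈ spec S, (∃ k, m = 2 ^ k) ∨ m ∣ 7 ∨ m ∣ 13 ∨ m ∣ 5) :
    ∃ (L : Type) (_ : Group L) (_ : Finite L) (N : Subgroup L), N.Normal ∧ N ≠ ⊥ ∧ Group.IsSolvable N ∧
      PG (spec L) [2, 3, 5, 7, 13] [6, 10, 14, 15] [21, 26, 35, 39, 65, 91] := by
  classical
  have t2 : (2 : K) = 0 := CharP.cast_eq_zero K 2
  obtain ⟨φ, hφ⟩ := exists_act Z
  have hA : Nat.card (K ≃+* K) = 3 := (H5.ringAut_card K hK).1
  haveI : Finite (K ≃+* K) := Nat.finite_of_card_ne_zero (by omega)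
  obtain ⟨σ, hσ⟩ : ∃ σ : K ≃+* K, (σ : K → K) = frobenius K 2 := ⟨frobeniusEquiv K 2, rfl⟩
  obtain ⟨k, k0, k1⟩ := Z.two
  have k7 : k ^ 7 = 1 := by simpa [hK] using FiniteField.pow_card_sub_one_eq_one k k0
  have hσ1 : σ ≠ 1 := fun e => k1 (mul_left_cancel₀ k0 (by
    have := congrFun hσ k
    rw [e, frobenius_def] at this
    simpa [pow_two] using this.symm))
  have ho : orderOf (SemidirectProduct.inr σ : S ⋊[φ] (K ≃+* K)) = 3 :=
    (orderOf_injective _ SemidirectProduct.inr_injective σ).trans (orderOf_eq_prime (hA ▸ pow_card_eq_one') hσ1)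
  have hl : ∀ s : S, orderOf (SemidirectProduct.inl s : S ⋊[φ] (K ≃+* K)) = orderOf s :=
    orderOf_injective _ SemidirectProduct.inl_injective
  have hG : Nat.card (S ⋊[φ] (K ≃+* K)) = 29120 * 3 := by rw [SemidirectProduct.card, hc, hA]
  have hr : ∀ x : S ⋊[φ] (K ≃+* K), ¬ 3 ∣ orderOf x → ∃ s, x = .inl s := fun x h => by
    have h1 : orderOf x.right ∣ orderOf x := orderOf_map_dvd SemidirectProduct.rightHom x
    have h2 : x.right = 1 := orderOf_eq_one_iff.1 (((Nat.dvd_prime Nat.prime_three).1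
      (hA ▸ orderOf_dvd_natCard x.right)).resolve_right fun e => h (e ▸ h1))
    exact ⟨x.left, SemidirectProduct.ext rfl h2⟩
  have b1 : ∀ m ∈ spec (S ⋊[φ] (K ≃+* K)), ¬ 3 ∣ m → m ∈ spec S := by
    rintro _ ⟨x, rfl⟩ h
    obtain ⟨s, rfl⟩ := hr x h
    exact ⟨s, (hl s).symm⟩
  have b2 : ∀ r, r = 7 ∨ r = 13 → 3 * r ∉ spec (S ⋊[φ] (K ≃+* K)) := by
    rintro r h ⟨x, hx⟩
    have h1 : orderOf (x ^ r) = 3 := by rw [orderOf_pow' _ (by omega), hx]; rcases h with rfl | rfl <;> rfl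
    have h2 : orderOf (x ^ 3) = r := by rw [orderOf_pow' _ (by omega), hx]; rcases h with rfl | rfl <;> rfl
    obtain ⟨P, hP⟩ := (IsPGroup.of_card (p := 3) (n := 1) ((Nat.card_zpowers _).trans h1)).exists_le_sylow
    obtain ⟨Q, hQ⟩ := (IsPGroup.of_card (p := 3) (n := 1) ((Nat.card_zpowers _).trans ho)).exists_le_sylow
    have h3 := Subgroup.eq_of_le_of_card_ge hQ (by
      rw [Q.card_eq_multiplicity, hG, Nat.card_zpowers, ho, Nat.factorization_eq_of_coprime_right (by decide) (by simp),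
        Nat.prime_three.factorization_self, pow_one])
    obtain ⟨w, rfl⟩ := MulAction.exists_smul_eq (S ⋊[φ] (K ≃+* K)) P Q
    obtain ⟨j, hj⟩ : MulAut.conj w (x ^ r) ∈ Subgroup.zpowers (SemidirectProduct.inr σ : S ⋊[φ] (K ≃+* K)) :=
      h3 ▸ Subgroup.smul_mem_pointwise_smul _ _ _ (hP (Subgroup.mem_zpowers _))
    have h4 := (MulAut.conj w).orderOf_eq (x ^ 3)
    obtain ⟨s, hs⟩ := hr (MulAut.conj w (x ^ 3)) (by rw [h4, h2]; omega)
    simp only [← map_zpow] at hj
    obtain ⟨i, hi⟩ := mem_zpowers_of_prime_card (p := 3) hA (g := σ ^ j) (g' := σ) (fun e => by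
      have := (MulAut.conj w).orderOf_eq (x ^ r)
      rw [← hj, e, h1] at this
      simp at this)
    have h5 : Commute (SemidirectProduct.inr σ : S ⋊[φ] (K ≃+* K)) (.inl s) := by
      rw [← hi, map_zpow, hj, ← hs]
      exact ((Commute.pow_pow_self x r 3).map _).zpow_left _
    refine no_fix Z s h (by rw [← hl, ← hs, h4, h2]) ?_
    rw [← hσ, ← hφ]
    refine congrArg _ (SemidirectProduct.inl_injective (φ := φ) ?_)
    rw [SemidirectProduct.inl_aut, h5.eq]; simp
  obtain ⟨L, _, _, N, n1, n2, n3, n4, l1, l2, l3⟩ := exists_fm (G := S ⋊[φ] (K ≃+* K))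
    (A := Matrix (Fin 4) (Fin 4) K → Matrix (Fin 4) (Fin 4) K) Nat.prime_two
    (fun a => by ext; simp [t2]) {s | orderOf s = 13} (fun w Y => act Z w.left Y)
    (fun e => by simpa using congrFun₂ e 1 1) fun s hs x y => by
      have hs' : orderOf s = 13 := hs
      have h4 := (MulAut.conj x).orderOf_eq s
      obtain ⟨t, ht⟩ := hr (MulAut.conj x s) (by rw [h4, hs']; omega)
      have h5 : orderOf t = 13 := by rw [← hl, ← ht, h4, hs']
      have h6 : ∀ i, (x * s ^ i * y).left = t ^ i * (x * y).left := fun i => by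
        rw [show x * s ^ i * y = .inl (t ^ i) * (x * y) by rw [map_pow, ← ht, ← map_pow]; simp [mul_assoc],
          SemidirectProduct.mul_left]
        simp only [SemidirectProduct.left_inl, SemidirectProduct.right_inl, map_one, MulAut.one_apply]
      ext1 Y
      simp only [h6, Finset.sum_apply, map_mul, hs']
      refine fpf13 Z hK t h5 ?_
      have h7 := Finset.sum_range_succ (fun i => act Z (t ^ i) (act Z (x * y).left Y)) 13
      rw [Finset.sum_range_succ', ← h5, pow_orderOf_eq_one, pow_zero, h5, add_left_inj] at h7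
      refine Eq.trans ?_ h7
      simp only [pow_succ', map_mul]
      exact map_sum (act Z t) _ _
  have l4 : ∀ (s : S) (Y : Matrix (Fin 4) (Fin 4) K), Y ≠ 0 → act Z s Y = Y → Odd (orderOf s) →
      2 * orderOf s ∈ spec L := fun s Y h0 h1 h2 => by
    rw [← hl]
    refine l2 _ 1 fun e => h0 ?_
    have h3 : ∀ i, act Z (s ^ i) Y = Y := fun i => by
      rw [map_pow, AddMonoid.End.coe_pow]; exact Function.IsFixedPt.iterate (f := act Z s) h1 i
    have := congrFun e Y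
    obtain ⟨c, hc⟩ := h2
    simp only [Finset.sum_apply, one_mul, ← map_pow, SemidirectProduct.left_inl, h3, hl, hc] at this
    ext i j
    simpa [t2] using congrFun₂ this i j
  have l5 : ∀ M : Matrix (Fin 4) (Fin 4) (ZMod 2), ∀ r : ℕ, r.Prime → r ≠ 3 → IsSz (RingHom.id _) M → M ^ r = 1 → M ≠ 1 →
      ∃ s : S, orderOf s = r ∧ act Z s (suzukiForm K) = suzukiForm K ∧ 3 * r ∈ spec L := fun M r h1 h3 h4 h5 h6 => by
    let c := ZMod.castHom (dvd_refl 2) K
    obtain ⟨s, hs⟩ := Z.surj _ (isSz_map (θ := th K 1) c (fun x => by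
      exact (DFunLike.congr_fun (RingHom.ext_zmod c ((th K 1).comp c)) x)) h4)
    have h7 : (Z.ρ s).map (frobenius K 2) = Z.ρ s := by
      rw [hs, Matrix.map_map]
      exact congrArg M.map (funext fun x => (DFunLike.congr_fun (RingHom.ext_zmod ((frobenius K 2).comp c) c) x))
    haveI := Fact.mk h1
    have h8 : orderOf s = r := orderOf_eq_prime (Z.inj (by
      rw [map_pow, hs, ← RingHom.mapMatrix_apply, ← map_pow, h5, map_one, map_one])) fun e => h6 (by
        rw [e, map_one, ← Matrix.map_one c (map_zero _) (map_one _)] at hs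
        exact Matrix.map_injective c.injective hs.symm)
    refine ⟨s, h8, ?_, l1 ?_⟩
    · show Z.ρ s * _ * _ = _
      rw [h7]; exact (Z.mem s).row
    · rw [← h8, ← hl, ← ho]
      refine mul_mem_spec ?_ (by rw [ho, hl, h8]; exact (Nat.coprime_primes Nat.prime_three h1).2 h3.symm)
      have : φ σ s = s := Z.inj (by rw [hφ, hσ, h7])
      have h9 := SemidirectProduct.inl_aut (φ := φ) σ s
      rw [this, map_inv, eq_mul_inv_iff_mul_eq] at h9
      exact h9.symm
  obtain ⟨-, -, -, k6⟩ := l5 (suzukiForm _) 2 Nat.prime_two (by decide) ⟨by decide, by decide⟩ (by decide) (by decide)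
  obtain ⟨s, s1, s2, k15⟩ := l5 !![0, 0, 0, 1; 0, 0, 1, 0; 0, 1, 0, 1; 1, 0, 1, 1] 5 Nat.prime_five (by decide)
    ⟨by decide, by decide⟩ (by decide +kernel) (by decide)
  have k10 := l4 s _ (fun e => by simpa [suzukiForm] using congrFun₂ e 0 3) s2 (by rw [s1]; decide)
  rw [s1] at k10
  have k14 : 2 * 7 ∈ spec L := by
    obtain ⟨t, ht⟩ := Z.surj _ (isSz_h Z.sq k0)
    haveI : Fact (Nat.Prime 7) := ⟨by norm_num⟩
    have h1 : ∀ n, hM (th K 1) k ^ n = hM (th K 1) (k ^ n) := fun n => by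
      induction n with
      | zero => simp [hM_one]
      | succ n ih => rw [pow_succ, ih, hM_mul, pow_succ]
    have h2 : orderOf t = 7 := orderOf_eq_prime (Z.inj (by rw [map_pow, ht, h1, k7, hM_one, map_one])) fun e => k1 (by
      rw [e, map_one] at ht
      simpa [hM] using (congrFun₂ ht 1 1).symm)
    rw [← h2]
    refine l4 t !![0, 1, 0, 0; 0, 0, 0, 0; 0, 0, 0, 0; 0, 0, 0, 0] (fun e => by simpa using congrFun₂ e 0 1) ?_
      (by rw [h2]; decide)
    show Z.ρ t * _ * _ = _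
    rw [ht]
    ext i j
    fin_cases i <;> fin_cases j <;>
      simp [hM, Matrix.mul_apply, Fin.sum_univ_four, frobenius_def, iterateFrobenius_def]
    linear_combination k7
  have k13 : 13 ∈ spec L := l1 ((prime_mem_spec (by norm_num)).2 (by rw [hG]; decide))
  refine ⟨L, _, ‹_›, N, n1, n2, n3, fun p hp => ⟨fun h => ?_, ?_⟩, ?_, ?_⟩
  · obtain ⟨g, rfl | ⟨h, -⟩⟩ := l3 p h
    · exact mem_of_dvd_prod (k := 6) hp (by norm_num) ((orderOf_dvd_natCard g).trans (by rw [hG]; decide))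
    · simp [← (Nat.prime_dvd_prime_iff_eq Nat.prime_two hp).1 ⟨_, h⟩]
  · revert p
    suffices ∀ p ∈ [2, 3, 5, 7, 13], p ∈ spec L from fun p _ => this p
    simp only [List.forall_mem_cons]
    exact ⟨mem_spec_of_dvd k6 (by decide), mem_spec_of_dvd k6 (by decide), mem_spec_of_dvd k10 (by decide),
      mem_spec_of_dvd k14 (by decide), k13, by simp⟩
  · simp only [List.forall_mem_cons]
    exact ⟨k6, k10, k14, k15, by simp⟩
  · intro m hm h
    have h1 : m ∈ spec (S ⋊[φ] (K ≃+* K)) := by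
      obtain ⟨g, rfl | ⟨h, h1⟩⟩ := l3 m h
      · exact ⟨g, rfl⟩
      · refine (h1 1 (one_dvd _) ?_).elim
        simp only [List.mem_cons, List.not_mem_nil, or_false] at hm
        show orderOf (g ^ 1) = 13
        rw [pow_one]; omega
    have h2 : ∀ m ∈ [26, 35, 65, 91], m ∉ spec S := fun m hm h => by
      simp only [List.mem_cons, List.not_mem_nil, or_false] at hm
      rcases hS m h with ⟨k, h⟩ | h | h | h
      · have : 13 ∣ 2 ^ k ∨ 5 ∣ 2 ^ k := by omega
        exact this.elim (fun e => absurd (Nat.Prime.dvd_of_dvd_pow (by norm_num) e) (by decide))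
          fun e => absurd (Nat.Prime.dvd_of_dvd_pow (by norm_num) e) (by decide)
      all_goals have := Nat.le_of_dvd (by decide) h; omega
    simp only [List.mem_cons, List.not_mem_nil, or_false] at hm
    rcases hm with rfl | rfl | rfl | rfl | rfl | rfl
    exacts [b2 7 (by simp) h1, h2 _ (by simp) (b1 _ h1 (by decide)), h2 _ (by simp) (b1 _ h1 (by decide)),
      b2 13 (by simp) h1, h2 _ (by simp) (b1 _ h1 (by decide)), h2 _ (by simp) (b1 _ h1 (by decide))]

end

/-- The prime graph of a finite group has the prime divisors of its order as vertices, two distinct primes p, q being joined when the group has an element of order pq; two groups have the same prime graph when they have the same prime divisors and the same joined pairs. Let F be the field with 3 elements and L = PSp(6,F). There are finite groups of arbitrarily large order with the same prime graph as L (a prime graph shared by the orthogonal groups Ω₇(3) and PΩ⁺₈(3)).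 -/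
theorem result {F : Type*} [Field F] [Fintype F] (hF : Fintype.card F = 3) (N : ℕ) :
    ∃ (H : Type) (_ : Group H) (_ : Finite H), N < Nat.card H ∧
      ((∀ p : ℕ, p.Prime → (p ∣ Nat.card (Cfsg.PSp 3 F) ↔ p ∣ Nat.card H)) ∧
      (∀ p q : ℕ, p.Prime → q.Prime → p ≠ q → ((∃ g : (Cfsg.PSp 3 F), orderOf g = p * q) ↔ (∃ g : H, orderOf g = p * q)))) := by
  letI := Fintype.ofFinite (GaloisField 2 3)
  have hK : Fintype.card (GaloisField 2 3) = 2 ^ (2 * 1 + 1) := by
    rw [← Nat.card_eq_fintype_card, GaloisField.card 2 3 (by decide)]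
  obtain ⟨L, _, _, M, _, a, b, c⟩ := pgL (H5.Suz.szO le_rfl hK) hK (S0324.result le_rfl hK) (by
    rintro _ ⟨g, rfl⟩
    by_cases e : g = 1
    · simp [e]
    obtain ⟨U, ⟨⟨P, rfl⟩ | ⟨-, h⟩, hg⟩, -⟩ := S2238.result le_rfl hK g e
    · obtain ⟨k, hk⟩ := (IsPGroup.iff_orderOf.1 P.2) ⟨g, hg⟩
      exact Or.inl ⟨k, by simpa using hk⟩
    · have := Subgroup.orderOf_dvd_natCard U hg
      rcases h with h | h | h <;> rw [h] at this <;> simp_all)
  exact pg_large (by decide) (pgS hF) c M a b N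

end Cfsg.Agent.S3664
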