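import Cfsg.Statements.S3678
import Cfsg.Agent.GS.Spec2

set_option autoImplicit false
open Cfsg

namespace Cfsg.Agent.S3678

open Cfsg.Agent.H1

/-- The prime graph of a finite group has the prime divisors of its order as vertices, two distinct primes p, q being joined when the group has an element of order pq; two groups have the same prime graph when they have the same prime divisors and the same joined pairs. Let F be the field with 7 elements. There are finite groups of arbitrarily large order with the same prime graph as PSL(2,F) (the graph on {2, 3, 7} with no edges, which is also the prime graph of PSL(2,8)). -/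
theorem result {F : Type*} [Field F] [Fintype F] (hF : Fintype.card F = 7) (N : ℕ) :
    ∃ (H : Type) (_ : Group H) (_ : Finite H), N < Nat.card H ∧
      ((∀ p : ℕ, p.Prime → (p ∣ Nat.card (Matrix.ProjectiveSpecialLinearGroup (Fin 2) F) ↔ p ∣ Nat.card H)) ∧
      (∀ p q : ℕ, p.Prime → q.Prime → p ≠ q → ((∃ g : (Matrix.ProjectiveSpecialLinearGroup (Fin 2) F), orderOf g = p * q) ↔ (∃ g : H, orderOf g = p * q)))) := by
  open Subgroup Pointwise commutatorElement Cfsg.Agent.BG Cfsg.Agent.GS in
  open Cfsg.Agent.H2 hiding card_lt_of_lt card_lt_of_ne_top isMulCommutative_of_le isPGroup_zpowers_iff mem_of_pow_mem_of_coprime inf_eq_bot_of_cop exists_maxElem_ge Sec in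
  open Cfsg.Agent.H8 (Op Opp Fit SN) in
  open Cfsg.Agent.L (FPF) in focus
    haveI := Fintype.ofFinite (GaloisField 2 3)
    have c : Fintype.card (GaloisField 2 3) = 8 := by rw [← Nat.card_eq_fintype_card, GaloisField.card 2 3 (by decide)]; rfl
    obtain ⟨H, _, _, a, b⟩ := exists_large_psl (GaloisField 2 3) N
    haveI : Fact (Nat.Prime 7) := ⟨by decide⟩
    haveI : CharP F 7 := charP_of_card_eq_prime hF
    have d := S2475.result (F := F) 7 (by omega)
    rw [spec, spec, S2475.result 2 (by omega), c] at b
    rw [hF] at d
    have e : ∀ n, n ∈ spec H ↔ n ∈ [1, 2, 3, 4, 7, 9] := fun n => by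
      rw [spec, b]
      refine ⟨?_, by simp only [List.mem_cons, List.not_mem_nil, or_false]; rintro (rfl | rfl | rfl | rfl | rfl | rfl) <;> simp⟩
      rintro (rfl | h | h | h)
      · simp
      all_goals have := Nat.le_of_dvd (by decide) h; norm_num at this; interval_cases n <;> first | decide | exact absurd h (by decide)
    have f : ∀ n, n ∈ spec (Matrix.ProjectiveSpecialLinearGroup (Fin 2) F) ↔ n ∈ [1, 2, 3, 4, 7] := fun n => by
      rw [spec, d]
      refine ⟨?_, by simp only [List.mem_cons, List.not_mem_nil, or_false]; rintro (rfl | rfl | rfl | rfl | rfl) <;> simp⟩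
      rintro (h | h | h) <;> have := Nat.le_of_dvd (by decide) h <;> norm_num at this <;> interval_cases n <;>
        first | decide | exact absurd h (by decide)
    refine ⟨H, ‹_›, ‹_›, a, fun p hp => ?_, fun p q hp hq hpq => ?_⟩
    · rw [← prime_mem_spec hp, ← prime_mem_spec hp, e, f]
      have : p ≠ 9 := by rintro rfl; revert hp; decide
      simp [this]
    · refine (f _).trans (Iff.trans ?_ (e _).symm)
      have : p * q ≠ 9 := fun e => hpq (by
        rw [(Nat.prime_dvd_prime_iff_eq hp Nat.prime_three).1 (hp.dvd_of_dvd_pow (n := 2) ⟨q, e.symm⟩),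
          (Nat.prime_dvd_prime_iff_eq hq Nat.prime_three).1 (hq.dvd_of_dvd_pow (n := 2) ⟨p, by rw [mul_comm]; exact e.symm⟩)])
      simp only [List.mem_cons, this, false_or]

end Cfsg.Agent.S3678
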