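import Cfsg.Statements.S3681
import Mathlib
import Cfsg.Agent.H7.Perm2

set_option autoImplicit false
open Cfsg

namespace Cfsg.Agent.S3681

open Equiv Equiv.Perm Finset

theorem comm_support {α : Type*} [Fintype α] [DecidableEq α] {g h : Perm α} {a : α}
    (hg : g a ≠ a) (hh : h a ≠ a) (H : ∀ x, x ≠ a → g x = x ∨ h x = x) :
    g * h * g⁻¹ * h⁻¹ ≠ 1 ∧ (g * h * g⁻¹ * h⁻¹).support.card ≤ 3 := by
  constructor
  · intro e
    have := congrArg (fun σ : Perm α => σ (h a)) e
    have h1 : g⁻¹ a ≠ a := fun e => hg (by rw [Perm.inv_eq_iff_eq] at e; exact e.symm)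
    have h2 : h (g⁻¹ a) = g⁻¹ a := (H _ h1).resolve_left fun e => h1 (by simpa using e.symm)
    simp only [Perm.mul_apply, Perm.one_apply] at this
    rw [show h⁻¹ (h a) = a by simp, h2] at this
    exact hh (by simpa using this.symm)
  · refine (card_le_card fun x hx => ?_).trans (card_le_three (a := a) (b := g a) (c := h a))
    by_contra hc
    simp only [mem_insert, mem_singleton, not_or] at hc
    apply mem_support.1 hx
    simp only [Perm.mul_apply]
    by_cases h1 : h x = x
    · have e1 : h⁻¹ x = x := Perm.inv_eq_iff_eq.2 h1.symm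
      have h2 : g⁻¹ x ≠ a := fun e => hc.2.1 (Perm.inv_eq_iff_eq.1 e)
      rw [e1]
      rcases H _ h2 with e | e
      · have : g⁻¹ x = x := by simpa using e.symm
        rw [this] at e ⊢; rw [h1, e]
      · rw [e]; simp
    · have e0 := (H x hc.1).resolve_right h1
      have h2 : h⁻¹ x ≠ a := fun e => hc.2.2 (Perm.inv_eq_iff_eq.1 e)
      have h3 : g (h⁻¹ x) = h⁻¹ x := (H _ h2).resolve_right fun e => h1 (by
        have : h⁻¹ x = x := by simpa using e.symm
        rw [this] at e; exact e)
      rw [Perm.inv_eq_iff_eq.2 h3.symm]; simp [e0]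

/-- Bochert's bound for primitive groups. Let a finite group G act faithfully and primitively on a finite set Ω with n elements, and suppose the image of G in the symmetric group of Ω does not contain the alternating group of Ω. Then |G| · ⌊(n + 1)/2⌋! ≤ n!, that is, the index of G in the symmetric group is at least ⌊(n + 1)/2⌋!. -/
theorem result {G Ω : Type*} [Group G] [Finite G] [MulAction G Ω] [FaithfulSMul G Ω] [Fintype Ω] [DecidableEq Ω]
    (hprim : MulAction.IsPreprimitive G Ω) (hA : ¬ alternatingGroup Ω ≤ (MulAction.toPermHom G Ω).range) :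
    Nat.card G * Nat.factorial ((Fintype.card Ω + 1) / 2) ≤ Nat.factorial (Fintype.card Ω) := by
  let base : Finset Ω → Prop := fun D => ∀ g : G, (∀ x ∈ D, g • x = x) → g = 1
  have hex : ∃ n, ∃ D, base D ∧ D.card = n :=
    ⟨_, univ, fun g hg => eq_of_smul_eq_smul (α := Ω) fun x => by rw [hg x (mem_univ x), one_smul], rfl⟩
  classical
  obtain ⟨D, hD, hDc⟩ := Nat.find_spec hex
  have hmin : ∀ E : Finset Ω, E.card < D.card → ¬ base E := fun E hE hb =>
    Nat.find_min hex (hDc ▸ hE) ⟨E, hb, rfl⟩
  have hle : 2 * D.card ≤ Fintype.card Ω := by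
    by_contra hlt
    have h1 := hmin Dᶜ (by rw [card_compl]; omega)
    simp only [base, not_forall] at h1
    obtain ⟨g, hg, hg1⟩ := h1
    obtain ⟨a, ha⟩ : ∃ a : Ω, g • a ≠ a := by
      by_contra h; push Not at h
      exact hg1 (eq_of_smul_eq_smul (α := Ω) fun x => by rw [h x, one_smul])
    have haD : a ∈ D := by by_contra h; exact ha (hg a (mem_compl.2 h))
    have h2 := hmin (D.erase a) (card_erase_lt_of_mem haD)
    simp only [base, not_forall] at h2
    obtain ⟨h, hh, hh1⟩ := h2
    have hha : h • a ≠ a := fun e => hh1 (hD h fun x hx => by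
      by_cases hxa : x = a
      · rw [hxa, e]
      · exact hh x (mem_erase.2 ⟨hxa, hx⟩))
    obtain ⟨c1, c2⟩ := comm_support (g := MulAction.toPermHom G Ω g) (h := MulAction.toPermHom G Ω h)
      ha hha (fun x hx => by
        by_cases hxD : x ∈ D
        · exact Or.inr (hh x (mem_erase.2 ⟨hx, hxD⟩))
        · exact Or.inl (hg x (mem_compl.2 hxD)))
    have hmem : MulAction.toPermHom G Ω g * MulAction.toPermHom G Ω h * (MulAction.toPermHom G Ω g)⁻¹ *
      (MulAction.toPermHom G Ω h)⁻¹ ∈ (MulAction.toPermHom G Ω).range := ⟨g * h * g⁻¹ * h⁻¹, by simp only [map_mul, map_inv]⟩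
    have hp : MulAction.IsPreprimitive (MulAction.toPermHom G Ω).range Ω :=
      MulAction.IsPreprimitive.of_surjective (φ := (MulAction.toPermHom G Ω).rangeRestrict)
        (f := ⟨id, fun _ _ => rfl⟩) Function.surjective_id
    have h2 := two_le_card_support_of_ne_one c1
    apply hA
    rcases Nat.lt_or_ge _ 3 with h3 | h3
    · rw [subgroup_eq_top_of_isPreprimitive_of_isSwap_mem hp _
        (card_support_eq_two.1 (le_antisymm (Nat.le_of_lt_succ h3) h2)) hmem]
      exact le_top
    · exact alternatingGroup_le_of_isPreprimitive_of_isThreeCycle_mem hp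
        (card_support_eq_three_iff.1 (le_antisymm c2 h3)) hmem
  have hinj : Function.Injective (fun x : G × Perm {y // y ∈ Dᶜ} =>
      MulAction.toPermHom G Ω x.1 * ofSubtype x.2) := by
    rintro ⟨g, σ⟩ ⟨h, τ⟩ e
    have e1 : h⁻¹ * g = 1 := hD _ fun x hx => by
      have := congrArg (fun σ : Perm Ω => σ x) e
      simp only [Perm.mul_apply, ofSubtype_apply_of_not_mem _ (show x ∉ Dᶜ by simpa using hx)] at this
      rw [mul_smul, inv_smul_eq_iff]; exact this
    obtain rfl := inv_mul_eq_one.1 e1
    exact Prod.ext rfl (ofSubtype_injective (mul_left_cancel e))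
  have := Nat.card_le_card_of_injective _ hinj
  rw [Nat.card_prod, Nat.card_perm, Nat.card_perm, Nat.card_eq_fintype_card (α := Ω),
    Nat.card_eq_fintype_card (α := {y // y ∈ Dᶜ}), Fintype.card_coe, card_compl] at this
  exact (Nat.mul_le_mul_left _ (Nat.factorial_le (by omega))).trans this

end Cfsg.Agent.S3681
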