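import Cfsg.Statements.S3756
import Mathlib
import Cfsg.Agent.H2.F2b
import Cfsg.Agent.S3751

set_option autoImplicit false
open Cfsg

namespace Cfsg.Agent.S3756

open Cfsg.Agent.H2 Cfsg.Agent.H2.Dh Cfsg.Agent.BG Subgroup Cfsg.Agent.S3751

/-- Let G be a finite group of even order with O₂(G) = 1 such that every 2-local subgroup of G is solvable, of characteristic 2, and has no section isomorphic to the symmetric group of degree 4. Then every maximal 2-local subgroup of G is strongly embedded in G. -/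
theorem result {G : Type*} [Group G] [Finite G] (heven : Even (Nat.card G)) (hO : Cfsg.pCore 2 G = ⊥) (hloc : ∀ M : Subgroup G, Cfsg.IsTwoLocal M → Group.IsSolvable M ∧ Cfsg.IsOfCharacteristicTwo ↥M ∧ ¬ Cfsg.Involves (Equiv.Perm (Fin 4)) ↥M) (M : Subgroup G) (hM : Cfsg.IsMaximalTwoLocal M) : Cfsg.IsStronglyEmbedded M := by
  have hl : IsOfLocalCharacteristic 2 G := ⟨heven.two_dvd, fun T h1 h2 => (hloc _ ⟨T, h1, h2, rfl⟩).2.1⟩
  have hM' : MPL 2 M := hM
  refine ⟨fun e => hM'.1.op (by rw [e, H8.Op_top, hO]), even_iff_two_dvd.2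
    (BL.dvd_card_of_pgroup (H8.Op_isPGroup 2 M) hM'.1.op (H8.Op_le 2 M)), fun g hg => Nat.not_even_iff_odd.1 fun hd => ?_⟩
  obtain ⟨M, N, T, hM, hN, hne, h3, h4⟩ := ex_pair hM' (hM'.cj g)
    (fun e => hg (hM'.self (mem_normalizer_iff_cj.2 e.symm))) hd.two_dvd
  exact not_pp ⟨hne, fun A h5 h6 h7 => inf_le_right.trans (hM.le hl h5 (h6.trans inf_le_left) h7).le,
    fun A h5 h6 h7 => inf_le_right.trans (hN.le hl h5 (h6.trans inf_le_right) h7).le, hM.1.char hl, hN.1.char hl,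
    (H8.SylIn_Op_le h3).trans h4.le, (H8.SylIn_Op_le h4).trans h3.le⟩ (H9.pSolv_of_solvable (hloc M hM.1).1)
    (H9.pSolv_of_solvable (hloc N hN.1).1) (ns_of_s4 (hM.1.char hl) fun e => (hloc M hM.1).2.2 (sec_iff_involves.1 e))
    (ns_of_s4 (hN.1.char hl) fun e => (hloc N hN.1).2.2 (sec_iff_involves.1 e))

end Cfsg.Agent.S3756
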