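import Cfsg.Statements.S3787
import Mathlib
import Cfsg.Agent.H2.HHG2

set_option autoImplicit false
open Cfsg

namespace Cfsg.Agent.S3787

open Cfsg.Agent.H2 Cfsg.Agent.BG Subgroup Function QuotientGroup commutatorElement

theorem exists_small {K : Type*} [Group K] [Finite K] (N : Subgroup K) [N.Normal] :
    ∃ (X : Type) (_ : Group X) (_ : Finite X) (g : K →* X), Surjective g ∧ ∀ k, g k = 1 ↔ k ∈ N :=
  ⟨Shrink.{0} (K ⧸ N), inferInstance, Finite.of_equiv _ (equivShrink _),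
    (Shrink.mulEquiv.{0} (α := K ⧸ N)).symm.toMonoidHom.comp (mk' N),
    (Shrink.mulEquiv.{0} (α := K ⧸ N)).symm.surjective.comp (mk'_surjective N), fun k => by simp⟩

theorem surj_tri {F W : Type*} [Field F] [AddCommGroup W] [Module F W] {T : Module.End F W} {l : W →ₗ[F] F} {p : ℕ}
    (h0 : T ^ p = 0) {w : W} (h1 : l ((T ^ (p - 1)) w) = 1) (y : ℕ → F) (k : ℕ) (hk : k ≤ p) :
    ∃ v, ∀ i, i < p → p ≤ i + k → l ((T ^ i) v) = y i := by
  induction k with
  | zero => exact ⟨0, fun i h h' => by omega⟩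
  | succ k ih =>
    obtain ⟨v, hv⟩ := ih (k.le_succ.trans hk)
    refine ⟨v + (y (p - 1 - k) - l ((T ^ (p - 1 - k)) v)) • (T ^ k) w, fun i h h' => ?_⟩
    rw [map_add, map_add, map_smul, map_smul, ← Module.End.mul_apply, ← pow_add]
    by_cases h2 : p ≤ i + k
    · rw [hv i h h2, pow_eq_zero_of_le h2 h0]; simp
    · obtain rfl : i = p - 1 - k := by omega
      rw [show p - 1 - k + k = p - 1 by omega, h1]; simp

theorem wr {H : Type*} [Group H] [Finite H] {p : ℕ} [hp : Fact p.Prime] {V : Subgroup H} [V.Normal]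
    [IsMulCommutative V] (hV : ∀ v ∈ V, v ^ p = 1) {W : Type*} [AddCommGroup W] [Module (ZMod p) W]
    {ρ : Representation (ZMod p) (H ⧸ V) W} {e : W → H} (h : HMod p V ρ e) {y : H} (hy : y ∉ V)
    {l : W →ₗ[ZMod p] ZMod p} {w v₁ : W} (hv : e v₁ = y ^ p) (hl : l v₁ = 0)
    (h1 : l (((ρ y - 1) ^ (p - 1) : Module.End (ZMod p) W) w) = 1) :
    ∃ (X : Type) (_ : Group X) (_ : Finite X), (∃ (B : Subgroup X) (t : X), B.Normal ∧ IsMulCommutative B ∧
      (∀ b ∈ B, b ^ p = 1) ∧ ♯B = p ^ p ∧ orderOf t = p ∧ t ∉ B ∧ ♯X = p ^ (p + 1) ∧ ♯↥(B ⊓ 𝒞₁ t) = p) ∧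
      Sec X ↥(V ⊔ zpowers y) := by
  have hc := h.comm y
  have h0 : (ρ y - 1) ^ p = 0 := by
    have := geom_sum_mul (ρ y) (p ^ 1)
    rw [geom_sum_char, ← pow_succ, pow_one, Nat.sub_add_cancel hp.out.one_le] at this
    rw [this, ← map_pow, ← mk_pow, ← hv, (eq_one_iff _).2 (h.mem _), map_one, sub_self]
  have hρ : ∀ v, e ((ρ y - 1) v + v) = y * e v * y⁻¹ := fun v => by simpa using h.conj y v
  generalize ρ y - 1 = T at h0 h1 hc hρ
  let ê : Multiplicative W →* H := MonoidHom.mk' (fun a => e a.toAdd) fun a b => h.add _ _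
  let U : Submodule (ZMod p) W := ⨅ i : ℕ, LinearMap.ker (l ∘ₗ T ^ i)
  have hU : ∀ v, v ∈ U ↔ ∀ i : ℕ, l ((T ^ i) v) = 0 := fun v => by simp [U]
  let N : Subgroup H := U.toAddSubgroup.toSubgroup.map ê
  have hN : ∀ v, e v ∈ N ↔ v ∈ U := fun v => ⟨fun ⟨a, h2, h3⟩ => h.inj h3 ▸ h2, fun h2 => ⟨.ofAdd v, h2, rfl⟩⟩
  have hNV : N ≤ V := by rintro _ ⟨a, -, rfl⟩; exact h.mem _
  haveI : (N.subgroupOf (V ⊔ zpowers y)).Normal := normal_subgroupOf_of_le_normalizer (sup_le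
    (((le_centralizer V).trans (centralizer_le hNV)).trans (centralizer_le_normalizer _))
    (zpowers_le.2 (mem_normalizer_fintype (by
      rintro _ ⟨a, h2, rfl⟩
      refine hρ _ ▸ (hN _).2 (U.add_mem ((hU _).2 fun i => ?_) h2)
      rw [← Module.End.mul_apply, ← pow_succ]; exact (hU _).1 h2 _))))
  obtain ⟨X, _, _, g, g1, g2⟩ := exists_small (N.subgroupOf (V ⊔ zpowers y))
  let j : W → X := fun v => g ⟨e v, mem_sup_left (h.mem v)⟩
  have hj : ∀ a b, j a = j b ↔ a - b ∈ U := fun a b => by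
    rw [← hN, ← div_eq_one, ← map_div, g2, mem_subgroupOf]
    exact iff_of_eq (congrArg (· ∈ N) (map_div ê (.ofAdd a) (.ofAdd b)).symm)
  let t := g ⟨y, mem_sup_right (mem_zpowers y)⟩
  let B := (V.subgroupOf (V ⊔ zpowers y)).map g
  have hB : ∀ b, b ∈ B ↔ ∃ v, j v = b := fun b => ⟨fun ⟨k, h2, h3⟩ => by
    obtain ⟨v, hv⟩ := h.surj _ h2
    exact ⟨v, h3 ▸ congrArg g (Subtype.ext hv)⟩, by rintro ⟨v, rfl⟩; exact ⟨_, h.mem v, rfl⟩⟩
  have hBn : B.Normal := Normal.map inferInstance g g1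
  have ht : t ∉ B := fun ⟨k, h2, h3⟩ => by
    rw [← div_eq_one, ← map_div, g2] at h3
    exact hy ((V.mul_mem_cancel_left h2).1 (show k.1 * y⁻¹ ∈ V from div_eq_mul_inv k.1 y ▸ hNV h3) |> V.inv_mem_iff.1)
  have ho : orderOf t = p := orderOf_eq_prime (by
    rw [← map_pow, g2, mem_subgroupOf, coe_pow, ← hv, hN, hU]
    rintro (_ | i)
    · simpa using hl
    · rw [pow_succ, Module.End.mul_apply, h.eq_zero ((hc v₁).trans (by rw [hv]; group)), map_zero, map_zero])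
    fun e => ht (e ▸ B.one_mem)
  have hBc : ♯B = p ^ p := by
    choose s hs using fun y : Fin p → ZMod p => surj_tri h0 h1 (fun i => if h : i < p then y ⟨i, h⟩ else 0) p le_rfl
    have h2 : ∀ y (i : Fin p), l ((T ^ i.1) (s y)) = y i := fun y i => by simpa using hs y i i.2 (by omega)
    refine (Nat.card_eq_of_bijective (fun y => (⟨j (s y), (hB _).2 ⟨_, rfl⟩⟩ : B)) ⟨fun a b e => funext fun i => ?_,
      fun b => ?_⟩).symm.trans (by simp)
    · have := (hU _).1 ((hj _ _).1 (congrArg Subtype.val e)) i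
      rwa [map_sub, map_sub, h2, h2, sub_eq_zero] at this
    · obtain ⟨v, hv⟩ := (hB _).1 b.2
      refine ⟨fun i => l ((T ^ i.1) v), Subtype.ext (((hj _ _).2 ((hU _).2 fun i => ?_)).trans hv)⟩
      by_cases h3 : i < p
      · rw [map_sub, map_sub, h2 _ ⟨i, h3⟩, sub_self]
      · rw [pow_eq_zero_of_le (not_lt.1 h3) h0]; simp
  have hT : ∀ v, j v ∈ 𝒞₁ t ↔ T v ∈ U := fun v => by
    rw [mem_centralizer_singleton_iff, eq_comm, ← commutatorElement_eq_one_iff_mul_comm, ← map_commutatorElement, g2,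
      mem_subgroupOf, ← hN, hc]
    rfl
  have hu : ∀ i, (T ^ (i + 1)) ((T ^ (p - 1)) w) = 0 := fun i => by
    rw [← Module.End.mul_apply, ← pow_add, pow_eq_zero_of_le (by omega) h0]; rfl
  refine ⟨X, inferInstance, inferInstance, ⟨B, t, hBn, inferInstance, ?_, hBc, ho, ht, ?_, ?_⟩, .of_surj g g1⟩
  · rintro _ ⟨k, h2, rfl⟩
    rw [← map_pow, show k ^ p = 1 from Subtype.ext (hV _ h2), map_one]
  · have h2 : zpowers t ⊔ B = ⊤ := by
      rw [← MonoidHom.map_zpowers, ← Subgroup.map_sup, ← map_top_of_surjective g g1]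
      congr 1
      refine map_injective (subtype_injective _) ?_
      simp [Subgroup.map_sup, subgroupOf_map_subtype, sup_comm, ← MonoidHom.range_eq_map]
    rw [← card_top, ← h2, H1.card_sup_of_disjoint le_normalizer_of_normal, Nat.card_zpowers, ho, hBc, pow_succ']
    haveI : Fact (♯(zpowers t)).Prime := ⟨Nat.card_zpowers t ▸ ho.symm ▸ hp.out⟩
    exact (eq_bot_or_eq_top_of_prime_card (B.subgroupOf (zpowers t))).elim
      (fun e => disjoint_iff.1 (subgroupOf_eq_bot.1 e).symm) fun e => (ht (subgroupOf_eq_top.1 e (mem_zpowers t))).elim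
  · refine (Nat.card_eq_of_bijective (fun c : ZMod p => (⟨j (c • (T ^ (p - 1)) w), (hB _).2 ⟨_, rfl⟩, (hT _).2
      (by rw [map_smul, (pow_one T ▸ hu 0 :), smul_zero]; exact U.zero_mem)⟩ : ↥(B ⊓ 𝒞₁ t))) ⟨fun a b e => ?_,
      fun b => ?_⟩).symm.trans (by simp)
    · simpa [h1, sub_eq_zero] using (hU _).1 ((hj _ _).1 (congrArg Subtype.val e)) 0
    · obtain ⟨v, hv⟩ := (hB _).1 b.2.1
      refine ⟨l v, Subtype.ext (((hj _ _).2 ((hU _).2 ?_)).trans hv)⟩
      rintro (_ | i)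
      · simp [h1]
      · have := (hU _).1 ((hT v).1 (hv ▸ b.2.2)) i
        rw [map_sub, map_smul, hu, pow_succ, Module.End.mul_apply, map_sub, this]; simp

/-- Let G be a finite p-soluble group, p an odd prime not of the form 2^k + 1, and suppose the wreath product C_p ≀ C_p (of order p^(p+1)) is not involved in a Sylow p-subgroup of G: no section of a Sylow p-subgroup is isomorphic to it. Then G has p-length at most 1. -/
theorem result {G : Type*} [Group G] [Finite G] {p : ℕ} [Fact p.Prime] (hp2 : p ≠ 2) (hnf : (¬ ∃ k : ℕ, p = 2 ^ k + 1)) (hG : Cfsg.IsPSolvable p G) (P : Sylow p G) (hwr : ∀ (W : Type) [Group W] [Finite W], (∃ (B : Subgroup W) (t : W), B.Normal ∧ IsMulCommutative B ∧ (∀ b ∈ B, b ^ p = 1) ∧ Nat.card B = p ^ p ∧ orderOf t = p ∧ t ∉ B ∧ Nat.card W = p ^ (p + 1) ∧ Nat.card ↥(B ⊓ Subgroup.centralizer ({t} : Set W)) = p) → ¬ Cfsg.Involves W ↥(P : Subgroup G)) : Cfsg.PLengthLE p 1 G := by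
  have hp : p.Prime := Fact.out
  refine plen_succ_of hG fun H _ _ f h1 h2 => Reg.plen_zero.2 (hp.coprime_iff_not_dvd.2 fun hd => ?_).symm
  let Q := P.mapSurjective h1
  obtain ⟨⟨_, x, hx, rfl⟩, ho⟩ := exists_prime_orderOf_dvd_card' p
    ((Q.mapSurjective (mk'_surjective (pCore p H))).dvd_card_of_dvd_card hd)
  replace ho : orderOf (x : H ⧸ pCore p H) = p ^ (0 + 1) := by simpa using (orderOf_coe _).trans ho
  obtain ⟨W, _, _, _, ρ, e, h⟩ := h2.exists_mod
  obtain ⟨w, hw⟩ : ∃ w, ((ρ x - 1) ^ (p - 1) : Module.End (ZMod p) W) w ≠ 0 := by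
    by_contra! h3
    obtain ⟨n, q, m, a1, a2, a3, a4, a5, -⟩ := hhB ρ h.ker (H9.pSolv_map _ (mk'_surjective _) h2.sol)
      pCore_quot_pCore ho (LinearMap.ext h3) (by simpa using hp.pos)
    obtain rfl : n = 1 := by omega
    rw [pow_one] at a5
    obtain rfl : 2 = q := (Nat.prime_dvd_prime_iff_eq Nat.prime_two a3).1 (Nat.prime_two.dvd_of_dvd_pow
      (a5 ▸ (hp.even_sub_one hp2).two_dvd))
    exact hnf ⟨m, by have := hp.pos; omega⟩
  obtain ⟨l, hl⟩ := Module.Projective.exists_dual_eq_one (ZMod p) hw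
  obtain ⟨v, hv⟩ := h.surj (x ^ p) ((eq_one_iff _).1 (by simpa [ho] using pow_orderOf_eq_one (x : H ⧸ pCore p H)))
  have hy : ((e (-l v • w) * x : H) : H ⧸ pCore p H) = x := by rw [mk_mul, (eq_one_iff _).2 (h.mem _), one_mul]
  have h4 := h.norm' x (-l v • w) 1
  rw [pow_one, ← hv, ← h.add] at h4
  haveI := h2.elem.1
  obtain ⟨X, _, _, h5, h6⟩ := wr h2.elem.2 h (y := e (-l v • w) * x) (fun h5 => by
    rw [← hy, (eq_one_iff _).2 h5, orderOf_one] at ho; exact hp.ne_one (by simpa using ho.symm)) h4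
    (by simp [hl]) (hy.symm ▸ hl)
  have h7 : pCore p H ≤ Q := H1.pCore_le_sylow Q
  exact hwr X h5 (sec_iff_involves.1 (h6.trans ((Sec.of_inj _ (inclusion_injective (sup_le h7 (zpowers_le.2
    (mul_mem (h7 (h.mem _)) hx))))).trans (.of_surj _ (f.subgroupMap_surjective P)))))

end Cfsg.Agent.S3787
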