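import Cfsg.Statements.S3788
import Mathlib
import Cfsg.Agent.H2.HHG2

set_option autoImplicit false
open Cfsg

namespace Cfsg.Agent.S3788

open Cfsg.Agent.H2 Cfsg.Agent.BG Subgroup

/-- Let G be a finite p-soluble group, P a Sylow p-subgroup of G and A a cyclic normal subgroup of P. If p is odd, or if no section of G is isomorphic to the symmetric group of degree 4, then A ≤ O_{p',p}(G). -/
theorem result {G : Type*} [Group G] [Finite G] {p : ℕ} [Fact p.Prime] (hG : Cfsg.IsPSolvable p G) (P : Sylow p G) (A : Subgroup G) (hAP : A ≤ (P : Subgroup G)) (hAn : (P : Subgroup G) ≤ Subgroup.normalizer (A : Set G)) (hA : IsCyclic A) (h : p ≠ 2 ∨ ¬ Cfsg.Involves (Equiv.Perm (Fin 4)) G) : A ≤ Cfsg.pPrimePCore p G := by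
  obtain ⟨H, _, _, f, h1, h2, h3⟩ := exists_hgood hG
  obtain ⟨g, rfl⟩ := (Subgroup.isCyclic_iff_exists_zpowers_eq_top A).1 hA
  rw [← h3, zpowers_le]
  refine h2.cyclic_le (h.imp_right fun h e => h (sec_iff_involves.1 (e.trans (.of_surj f h1)))) ?_ ?_
  · rw [← MonoidHom.map_zpowers]; exact (P.2.to_le hAP).map f
  · rw [← MonoidHom.map_zpowers]
    exact (H1.pCore_le_sylow (P.mapSurjective h1)).trans (H1.map_le_normalizer_map f hAn)

end Cfsg.Agent.S3788
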