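import Cfsg.Statements.S3806
import Cfsg.Agent.H9.MxC

set_option autoImplicit false
open Cfsg

namespace Cfsg.Agent.S3806

open Cfsg.Agent Cfsg.Agent.H9

/-- Let p be a prime and S a finite p-group of order pⁿ (n ≥ 2) of maximal nilpotency class n − 1 whose sectional p-rank is exactly k (every section has p-rank at most k, and some section has p-rank k). If p ≥ k + 2 then the order of S is at most p^(2k). -/
theorem result {S : Type*} [Group S] [Finite S] (p : ℕ) [Fact p.Prime] (hS : IsPGroup p S) [Group.IsNilpotent S]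
    (n : ℕ) (hn : 2 ≤ n) (hcard : Nat.card S = p ^ n) (hmax : Group.nilpotencyClass S = n - 1)
    (k : ℕ) (hk : 1 ≤ k) (hsr : Cfsg.SectionalPRankLE p k S ∧ ¬ Cfsg.SectionalPRankLE p (k - 1) S)
    (hpk : k + 2 ≤ p) : Nat.card S ≤ p ^ (2 * k) := by
  by_contra c
  rw [hcard, Nat.pow_le_pow_iff_right (Fact.out : p.Prime).one_lt] at c
  have h := MC.of_class hcard (by omega) hmax
  obtain ⟨s, hs⟩ := h.exists_un
  have key : ∀ (A B : Subgroup S) [B.Normal], B ≤ A → ⁅A, A⁆ ≤ B → (∀ x ∈ A, x ^ p ∈ B) →
      Nat.card A ≤ Nat.card B * p ^ k := by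
    intro A B _ h1 h2 h3
    rw [← H1.card_mul_relIndex h1]
    refine Nat.mul_le_mul_left _ ?_
    have := hsr.1 A (B.subgroupOf A) ⊤ ⟨⟨fun ⟨a, _⟩ ⟨b, _⟩ => Subtype.ext ?_⟩⟩ fun a _ => ?_
    · rwa [Subgroup.card_top] at this
    · induction a using QuotientGroup.induction_on with | H a =>
      induction b using QuotientGroup.induction_on with | H b =>
      show (QuotientGroup.mk' (B.subgroupOf A) a * QuotientGroup.mk' _ b) = QuotientGroup.mk' _ b * QuotientGroup.mk' _ a
      rw [← commutatorElement_eq_one_iff_mul_comm, ← map_commutatorElement, QuotientGroup.mk'_apply, QuotientGroup.eq_one_iff]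
      exact h2 (Subgroup.commutator_mem_commutator a.2 b.2)
    · induction a using QuotientGroup.induction_on with | H a =>
      rw [← QuotientGroup.mk_pow, QuotientGroup.eq_one_iff]
      exact h3 a a.2
  rcases hk.eq_or_lt with rfl | hk
  · have := key ⊤ (Reg.Nf S 2) le_top le_rfl fun x _ => h.pow_two x
    rw [Subgroup.card_top, hcard, h.cardN le_rfl hn, ← pow_add,
      Nat.pow_le_pow_iff_right (Fact.out : p.Prime).one_lt] at this
    omega
  · have := key (Reg.Nf S k) (Reg.Nf S (k + k + 1)) (Reg.Nf_anti (by omega)) (h.cm_self hk)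
      fun x hx => Reg.Nf_anti (by omega) (h.pw hs hk hx)
    rw [h.cardN hk (by omega), h.cardN (by omega) (by omega), ← pow_add,
      Nat.pow_le_pow_iff_right (Fact.out : p.Prime).one_lt] at this
    omega

end Cfsg.Agent.S3806
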