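import Cfsg.Statements.S3807
import Cfsg.Agent.H1.PGrp

set_option autoImplicit false
open Cfsg

namespace Cfsg.Agent.S3807

open Cfsg.Agent.H1

/-- Let S be a non-abelian finite p-group with an abelian subgroup A of index p. Then [S : Z(S)] = p·#[S,S], and either [S,S] has order p, S/Z(S) is elementary abelian of order p², and S has exactly p + 1 abelian subgroups of index p; or [S,S] has order at least p² and A is the only abelian subgroup of index p in S. -/
theorem result {S : Type*} [Group S] [Finite S] (p : ℕ) [Fact p.Prime] (hS : IsPGroup p S) (hna : ¬ IsMulCommutative S)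
    (A : Subgroup S) (hA : IsMulCommutative ↥A) (hAi : A.index = p) :
    (Subgroup.center S).index = p * Nat.card (commutator S) ∧
      ((Nat.card (commutator S) = p ∧ Cfsg.IsElementaryAbelian p (⊤ : Subgroup (S ⧸ Subgroup.center S)) ∧
          Nat.card (S ⧸ Subgroup.center S) = p ^ 2 ∧
          Nat.card {B : Subgroup S // IsMulCommutative ↥B ∧ B.index = p} = p + 1) ∨
        (p ^ 2 ≤ Nat.card (commutator S) ∧ ∀ B : Subgroup S, IsMulCommutative ↥B → B.index = p → B = A)) := by
  open Subgroup Pointwise commutatorElement in focus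
    have hp : p.Prime := Fact.out
    haveI := L.normal_of_index_eq_prime hS hAi
    obtain ⟨hZ, h1⟩ := index_center_of_index_prime hna A (hAi ▸ hp)
    rw [hAi] at h1
    refine ⟨h1, ?_⟩
    obtain ⟨k, hk⟩ := IsPGroup.iff_card.1 (hS.to_subgroup (_root_.commutator S))
    have hk0 : k ≠ 0 := fun e => hna (isMulCommutative_of_index_prime_of_le_center le_rfl (Or.inl (by rw [h1, hk, e]; simpa using hp)))
    by_cases hk1 : k = 1
    · left
      rw [hk1, pow_one] at hk
      rw [hk, ← sq] at h1
      have hc : Nat.card (S ⧸ center S) = p ^ 2 := h1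
      haveI : IsMulCommutative (S ⧸ center S) := IsPGroup.isMulCommutative_of_card_eq_prime_sq hc
      have he : ∀ x : S ⧸ center S, x ^ p = 1 := fun x => by
        obtain ⟨i, hi, e⟩ := (Nat.dvd_prime_pow hp).1 (hc ▸ orderOf_dvd_natCard x)
        refine orderOf_dvd_iff_pow_eq_one.1 (e ▸ ?_)
        interval_cases i
        · simp
        · simp
        · haveI := isCyclic_of_orderOf_eq_card x (e.trans hc.symm)
          exact absurd ⟨⟨commutative_of_cyclic_center_quotient (QuotientGroup.mk' (center S)) (QuotientGroup.ker_mk' _).le⟩⟩ hna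
      refine ⟨hk, ⟨inferInstance, fun x _ => he x⟩, hc, ?_⟩
      rw [← L.card_subgroups_prime_of_sq he hc]
      have hi : ∀ H : Subgroup (S ⧸ center S), H.index = p ↔ Nat.card H = p := fun H => by
        have := H.index_mul_card
        rw [hc, sq] at this
        exact ⟨fun e => Nat.eq_of_mul_eq_mul_left hp.pos (e ▸ this), fun e => Nat.eq_of_mul_eq_mul_right hp.pos (e ▸ this)⟩
      refine (Nat.card_eq_of_bijective (fun H => ⟨H.1.comap (QuotientGroup.mk' _), isMulCommutative_of_relIndex_prime (le_comap_mk'' _ _)
        (center_le_centralizer _) (Or.inl (by rw [relIndex_comap_mk', H.2]; exact hp)), by rw [index_comap_mk', hi, H.2]⟩)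
        ⟨fun H K e => Subtype.ext (comap_injective (QuotientGroup.mk'_surjective _) (congrArg Subtype.val e)), fun B => ?_⟩).symm
      haveI := L.normal_of_index_eq_prime hS B.2.2
      haveI := B.2.1
      have e : (B.1.map (QuotientGroup.mk' (center S))).comap (QuotientGroup.mk' (center S)) = B.1 := by
        rw [comap_map_mk', sup_eq_left.2 (index_center_of_index_prime hna B.1 (B.2.2.symm ▸ hp)).1]
      exact ⟨⟨B.1.map (QuotientGroup.mk' _), by rw [← hi, ← index_comap_mk', e, B.2.2]⟩, Subtype.ext e⟩
    · right
      have h2 : p ^ 2 ≤ Nat.card (_root_.commutator S) := hk ▸ Nat.pow_le_pow_right hp.pos (by omega)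
      refine ⟨h2, fun B hB hBi => ?_⟩
      by_contra hne
      have hM := isCoatom_of_index_prime (hAi ▸ hp)
      have hM' := isCoatom_of_index_prime (hBi ▸ hp)
      have hs : A ⊔ B = ⊤ := hM.2 _ (left_lt_sup.2 fun h => hne (h.lt_or_eq.resolve_left fun h => hM.1 (hM'.2 _ h)))
      have h3 : A ⊓ B ≤ center S := fun x hx => L.mem_center_of_commute_generators hs
        (fun y hy => mem_centralizer_singleton_iff.2 (mul_comm_of_mem hy hx.1)) fun y hy => mem_centralizer_singleton_iff.2 (mul_comm_of_mem hy hx.2)
      have h4 := (Nat.le_of_dvd (Nat.pos_of_ne_zero index_ne_zero_of_finite) (index_dvd_of_le h3)).trans index_inf_le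
      rw [h1, hAi, hBi] at h4
      have := Nat.le_of_mul_le_mul_left h4 hp.pos
      nlinarith [hp.one_lt]

end Cfsg.Agent.S3807
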