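import Cfsg.Statements.S3808
import Cfsg.Agent.H1.PGrp

set_option autoImplicit false
open Cfsg

namespace Cfsg.Agent.S3808

open Cfsg.Agent.H1

/-- Let S be a finite p-group with an extraspecial subgroup Q of index p. Then either Z(S) = Z(Q), or S = Q·Z(S) and Z(S) has order p². -/
theorem result {S : Type*} [Group S] [Finite S] (p : ℕ) [Fact p.Prime] (hS : IsPGroup p S) (Q : Subgroup S) (hQ : Cfsg.IsExtraspecial p ↥Q) (hQi : Q.index = p) :
    Subgroup.center S = (Subgroup.center ↥Q).map Q.subtype ∨
      (Q ⊔ Subgroup.center S = ⊤ ∧ Nat.card (Subgroup.center S) = p ^ 2) := by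
  open Subgroup Pointwise commutatorElement in focus
    have hp : p.Prime := Fact.out
    haveI := L.normal_of_index_eq_prime hS hQi
    haveI := normal_map_subtype_of_char Q (center Q)
    have h1 : (center Q).map Q.subtype ≤ center S := L.le_center_of_card_prime hS _ ((card_map_subtype _).trans hQ.2)
    have h2 : Q ⊓ center S = (center Q).map Q.subtype := le_antisymm (by
      rw [map_subtype_center]; exact inf_le_inf_left _ (center_le_centralizer _)) (le_inf (map_subtype_le _) h1)
    by_cases h : center S ≤ Q
    · exact Or.inl (h2 ▸ (inf_eq_right.2 h).symm)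
    have hs := (isCoatom_of_index_prime (hQi ▸ hp)).2 _ (left_lt_sup.2 h)
    refine Or.inr ⟨hs, ?_⟩
    rw [← card_inf_mul_relIndex Q, h2, card_map_subtype, hQ.2, ← relIndex_sup_left, hs, relIndex_top_right, hQi, sq]

end Cfsg.Agent.S3808
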