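import Cfsg.Statements.S3809
import Cfsg.Agent.H1.PGrp

set_option autoImplicit false
open Cfsg

namespace Cfsg.Agent.S3809

open Cfsg.Agent.H1

/-- Let S be a finite p-group with an extraspecial subgroup of index p. Then S has order p^(2+2n) for some n ≥ 1, derived length at most 3, and exponent dividing p³. -/
theorem result {S : Type*} [Group S] [Finite S] (p : ℕ) [Fact p.Prime] (hS : IsPGroup p S) (Q : Subgroup S) (hQ : Cfsg.IsExtraspecial p ↥Q) (hQi : Q.index = p) :
    (∃ n : ℕ, 1 ≤ n ∧ Nat.card S = p ^ (2 + 2 * n)) ∧ derivedSeries S 3 = ⊥ ∧ ∀ x : S, x ^ (p ^ 3) = 1 := by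
  open Subgroup Pointwise commutatorElement in focus
    have hp : p.Prime := Fact.out
    haveI := L.normal_of_index_eq_prime hS hQi
    obtain ⟨n, hn, h⟩ := IsExtraspecial.exists_card hQ
    refine ⟨⟨n, hn, by rw [← Q.index_mul_card, hQi, h]; ring⟩, ?_, fun x => ?_⟩
    · haveI := isCyclic_of_prime_card (α := S ⧸ Q) hQi
      have h1 : derivedSeries S 1 ≤ Q := Normal.quotient_commutative_iff_commutator_le.1 inferInstance
      have h2 : derivedSeries S 2 ≤ Q ⊓ centralizer (Q : Set S) := by
        rw [← map_subtype_center, ← hQ.1.2.2, map_subtype_commutator]; exact commutator_mono h1 h1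
      exact le_bot_iff.1 ((commutator_mono (h2.trans inf_le_right) (h2.trans inf_le_left)).trans
        (commutator_eq_bot_iff_le_centralizer.2 le_rfl).le)
    · have h1 := pow_mem_map_frattini hQ.1.1 (hQi ▸ Q.pow_index_mem x)
      have h2 := pow_card_eq_one_of_mem h1
      rw [card_map_subtype, hQ.1.2.1, hQ.2, ← pow_mul, ← pow_mul] at h2
      rw [← h2]; congr 1; ring

end Cfsg.Agent.S3809
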