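import Cfsg.Statements.S3810
import Cfsg.Agent.H1.PGrp

set_option autoImplicit false
open Cfsg

namespace Cfsg.Agent.S3810

open Cfsg.Agent.H1

/-- Let S be a finite p-group with an extraspecial subgroup of index p. Then S has an abelian subgroup of index p if and only if S has order p⁴. -/
theorem result {S : Type*} [Group S] [Finite S] (p : ℕ) [Fact p.Prime] (hS : IsPGroup p S) (Q : Subgroup S) (hQ : Cfsg.IsExtraspecial p ↥Q) (hQi : Q.index = p) :
    (∃ A : Subgroup S, IsMulCommutative ↥A ∧ A.index = p) ↔ Nat.card S = p ^ 4 := by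
  open Subgroup Pointwise commutatorElement in focus
    have hp : p.Prime := Fact.out
    refine ⟨fun ⟨A, hA, hi⟩ => ?_, exists_abelian_index_of_card_four⟩
    haveI := L.normal_of_index_eq_prime hS hi
    have hna := IsExtraspecial.not_isMulCommutative hQ
    have h1 : (A.subgroupOf Q).index = p := ((Nat.dvd_prime hp).1 (hi ▸ relIndex_dvd_index_of_normal A Q)).resolve_left
      fun e => hna (isMulCommutative_of_le (relIndex_eq_one.1 e))
    have h2 := (index_center_of_index_prime hna (A.subgroupOf Q) (h1 ▸ hp)).2
    rw [← Q.index_mul_card, ← (center Q).index_mul_card, h2, h1, hQi, hQ.1.2.2, hQ.2]; ring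

end Cfsg.Agent.S3810
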