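import Cfsg.Statements.S3811
import Cfsg.Agent.H1.PGrp
import Cfsg.Agent.H1.Frattini

set_option autoImplicit false
open Cfsg

namespace Cfsg.Agent.S3811

open Cfsg.Agent Subgroup
open scoped Pointwise commutatorElement
universe u
variable {p : ℕ} {P : Type u} [Group P]

local notation "𝒩" K => normalizer (SetLike.coe K)

structure Soft (p : ℕ) {P : Type u} [Group P] (E : Subgroup P) : Prop where
  ab : ∀ a ∈ E, ∀ b ∈ E, a * b = b * a
  sc : ∀ g : P, (∀ e ∈ E, e * g = g * e) → g ∈ E
  ix : E.relIndex (normalizer (E : Set P)) ∣ p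

theorem btw (hp : p.Prime) {A B C : Subgroup P} (h1 : A ≤ B) (h2 : B ≤ C) (h : A.relIndex C ∣ p) (hne : ¬ B ≤ A) :
    C ≤ B := by
  rw [← relIndex_mul_relIndex A B C h1 h2] at h
  rcases (Nat.dvd_prime hp).1 (Dvd.dvd.trans (Dvd.intro _ rfl) h) with h3 | h3
  · exact absurd (relIndex_eq_one.1 h3) hne
  · rw [h3] at h
    have : B.relIndex C ∣ 1 := Nat.dvd_of_mul_dvd_mul_left hp.pos (by simpa using h)
    exact relIndex_eq_one.1 (Nat.dvd_one.1 this)

theorem nle [hp : Fact p.Prime] [Finite P] (hP : IsPGroup p P) {K L : Subgroup P} (h : K.relIndex (𝒩 K) ∣ p)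
    (hKL : K ≤ L) (hne : ¬ L ≤ K) : (𝒩 K) ≤ L := by
  haveI := (hP.to_subgroup L).isNilpotent
  have h1 := Group.normalizerCondition_of_isNilpotent (G := L) (K.subgroupOf L)
    (lt_top_iff_ne_top.2 fun h => hne (subgroupOf_eq_top.1 h))
  rw [← subgroupOf_normalizer_eq hKL] at h1
  obtain ⟨x, hx1, hx2⟩ := SetLike.exists_of_lt h1
  have := btw hp.out (le_inf le_normalizer hKL) inf_le_left h (fun hle => hx2 (hle ⟨hx1, x.2⟩))
  exact this.trans inf_le_right

theorem Soft.sub {E H : Subgroup P} (h : Soft p E) (hH : E ≤ H) : Soft p (E.subgroupOf H) where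
  ab a ha b hb := Subtype.ext (h.ab _ ha _ hb)
  sc g hg := h.sc g fun e he => congrArg Subtype.val (hg ⟨e, hH he⟩ he)
  ix := by
    rw [← subgroupOf_normalizer_eq hH, ← inf_subgroupOf_right (normalizer (E : Set P)), relIndex_subgroupOf inf_le_right]
    haveI : (E.subgroupOf (𝒩 E)).Normal := normal_in_normalizer
    have := relIndex_dvd_index_of_normal (E.subgroupOf (𝒩 E)) (((𝒩 E) ⊓ H).subgroupOf (𝒩 E))
    rw [relIndex_subgroupOf inf_le_left] at this
    exact this.trans h.ix

theorem cn [Finite P] {E Z : Subgroup P} [Z.Normal] (hZ : Z ≤ E) {g : P}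
    (hg : ∀ e ∈ E, (e : P ⧸ Z) * g = g * e) : g ∈ (𝒩 E) := by
  apply mem_normalizer_fintype
  intro e he
  have h1 : ((e : P) : P ⧸ Z) = (g * e * g⁻¹ : P) := by
    rw [QuotientGroup.mk_mul, QuotientGroup.mk_mul, ← hg e he]; simp
  have h2 := hZ (QuotientGroup.eq.1 h1)
  have := E.mul_mem he h2
  simpa using this

theorem ixq {K Z : Subgroup P} [Z.Normal] (hZ : Z ≤ K) :
    (K.map (QuotientGroup.mk' Z)).relIndex (𝒩 (K.map (QuotientGroup.mk' Z))) = K.relIndex (𝒩 K) := by
  have h1 : (K.map (QuotientGroup.mk' Z)).comap (QuotientGroup.mk' Z) = K := by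
    rw [comap_map_eq, QuotientGroup.ker_mk', sup_eq_left.2 hZ]
  conv_rhs => rw [← h1, ← comap_normalizer_eq_of_surjective _ (QuotientGroup.mk'_surjective Z), relIndex_comap,
    map_comap_eq_self_of_surjective (QuotientGroup.mk'_surjective Z)]

theorem conj_le {E N : Subgroup P} [hN : N.Normal] (h : E ≤ N) (y : P) : E.map (MulAut.conj y).toMonoidHom ≤ N := by
  rintro _ ⟨e, he, rfl⟩
  exact hN.conj_mem e (h he) y

theorem S1' [hp : Fact p.Prime] [Finite P] (hP : IsPGroup p P) {E : Subgroup P} (h : Soft p E) [hN : (𝒩 E).Normal] :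
    (𝒩 E).index ∣ p := by
  by_cases ht : (𝒩 E) = ⊤
  · rw [ht]; simp
  obtain ⟨y, hy⟩ : ∃ y, y ∉ (𝒩 E) := by
    by_contra hc; push Not at hc; exact ht (eq_top_iff.2 fun y _ => hc y)
  set B := E.map (MulAut.conj y).toMonoidHom with hB
  have hBN : B ≤ (𝒩 E) := conj_le le_normalizer y
  have hBE : ¬ B ≤ E := fun hle => hy (mem_normalizer_fintype fun e he => hle ⟨e, he, rfl⟩)
  have hsup : (𝒩 E) ≤ E ⊔ B := btw hp.out le_sup_left (sup_le le_normalizer hBN) h.ix (fun hle => hBE (le_sup_right.trans hle))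
  set Z := (𝒩 E) ⊓ centralizer ((𝒩 E) : Set P) with hZ
  haveI : Z.Normal := inferInstance
  have hZE : Z ≤ E := fun z hz => h.sc z fun e he => hz.2 e (le_normalizer he)
  have h1 : E ⊓ B ≤ Z := by
    rintro w ⟨hw1, hw2⟩
    refine ⟨le_normalizer hw1, ?_⟩
    have : E ⊔ B ≤ centralizer ({w} : Set P) := by
      refine sup_le (fun e he => mem_centralizer_singleton_iff.2 (h.ab e he w hw1)) ?_
      rintro _ ⟨e, he, rfl⟩
      obtain ⟨w', hw', rfl⟩ := hw2
      rw [mem_centralizer_singleton_iff, ← map_mul, ← map_mul, h.ab e he w' hw']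
    intro g hg
    exact mem_centralizer_singleton_iff.1 (this (hsup hg))
  have hBi : B.relIndex (𝒩 E) = E.relIndex (𝒩 E) := by
    have h2 : (𝒩 E).map (MulAut.conj y).toMonoidHom = (𝒩 E) :=
      eq_of_le_of_card_ge (conj_le le_rfl y) (card_map_of_injective (MulAut.conj y).injective).ge
    conv_lhs => rw [← h2]
    exact relIndex_map_map_of_injective _ _ (MulAut.conj y).injective
  have h3 : Z.relIndex (𝒩 E) ≤ p * p := by
    have h4 := relIndex_inf_le (H := E) (K := B) (L := (𝒩 E))
    have h5 := Nat.le_of_dvd hp.out.pos h.ix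
    have h6 := Nat.le_of_dvd (Nat.pos_of_ne_zero (index_ne_zero_of_finite (H := (E ⊓ B).subgroupOf (𝒩 E))))
      (relIndex_dvd_of_le_left (𝒩 E) h1)
    rw [hBi] at h4
    exact h6.trans (h4.trans (Nat.mul_le_mul h5 h5))
  have hQ := hP.to_quotient Z
  have h7 : Nat.card ((𝒩 E).map (QuotientGroup.mk' Z)) ∣ p ^ 2 := by
    obtain ⟨k, hk⟩ := IsPGroup.iff_card.1 (hQ.to_subgroup ((𝒩 E).map (QuotientGroup.mk' Z)))
    rw [hk]
    apply pow_dvd_pow
    rw [← relIndex_ker, QuotientGroup.ker_mk'] at hk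
    rw [hk, ← pow_two] at h3
    exact (Nat.pow_le_pow_iff_right hp.out.one_lt).1 h3
  haveI : ((𝒩 E).map (QuotientGroup.mk' Z)).Normal := hN.map _ (QuotientGroup.mk'_surjective Z)
  have h8 := H1.relIndex_centralizer_dvd_of_card_dvd_sq (P := ⊤) (hQ.to_subgroup ⊤) h7 (by rw [normalizer_eq_top])
  rw [relIndex_top_right, ← index_comap_of_surjective _ (QuotientGroup.mk'_surjective Z)] at h8
  refine (index_dvd_of_le ?_).trans h8
  intro g hg
  exact cn hZE fun e he => hg _ ⟨e, le_normalizer he, rfl⟩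

theorem S1 [hp : Fact p.Prime] [Finite P] (hP : IsPGroup p P) {E : Subgroup P} (h : Soft p E) :
    (𝒩 E).relIndex (𝒩 (𝒩 E)) ∣ p := by
  have h1 : E ≤ (𝒩 (𝒩 E)) := le_normalizer.trans le_normalizer
  haveI : (𝒩 (E.subgroupOf (𝒩 (𝒩 E)))).Normal := by
    rw [← subgroupOf_normalizer_eq h1]; exact normal_in_normalizer
  have := S1' (hP.to_subgroup _) (h.sub h1)
  rwa [← subgroupOf_normalizer_eq h1] at this

theorem quo [hp : Fact p.Prime] [Finite P] (hP : IsPGroup p P) {E Z : Subgroup P} [Z.Normal] (h : Soft p E) (hZ : Z ≤ E) :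
    Soft p (E.map (QuotientGroup.mk' Z)) ∨ Soft p ((𝒩 E).map (QuotientGroup.mk' Z)) := by
  by_cases hc : ∀ g : P ⧸ Z, (∀ e ∈ E.map (QuotientGroup.mk' Z), e * g = g * e) → g ∈ E.map (QuotientGroup.mk' Z)
  · left
    refine ⟨?_, hc, by rw [ixq hZ]; exact h.ix⟩
    rintro _ ⟨a, ha, rfl⟩ _ ⟨b, hb, rfl⟩
    rw [← map_mul, ← map_mul, h.ab a ha b hb]
  · right
    push Not at hc
    obtain ⟨g, hg1, hg2⟩ := hc
    obtain ⟨g, rfl⟩ := QuotientGroup.mk_surjective g
    have hgN : g ∈ (𝒩 E) := cn hZ fun e he => hg1 _ ⟨e, he, rfl⟩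
    have hgE : g ∉ E := fun h => hg2 ⟨g, h, rfl⟩
    have key : ∀ D : Subgroup (P ⧸ Z), (∀ e ∈ E, (e : P ⧸ Z) ∈ D) → (g : P ⧸ Z) ∈ D → ∀ a ∈ (𝒩 E), (a : P ⧸ Z) ∈ D := by
      intro D h1 h2 a ha
      have := btw hp.out (A := E) (B := (𝒩 E) ⊓ D.comap (QuotientGroup.mk' Z)) (fun e he => ⟨le_normalizer he, h1 e he⟩)
        inf_le_left h.ix (fun hle => hgE (hle ⟨hgN, h2⟩))
      exact (this ha).2
    refine ⟨?_, ?_, by rw [ixq (hZ.trans le_normalizer)]; exact S1 hP h⟩
    · rintro _ ⟨a, ha, rfl⟩ _ ⟨b, hb, rfl⟩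
      have k1 : ∀ e ∈ E, ∀ a ∈ (𝒩 E), (a : P ⧸ Z) * e = e * a := by
        intro e he a ha
        refine mem_centralizer_singleton_iff.1 (key (centralizer {(e : P ⧸ Z)}) (fun e' he' => ?_) ?_ a ha)
        · rw [mem_centralizer_singleton_iff, ← QuotientGroup.mk_mul, ← QuotientGroup.mk_mul, h.ab e he e' he']
        · rw [mem_centralizer_singleton_iff]; exact (hg1 _ ⟨e, he, rfl⟩).symm
      have k2 : ∀ a ∈ (𝒩 E), (a : P ⧸ Z) * g = g * a := by
        intro a ha
        refine mem_centralizer_singleton_iff.1 (key (centralizer {(g : P ⧸ Z)}) (fun e' he' => ?_) ?_ a ha)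
        · rw [mem_centralizer_singleton_iff]; exact hg1 _ ⟨e', he', rfl⟩
        · rw [mem_centralizer_singleton_iff]
      refine mem_centralizer_singleton_iff.1 (key (centralizer {(b : P ⧸ Z)}) (fun e' he' => ?_) ?_ a ha)
      · rw [mem_centralizer_singleton_iff]; exact (k1 e' he' b hb).symm
      · rw [mem_centralizer_singleton_iff]; exact (k2 b hb).symm
    · intro x hx
      obtain ⟨x, rfl⟩ := QuotientGroup.mk_surjective x
      exact ⟨x, cn hZ fun e he => hx _ ⟨e, le_normalizer he, rfl⟩, rfl⟩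

theorem card_lt [Finite P] (Z : Subgroup P) [Z.Normal] (hZ : Z ≠ ⊥) : Nat.card (P ⧸ Z) < Nat.card P := by
  have h1 := Z.card_mul_index
  have h2 : 1 < Nat.card Z := (one_lt_card_iff_ne_bot Z).2 hZ
  have h3 : 0 < Z.index := Nat.pos_of_ne_zero index_ne_zero_of_finite
  change Z.index < _
  nlinarith

theorem T1 [hp : Fact p.Prime] (n : ℕ) : ∀ (P : Type u) [Group P] [Finite P], Nat.card P = n → IsPGroup p P →
    ∀ E K : Subgroup P, Soft p E → E ≤ K → K.relIndex (𝒩 K) ∣ p := by
  induction n using Nat.strong_induction_on with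
  | _ n ih =>
    intro P _ _ hn hP E K h hK
    by_cases hKE : K ≤ E
    · rw [← le_antisymm hK hKE]; exact h.ix
    have hN := nle hP h.ix hK hKE
    haveI : Nontrivial P := by
      by_contra hc
      rw [not_nontrivial_iff_subsingleton] at hc
      exact hKE fun x _ => by rw [Subsingleton.elim x 1]; exact E.one_mem
    have hZ : center P ≠ ⊥ := (nontrivial_iff_ne_bot _).1 hP.center_nontrivial
    have hZE : center P ≤ E := fun z hz => h.sc z fun e _ => mem_center_iff.1 hz e
    rw [← ixq (hZE.trans hK)]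
    rcases quo hP h hZE with h1 | h1
    · exact ih _ (hn ▸ card_lt _ hZ) _ rfl (hP.to_quotient _) _ _ h1 (map_mono hK)
    · exact ih _ (hn ▸ card_lt _ hZ) _ rfl (hP.to_quotient _) _ _ h1 (map_mono hN)

theorem T2 [hp : Fact p.Prime] [Finite P] (hP : IsPGroup p P) {E : Subgroup P} (h : Soft p E) (K L : Subgroup P)
    (hK : E ≤ K) (hL : E ≤ L) : K ≤ L ∨ L ≤ K := by
  by_contra hc
  push Not at hc
  have h1 := T1 _ P rfl hP E (K ⊓ L) h (le_inf hK hL)
  have h2 := nle hP h1 inf_le_left (fun hle => hc.1 (hle.trans inf_le_right))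
  have h3 := nle hP h1 inf_le_right (fun hle => hc.2 (hle.trans inf_le_left))
  haveI := hP.isNilpotent
  have h4 := Group.normalizerCondition_of_isNilpotent (G := P) (K ⊓ L)
    (lt_top_iff_ne_top.2 fun h => hc.1 (le_top.trans (h.ge.trans inf_le_right)))
  exact h4.not_ge (le_inf h2 h3)

theorem T3 [hp : Fact p.Prime] (i : ℕ) : ∀ (P : Type u) [Group P] [Finite P], IsPGroup p P →
    ∀ E K : Subgroup P, Soft p E → E ≤ K → K.Normal → K ≠ ⊤ → E.relIndex K = p ^ i →
    ∀ [Group.IsNilpotent K], Group.nilpotencyClass K = i + 1 := by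
  induction i with
  | zero =>
    intro P _ _ hP E K h hK hKn hKt hi _
    have hKE : K ≤ E := relIndex_eq_one.1 (by simpa using hi)
    haveI : Nontrivial P := by
      by_contra hc
      rw [not_nontrivial_iff_subsingleton] at hc
      exact hKt (eq_top_iff.2 fun x _ => by rw [Subsingleton.elim x 1]; exact K.one_mem)
    have hZ : center P ≠ ⊥ := (nontrivial_iff_ne_bot _).1 hP.center_nontrivial
    have hZE : center P ≤ E := fun z hz => h.sc z fun e _ => mem_center_iff.1 hz e
    haveI : Nontrivial K := (nontrivial_iff_ne_bot _).2 fun hb => hZ (le_bot_iff.1 (hb ▸ hZE.trans hK))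
    rw [Group.nilpotencyClass_eq_quotient_center_plus_one, Group.nilpotencyClass_zero_iff_subsingleton.2]
    have : center K = ⊤ := eq_top_iff.2 fun a _ => mem_center_iff.2 fun b => Subtype.ext (h.ab _ (hKE b.2) _ (hKE a.2))
    rw [this]
    exact QuotientGroup.subsingleton_quotient_top
  | succ i ih =>
    intro P _ _ hP E K h hK hKn hKt hi _
    have hKE : ¬ K ≤ E := by
      intro hle
      rw [relIndex_eq_one.2 hle] at hi
      exact (Nat.one_lt_pow (by omega) hp.out.one_lt).ne hi
    have hN := nle hP h.ix hK hKE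
    obtain ⟨x, hx⟩ : ∃ x, x ∉ K := by
      by_contra hc; push Not at hc; exact hKt (eq_top_iff.2 fun y _ => hc y)
    set B := E.map (MulAut.conj x).toMonoidHom with hB
    have hBK : B ≤ K := conj_le hK x
    have hsup : K ≤ E ⊔ B := by
      by_contra hne
      have h1 := nle hP (T1 _ P rfl hP E (E ⊔ B) h le_sup_left) (sup_le hK hBK) hne
      apply hx
      apply h1
      have h2 : E ≤ (E ⊔ B).map (MulAut.conj x⁻¹).toMonoidHom := fun e he =>
        ⟨x * e * x⁻¹, (le_sup_right : B ≤ E ⊔ B) ⟨e, he, rfl⟩, by simp [mul_assoc]⟩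
      have h3 : Nat.card ((E ⊔ B).map (MulAut.conj x⁻¹).toMonoidHom) = Nat.card ↥(E ⊔ B) :=
        card_map_of_injective (MulAut.conj x⁻¹).injective
      have h4 : (E ⊔ B).map (MulAut.conj x⁻¹).toMonoidHom ≤ E ⊔ B := by
        rcases T2 hP h _ _ h2 (le_sup_left : E ≤ E ⊔ B) with h5 | h5
        · exact h5
        · exact (eq_of_le_of_card_ge h5 h3.le).ge
      rw [← inv_mem_iff]
      exact mem_normalizer_fintype fun e he => h4 ⟨e, he, rfl⟩
    set Z := K ⊓ centralizer (K : Set P) with hZ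
    haveI : Z.Normal := inferInstance
    have hZE : Z ≤ E := fun z hz => h.sc z fun e he => hz.2 e (hK he)
    have hQ := hP.to_quotient Z
    haveI hKq : (K.map (QuotientGroup.mk' Z)).Normal := hKn.map _ (QuotientGroup.mk'_surjective Z)
    have hcm : ∀ L : Subgroup P, Z ≤ L → (L.map (QuotientGroup.mk' Z)).comap (QuotientGroup.mk' Z) = L := by
      intro L hL
      rw [comap_map_eq, QuotientGroup.ker_mk', sup_eq_left.2 hL]
    have hs : Soft p ((𝒩 E).map (QuotientGroup.mk' Z)) := by
      refine (quo hP h hZE).resolve_left fun h1 => ?_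
      have h2 : K.map (QuotientGroup.mk' Z) ≠ ⊥ := by
        intro hb
        rw [Subgroup.map_eq_bot_iff, QuotientGroup.ker_mk'] at hb
        exact hKE (hb.trans hZE)
      have h3 := H1.inf_centralizer_ne_bot_of_isPGroup (hQ.to_subgroup _) (hQ.to_subgroup ⊤) (by rw [normalizer_eq_top]) h2
      obtain ⟨⟨w, hw1, hw2⟩, hw3⟩ := ne_bot_iff_exists_ne_one.1 h3
      obtain ⟨w, hwK, rfl⟩ := hw1
      have h4 : QuotientGroup.mk' Z w ∈ E.map (QuotientGroup.mk' Z) := h1.sc _ fun e _ => hw2 e (mem_top e)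
      have h5 : w ∈ E := by rw [← hcm E hZE]; exact h4
      have h6 : x⁻¹ * w * x ∈ E := by
        rw [← hcm E hZE, mem_comap, map_mul, map_mul, hw2 _ (mem_top _), mul_assoc, ← map_mul]
        simpa using h4
      apply hw3
      apply Subtype.ext
      refine (QuotientGroup.eq_one_iff w).2 ⟨hwK, ?_⟩
      have : E ⊔ B ≤ centralizer ({w} : Set P) := by
        refine sup_le (fun e he => mem_centralizer_singleton_iff.2 (h.ab e he w h5)) ?_
        rintro _ ⟨e, he, rfl⟩
        rw [mem_centralizer_singleton_iff]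
        have h7 := h.ab e he _ h6
        simp only [MulEquiv.coe_toMonoidHom, MulAut.conj_apply]
        calc x * e * x⁻¹ * w = x * (e * (x⁻¹ * w * x)) * x⁻¹ := by group
          _ = _ := by rw [h7]; group
      intro g hg
      exact mem_centralizer_singleton_iff.1 (this (hsup hg))
    have hEp : E.relIndex (𝒩 E) = p := by
      rcases (Nat.dvd_prime hp.out).1 h.ix with h1 | h1
      · exfalso
        haveI := hP.isNilpotent
        have h4 := Group.normalizerCondition_of_isNilpotent (G := P) E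
          (lt_top_iff_ne_top.2 fun h => hKE (le_top.trans h.ge))
        exact h4.not_ge (relIndex_eq_one.1 h1)
      · exact h1
    have hi' : ((𝒩 E).map (QuotientGroup.mk' Z)).relIndex (K.map (QuotientGroup.mk' Z)) = p ^ i := by
      rw [← relIndex_comap, hcm _ (hZE.trans le_normalizer)]
      rw [← relIndex_mul_relIndex E (𝒩 E) K le_normalizer hN, hEp, pow_succ'] at hi
      exact Nat.eq_of_mul_eq_mul_left hp.out.pos hi
    haveI := (hQ.to_subgroup (K.map (QuotientGroup.mk' Z))).isNilpotent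
    have h8 := ih _ hQ _ _ hs (map_mono hN) hKq (by
      intro ht
      apply hKt
      rw [← hcm K inf_le_left, ht, comap_top]) hi'
    haveI : Nontrivial K := (nontrivial_iff_ne_bot _).2 fun hb => hKE (hb ▸ bot_le)
    rw [Group.nilpotencyClass_eq_quotient_center_plus_one, ← h8]
    congr 1
    have hk : center K = ((QuotientGroup.mk' Z).subgroupMap K).ker := by
      ext k
      rw [MonoidHom.mem_ker, Subtype.ext_iff, mem_center_iff]
      change _ ↔ ((k : P) : P ⧸ Z) = 1
      rw [QuotientGroup.eq_one_iff]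
      exact ⟨fun hk => ⟨k.2, fun g hg => congrArg Subtype.val (hk ⟨g, hg⟩)⟩, fun hk g => Subtype.ext (hk.2 g g.2)⟩
    have e : K ⧸ center K ≃* K.map (QuotientGroup.mk' Z) := (QuotientGroup.quotientMulEquivOfEq hk).trans
      (QuotientGroup.quotientKerEquivOfSurjective _ (MonoidHom.subgroupMap_surjective _ _))
    exact le_antisymm (Group.nilpotencyClass_le_of_surjective e.symm.toMonoidHom e.symm.surjective)
      (Group.nilpotencyClass_le_of_surjective e.toMonoidHom e.surjective)

/-- Let P be a finite p-group and E an abelian subgroup of P that contains its centralizer, has index p in its normalizer, and has index at least p² in P. Then the subgroups of P containing E are totally ordered by inclusion, each proper one has index p in its normalizer (so they form the normalizer tower of E, with all steps of index p), and the i-th member of the tower above E has nilpotency class i + 1 whenever it is a proper subgroup of P. -/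
theorem result {P : Type*} [Group P] [Finite P] (p : ℕ) [Fact p.Prime] (hP : IsPGroup p P)
    (E : Subgroup P) (hEab : IsMulCommutative ↥E) (hC : Subgroup.centralizer (E : Set P) ≤ E)
    (hN : (E.subgroupOf (Subgroup.normalizer (E : Set P))).index = p) (hidx : p ^ 2 ≤ E.index) :
    (∀ K L : Subgroup P, E ≤ K → E ≤ L → K ≤ L ∨ L ≤ K) ∧
      (∀ K : Subgroup P, E ≤ K → K ≠ ⊤ → (K.subgroupOf (Subgroup.normalizer (K : Set P))).index = p) ∧
      ∀ (i : ℕ) (K : Subgroup P) [Group.IsNilpotent ↥K], E ≤ K → K ≠ ⊤ → K.index * p ^ i = E.index →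
        Group.nilpotencyClass ↥K = i + 1 := by
  have hp := (Fact.out : p.Prime)
  have h : Soft p E := ⟨fun a ha b hb => congrArg Subtype.val (hEab.is_comm.comm (⟨a, ha⟩ : E) ⟨b, hb⟩),
    fun g hg => hC hg, by rw [relIndex, hN]⟩
  haveI := hP.isNilpotent
  refine ⟨T2 hP h, fun K hK hKt => ?_, fun i K _ hK hKt hi => ?_⟩
  · rcases (Nat.dvd_prime hp).1 (T1 _ P rfl hP E K h hK) with h1 | h1
    · exact absurd (relIndex_eq_one.1 h1) (Group.normalizerCondition_of_isNilpotent (G := P) K (lt_top_iff_ne_top.2 hKt)).not_ge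
    · exact h1
  · have h1 : E ≤ normalizer (K : Set P) := hK.trans le_normalizer
    haveI := ((hP.to_subgroup (normalizer (K : Set P))).to_subgroup (K.subgroupOf (normalizer (K : Set P)))).isNilpotent
    have h2 := T3 i _ (hP.to_subgroup _) _ (K.subgroupOf (normalizer (K : Set P))) (h.sub h1) (fun x hx => hK hx)
      normal_in_normalizer (fun ht => (Group.normalizerCondition_of_isNilpotent (G := P) K (lt_top_iff_ne_top.2 hKt)).not_ge
        (subgroupOf_eq_top.1 ht)) (by
        rw [relIndex_subgroupOf le_normalizer]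
        rw [← relIndex_mul_index hK, mul_comm] at hi
        exact (Nat.eq_of_mul_eq_mul_right (Nat.pos_of_ne_zero index_ne_zero_of_finite) hi).symm)
    have e := subgroupOfEquivOfLe (le_normalizer : K ≤ normalizer (K : Set P))
    rw [← h2]
    exact le_antisymm (Group.nilpotencyClass_le_of_surjective e.toMonoidHom e.surjective)
      (Group.nilpotencyClass_le_of_surjective e.symm.toMonoidHom e.symm.surjective)

end Cfsg.Agent.S3811
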