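import Cfsg.Statements.S3824
import Cfsg.Agent.H8.Misc
import Cfsg.Agent.S0143

set_option autoImplicit false
open Cfsg

namespace Cfsg.Agent.S3824

open Subgroup hiding commutator_def
open Function Cfsg.Agent.Hopf Cfsg.Agent.Reg
open scoped commutatorElement Pointwise

universe u in
theorem aux (n : ℕ) : ∀ (G : Type u) [Group G] [Finite G], Nat.card G = n →
    ∀ A : Subgroup G, IsMulCommutative A → (∃ k : ℕ, A.index = 2 ^ k) → Group.IsSolvable G := by
  induction n using Nat.strong_induction_on with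
  | _ n ih =>
  intro G _ _ hn A hA ⟨k, hk⟩
  by_cases hs : IsSimpleGroup G
  · by_cases h1 : A = ⊥
    · rw [h1, index_bot] at hk
      exact H1.isSolvable_of_isPGroup (IsPGroup.of_card hk)
    · obtain ⟨⟨a, ha⟩, ha1⟩ := ne_bot_iff_exists_ne_one.1 h1
      have h2 : A ≤ centralizer {a} := fun x hx =>
        mem_centralizer_singleton_iff.2 (H1.mul_comm_of_mem hx ha)
      obtain ⟨j, -, hj⟩ := (Nat.dvd_prime_pow Nat.prime_two).1 (hk ▸ index_dvd_of_le h2)
      haveI := Fact.mk (S0143.result 2 j Nat.prime_two a (fun e => ha1 (Subtype.ext e)) hj)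
      exact H1.isSolvable_of_isCyclic (isCyclic_of_prime_card (α := G) rfl)
  rcases subsingleton_or_nontrivial G with h0 | h0
  · infer_instance
  obtain ⟨N, hN, h2, h3⟩ : ∃ N : Subgroup G, N.Normal ∧ N ≠ ⊥ ∧ N ≠ ⊤ := by
    by_contra h2
    push Not at h2
    exact hs ⟨fun N hN => or_iff_not_imp_left.2 (h2 N hN)⟩
  refine H1.isSolvable_of_normal_of_quotient N
    (ih _ (hn ▸ H1.card_lt_of_ne_top h3) _ rfl (A.subgroupOf N) inferInstance ?_)
    (ih _ (hn ▸ H1.card_quotient_lt h2) _ rfl (A.map (QuotientGroup.mk' N)) inferInstance ?_)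
  · have h1 : A.relIndex N ∣ A.index := by
      have h4 := H1.card_sup_mul_card_inf (A := A) (K := N) le_normalizer_of_normal
      rw [← H1.card_mul_relIndex (le_sup_left : A ≤ A ⊔ N), ← H1.card_inf_mul_relIndex A N,
        mul_assoc, mul_comm (A.relIndex (A ⊔ N))] at h4
      rw [← Nat.eq_of_mul_eq_mul_left Nat.card_pos (Nat.eq_of_mul_eq_mul_left Nat.card_pos h4)]
      exact relIndex_dvd_index_of_le le_sup_left
    obtain ⟨j, -, hj⟩ := (Nat.dvd_prime_pow Nat.prime_two).1 (hk ▸ h1)
    exact ⟨j, hj⟩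
  · obtain ⟨j, -, hj⟩ := (Nat.dvd_prime_pow Nat.prime_two).1
      (hk ▸ A.index_map_dvd (QuotientGroup.mk'_surjective N))
    exact ⟨j, hj⟩

/-- Every finite group having an abelian subgroup whose index is a power of 2 is solvable. -/
theorem result {G : Type*} [Group G] [Finite G]
    (A : Subgroup G) (hA : IsMulCommutative A) (hidx : ∃ k : ℕ, A.index = 2 ^ k) : Group.IsSolvable G := by
  exact aux _ G rfl A hA hidx

end Cfsg.Agent.S3824
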