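import Cfsg.Statements.S3861
import Cfsg.Agent.GS.Basic
import Cfsg.Agent.S3863

set_option autoImplicit false
open Cfsg

namespace Cfsg.Agent.S3861

open Cfsg.Agent.H1

/-- A finite group G has no non-identity element of odd order that is conjugate to its inverse if and only if the Sylow 2-subgroups of G are normal. -/
theorem result {G : Type*} [Group G] [Finite G] (P : Sylow 2 G) : (∀ x : G, x ≠ 1 → Odd (orderOf x) → ¬ IsConj x x⁻¹) ↔ (P : Subgroup G).Normal := by
  open Subgroup Pointwise commutatorElement Cfsg.Agent.BG Cfsg.Agent.GS in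
  open Cfsg.Agent.H2 hiding card_lt_of_lt card_lt_of_ne_top isMulCommutative_of_le isPGroup_zpowers_iff mem_of_pow_mem_of_coprime inf_eq_bot_of_cop exists_maxElem_ge Sec in
  open Cfsg.Agent.H8 (Op Opp Fit SN) in
  open Cfsg.Agent.L (FPF) in focus
    constructor
    · intro h
      have h1 : ¬ Even ♯(G ⧸ pCore 2 G) := by
        intro he
        obtain ⟨t, ht⟩ := exists_ord2_of_even he
        obtain ⟨y, y1, y2, y3⟩ := exists_inverted_odd (ord2_mul_self ht)
          (by rw [pCore_quotient_eq_bot _ rfl]; exact ord2_ne_one ht)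
        obtain ⟨x0, rfl⟩ := QuotientGroup.mk'_surjective _ y
        obtain ⟨n, e1, e2⟩ := exists_lift_coprime (p := 2) (QuotientGroup.mk' (pCore 2 G)) x0 (Nat.coprime_two_right.2 y2)
        rw [← e1] at y1 y3
        generalize x0 ^ n = x at *
        have hc : (♯(zpowers x)).Coprime ♯(pCore 2 G) :=
          coprime_card_of_pgroup (by rwa [Nat.card_zpowers]) (isPGroup_pCore 2 G)
        have h2 : t ∈ (𝒩 (zpowers x)).map (QuotientGroup.mk' (pCore 2 G)) := by
          rw [map_mk'_normalizer hc (Or.inl (isSolvable_zpowers x)), MonoidHom.map_zpowers, mem_normalizer_iff_cj, cj_zpowers, y3, zpowers_inv]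
        obtain ⟨s, hs, rfl⟩ := h2
        refine h x (fun e => y1 (by rw [e, map_one])) (Nat.coprime_two_right.1 e2) (isConj_iff.2 ⟨s, ?_⟩)
        have h3 : s * x * s⁻¹ * x ∈ zpowers x ⊓ pCore 2 G :=
          ⟨mul_mem (conj_mem_of_mem_normalizer hs (mem_zpowers x)) (mem_zpowers x), by
            refine (QuotientGroup.eq_one_iff _).1 ?_
            change QuotientGroup.mk' _ _ = 1
            rw [map_mul, map_mul, map_mul, map_inv, y3, inv_mul_cancel]⟩
        rw [inf_eq_bot_of_cop hc] at h3
        exact eq_inv_of_mul_eq_one_left h3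
      have h2 : (P : Subgroup G) ≤ pCore 2 G := le_of_coprime_index (coprime_card_of_isPGroup P.isPGroup'
        (Nat.coprime_two_right.2 (Nat.not_even_iff_odd.1 h1)))
      rw [h2.antisymm (pCore_le_sylow P)]; infer_instance
    · intro hP x h1 h2 h3
      obtain ⟨-, -, h4⟩ := S3863.result x h3
      obtain ⟨h5, -⟩ := h4 P (Nat.odd_iff.2 (Nat.two_dvd_ne_zero.1 P.not_dvd_index))
      exact h1 (eq_one_of_mem_pgroup_of_coprime P.isPGroup' h5 (Nat.coprime_two_right.2 h2))

end Cfsg.Agent.S3861
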