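import Cfsg.Statements.S3869
import Cfsg.Agent.H8.Misc2

set_option autoImplicit false
open Cfsg

namespace Cfsg.Agent.S3869

open Subgroup hiding commutator_def
open Function Cfsg.Agent.Hopf Cfsg.Agent.Reg
open scoped commutatorElement Pointwise


/-- Let p and q be distinct primes and G a finite non-abelian group with a normal elementary abelian q-subgroup A that is a minimal normal subgroup of G and has index p. Then A has order q^e with e the multiplicative order of q modulo p, and G is minimal non-p-closed: its Sylow p-subgroups are not normal, while in every proper subgroup and in every proper quotient of G the Sylow p-subgroups are normal. -/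
theorem result {G : Type*} [Group G] [Finite G] {p q : ℕ} [Fact p.Prime] (hq : q.Prime) (hpq : q ≠ p)
    (hna : ¬ IsMulCommutative G) (A : Subgroup G) [A.Normal] (hA : Cfsg.IsElementaryAbelian q A) (hidx : A.index = p)
    (hmin : ∀ B : Subgroup G, B.Normal → B ≤ A → B = ⊥ ∨ B = A) :
    Nat.card ↥A = q ^ orderOf (q : ZMod p) ∧ ¬ Cfsg.IsPClosed p G ∧ (∀ H : Subgroup G, H ≠ ⊤ → Cfsg.IsPClosed p ↥H) ∧
      ∀ (N : Subgroup G) [N.Normal], N ≠ ⊥ → Cfsg.IsPClosed p (G ⧸ N) := by
  have hp : p.Prime := Fact.out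
  haveI := hA.1
  haveI := Fact.mk hq
  have hAq : IsPGroup q A := H1.isPGroup_iff_forall_mem.2 fun a ha => ⟨1, by simpa using hA.2 a ha⟩
  have hpA : ¬ p ∣ Nat.card A := fun h =>
    hpq (H1.isPGroup_iff_forall_prime.1 hAq p hp h).symm
  have hG : Nat.card G = Nat.card A * p := by rw [← hidx, card_mul_index]
  have hAt : A ≠ ⊤ := fun e => hp.one_lt.ne' (by rw [← hidx, e, index_top])
  have hsup : ∀ x, x ∉ A → A ⊔ zpowers x = ⊤ := by
    intro x hx
    refine (H1.eq_or_eq_of_relIndex_prime (A := A) (B := ⊤) (by rwa [relIndex_top_right, hidx])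
      le_sup_left le_top).resolve_left fun e => hx ?_
    rw [← e]; exact mem_sup_right (mem_zpowers x)
  have hnc : ∀ x, x ∉ A → x ∉ centralizer (A : Set G) := by
    intro x hx hc
    refine hna (H1.isMulCommutative_of_index_prime_of_le_center (Z := A) ?_ (Or.inl (hidx ▸ hp)))
    rw [← centralizer_univ, ← coe_top, ← hsup x hx, H1.centralizer_sup]
    exact le_inf (le_centralizer _) (le_centralizer_iff.1 (zpowers_le_of_mem hc))
  have hirr : ∀ x, x ∉ A → ∀ N ≤ A, x ∈ normalizer (N : Set G) → N = ⊥ ∨ N = A := by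
    intro x hx N hN h
    refine hmin N (H1.normal_of_top_le_normalizer ?_) hN
    rw [← hsup x hx]
    exact sup_le (H1.le_normalizer_of_isMulCommutative hN) (zpowers_le_of_mem h)
  have hno : ∀ N : Subgroup G, N.Normal → N ⊓ A = ⊥ → N = ⊥ := by
    intro N _ h
    rw [eq_bot_iff]
    intro x hx
    by_cases hxA : x ∈ A
    · exact h ▸ mem_inf.2 ⟨hx, hxA⟩
    · refine absurd ?_ (hnc x hxA)
      exact commutator_eq_bot_iff_le_centralizer.1 (eq_bot_iff.2 (h ▸ commutator_le_inf N A)) hx
  have hpg : ∀ H : Subgroup G, H ⊓ A = ⊥ → IsPGroup p H := by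
    intro H h
    have h1 := H1.card_inf_mul_relIndex A H
    rw [inf_comm, h, card_bot, one_mul] at h1
    have h2 := relIndex_dvd_index_of_normal A H
    rw [h1, hidx] at h2
    obtain ⟨k, -, hk⟩ := (Nat.dvd_prime_pow hp (m := 1)).1 (by simpa using h2)
    exact IsPGroup.of_card hk
  obtain ⟨x, hx⟩ : ∃ x, x ∉ A := by
    by_contra hc
    push Not at hc
    exact hAt (eq_top_iff.2 fun x _ => hc x)
  refine ⟨card_irr hq hA.2 (le_centralizer A (hidx ▸ pow_index_mem A x))
    (le_normalizer_of_normal (mem_top x)) (hnc x hx) (hirr x hx), fun h => ?_, fun H hH => ?_,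
    fun N _ hN => ?_⟩
  · let P : Sylow p G := default
    refine P.ne_bot_of_dvd_card (hG ▸ Dvd.intro_left _ rfl) (hno _ (h P) ?_)
    exact H1.eq_bot_of_isPGroup_of_not_dvd P.2.to_inf_left fun h' =>
      hpA (h'.trans (card_dvd_of_le inf_le_right))
  · by_cases h : H ≤ A
    · exact closed_of_not_dvd fun h' => hpA (h'.trans (card_dvd_of_le h))
    obtain ⟨y, hy, hyA⟩ := SetLike.not_le_iff_exists.1 h
    rcases hirr y hyA (H ⊓ A) inf_le_right
      (H1.le_normalizer_inf le_normalizer le_normalizer_of_normal hy) with e | e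
    · exact closed_of_pgroup (hpg H e)
    · refine absurd (top_le_iff.1 ?_) hH
      rw [← hsup y hyA]
      exact sup_le (e ▸ inf_le_left) (zpowers_le_of_mem hy)
  · rcases hmin (N ⊓ A) inferInstance inf_le_right with e | e
    · exact absurd (hno N inferInstance e) hN
    · have h1 : N.index ∣ p := hidx ▸ index_dvd_of_le (e ▸ inf_le_left)
      obtain ⟨k, -, hk⟩ := (Nat.dvd_prime_pow hp (m := 1)).1 (by simpa using h1)
      exact closed_of_pgroup (IsPGroup.of_card hk)

end Cfsg.Agent.S3869
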