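import Cfsg.Statements.S3868
import Cfsg.Agent.H8.Misc2
import Cfsg.Agent.S3869
import Cfsg.Agent.H1.Misc

set_option autoImplicit false
open Cfsg

namespace Cfsg.Agent.S3868

open Subgroup hiding commutator_def
open Function Cfsg.Agent.Hopf Cfsg.Agent.Reg
open scoped commutatorElement Pointwise


/-- Structure of the non-simple minimal non-p-closed groups. Call a finite group p-closed when its Sylow p-subgroups are normal, and minimal non-p-closed when it is not p-closed but every proper subgroup and every proper quotient is. If such a group G is not simple, then there is a prime q ≠ p such that G has order p · q^e, where e is the multiplicative order of q modulo p, and G has a normal subgroup A of order q^e that is elementary abelian and is a minimal normal subgroup of G (so G is the semidirect product of A by a group of order p acting irreducibly). -/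
theorem result {G : Type*} [Group G] [Finite G] {p : ℕ} [Fact p.Prime]
    (hnc : ¬ Cfsg.IsPClosed p G) (hsub : ∀ H : Subgroup G, H ≠ ⊤ → Cfsg.IsPClosed p ↥H)
    (hquo : ∀ (N : Subgroup G) [N.Normal], N ≠ ⊥ → Cfsg.IsPClosed p (G ⧸ N)) (hns : ¬ IsSimpleGroup G) :
    ∃ q : ℕ, q.Prime ∧ q ≠ p ∧ Nat.card G = p * q ^ orderOf (q : ZMod p) ∧
      ∃ A : Subgroup G, A.Normal ∧ Nat.card ↥A = q ^ orderOf (q : ZMod p) ∧ Cfsg.IsElementaryAbelian q A ∧
        ∀ B : Subgroup G, B.Normal → B ≤ A → B = ⊥ ∨ B = A := by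
  have hp : p.Prime := Fact.out
  have hO : ∀ R : Subgroup G, R.Normal → IsPGroup p R → R = ⊥ := by
    intro R _ hR
    by_contra h
    exact hnc (closed_of_quot hR (hquo R h))
  have hpr : ∀ H : Subgroup G, H.Normal → H ≠ ⊤ → ¬ p ∣ Nat.card H := by
    intro H _ hH
    obtain ⟨S, hS⟩ := H2.exists_sylIn p H
    have h1 := (closed_sub_iff hS).1 (hsub H hH)
    have h2 := hS.frattini_sup (H := ⊤) le_top le_normalizer_of_normal
    rw [top_inf_eq, sup_eq_right.2 h1] at h2
    exact hS.eq_bot_iff.1 (hO S (H1.normal_of_top_le_normalizer h2.ge) hS.pgrp)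
  have hpG : p ∣ Nat.card G := by
    by_contra h
    exact hnc (closed_of_not_dvd h)
  haveI : Nontrivial G := Finite.one_lt_card_iff_nontrivial.1
    (lt_of_lt_of_le hp.one_lt (Nat.le_of_dvd Nat.card_pos hpG))
  obtain ⟨N0, hN0, h2, h3⟩ : ∃ N : Subgroup G, N.Normal ∧ N ≠ ⊥ ∧ N ≠ ⊤ := by
    by_contra h2
    push Not at h2
    exact hns ⟨fun N hN => or_iff_not_imp_left.2 (h2 N hN)⟩
  obtain ⟨N, hN, hN1, hle, hmin⟩ := H1.exists_minimal_normal_le N0 h2
  have hNt : N ≠ ⊤ := fun e => h3 (top_le_iff.1 (e ▸ hle))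
  have hpN := hpr N hN hNt
  let P : Sylow p G := default
  have hPn : ¬ ⊤ ≤ normalizer ((P : Subgroup G) : Set G) := fun h =>
    hnc (closed_of_normal P (H1.normal_of_top_le_normalizer h))
  have hPN : (P : Subgroup G) ⊔ N = ⊤ := by
    by_contra h
    have h1 := hquo N hN1 (P.mapSurjective (QuotientGroup.mk'_surjective N))
    have h2 := h1.comap (QuotientGroup.mk' N)
    rw [Sylow.coe_mapSurjective, H1.comap_map_mk'] at h2
    exact hpr _ h2 h ((H1.dvd_card_of_isPGroup_of_ne_bot P.2 (P.ne_bot_of_dvd_card hpG)).trans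
      (card_dvd_of_le le_sup_left))
  have hcop : (Nat.card (P : Subgroup G)).Coprime (Nat.card N) :=
    H1.coprime_card_of_isPGroup P.2 ((hp.coprime_iff_not_dvd.2 hpN).symm)
  obtain ⟨q, hq, hQ⟩ : ∃ q, q.Prime ∧ IsPGroup q N := by
    by_contra hc
    push Not at hc
    refine hPn ?_
    rw [← hPN]
    refine sup_le le_normalizer ?_
    have : N ⊓ normalizer ((P : Subgroup G) : Set G) = N := by
      refine H2.eq_of_forall_not_dvd_relIndex inf_le_left fun q hq hd => ?_
      haveI := Fact.mk hq
      obtain ⟨Q, hQ, hPQ⟩ := H1.exists_invariant_isSylowIn (A := P) (K := N)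
        le_normalizer_of_normal hcop (Or.inl (H1.isSolvable_of_isPGroup P.2)) q
      have h1 : (P : Subgroup G) ⊔ Q ≠ ⊤ := by
        intro e
        have h2 := H1.sup_inf_assoc_norm' hPQ hQ.1
        rw [e, top_inf_eq, (disjoint_of_coprime_natCard hcop).eq_bot, bot_sup_eq] at h2
        exact hc q hq (h2 ▸ hQ.2.1)
      have h2 := (closed_sub_iff (H2.sylIn_of_le P le_sup_left)).1 (hsub _ h1)
      exact hQ.2.2 (hd.trans (relIndex_dvd_of_le_left _ (le_inf hQ.1 (le_sup_right.trans h2))))
    exact this ▸ inf_le_right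
  haveI := Fact.mk hq
  have hqp : q ≠ p := fun e => hpN (e ▸ H1.dvd_card_of_isPGroup_of_ne_bot hQ hN1)
  have hE := H1.elementary_of_minimal_normal_of_isPGroup hQ hmin
  have hGN : IsPGroup p (G ⧸ N) := by
    have := P.2.map (QuotientGroup.mk' N)
    rw [H1.map_mk'_eq_top_iff.2 hPN] at this
    exact H1.isPGroup_top_iff.1 this
  have hidx : N.index = p := by
    haveI : Nontrivial (G ⧸ N) := QuotientGroup.nontrivial_iff.2 hNt
    obtain ⟨M, hM, -⟩ := H1.exists_coatom_ge (G := G ⧸ N) bot_ne_top
    haveI := H1.normal_of_isCoatom_of_isNilpotent hGN.isNilpotent hM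
    have h1 := hpr (M.comap (QuotientGroup.mk' N)) inferInstance
      (H1.isCoatom_comap_of_surjective' (QuotientGroup.mk'_surjective N) hM).1
    rw [H1.card_comap_mk'] at h1
    have h2 : M = ⊥ := H1.eq_bot_of_isPGroup_of_not_dvd (hGN.to_subgroup M)
      fun h => h1 (h.mul_left _)
    have h3 := H1.index_eq_of_isCoatom_of_isPGroup hGN hM
    rwa [h2, index_bot] at h3
  have hna : ¬ IsMulCommutative G := fun h => hnc fun P => inferInstance
  have h := (S3869.result hq hqp hna N hE hidx hmin).1
  exact ⟨q, hq, hqp, by rw [← h, ← hidx, mul_comm, card_mul_index], N, hN, h, hE, hmin⟩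

end Cfsg.Agent.S3868
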