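import Cfsg.Statements.S3870
import Cfsg.Agent.GS.Basic

set_option autoImplicit false
open Cfsg

namespace Cfsg.Agent.S3870

open Cfsg.Agent.H1

/-- Let G be a finite simple group whose Sylow p-subgroups are not normal but such that every proper subgroup of G has a normal Sylow p-subgroup. Then any two distinct Sylow p-subgroups of G intersect trivially, and for every Sylow p-subgroup P the normalizer of every non-identity subgroup of P lies in the normalizer of P. -/
theorem result {G : Type*} [Group G] [Finite G] [IsSimpleGroup G] {p : ℕ} [Fact p.Prime]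
    (hnc : ¬ Cfsg.IsPClosed p G) (hsub : ∀ H : Subgroup G, H ≠ ⊤ → Cfsg.IsPClosed p ↥H) :
    (∀ P Q : Sylow p G, P ≠ Q → (P : Subgroup G) ⊓ (Q : Subgroup G) = ⊥) ∧
      ∀ (P : Sylow p G) (R : Subgroup G), R ≤ P → R ≠ ⊥ →
        Subgroup.normalizer (R : Set G) ≤ Subgroup.normalizer ((P : Subgroup G) : Set G) := by
  open Subgroup Pointwise commutatorElement Cfsg.Agent.BG Cfsg.Agent.GS in
  open Cfsg.Agent.H2 hiding card_lt_of_lt card_lt_of_ne_top isMulCommutative_of_le isPGroup_zpowers_iff mem_of_pow_mem_of_coprime inf_eq_bot_of_cop exists_maxElem_ge Sec in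
  open Cfsg.Agent.H8 (Op Opp Fit SN) in
  open Cfsg.Agent.L (FPF) in focus
    have hs : ∀ H : Subgroup G, H ≠ ⊤ → H8.PCl p H := fun H hH => H8.pcl_iff.1 (hsub H hH)
    have nt : ∀ R : Subgroup G, IsPGroup p R → R ≠ ⊥ → 𝒩 R ≠ ⊤ := fun R h1 h2 e => by
      rcases IsSimpleGroup.eq_bot_or_eq_top_of_normal R (normal_of_top_le_normalizer e.ge) with h | h
      · exact h2 h
      · exact hnc (H8.pcl_top_iff.2 (H8.pcl_of_isPGroup (h ▸ h1)))
    have ti : ∀ (n : ℕ) (P Q : Subgroup G), SylIn p P ⊤ → SylIn p Q ⊤ → (P ⊓ Q).index = n → P ⊓ Q ≠ ⊥ → P = Q := by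
      intro n
      induction n using Nat.strong_induction_on with
      | _ n ih =>
      intro P Q hP hQ hn h1
      by_contra e
      have hD := isPGroup_of_le hP.pgrp (inf_le_left : P ⊓ Q ≤ P)
      have h2 := hs _ (nt _ hD h1)
      obtain ⟨S, hS, h3⟩ := exists_sylIn_ge (H8.Op_isPGroup p (𝒩 (P ⊓ Q))) le_top
      have key : ∀ X, SylIn p X ⊤ → P ⊓ Q < X → X = S := by
        intro X hX hlt
        have h4 := lt_inf_normalizer hX.pgrp hlt
        have h5 : X ⊓ 𝒩 (P ⊓ Q) ≤ S := (h2.sylIn.le_of_le_normalizer (isPGroup_of_le hX.pgrp inf_le_left) inf_le_right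
          (inf_le_right.trans (H8.le_normalizer_Op _ _))).trans h3
        have h6 : P ⊓ Q < X ⊓ S := h4.trans_le (le_inf inf_le_left h5)
        exact ih _ (hn ▸ index_strictAnti h6) X S hX hS rfl (ne_bot_of_gt h6)
      have a1 : P ⊓ Q < P := inf_lt_left.2 fun h => e (hP.max Q le_top hQ.pgrp h).symm
      have a2 : P ⊓ Q < Q := inf_lt_right.2 fun h => e (hQ.max P le_top hP.pgrp h)
      exact e ((key P hP a1).trans (key Q hQ a2).symm)
    refine ⟨fun P Q h => ?_, fun P R h1 h2 g hg => ?_⟩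
    · by_contra e
      exact h (Sylow.ext (ti _ _ _ (sylIn_top P) (sylIn_top Q) rfl e))
    · refine mem_normalizer_iff_cj.2 (ti _ _ _ ((sylIn_top P).cj_of_mem (mem_top g)) (sylIn_top P) rfl (ne_bot_mono h2 (le_inf ?_ h1)))
      rw [← cj_eq_of_mem_normalizer hg]; exact cj_mono g h1

end Cfsg.Agent.S3870
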