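import Cfsg.Statements.S3873
import Cfsg.Agent.H8.Misc2
import Cfsg.Agent.S3868

set_option autoImplicit false
open Cfsg

namespace Cfsg.Agent.S3873

open Subgroup hiding commutator_def
open Function Cfsg.Agent.Hopf Cfsg.Agent.Reg
open scoped commutatorElement Pointwise

theorem exp_of {G H : Type*} [Group G] [Group H] {p : ℕ} (f : G →* H) (hf : Surjective f)
    (hgen : closure {g : G | g ^ p = 1} = ⊤) (h : ∃ K : Subgroup H, (K : Set H) = {g | g ^ p = 1})
    (y : H) : y ^ p = 1 := by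
  obtain ⟨K, hK⟩ := h
  obtain ⟨x, rfl⟩ := hf y
  have : closure {g : G | g ^ p = 1} ≤ K.comap f := by
    rw [closure_le]
    intro g hg
    have : f g ∈ (K : Set H) := by
      rw [hK, Set.mem_setOf_eq, ← map_pow, hg, map_one]
    exact this
  have h1 : f x ∈ (K : Set H) := this (hgen ▸ mem_top x)
  rwa [hK] at h1

theorem gen_of {G : Type*} [Group G] {p : ℕ}
    (hnc : ¬ (∃ H : Subgroup G, (H : Set G) = {g : G | g ^ p = 1}))
    (hsub : ∀ K : Subgroup G, K ≠ ⊤ → (∃ H : Subgroup ↥K, (H : Set ↥K) = {g : ↥K | g ^ p = 1})) :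
    ∃ x y : G, x ^ p = 1 ∧ y ^ p = 1 ∧ (x * y) ^ p ≠ 1 ∧ closure ({x, y} : Set G) = ⊤ := by
  by_contra hc
  push Not at hc
  refine hnc ⟨⟨⟨⟨{g : G | g ^ p = 1}, fun {x y} hx hy => ?_⟩, by simp⟩, fun {x} hx => ?_⟩, rfl⟩
  · by_contra h
    obtain ⟨H, hH⟩ := hsub _ (hc x y hx hy h)
    have h1 : (⟨x, Subgroup.subset_closure (by simp)⟩ : closure ({x, y} : Set G)) ∈ (H : Set _) := by
      rw [hH]; exact Subtype.ext hx
    have h2 : (⟨y, Subgroup.subset_closure (by simp)⟩ : closure ({x, y} : Set G)) ∈ (H : Set _) := by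
      rw [hH]; exact Subtype.ext hy
    have h3 := SetLike.mem_coe.2 (H.mul_mem h1 h2)
    rw [hH] at h3
    exact h (congrArg Subtype.val h3)
  · simp only [Set.mem_setOf_eq] at hx ⊢
    rw [inv_pow, hx, inv_one]

theorem gen_of' {G : Type*} [Group G] {p : ℕ} {x y : G} (hx : x ^ p = 1) (hy : y ^ p = 1)
    (h : closure ({x, y} : Set G) = ⊤) : closure {g : G | g ^ p = 1} = ⊤ := by
  rw [eq_top_iff, ← h]
  refine closure_mono ?_
  rintro _ (rfl | rfl)
  · exact hx
  · exact hy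

/-- Say that a finite group is p-exponent closed when its elements of order dividing p form a subgroup. Let G be a finite group that is not p-exponent closed, but all of whose proper subgroups and proper quotients are, and suppose G is neither simple nor a p-group. Then there is a prime q ≠ p such that G has order p · q^e, where e is the multiplicative order of q modulo p, and G has a normal elementary abelian subgroup of order q^e that is a minimal normal subgroup of G. -/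
theorem result {G : Type*} [Group G] [Finite G] {p : ℕ} [Fact p.Prime]
    (hnc : ¬ (∃ H : Subgroup G, (H : Set G) = {g : G | g ^ p = 1})) (hsub : ∀ K : Subgroup G, K ≠ ⊤ → (∃ H : Subgroup ↥K, (H : Set ↥K) = {g : ↥K | g ^ p = 1}))
    (hquo : ∀ (N : Subgroup G) [N.Normal], N ≠ ⊥ → (∃ H : Subgroup (G ⧸ N), (H : Set (G ⧸ N)) = {g : (G ⧸ N) | g ^ p = 1}))
    (hns : ¬ IsSimpleGroup G) (hnp : ¬ IsPGroup p G) :
    ∃ q : ℕ, q.Prime ∧ q ≠ p ∧ Nat.card G = p * q ^ orderOf (q : ZMod p) ∧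
      ∃ A : Subgroup G, A.Normal ∧ Nat.card ↥A = q ^ orderOf (q : ZMod p) ∧ Cfsg.IsElementaryAbelian q A ∧
        ∀ B : Subgroup G, B.Normal → B ≤ A → B = ⊥ ∨ B = A := by
  have hp : p.Prime := Fact.out
  obtain ⟨x, y, hx, hy, hxy, hgen⟩ := gen_of hnc hsub
  have hq : ∀ (N : Subgroup G) [N.Normal], N ≠ ⊥ → ∀ z : G ⧸ N, z ^ p = 1 := fun N _ hN =>
    exp_of _ (QuotientGroup.mk'_surjective N) (gen_of' hx hy hgen) (hquo N hN)
  have hq' : ∀ (N : Subgroup G) [N.Normal], N ≠ ⊥ → IsPGroup p (G ⧸ N) := fun N _ hN z =>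
    ⟨1, by simpa using hq N hN z⟩
  have hO : ∀ R : Subgroup G, R.Normal → IsPGroup p R → R = ⊥ := by
    intro R _ hR
    by_contra h
    have := (hq' R h).to_subgroup ⊤ |>.comap_of_ker_isPGroup (QuotientGroup.mk' R) (by rwa [QuotientGroup.ker_mk'])
    rw [comap_top] at this
    exact hnp (H1.isPGroup_top_iff.1 this)
  have hx1 : x ≠ 1 := by
    rintro rfl
    exact hxy (by simpa using hy)
  haveI : Nontrivial G := ⟨x, 1, hx1⟩
  obtain ⟨N, hN, h2, h3⟩ : ∃ N : Subgroup G, N.Normal ∧ N ≠ ⊥ ∧ N ≠ ⊤ := by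
    by_contra h2
    push Not at h2
    exact hns ⟨fun N hN => or_iff_not_imp_left.2 (h2 N hN)⟩
  have hN1 : ∀ n ∈ N, n ^ p = 1 → n = 1 := by
    obtain ⟨H, hH⟩ := hsub N h3
    have hm : ∀ g, g ∈ H.map N.subtype ↔ g ∈ N ∧ g ^ p = 1 := by
      intro g
      constructor
      · rintro ⟨a, ha, rfl⟩
        rw [hH] at ha
        exact ⟨a.2, congrArg Subtype.val ha⟩
      · rintro ⟨h1, h2⟩
        exact ⟨⟨g, h1⟩, by rw [hH]; exact Subtype.ext h2, rfl⟩
    have := hO (H.map N.subtype) ⟨fun n hn g => by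
      rw [hm] at hn ⊢
      exact ⟨hN.conj_mem _ hn.1 g, by rw [conj_pow, hn.2]; simp⟩⟩
      (H1.isPGroup_iff_forall_mem.2 fun g hg => ⟨1, by simpa using ((hm g).1 hg).2⟩)
    intro n hn h
    rw [← mem_bot, ← this, hm]
    exact ⟨hn, h⟩
  have hexp : ∀ (g : G) (k : ℕ), g ^ p ^ k = 1 → g ^ p = 1 := by
    intro g k
    induction k generalizing g with
    | zero => intro h; rw [pow_zero, pow_one] at h; simp [h]
    | succ k ih =>
      intro h
      rw [pow_succ', pow_mul] at h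
      refine hN1 _ ?_ (ih _ h)
      rw [← QuotientGroup.eq_one_iff, QuotientGroup.mk_pow]
      exact hq N h2 _
  refine S3868.result (fun h => ?_) (fun H hH P => ?_)
    (fun M _ hM => closed_of_pgroup (hq' M hM)) hns
  · obtain ⟨P, hP⟩ := (H2.isPGroup_zpowers_iff.2 ⟨1, by simpa using hx⟩ :
      IsPGroup p (zpowers x)).exists_le_sylow
    rw [hO _ (h P) P.2] at hP
    exact hx1 (mem_bot.1 (hP (mem_zpowers x)))
  · obtain ⟨K, hK⟩ := hsub H hH
    have hm : ∀ g, g ∈ K ↔ g ^ p = 1 := fun g => by rw [← SetLike.mem_coe, hK]; rfl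
    have h1 : K = P := by
      refine P.3 (H1.isPGroup_iff_forall_mem.2 fun g hg => ⟨1, by simpa using (hm g).1 hg⟩)
        fun g hg => ?_
      obtain ⟨k, hk⟩ := H1.isPGroup_iff_forall_mem.1 P.2 g hg
      exact (hm g).2 (Subtype.ext (hexp g k (congrArg Subtype.val hk)))
    rw [← h1]
    exact ⟨fun n hn g => by rw [hm] at hn ⊢; rw [conj_pow, hn]; simp⟩

end Cfsg.Agent.S3873
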