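import Cfsg.Statements.S3872
import Cfsg.Agent.H8.Misc2
import Cfsg.Agent.S3873
import Cfsg.Agent.L.PGroup

set_option autoImplicit false
open Cfsg

namespace Cfsg.Agent.S3872

open Subgroup hiding commutator_def
open Function Cfsg.Agent.Hopf Cfsg.Agent.Reg
open scoped commutatorElement Pointwise


/-- Say that a finite group is p-exponent closed when its elements of order dividing p form a subgroup. Let G be a finite p-group that is not p-exponent closed, but all of whose proper subgroups and proper quotients are. Then G is generated by two elements, has nilpotency class at least p, has exponent p², has cyclic center, and has order at least p^(p+1). -/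
theorem result {G : Type*} [Group G] [Finite G] {p : ℕ} [Fact p.Prime] (hG : IsPGroup p G)
    (hnc : ¬ (∃ H : Subgroup G, (H : Set G) = {g : G | g ^ p = 1})) (hsub : ∀ K : Subgroup G, K ≠ ⊤ → (∃ H : Subgroup ↥K, (H : Set ↥K) = {g : ↥K | g ^ p = 1}))
    (hquo : ∀ (N : Subgroup G) [N.Normal], N ≠ ⊥ → (∃ H : Subgroup (G ⧸ N), (H : Set (G ⧸ N)) = {g : (G ⧸ N) | g ^ p = 1})) :
    (∃ x y : G, Subgroup.closure ({x, y} : Set G) = ⊤) ∧ (⊤ : Subgroup G).lowerCentralSeries (p - 1) ≠ ⊥ ∧
      Monoid.exponent G = p ^ 2 ∧ IsCyclic ↥(Subgroup.center G) ∧ p ^ (p + 1) ≤ Nat.card G := by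
  have hp : p.Prime := Fact.out
  obtain ⟨x, y, hx, hy, hxy, hgen⟩ := S3873.gen_of hnc hsub
  have hq : ∀ (N : Subgroup G) [N.Normal], N ≠ ⊥ → ∀ z : G, z ^ p ∈ N := fun N _ hN z => by
    rw [← QuotientGroup.eq_one_iff, QuotientGroup.mk_pow]
    exact S3873.exp_of _ (QuotientGroup.mk'_surjective N) (S3873.gen_of' hx hy hgen) (hquo N hN) _
  have hx1 : x ≠ 1 := by
    rintro rfl
    exact hxy (by simpa using hy)
  haveI : Nontrivial G := ⟨x, 1, hx1⟩
  have hlcs : (⊤ : Subgroup G).lowerCentralSeries (p - 1) ≠ ⊥ := by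
    intro h
    have h1 : R1 G p := r1_of_lcs hG fun a b =>
      ((Subgroup.lowerCentralSeries_mono (p - 1) le_top).trans h.le).trans bot_le
    refine hnc ⟨h1.Om 1, Set.ext fun g => ?_⟩
    rw [SetLike.mem_coe, h1.mem_Om, pow_one]; rfl
  have hzp : ∀ z ∈ center G, z ≠ 1 → ∀ g : G, g ^ p ∈ zpowers z := by
    intro z hz h1
    haveI : (zpowers z).Normal := nrm_of_cen (zpowers_le_of_mem hz)
    exact hq _ (by simpa using h1)
  refine ⟨⟨x, y, hgen⟩, hlcs, ?_, ?_, ?_⟩
  · have hZ1 : center G ≠ ⊥ := (nontrivial_iff_ne_bot _).1 hG.center_nontrivial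
    obtain ⟨z, hz, hz1⟩ := H1.exists_mem_orderOf_eq_prime hp
      (H1.dvd_card_of_isPGroup_of_ne_bot (hG.to_subgroup _) hZ1)
    have h1 : Monoid.exponent G ∣ p ^ 2 := by
      rw [Monoid.exponent_dvd_iff_forall_pow_eq_one]
      intro g
      have := H1.pow_card_eq_one_of_mem (hzp z hz (by
        rintro rfl; exact hp.one_lt.ne (by simpa using hz1)) g)
      rwa [Nat.card_zpowers, hz1, ← pow_mul, ← sq] at this
    obtain ⟨k, hk, e⟩ := (Nat.dvd_prime_pow hp).1 h1
    rw [e]
    congr 1
    by_contra hc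
    refine hxy (Monoid.exponent_dvd_iff_forall_pow_eq_one.1 ?_ _)
    rw [e]
    simpa using pow_dvd_pow p (show k ≤ 1 by omega)
  · by_contra hc
    obtain ⟨E, _, hEZ, hE, hE2⟩ := L.exists_normal_elementary_sq_le hG (A := center G) hc
    have h1 : (x * y) ^ p ∈ E := hq E (fun e => by
      rw [e, card_bot] at hE2; exact (Nat.one_lt_pow two_ne_zero hp.one_lt).ne hE2) _
    have h2 : ¬ E ≤ zpowers ((x * y) ^ p) := by
      intro h
      have := card_le_of_le h
      rw [hE2, Nat.card_zpowers, orderOf_eq_prime (hE.2 _ h1) hxy] at this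
      nlinarith [hp.one_lt]
    obtain ⟨z, hz, hz'⟩ := SetLike.not_le_iff_exists.1 h2
    have hz1 : z ≠ 1 := by rintro rfl; exact hz' (one_mem _)
    have h3 := hzp z (hEZ hz) hz1 (x * y)
    refine hz' ?_
    rw [H1.eq_of_le_of_card_prime (Q := zpowers z) (by
      rw [Nat.card_zpowers, orderOf_eq_prime (hE.2 _ hz) hz1]; exact hp) (zpowers_le_of_mem h3)
      (by simpa using hxy)]
    exact mem_zpowers z
  · obtain ⟨m, hm⟩ := IsPGroup.iff_card.1 hG
    haveI := hG.isNilpotent
    have h1 : 1 < m := by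
      by_contra hc
      refine hxy (orderOf_dvd_iff_pow_eq_one.1 ((_root_.orderOf_dvd_natCard _).trans ?_))
      rw [hm]
      simpa using pow_dvd_pow p (show m ≤ 1 by omega)
    have h2 := L.nilpotencyClass_le_of_card p m G hm h1
    rw [Ne, Subgroup.lowerCentralSeries_eq_bot_iff_nilpotencyClass_le] at hlcs
    rw [hm]
    exact Nat.pow_le_pow_right hp.pos (by have := hp.two_le; omega)

end Cfsg.Agent.S3872
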