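import Cfsg.Statements.S3889
import Cfsg.Agent.H8.Misc

set_option autoImplicit false
open Cfsg

namespace Cfsg.Agent.S3889

open Subgroup hiding commutator_def
open Function Cfsg.Agent.Hopf Cfsg.Agent.Reg
open scoped commutatorElement Pointwise


/-- A finite abelian group that is the union of a family of proper subgroups any two of which intersect trivially is elementary abelian: its exponent is a prime. -/
theorem result {G : Type*} [CommGroup G] [Finite G] (𝓑 : Set (Subgroup G)) (hprop : ∀ B ∈ 𝓑, B ≠ ⊤)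
    (hcov : ∀ g : G, ∃ B ∈ 𝓑, g ∈ B) (hdisj : ∀ B ∈ 𝓑, ∀ C ∈ 𝓑, B ≠ C → B ⊓ C = ⊥) :
    (Monoid.exponent G).Prime := by
  have key : ∀ x y : G, ∀ B ∈ 𝓑, x ∈ B → y ∉ B → orderOf x ∣ orderOf y := by
    intro x y B hB hx hy
    obtain ⟨D, hD, h⟩ := hcov (x * y)
    have h1 : B ≠ D := by
      rintro rfl
      exact hy ((mul_mem_cancel_left hx).1 h)
    rw [orderOf_dvd_iff_pow_eq_one, ← mem_bot, ← hdisj B hB D hD h1]
    refine mem_inf.2 ⟨pow_mem hx _, ?_⟩
    have := pow_mem h (orderOf y)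
    rwa [mul_pow, pow_orderOf_eq_one, mul_one] at this
  have key2 : ∀ x y : G, ∀ B ∈ 𝓑, x ∈ B → x ≠ 1 → y ∉ B → orderOf x = orderOf y := by
    intro x y B hB hx h1 hy
    obtain ⟨C, hC, h⟩ := hcov y
    refine Nat.dvd_antisymm (key x y B hB hx hy) (key y x C hC h fun h2 => h1 ?_)
    rw [← mem_bot, ← hdisj B hB C hC (by rintro rfl; exact hy h)]
    exact mem_inf.2 ⟨hx, h2⟩
  have hout : ∀ B ∈ 𝓑, ∃ y, y ∉ B := fun B hB => by
    by_contra hc
    push Not at hc
    exact hprop B hB (eq_top_iff.2 fun x _ => hc x)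
  have key3 : ∀ x y : G, x ≠ 1 → y ≠ 1 → orderOf x = orderOf y := by
    intro x y hx hy
    obtain ⟨B, hB, h⟩ := hcov x
    by_cases h1 : y ∈ B
    · obtain ⟨z, hz⟩ := hout B hB
      rw [key2 x z B hB h hx hz, key2 y z B hB h1 hy hz]
    · exact key2 x y B hB h hx h1
  obtain ⟨B, hB, h⟩ := hcov 1
  obtain ⟨y, hy⟩ := hout B hB
  haveI : Nontrivial G := ⟨y, 1, by rintro rfl; exact hy h⟩
  obtain ⟨p, hp, hd⟩ := Nat.exists_prime_and_dvd (Finite.one_lt_card (α := G)).ne'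
  haveI := Fact.mk hp
  obtain ⟨x, hx⟩ := exists_prime_orderOf_dvd_card' p hd
  have hx1 : x ≠ 1 := by rintro rfl; exact hp.one_lt.ne (by simpa using hx)
  rw [(Monoid.exponent_eq_prime_iff hp).2 fun g hg => (key3 g x hg hx1).trans hx]
  exact hp

end Cfsg.Agent.S3889
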