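import Cfsg.Statements.S3890
import Cfsg.Agent.B.NilCov

set_option autoImplicit false
open Cfsg

namespace Cfsg.Agent.S3890

open Cfsg.Agent Subgroup
open scoped Pointwise commutatorElement

/-- A cover of a group is a finite set of proper subgroups whose union is the whole group; it is minimal when no cover has fewer members, and nilpotent when all its members are nilpotent. Let G be a finite group with trivial center admitting a nilpotent minimal cover 𝓐, and let P be an abelian Sylow p-subgroup of G that is not normal. Then either P is elementary abelian of order greater than p, or P is a Sylow p-subgroup of some member A of 𝓐, the normalizer N of P is a maximal subgroup of G, N meets each of its conjugates by elements outside N in a subgroup of order prime to p, and the centralizer of P equals A. -/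
theorem result {G : Type*} [Group G] [Finite G] (hZ : Subgroup.center G = ⊥) (𝓐 : Finset (Subgroup G))
    (h𝓐 : ((∀ A ∈ 𝓐, A ≠ ⊤) ∧ (∀ g : G, ∃ A ∈ 𝓐, g ∈ A)) ∧ (∀ 𝓑 : Finset (Subgroup G), (∀ A ∈ 𝓑, A ≠ ⊤) ∧ (∀ g : G, ∃ A ∈ 𝓑, g ∈ A) → 𝓐.card ≤ 𝓑.card) ∧ (∀ A ∈ 𝓐, Group.IsNilpotent ↥A)) {p : ℕ} [Fact p.Prime] (P : Sylow p G) (hab : IsMulCommutative ↥(P : Subgroup G))
    (hnn : ¬ (P : Subgroup G).Normal) :
    (Cfsg.IsElementaryAbelian p (P : Subgroup G) ∧ p < Nat.card ↥(P : Subgroup G)) ∨
    (∃ A ∈ 𝓐, (P : Subgroup G) ≤ A ∧ ¬ p ∣ ((P : Subgroup G).subgroupOf A).index ∧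
      IsCoatom (Subgroup.normalizer ((P : Subgroup G) : Set G)) ∧
      (∀ g : G, g ∉ Subgroup.normalizer ((P : Subgroup G) : Set G) →
        ¬ p ∣ Nat.card ↥(Subgroup.normalizer ((P : Subgroup G) : Set G) ⊓
          (Subgroup.normalizer ((P : Subgroup G) : Set G)).map (MulAut.conj g).toMonoidHom)) ∧
      Subgroup.centralizer ((P : Subgroup G) : Set G) = A) := by
  have h : NilCov.NMC 𝓐 := h𝓐
  have hP1 : (P : Subgroup G) ≠ ⊥ := fun h => hnn (h ▸ inferInstance)
  by_cases hE : Cfsg.IsElementaryAbelian p (P : Subgroup G) ∧ p < Nat.card ↥(P : Subgroup G)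
  · exact Or.inl hE
  right
  have hP : IsCyclic (P : Subgroup G) ∨ ¬ IsElementaryAbelian p (P : Subgroup G) := by
    by_cases h1 : IsElementaryAbelian p (P : Subgroup G)
    · left
      have h2 : Nat.card (P : Subgroup G) ≤ p := not_lt.1 fun h => hE ⟨h1, h⟩
      obtain ⟨k, hk⟩ := IsPGroup.iff_card.1 P.2
      have hp := (Fact.out : p.Prime)
      rcases k with _ | _ | k
      · exact absurd (card_eq_one.1 (by simpa using hk)) hP1
      · exact isCyclic_of_prime_card (p := p) (by simpa using hk)
      · exfalso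
        rw [hk] at h2
        have := Nat.pow_lt_pow_right hp.one_lt (show 1 < k + 1 + 1 by omega)
        rw [pow_one] at this
        omega
    · exact Or.inr h1
  obtain ⟨hA, hPA⟩ := h.conj hZ P hab hP1 hP P
  refine ⟨_, hA, hPA, ?_, h.coatom hZ P hab hnn hP, ?_, rfl⟩
  · intro hd
    exact P.not_dvd_index (hd.trans (relIndex_dvd_index_of_le hPA))
  · intro g hg hd
    obtain ⟨x, hx⟩ := exists_prime_orderOf_dvd_card' p hd
    have hxo : orderOf (x : G) = p := by rw [orderOf_coe, hx]
    have key : ∀ (Q : Sylow p G), (x : G) ∈ normalizer ((Q : Subgroup G) : Set G) → (x : G) ∈ (Q : Subgroup G) := by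
      intro Q hQ
      have h1 : IsPGroup p (zpowers (x : G)) := IsPGroup.of_card (n := 1) (by rw [Nat.card_zpowers, hxo, pow_one])
      have h3 := IsPGroup.to_sup_of_normal_right' h1 Q.2 (zpowers_le.2 hQ)
      have h4 := Q.3 h3 le_sup_right
      rw [← h4]
      exact le_sup_left (a := zpowers (x : G)) (mem_zpowers _)
    have h1 := key P x.2.1
    have h2 := key (g • P) (by
      obtain ⟨y, hy, hyx⟩ := x.2.2
      refine Sylow.smul_eq_iff_mem_normalizer.1 ?_
      rw [← hyx]
      have : y • P = P := Sylow.smul_eq_iff_mem_normalizer.2 hy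
      simp only [MulEquiv.coe_toMonoidHom, MulAut.conj_apply]
      rw [← mul_smul, inv_mul_cancel_right, mul_smul, this])
    obtain ⟨hB, hQB⟩ := h.conj hZ P hab hP1 hP (g • P)
    have hx1 : (x : G) ≠ 1 := by
      intro h
      rw [h, orderOf_one] at hxo
      exact (Fact.out : p.Prime).one_lt.ne hxo
    have h3 := h.uniq hZ P hab hA hB hx1 ⟨1, by simpa using hxo⟩ (hPA h1) (hQB h2)
    exact hg (Sylow.smul_eq_iff_mem_normalizer.1 (h.syl_eq hZ P hab hP1 hP _ h3).symm)

end Cfsg.Agent.S3890
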