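import Cfsg.Statements.S3892
import Cfsg.Agent.B.NilCov

set_option autoImplicit false
open Cfsg

namespace Cfsg.Agent.S3892

open Cfsg.Agent Subgroup
open scoped Pointwise commutatorElement
theorem big {G : Type*} [Group G] [Finite G] {n : ℕ} (hn : 6 ≤ n) (φ : G →* Equiv.Perm (Fin n))
    (hφ : Function.Injective φ) (hs : ∀ g : Equiv.Perm (Fin n), Equiv.Perm.sign g = 1 → ∃ x, φ x = g)
    (𝓐 : Finset (Subgroup G)) : ¬ NilCov.NMC 𝓐 := by
  intro h
  obtain ⟨p, hp, h1, h2⟩ := Nat.exists_prime_lt_and_le_two_mul (n / 2) (by omega)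
  have hodd := hp.eq_two_or_odd
  have hp5 : 5 ≤ p := by omega
  have hpn : p < n := by omega
  have hp2 : ¬ p * p ∣ Nat.card G := by
    intro hd
    have h3 := hd.trans (card_dvd_of_injective φ hφ)
    rw [Nat.card_perm, Nat.card_fin] at h3
    have h4 : ∀ m, m < 2 * p → ¬ p * p ∣ m.factorial := by
      intro m hm hd
      have h5 := (hp.pow_dvd_factorial_iff (n := m) (r := 2) (b := m + 2) (lt_of_le_of_lt (Nat.log_le_self _ _) (by omega))).1 (by rwa [pow_two])
      rw [Finset.sum_eq_single 1] at h5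
      · have := (Nat.div_lt_iff_lt_mul hp.pos).2 hm
        simp at h5
        omega
      · intro b hb hb1
        apply Nat.div_eq_of_lt
        have h6 : 2 ≤ b := by
          have := (Finset.mem_Ico.1 hb).1
          omega
        have h7 := Nat.pow_le_pow_right hp.pos h6
        nlinarith
      · intro hb
        exact absurd (Finset.mem_Ico.2 ⟨le_rfl, by omega⟩) hb
    exact h4 n (by omega) h3
  obtain ⟨c, hc⟩ := (Equiv.Perm.exists_with_cycleType_iff (Fin n) (m := {p})).2 ⟨by simp; omega, by simp; omega⟩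
  have hcy : c.IsCycle := Equiv.Perm.card_cycleType_eq_one.1 (by simp [hc])
  have hsup : c.support.card = p := by rw [← Equiv.Perm.sum_cycleType, hc]; simp
  have hco : orderOf c = p := by rw [hcy.orderOf, hsup]
  have hsg : Equiv.Perm.sign c = 1 := by
    rw [hcy.sign, hsup, Odd.neg_one_pow (Nat.odd_iff.2 (by omega))]; simp
  obtain ⟨a, ha, -⟩ := id hcy
  have hpw : ∀ k, 0 < k → k < 5 → (c ^ k) a ≠ a := by
    intro k hk hk5 he
    have := Nat.le_of_dvd hk (orderOf_dvd_of_pow_eq_one ((hcy.pow_eq_one_iff' ha).2 he))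
    omega
  set s := Equiv.swap a (c a) with hsd
  set d := s * c * s⁻¹ with hd
  obtain ⟨x, hx⟩ := hs c hsg
  obtain ⟨y, hy⟩ := hs d (by simp [hd, hsg])
  have haS : a ∈ c.support := Equiv.Perm.mem_support.2 ha
  have hcaS : c a ∈ c.support := Equiv.Perm.apply_mem_support.2 haS
  have hds : d.support = c.support := by
    ext i
    rw [hd, Equiv.Perm.support_conj, Finset.mem_map_equiv, hsd, Equiv.symm_swap]
    by_cases e1 : i = a
    · rw [e1, Equiv.swap_apply_left]; exact iff_of_true hcaS haS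
    by_cases e2 : i = c a
    · rw [e2, Equiv.swap_apply_right]; exact iff_of_true haS hcaS
    rw [Equiv.swap_apply_of_ne_of_ne e1 e2]
  let M : Subgroup G :=
    { carrier := {g | ∀ i, φ g i ∈ c.support ↔ i ∈ c.support}
      one_mem' := by intro i; simp
      mul_mem' := by
        intro u v hu hv i
        rw [map_mul, Equiv.Perm.mul_apply, hu, hv]
      inv_mem' := by
        intro u hu i
        rw [← hu, ← Equiv.Perm.mul_apply, ← map_mul, mul_inv_cancel, map_one]; rfl }
  have hM : M ≠ ⊤ := by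
    intro ht
    obtain ⟨b, hb⟩ : ∃ b, b ∉ c.support := by
      by_contra hc
      push Not at hc
      rw [Finset.eq_univ_of_forall hc] at hsup
      simp at hsup
      omega
    obtain ⟨g, hg⟩ := hs (Equiv.swap a b * s) (by
      have : a ≠ b := fun h => hb (h ▸ haS)
      simp [hsd, this, ha.symm])
    have h5 : g ∈ M := ht ▸ mem_top g
    have h6 := (h5 (c a)).2 hcaS
    rw [hg, Equiv.Perm.mul_apply, hsd, Equiv.swap_apply_right, Equiv.swap_apply_left] at h6
    exact hb h6
  have hcomm := h.comm hp hp2 (x := x) (y := y) (M := M) (by rw [← orderOf_injective φ hφ, hx, hco])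
    (by rw [← orderOf_injective φ hφ, hy, hd, ← hco]; exact (MulAut.conj s).orderOf_eq c) hM
    (by
      intro g hg i
      have : Commute (φ g) c := by
        have := congrArg φ hg
        rwa [map_mul, map_mul, hx] at this
      exact Equiv.Perm.mem_support_iff_of_commute this i)
    (by
      intro g hg i
      have : Commute (φ g) d := by
        have := congrArg φ hg
        rwa [map_mul, map_mul, hy] at this
      exact hds ▸ Equiv.Perm.mem_support_iff_of_commute this i)
  have h7 := congrArg (fun g => φ g a) hcomm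
  simp only [map_mul, hx, hy, hd, Equiv.Perm.mul_apply, hsd, Equiv.swap_inv, Equiv.swap_apply_left, Equiv.swap_apply_right] at h7
  have e2 : c (c a) ≠ a := by simpa [pow_succ] using hpw 2 (by omega) (by omega)
  have e3 : c (c a) ≠ c a := fun h => ha (c.injective h)
  rw [Equiv.swap_apply_of_ne_of_ne e2 e3] at h7
  exact hpw 3 (by omega) (by omega) (by simpa [pow_succ] using h7.symm)

def c3 (n : ℕ) : Equiv.Perm (Fin (n + 4)) := Equiv.swap 0 1 * Equiv.swap 1 2
def d3 (n : ℕ) : Equiv.Perm (Fin (n + 4)) := Equiv.swap 0 1 * Equiv.swap 1 3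
def c5 : Equiv.Perm (Fin 5) := Equiv.swap 0 1 * Equiv.swap 1 2 * Equiv.swap 2 3 * Equiv.swap 3 4
def d5 : Equiv.Perm (Fin 5) := Equiv.swap 0 2 * Equiv.swap 1 2 * Equiv.swap 1 3 * Equiv.swap 3 4

theorem t4 : ∀ g : Equiv.Perm (Fin 4), (g * c3 0 = c3 0 * g → Equiv.Perm.sign g = 1) ∧ (g * d3 0 = d3 0 * g → Equiv.Perm.sign g = 1) := by
  decide +kernel
theorem t5 : ∀ g : Equiv.Perm (Fin 5), (g * c5 = c5 * g → Equiv.Perm.sign g = 1) ∧ (g * d5 = d5 * g → Equiv.Perm.sign g = 1) := by
  decide +kernel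
theorem t5' : ∀ g : Equiv.Perm (Fin 5), Equiv.Perm.sign g = 1 → (g * c3 1 = c3 1 * g → g 4 = 4) ∧ (g * d3 1 = d3 1 * g → g 4 = 4) := by
  decide +kernel

theorem altne {n : ℕ} (hn : 2 ≤ n) : alternatingGroup (Fin n) ≠ ⊤ := by
  intro h
  haveI : Nontrivial (Fin n) := Fin.nontrivial_iff_two_le.2 hn
  have := alternatingGroup.index_eq_two (α := Fin n)
  rw [h, index_top] at this
  omega

/-- A cover of a group is a finite set of proper subgroups whose union is the whole group; it is minimal when no cover has fewer members, and nilpotent when all its members are nilpotent. The alternating groups of degree at least 5 and the symmetric groups of degree at least 4 have no nilpotent minimal cover. -/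
theorem result (n : ℕ) :
    (5 ≤ n → ¬ ∃ 𝓐 : Finset (Subgroup ↥(alternatingGroup (Fin n))), ((∀ A ∈ 𝓐, A ≠ ⊤) ∧ (∀ g : ↥(alternatingGroup (Fin n)), ∃ A ∈ 𝓐, g ∈ A)) ∧ (∀ 𝓑 : Finset (Subgroup ↥(alternatingGroup (Fin n))), (∀ A ∈ 𝓑, A ≠ ⊤) ∧ (∀ g : ↥(alternatingGroup (Fin n)), ∃ A ∈ 𝓑, g ∈ A) → 𝓐.card ≤ 𝓑.card) ∧ (∀ A ∈ 𝓐, Group.IsNilpotent ↥A)) ∧
    (4 ≤ n → ¬ ∃ 𝓐 : Finset (Subgroup (Equiv.Perm (Fin n))), ((∀ A ∈ 𝓐, A ≠ ⊤) ∧ (∀ g : (Equiv.Perm (Fin n)), ∃ A ∈ 𝓐, g ∈ A)) ∧ (∀ 𝓑 : Finset (Subgroup (Equiv.Perm (Fin n))), (∀ A ∈ 𝓑, A ≠ ⊤) ∧ (∀ g : (Equiv.Perm (Fin n)), ∃ A ∈ 𝓑, g ∈ A) → 𝓐.card ≤ 𝓑.card) ∧ (∀ A ∈ 𝓐, Group.IsNilpotent ↥A)) := by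
  haveI : Fact (Nat.Prime 3) := ⟨by norm_num⟩
  haveI : Fact (Nat.Prime 5) := ⟨by norm_num⟩
  refine ⟨fun hn ⟨𝓐, h⟩ => ?_, fun hn ⟨𝓐, h⟩ => ?_⟩
  · have h' : NilCov.NMC 𝓐 := h
    rcases hn.eq_or_lt with rfl | hn
    · have := h'.comm (p := 3) (by norm_num) (by
          rw [nat_card_alternatingGroup, Nat.card_fin]; decide)
        (x := ⟨c3 1, by rw [Equiv.Perm.mem_alternatingGroup]; decide +kernel⟩)
        (y := ⟨d3 1, by rw [Equiv.Perm.mem_alternatingGroup]; decide +kernel⟩)
        (by rw [← orderOf_coe]; exact orderOf_eq_prime (by decide +kernel) (by decide +kernel))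
        (by rw [← orderOf_coe]; exact orderOf_eq_prime (by decide +kernel) (by decide +kernel))
        (M := MulAction.stabilizer (alternatingGroup (Fin 5)) (4 : Fin 5)) (by
          intro ht
          have h1 : (⟨c5, by rw [Equiv.Perm.mem_alternatingGroup]; decide +kernel⟩ : alternatingGroup (Fin 5)) ∈
            MulAction.stabilizer (alternatingGroup (Fin 5)) (4 : Fin 5) := ht ▸ mem_top _
          have h2 : c5 4 = 4 := h1
          exact absurd h2 (by decide +kernel))
        (fun g hg => (t5' g g.2).1 (congrArg Subtype.val hg))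
        (fun g hg => (t5' g g.2).2 (congrArg Subtype.val hg))
      have h3 : d3 1 * c3 1 = c3 1 * d3 1 := congrArg Subtype.val this
      exact absurd h3 (by decide +kernel)
    · exact big hn (alternatingGroup (Fin n)).subtype (subtype_injective _) (fun g hg => ⟨⟨g, hg⟩, rfl⟩) 𝓐 h'
  · have h' : NilCov.NMC 𝓐 := h
    rcases hn.eq_or_lt with rfl | hn
    · have := h'.comm (p := 3) (by norm_num) (by rw [Nat.card_perm, Nat.card_fin]; decide)
        (x := c3 0) (y := d3 0)
        (orderOf_eq_prime (by decide +kernel) (by decide +kernel))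
        (orderOf_eq_prime (by decide +kernel) (by decide +kernel))
        (altne (by omega)) (fun g hg => (t4 g).1 hg) (fun g hg => (t4 g).2 hg)
      exact absurd this (by decide +kernel)
    rcases (Nat.succ_le_of_lt hn).eq_or_lt with rfl | hn
    · have := h'.comm (p := 5) (by norm_num) (by rw [Nat.card_perm, Nat.card_fin]; decide)
        (x := c5) (y := d5)
        (orderOf_eq_prime (by decide +kernel) (by decide +kernel))
        (orderOf_eq_prime (by decide +kernel) (by decide +kernel))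
        (altne (by omega)) (fun g hg => (t5 g).1 hg) (fun g hg => (t5 g).2 hg)
      exact absurd this (by decide +kernel)
    · exact big hn (MonoidHom.id _) Function.injective_id (fun g _ => ⟨g, rfl⟩) 𝓐 h'

end Cfsg.Agent.S3892
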