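import Cfsg.Statements.S3893
import Cfsg.Agent.H5.Sz5

set_option autoImplicit false
open Cfsg

namespace Cfsg.Agent.S3893

/-- A cover of a group is a finite set of proper subgroups whose union is the whole group; it is minimal when no cover has fewer members, and nilpotent when all its members are nilpotent. The Suzuki groups Sz(q), q = 2^(2m+1) with m ≥ 1, have no nilpotent minimal cover. -/
theorem result {F : Type*} [Field F] [Fintype F] (m : ℕ) (hm : 1 ≤ m) (hF : Fintype.card F = 2 ^ (2 * m + 1)) :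
    ¬ ∃ 𝓐 : Finset (Subgroup ↥(Cfsg.Lie.Sz F (2 ^ (m + 1)))), ((∀ A ∈ 𝓐, A ≠ ⊤) ∧ (∀ g : ↥(Cfsg.Lie.Sz F (2 ^ (m + 1))), ∃ A ∈ 𝓐, g ∈ A)) ∧ (∀ 𝓑 : Finset (Subgroup ↥(Cfsg.Lie.Sz F (2 ^ (m + 1)))), (∀ A ∈ 𝓑, A ≠ ⊤) ∧ (∀ g : ↥(Cfsg.Lie.Sz F (2 ^ (m + 1))), ∃ A ∈ 𝓑, g ∈ A) → 𝓐.card ≤ 𝓑.card) ∧ (∀ A ∈ 𝓐, Group.IsNilpotent ↥A) := by
  have := H5.Suz.charP hF
  obtain ⟨inst, ⟨Z⟩⟩ := (H5.Suz.szO hm hF).exists_lie hF
  have hq := H5.Suz.natCard_eq hF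
  classical
  rintro ⟨𝓐, ⟨h1, h2⟩, h3, h4⟩
  choose A hA hg using h2
  have := Fintype.ofFinite (suzukiOvoid F m)
  have := Z.trans
  let S := 𝓐.filter fun A => ∃ a : suzukiOvoid F m, A ≤ MulAction.stabilizer _ a
  have h5 := h3 ((𝓐 \ S) ∪ Finset.univ.image fun a : suzukiOvoid F m => MulAction.stabilizer _ a) ⟨fun B hB => by
    rcases Finset.mem_union.1 hB with h | h
    · exact h1 B (Finset.mem_sdiff.1 h).1
    · obtain ⟨a, -, rfl⟩ := Finset.mem_image.1 h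
      exact (Z.coatom a).1, fun g => by
    by_cases h : A g ∈ S
    · obtain ⟨a, h⟩ := (Finset.mem_filter.1 h).2
      exact ⟨_, Finset.mem_union_right _ (Finset.mem_image_of_mem _ (Finset.mem_univ a)), h (hg g)⟩
    · exact ⟨_, Finset.mem_union_left _ (Finset.mem_sdiff.2 ⟨hA g, h⟩), hg g⟩⟩
  have key : ∀ g, g ≠ 1 → ∃ z, z ≠ 1 ∧ z * g = g * z ∧ ∀ x ∈ A g, x * z = z * x := fun g h => by
    have := h4 _ (hA g)
    obtain ⟨z, -, h1, h2⟩ := H5.Suz.nil_le (A := A g) fun e => h (Subgroup.mem_bot.1 (e ▸ hg g))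
    exact ⟨z, h1, (h2 g (hg g)).symm, h2⟩
  have ex : ∀ a, ∃ x ∈ Z.K a, x ≠ 1 := fun a => by
    obtain ⟨g, rfl⟩ := MulAction.exists_smul_eq (Lie.Sz F (2 ^ (m + 1))) Z.inf a
    exact ⟨_, Z.conj_mem_K.2 (Z.u_mem 0 1), by simp [Z.u_eq_one]⟩
  choose x hx x1 using ex
  have hK : ∀ a, A (x a) ≤ Z.K a := fun a y hy => by
    obtain ⟨z, z1, h, h'⟩ := key _ (x1 a)
    exact Z.cent_K (Z.cent_K (hx a) (x1 a) h) z1 (h' y hy)
  obtain ⟨k, k0, k1⟩ := Z.two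
  have hk : Z.h (Units.mk0 k k0) ≠ 1 := fun e => k1 (congrArg Units.val (Z.h_inj (e.trans (map_one _).symm)))
  have hk' := Z.mem_St.2 ⟨Units.mk0 k k0, rfl⟩
  have hS : A (Z.h (Units.mk0 k k0)) ≤ H7.St _ Z.inf Z.o := fun y hy => by
    obtain ⟨z, z1, h, h'⟩ := key _ hk
    exact Z.cent_St Z.inf_ne_o (Z.cent_St Z.inf_ne_o hk' hk h) z1 (h' y hy)
  have hn : ∀ a, A (x a) ≠ A (Z.h (Units.mk0 k k0)) := fun a e =>
    x1 a (H5.Suz.eq_one_of_odd (Z.odd_St Z.inf_ne_o) (hS (e ▸ hg _)) (n := 2) (hx a).2)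
  have h6 : (Finset.univ : Finset (Option (suzukiOvoid F m))).card ≤ S.card :=
    Finset.card_le_card_of_injOn (fun p => A (p.elim (Z.h (Units.mk0 k k0)) x)) (by
      rintro (_ | a) -
      exacts [Finset.mem_filter.2 ⟨hA _, _, hS.trans inf_le_left⟩, Finset.mem_filter.2 ⟨hA _, a, fun y hy => (hK a hy).1⟩]) (by
      rintro (_ | a) - (_ | b) - e
      exacts [rfl, (hn b e.symm).elim, (hn a e).elim, congrArg some (Z.fix_unique (hK b (show x a ∈ A (x b) from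
        (show A (x a) = A (x b) from e) ▸ hg _)) (x1 a) (hx a).1)])
  have h7 := Finset.card_union_le (𝓐 \ S) (Finset.univ.image fun a : suzukiOvoid F m => MulAction.stabilizer (Lie.Sz F (2 ^ (m + 1))) a)
  have h8 := Finset.card_image_le (s := Finset.univ) (f := fun a : suzukiOvoid F m => MulAction.stabilizer (Lie.Sz F (2 ^ (m + 1))) a)
  have h9 := Finset.card_sdiff_add_card_eq_card (s := S) (Finset.filter_subset _ 𝓐)
  simp only [Finset.card_univ, Fintype.card_option] at h6 h8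
  omega

end Cfsg.Agent.S3893
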