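import Cfsg.Statements.S3904
import Mathlib
import Cfsg.Agent.S0556
import Cfsg.Agent.S4040
import Cfsg.Agent.H1.Frattini

set_option autoImplicit false
open Cfsg

namespace Cfsg.Agent.S3904

open Cfsg.Agent.H1 Subgroup
open scoped commutatorElement

section
variable {G : Type*} [Group G]

/-- centralizer of an element -/
abbrev C (x : G) : Subgroup G := centralizer ({x} : Set G)

theorem memC {x g : G} : g ∈ C x ↔ Commute g x := mem_centralizer_singleton_iff

theorem cen_of {x : G} (h : C x = ⊤) : x ∈ center G := mem_center_iff.2 fun g => memC.1 (h ▸ mem_top g)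

theorem Z_le (x : G) : center G ≤ C x := fun _ hz => memC.2 (mem_center_iff.1 hz x).symm

theorem l0 {x w : G} (h : (x : G ⧸ center G) ∈ zpowers (w : G ⧸ center G)) : C w ≤ C x := fun g hg => by
  obtain ⟨n, hn⟩ := h
  have h1 : (w ^ n)⁻¹ * x ∈ center G := QuotientGroup.eq.1 hn
  have h2 : Commute g (w ^ n * ((w ^ n)⁻¹ * x)) := ((memC.1 hg).zpow_right n).mul_right (mem_center_iff.1 h1 g)
  rw [mul_inv_cancel_left] at h2
  exact memC.2 h2

theorem l1 {Q : Type*} [Group Q] [Finite Q] {a b : Q} (h : Commute a b) {m n : ℕ} (ha : a ^ m = 1) (hb : b ^ n = 1)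
    (hc : m.Coprime n) : a ∈ zpowers (a * b) := by
  have h1 : a ∈ zpowers (a ^ n) := mem_zpowers_pow_iff.2 (hc.symm.coprime_dvd_right (orderOf_dvd_of_pow_eq_one ha))
  refine zpowers_le.2 ?_ h1
  rw [← mul_one (a ^ n), ← hb, ← h.mul_pow]
  exact npow_mem_zpowers _ _

variable [Finite G] (h : ∀ x : G, x ∉ center G → IsCoatom (C x))
include h

theorem l2 {x y : G} (hx : x ∉ center G) (hc : Commute x y) {m n : ℕ} (ha : (x : G ⧸ center G) ^ m = 1)
    (hb : (y : G ⧸ center G) ^ n = 1) (hmn : m.Coprime n) : C x ≤ C y := by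
  have hc' : Commute (x : G ⧸ center G) y := hc.map (QuotientGroup.mk' _)
  have h1 : C (x * y) ≤ C x := l0 (l1 hc' ha hb hmn)
  have h2 : C (x * y) ≤ C y := l0 (by rw [hc.eq]; exact l1 hc'.symm hb ha hmn.symm)
  have h3 : x * y ∉ center G := fun e => hx (mem_center_iff.2 fun g => memC.1 (h1 (memC.2 (mem_center_iff.1 e g))))
  exact (((h _ h3).le_iff.1 h1).resolve_left (h x hx).1).trans_le h2

theorem dich {p k : ℕ} (hp : p.Prime) {x : G} (hx : x ∉ center G) (hk : (x : G ⧸ center G) ^ p ^ k = 1) :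
    (∀ a ∈ C x, C x ≤ C a) ∨ ∀ g ∈ C x, ∃ j, (g : G ⧸ center G) ^ p ^ j = 1 := by
  have dec : ∀ c : G ⧸ center G, ∃ i n, p.Coprime n ∧ c ^ (p ^ i * n) = 1 := fun c => by
    obtain ⟨i, n, h1, h2⟩ := Nat.exists_eq_pow_mul_and_not_dvd (orderOf_pos c).ne' p hp.ne_one
    exact ⟨i, n, hp.coprime_iff_not_dvd.2 h1, h2 ▸ pow_orderOf_eq_one c⟩
  refine or_iff_not_imp_right.2 fun hn c hc => ?_
  push Not at hn
  obtain ⟨g, hg, hj⟩ := hn
  obtain ⟨j, m, hm, e⟩ := dec g
  obtain ⟨i, n, hn, e'⟩ := dec c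
  have hy : g ^ p ^ j ∉ center G := fun e => hj j ((QuotientGroup.eq_one_iff _).2 e)
  have e1 : ((g ^ p ^ j : G) : G ⧸ center G) ^ m = 1 := by rw [QuotientGroup.mk_pow, ← pow_mul, e]
  have h1 := l2 h hx ((memC.1 hg).symm.pow_right _) hk e1 (hm.pow_left k)
  have h2 := l2 h hx ((memC.1 hc).symm.pow_right (p ^ i)) hk (by rw [QuotientGroup.mk_pow, ← pow_mul, e'])
    (hn.pow_left k)
  have h3 := l2 h hy ((memC.1 (h1 hc)).symm.pow_right n) e1 (by rw [QuotientGroup.mk_pow, ← pow_mul, mul_comm, e'])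
    (hm.symm.pow_right i)
  intro a ha
  obtain ⟨u, v, huv⟩ := Nat.isCoprime_iff_coprime.2 (hn.pow_left i)
  have h4 := ((memC.1 (h2 ha)).zpow_right u).mul_right ((memC.1 (h3 (h1 ha))).zpow_right v)
  rw [← zpow_natCast, ← zpow_natCast, ← zpow_mul, ← zpow_mul, ← zpow_add, mul_comm, mul_comm _ v, huv, zpow_one] at h4
  exact memC.2 h4

theorem case1 {p : ℕ} (hp : p.Prime) (hQ : IsPGroup p (G ⧸ center G)) :
    IsElementaryAbelian p (⊤ : Subgroup (G ⧸ center G)) := by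
  haveI := Fact.mk hp
  haveI := hQ.isNilpotent
  haveI : Group.IsNilpotent G := Subgroup.isNilpotent_of_ker_le_center (QuotientGroup.mk' (center G)) (by simp)
  have key : ∀ w : G, (∀ (M : Subgroup G) [M.Normal], M.index = p → w ∈ M) → (w : G ⧸ center G) = 1 := fun w hw => by
    refine (QuotientGroup.eq_one_iff _).2 (mem_center_iff.2 fun x => ?_)
    by_cases hx : x ∈ center G
    · exact (mem_center_iff.1 hx w).symm
    haveI : (C x).Normal := NormalizerCondition.normal_of_coatom _ normalizerCondition_of_isNilpotent (h x hx)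
    have h1 := index_prime_of_isCoatom_of_normal (h x hx)
    obtain ⟨n, hn⟩ := IsPGroup.iff_card.1 hQ
    have h2 : (C x).index ∣ p ^ n := hn ▸ index_dvd_of_le (Z_le x)
    exact (memC.1 (hw _ ((Nat.prime_dvd_prime_iff_eq h1 hp).1 (h1.dvd_of_dvd_pow h2)))).symm
  refine ⟨⟨⟨fun a b => Subtype.ext ?_⟩⟩, fun a _ => ?_⟩
  · obtain ⟨a, -⟩ := a
    obtain ⟨b, -⟩ := b
    obtain ⟨a, rfl⟩ := QuotientGroup.mk_surjective a
    obtain ⟨b, rfl⟩ := QuotientGroup.mk_surjective b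
    refine commutatorElement_eq_one_iff_mul_comm.1 (key ⁅a, b⁆ fun M _ hM => (QuotientGroup.eq_one_iff _).1 ?_)
    haveI : IsCyclic (G ⧸ M) := isCyclic_of_prime_card hM
    exact commutatorElement_eq_one_iff_mul_comm.2 (IsCyclic.commutative.is_comm.comm (a : G ⧸ M) b)
  · obtain ⟨a, rfl⟩ := QuotientGroup.mk_surjective a
    exact key (a ^ p) fun M _ hM => hM ▸ M.pow_index_mem a

end

/-- Let G be a non-abelian finite group in which the centralizer of every non-central element is a maximal subgroup. Then G/Z(G) is either an elementary abelian p-group for some prime p, or a minimal non-abelian group (non-abelian with all proper subgroups abelian) of order p^a · q for distinct primes p, q with a normal Sylow p-subgroup. -/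
theorem result {G : Type*} [Group G] [Finite G] (hna : ¬ IsMulCommutative G)
    (h : ∀ x : G, x ∉ Subgroup.center G → IsCoatom (Subgroup.centralizer ({x} : Set G))) :
    (∃ p : ℕ, p.Prime ∧ Cfsg.IsElementaryAbelian p (⊤ : Subgroup (G ⧸ Subgroup.center G))) ∨
    (¬ IsMulCommutative (G ⧸ Subgroup.center G) ∧ (∀ H : Subgroup (G ⧸ Subgroup.center G), H ≠ ⊤ → IsMulCommutative ↥H) ∧
      ∃ p q a : ℕ, p.Prime ∧ q.Prime ∧ p ≠ q ∧ Nat.card (G ⧸ Subgroup.center G) = p ^ a * q ∧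
        ∀ P : Subgroup (G ⧸ Subgroup.center G), Nat.card ↥P = p ^ a → P.Normal) := by
  by_cases hp : ∃ p : ℕ, p.Prime ∧ IsPGroup p (G ⧸ center G)
  · obtain ⟨p, hp, hQ⟩ := hp
    exact .inl ⟨p, hp, case1 h hp hQ⟩
  right
  push Not at hp
  let π := QuotientGroup.mk' (center G)
  have hπ : Function.Surjective π := QuotientGroup.mk'_surjective _
  have ex : ∀ p : ℕ, p.Prime → ∃ y : G, y ∉ center G ∧ ∃ q : ℕ, q.Prime ∧ q ≠ p ∧ (y : G ⧸ center G) ^ q ^ 1 = 1 :=
    fun p hpp => by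
      by_contra hn
      push Not at hn
      refine hp p hpp (IsPGroup.of_card (Nat.eq_prime_pow_of_unique_prime_dvd Nat.card_pos.ne' fun {q} hq hd => ?_))
      haveI := Fact.mk hq
      obtain ⟨y, hy⟩ := exists_prime_orderOf_dvd_card' q hd
      obtain ⟨y, rfl⟩ := QuotientGroup.mk_surjective y
      by_contra hne
      refine hn y (fun e => hq.ne_one ?_) q hq hne (by rw [pow_one, ← hy, pow_orderOf_eq_one])
      rw [← hy, (QuotientGroup.eq_one_iff _).2 e, orderOf_one]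
  have hsol : Group.IsSolvable (G ⧸ center G) := by
    obtain ⟨y, hy, q, hq, hq2, e⟩ := ex 2 Nat.prime_two
    haveI := Fact.mk hq
    rcases dich h hq hy e with h1 | h1
    · haveI : IsMulCommutative (C y) := ⟨⟨fun a b => Subtype.ext (memC.1 (h1 b b.2 a.2))⟩⟩
      haveI : Group.IsSolvable G := ⟨⟨3, S0556.result _ (h y hy)⟩⟩
      infer_instance
    · have h2 : IsPGroup q ((C y).map π) := by
        rintro ⟨_, g, hg, rfl⟩
        exact (h1 g hg).imp fun j hj => Subtype.ext hj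
      obtain ⟨n, hn⟩ := IsPGroup.iff_card.1 h2
      exact S4040.result _ (isCoatom_map_mk' (Z_le y) (h y hy)) h2.isNilpotent (hn ▸ (hq.odd_of_ne_two hq2).pow)
  have hnt : (⊤ : Subgroup (G ⧸ center G)) ≠ ⊥ := fun e => hp 2 Nat.prime_two fun g =>
    ⟨0, by simpa using (e ▸ mem_top g : g ∈ (⊥ : Subgroup _))⟩
  obtain ⟨M, p, hMn, hM0, -, hpp, hMe, hmin⟩ := exists_minimal_normal_elementary ⊤ hnt inferInstance
  haveI := Fact.mk hpp
  obtain ⟨N, hN⟩ : ∃ N, N = M.comap π := ⟨_, rfl⟩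
  have hNm : ∀ g : G, g ∈ N ↔ (g : G ⧸ center G) ∈ M := fun g => by rw [hN]; rfl
  haveI hNn : N.Normal := hN ▸ inferInstance
  have ZN : center G ≤ N := fun z hz => (hNm z).2 (by rw [(QuotientGroup.eq_one_iff _).2 hz]; exact one_mem _)
  have sup : ∀ g, g ∉ center G → ∀ (K : Subgroup G) [K.Normal], ¬ K ≤ C g → ∀ c : G, ∃ n ∈ K, ∃ d ∈ C g, n * d = c :=
    fun g hg K _ hK c => mem_sup_of_normal_left.1 (by
      rw [sup_comm, (h g hg).2 _ (left_lt_sup.2 hK)]; exact mem_top c)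
  have key : ∀ g, g ∉ center G → ¬ N ≤ C g → C g ⊓ N ≤ center G := fun g hg hK => by
    rcases hmin ((C g).map π ⊓ M) ⟨fun m hm c => by
      obtain ⟨c, rfl⟩ := QuotientGroup.mk_surjective c
      obtain ⟨n, hn, d, hd, rfl⟩ := sup g hg N hK c
      have h1 : (d : G ⧸ center G) * m * (d : G ⧸ center G)⁻¹ ∈ (C g).map π ⊓ M :=
        mem_inf.2 ⟨mul_mem (mul_mem (mem_map_of_mem π hd) (mem_inf.1 hm).1) (inv_mem (mem_map_of_mem π hd)),
          hMn.conj_mem _ hm.2 _⟩
      have h2 : (n : G ⧸ center G) * _ = _ * n :=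
        congrArg Subtype.val (hMe.1.is_comm.comm ⟨_, (hNm n).1 hn⟩ ⟨_, h1.2⟩)
      convert h1 using 1
      rw [QuotientGroup.mk_mul, mul_inv_rev, ← mul_assoc, mul_inv_eq_iff_eq_mul, ← h2]
      simp only [mul_assoc]⟩ inf_le_right with h1 | h1
    · intro c hc
      exact (QuotientGroup.eq_one_iff _).1 (mem_bot.1 (h1.le ⟨⟨c, hc.1, rfl⟩, (hNm c).1 hc.2⟩))
    · refine absurd (fun n hn => ?_) hK
      obtain ⟨d, hd, e⟩ := (h1.ge ((hNm n).1 hn)).1
      simpa using mul_mem hd (Z_le g (QuotientGroup.eq.1 e))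
  have hab : ∀ x ∈ N, N ≤ C x := fun x hx => by
    by_cases hz : x ∈ center G
    · exact fun g _ => memC.2 (mem_center_iff.1 hz g)
    · by_contra hn
      exact hz (key x hz hn ⟨memC.2 (Commute.refl x), hx⟩)
  obtain ⟨⟨x, hxM⟩, hx1⟩ := ne_bot_iff_exists_ne_one.1 hM0
  obtain ⟨x, rfl⟩ := QuotientGroup.mk_surjective x
  have hx : x ∉ center G := fun e => hx1 (Subtype.ext ((QuotientGroup.eq_one_iff _).2 e))
  have hxN := (hNm x).2 hxM
  have xp : (x : G ⧸ center G) ^ p ^ 1 = 1 := by rw [pow_one]; exact hMe.2 _ hxM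
  have cop : ∀ {c : G} {m n : ℕ}, (c : G ⧸ center G) ^ m = 1 → (c : G ⧸ center G) ^ n = 1 → m.Coprime n →
      c ∈ center G := fun h1 h2 h3 => (QuotientGroup.eq_one_iff _).1 ((pow_eq_one_iff_of_coprime h3).1 ⟨h1, h2⟩)
  have top : ∀ {g d w : G}, g ∉ center G → C g ≤ C d → w ∈ C d → w ∉ C g → d ∈ center G := fun hg h1 h2 h3 =>
    cen_of ((h _ hg).2 _ (lt_of_le_of_ne h1 fun e => h3 (e.ge h2)))
  have hA : ∀ a ∈ C x, C x ≤ C a := by
    refine (dich h hpp hx xp).elim id fun h1 => ?_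
    obtain ⟨y, hy, q, hq, hqp, e⟩ := ex p hpp
    have hc := (Nat.coprime_primes hq hpp).2 hqp
    have h2 : ¬ N ≤ C y := fun h2 => by
      obtain ⟨j, hj⟩ := h1 y (memC.2 (memC.1 (h2 hxN)).symm)
      exact hy (cop e hj (hc.pow _ _))
    have h3 : C x ≤ N := fun c hc' => by
      obtain ⟨n, hn, d, hd, rfl⟩ := sup y hy N h2 c
      have h4 : d ∈ C x := (mul_mem_cancel_left (hab x hxN hn)).1 hc'
      refine mul_mem hn (ZN ?_)
      rcases dich h hq hy e with h5 | h5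
      · exact top hy (h5 d hd) (memC.2 (memC.1 h4).symm) fun h6 => hx (key y hy h2 ⟨h6, hxN⟩)
      · obtain ⟨i, hi⟩ := h5 d hd
        obtain ⟨j, hj⟩ := h1 d h4
        exact cop hi hj (hc.pow _ _)
    exact fun a ha => h3.trans (hab a (h3 ha))
  have hE : ∀ g, g ∉ C x → ∀ d ∈ C g, d ∈ C x → d ∈ center G := fun g hg d h1 h2 =>
    top hx (hA d h2) (memC.2 (memC.1 h1).symm) hg
  have hgz : ∀ g, g ∉ C x → g ∉ center G := fun g hg e => hg (Z_le x e)
  have hNx : N = C x := le_antisymm (hab x hxN) fun a ha => by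
    obtain ⟨g, hg⟩ : ∃ g, g ∉ C x := not_forall.1 fun e => (h x hx).1 (eq_top_iff.2 fun g _ => e g)
    obtain ⟨n, hn, d, hd, rfl⟩ := sup g (hgz g hg) N (fun e => hg (memC.2 (memC.1 (e hxN)).symm)) a
    exact mul_mem hn (ZN (hE g hg d hd ((mul_mem_cancel_left (hab x hxN hn)).1 ha)))
  have hco := h x hx
  change IsCoatom (C x) at hco
  rw [← hNx] at hE hgz hco
  have hr := index_prime_of_isCoatom_of_normal hco
  have hi : M.index = N.index := by rw [hN, index_comap_of_surjective _ hπ]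
  have hMp : IsPGroup p M := fun m => ⟨1, Subtype.ext (by rw [pow_one]; exact hMe.2 _ m.2)⟩
  obtain ⟨a, ha⟩ := IsPGroup.iff_card.1 hMp
  have hcard : Nat.card (G ⧸ center G) = p ^ a * N.index := by rw [← ha, ← hi, M.card_mul_index]
  have hpr : p ≠ N.index := fun e => hp p hpp (IsPGroup.of_card (n := a + 1) (by rw [hcard, ← e, pow_succ]))
  have hc := (Nat.coprime_primes hpp hr).2 hpr
  have hgr : ∀ g, g ∉ N → (g : G ⧸ center G) ^ N.index = 1 := fun g hg =>
    (QuotientGroup.eq_one_iff _).2 (hE g hg _ (memC.2 ((Commute.refl g).pow_left _)) (N.pow_index_mem g))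
  refine ⟨fun hcomm => ?_, fun H hH => ?_, p, N.index, a, hpp, hr, hpr, hcard, fun P hP => ?_⟩
  · obtain ⟨g, hg⟩ : ∃ g, g ∉ N := not_forall.1 fun e => hco.1 (eq_top_iff.2 fun g _ => e g)
    have h1 := hgr (x * g) fun e => hg ((mul_mem_cancel_left hxN).1 e)
    rw [QuotientGroup.mk_mul, Commute.mul_pow (hcomm.is_comm.comm _ _), hgr g hg, mul_one] at h1
    exact hx (cop xp h1 (hc.pow_left 1))
  · by_cases hHM : H ≤ M
    · exact ⟨⟨fun a b => Subtype.ext (congrArg (Subtype.val : M → _) (hMe.1.is_comm.comm ⟨_, hHM a.2⟩ ⟨_, hHM b.2⟩))⟩⟩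
    obtain ⟨g, hgH, hg⟩ := SetLike.not_le_iff_exists.1 hHM
    obtain ⟨g, rfl⟩ := QuotientGroup.mk_surjective g
    rw [← hNm] at hg
    have h1 : ∀ c ∈ C g, (c : G ⧸ center G) ∈ zpowers (g : G ⧸ center G) := fun c hc => by
      have : c ∈ N ⊔ zpowers g := by
        rw [hco.2 _ (left_lt_sup.2 fun e => hg (e (mem_zpowers g)))]; exact mem_top c
      obtain ⟨n, hn, _, ⟨k, rfl⟩, rfl⟩ := mem_sup_of_normal_left.1 this
      have h2 := hE g hg n ((mul_mem_cancel_right (memC.2 ((Commute.refl g).zpow_left k))).1 hc) hn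
      exact ⟨k, by rw [QuotientGroup.mk_mul, (QuotientGroup.eq_one_iff _).2 h2, one_mul]; rfl⟩
    have h2 : H.comap π = C g := ((h g (hgz g hg)).le_iff.1 fun c hc => zpowers_le.2 hgH (h1 c hc)).resolve_left
      fun e => hH (comap_injective hπ (e.trans (comap_top π).symm))
    refine ⟨⟨fun ⟨a, ha⟩ ⟨b, hb⟩ => Subtype.ext ?_⟩⟩
    obtain ⟨a, rfl⟩ := QuotientGroup.mk_surjective a
    obtain ⟨b, rfl⟩ := QuotientGroup.mk_surjective b
    obtain ⟨i, hi⟩ := h1 a (h2.le ha)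
    obtain ⟨j, hj⟩ := h1 b (h2.le hb)
    change (a : G ⧸ center G) * b = b * a
    rw [← hi, ← hj]
    exact zpow_mul_comm _ _ _
  · have h1 : P ≤ M := le_of_coprime_index (by rw [hP, hi]; exact hc.pow_left a)
    rwa [eq_of_le_of_card_ge h1 (by omega)]

end Cfsg.Agent.S3904
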