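import Cfsg.Statements.S3905
import Mathlib
import Cfsg.Agent.S3904
import Cfsg.Agent.GS.MaxNil
import Cfsg.Agent.GS.Lem2

set_option autoImplicit false
open Cfsg

namespace Cfsg.Agent.S3905

open Cfsg.Agent.H1 Subgroup Cfsg.Agent.S3904
open Cfsg.Agent.L (FPF)
open scoped commutatorElement

section
variable {G : Type*} [Group G] [Finite G]

omit [Finite G] in
theorem bez {H : Subgroup G} {c : G} {m n : ℕ} (h1 : c ^ m ∈ H) (h2 : c ^ n ∈ H) (h : m.Coprime n) : c ∈ H := by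
  obtain ⟨u, v, huv⟩ := Nat.isCoprime_iff_coprime.2 h
  have h4 := mul_mem (zpow_mem h1 u) (zpow_mem h2 v)
  rwa [← zpow_natCast, ← zpow_natCast, ← zpow_mul, ← zpow_mul, ← zpow_add, mul_comm, mul_comm _ v, huv, zpow_one] at h4

theorem dec {p : ℕ} (hp : p.Prime) (c : G) : ∃ i n, p.Coprime n ∧ c ^ (p ^ i * n) = 1 := by
  obtain ⟨i, n, h1, h2⟩ := Nat.exists_eq_pow_mul_and_not_dvd (orderOf_pos c).ne' p hp.ne_one
  exact ⟨i, n, hp.coprime_iff_not_dvd.2 h1, h2 ▸ pow_orderOf_eq_one c⟩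

theorem exq {H : Subgroup G} {p : ℕ} (hH : ¬ IsPGroup p H) : ∃ y ∈ H, y ≠ 1 ∧ ∃ q : ℕ, q.Prime ∧ q ≠ p ∧ y ^ q ^ 1 = 1 := by
  by_contra hn
  push Not at hn
  refine hH (IsPGroup.of_card (Nat.eq_prime_pow_of_unique_prime_dvd Nat.card_pos.ne' fun {q} hq hd => ?_))
  haveI := Fact.mk hq
  obtain ⟨y, hy⟩ := exists_prime_orderOf_dvd_card' q hd
  rw [← orderOf_coe] at hy
  by_contra hne
  exact hn y y.2 (fun e => hq.ne_one (by rw [← hy, e, orderOf_one])) q hq hne (by rw [pow_one, ← hy, pow_orderOf_eq_one])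

theorem solv_min {L M : Subgroup G} [L.Normal] (hmin : ∀ K : Subgroup G, K.Normal → K ≤ L → K = ⊥ ∨ K = L)
    (hM : IsCoatom M) (hn : Group.IsNilpotent ↥(L ⊓ M)) {p : ℕ} [Fact p.Prime] (hp : p ≠ 2)
    (hd : p ∣ Nat.card ↥(L ⊓ M)) : Group.IsSolvable L := by
  by_contra hs
  have hP := BG.sylIn_Op_of_nil (p := p) hn
  have h0 := hP.ne_bot hd
  have hMP : M ≤ normalizer (H8.Op p (L ⊓ M) : Set G) :=
    H8.le_normalizer_Op_of p (le_normalizer_inf (by rw [normalizer_eq_top]; exact le_top) le_normalizer)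
  have h1 : ∀ W ≤ H8.Op p (L ⊓ M), W ≠ ⊥ → M ≤ normalizer (W : Set G) → normalizer (W : Set G) = M :=
    fun W h1 h2 h3 => (hM.le_iff.1 h3).resolve_left fun e => by
      obtain rfl := (hmin W (normalizer_eq_top_iff.1 e) (h1.trans (hP.le.trans inf_le_left))).resolve_left h2
      exact hs (isSolvable_of_isPGroup (hP.pgrp.to_le h1))
  have h2 : H2.SylIn p (H8.Op p (L ⊓ M)) L := H2.sylIn_of_sylIn_normalizer (by rwa [h1 _ le_rfl h0 hMP])
  obtain ⟨Z, h7, h8, h9, h10⟩ := GS.exists_gt hp h2 h0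
  replace h10 := h10 (by rw [h1 Z h7 h8 (hMP.trans h9)]; exact H2.pNil_of_isNilpotent hn)
  rcases hmin (H2.resOf p L) (normalizer_eq_top_iff.1 (top_le_iff.1 ((normalizer_eq_top L).ge.trans
    (H2.normalizer_le_normalizer_resOf p L)))) (H2.resOf_le p L) with e | e
  · have := h2.resOf_sup
    rw [e, bot_sup_eq] at this
    exact hs (this ▸ isSolvable_of_isPGroup hP.pgrp)
  · exact h0 ((inf_eq_left.2 (h2.le.trans e.ge)).symm.trans (h10.inf_eq_bot hP.pgrp))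

theorem sup' {M K : Subgroup G} [K.Normal] (hM : IsCoatom M) (hK : ¬ K ≤ M) (c : G) : ∃ n ∈ K, ∃ d ∈ M, n * d = c :=
  mem_sup_of_normal_left.1 (by rw [sup_comm, hM.2 _ (left_lt_sup.2 hK)]; exact mem_top c)

theorem chief {M N K : Subgroup G} [N.Normal] [K.Normal] (hM : IsCoatom M) (h1 : M ⊓ N ≤ K) (h2 : ¬ N ≤ K)
    (hs : Group.IsSolvable (N.map (QuotientGroup.mk' K))) :
    ∃ r : ℕ, r.Prime ∧ (∀ a ∈ N, a ^ r ∈ K) ∧ ∀ a ∈ N, ∀ b ∈ N, ⁅a, b⁆ ∈ K := by
  haveI := (inferInstance : N.Normal).map _ (QuotientGroup.mk'_surjective K)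
  obtain ⟨r, hr, he⟩ := elementary_of_minimal_normal (fun e => h2 (by rwa [Subgroup.map_eq_bot_iff, QuotientGroup.ker_mk'] at e))
    hs fun W hW hle => by
      have h3 : ∀ w : G, (w : G ⧸ K) ∈ W → ∃ n ∈ N, (n : G ⧸ K) = w := fun w hw => hle hw
      by_cases h4 : W.comap (QuotientGroup.mk' K) ⊓ N ≤ M
      · refine .inl (eq_bot_iff.2 fun w hw => ?_)
        obtain ⟨n, hn, rfl⟩ := hle hw
        exact mem_bot.2 ((QuotientGroup.eq_one_iff _).2 (h1 ⟨h4 ⟨hw, hn⟩, hn⟩))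
      · refine .inr (le_antisymm hle ?_)
        rintro _ ⟨n, hn, rfl⟩
        obtain ⟨w, hw, d, hd, rfl⟩ := sup' hM h4 n
        rw [map_mul, show QuotientGroup.mk' K d = 1 from
          (QuotientGroup.eq_one_iff _).2 (h1 ⟨hd, (mul_mem_cancel_left (mem_inf.1 hw).2).1 hn⟩), mul_one]
        exact hw.1
  exact ⟨r, hr, fun a ha => (QuotientGroup.eq_one_iff _).1 (he.2 _ (mem_map_of_mem _ ha)), fun a ha b hb =>
    (QuotientGroup.eq_one_iff _).1 (commutatorElement_eq_one_iff_mul_comm.2 (congrArg Subtype.val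
      (he.1.is_comm.comm ⟨_, mem_map_of_mem _ ha⟩ ⟨_, mem_map_of_mem _ hb⟩)))⟩

variable {N : Subgroup G} (h : ∀ x ∈ N, x ∉ center G → IsCoatom (C x))
include h

theorem l2' {x y : G} (hxN : x ∈ N) (hyN : y ∈ N) (hx : x ∉ center G) (hc : Commute x y) {m n : ℕ}
    (ha : (x : G ⧸ center G) ^ m = 1) (hb : (y : G ⧸ center G) ^ n = 1) (hmn : m.Coprime n) : C x ≤ C y := by
  have hc' : Commute (x : G ⧸ center G) y := hc.map (QuotientGroup.mk' _)
  have h1 : C (x * y) ≤ C x := l0 (l1 hc' ha hb hmn)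
  have h2 : C (x * y) ≤ C y := l0 (by rw [hc.eq]; exact l1 hc'.symm hb ha hmn.symm)
  have h3 : x * y ∉ center G := fun e => hx (mem_center_iff.2 fun g => memC.1 (h1 (memC.2 (mem_center_iff.1 e g))))
  exact (((h _ (mul_mem hxN hyN) h3).le_iff.1 h1).resolve_left (h x hxN hx).1).trans_le h2

theorem dich' {p k : ℕ} (hp : p.Prime) {x : G} (hxN : x ∈ N) (hx : x ∉ center G)
    (hk : (x : G ⧸ center G) ^ p ^ k = 1) :
    (∀ a ∈ C x ⊓ N, C x ≤ C a) ∨ ∀ g ∈ C x ⊓ N, ∃ j, (g : G ⧸ center G) ^ p ^ j = 1 := by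
  refine or_iff_not_imp_right.2 fun hn c hc => ?_
  push Not at hn
  obtain ⟨g, hg, hj⟩ := hn
  obtain ⟨j, m, hm, e⟩ := dec hp (g : G ⧸ center G)
  obtain ⟨i, n, hn, e'⟩ := dec hp (c : G ⧸ center G)
  have hy : g ^ p ^ j ∉ center G := fun e => hj j ((QuotientGroup.eq_one_iff _).2 e)
  have e1 : ((g ^ p ^ j : G) : G ⧸ center G) ^ m = 1 := by rw [QuotientGroup.mk_pow, ← pow_mul, e]
  have h1 := l2' h hxN (pow_mem hg.2 _) hx ((memC.1 hg.1).symm.pow_right _) hk e1 (hm.pow_left k)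
  have h2 := l2' h hxN (pow_mem hc.2 _) hx ((memC.1 hc.1).symm.pow_right (p ^ i)) hk
    (by rw [QuotientGroup.mk_pow, ← pow_mul, e']) (hn.pow_left k)
  have h3 := l2' h (pow_mem hg.2 _) (pow_mem hc.2 _) hy ((memC.1 (h1 hc.1)).symm.pow_right n) e1
    (by rw [QuotientGroup.mk_pow, ← pow_mul, mul_comm, e']) (hm.symm.pow_right i)
  intro a ha
  exact memC.2 (memC.1 (bez (H := C a) (memC.2 (memC.1 (h2 ha)).symm) (memC.2 (memC.1 (h3 (h1 ha))).symm)
    (hn.pow_left i))).symm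

theorem main [N.Normal] (hZ : center G ≤ N) (hz : ∀ x ∈ N, N ≤ C x → x ∈ center G)
    (hp : ∀ p : ℕ, p.Prime → ¬ IsPGroup p (N.map (QuotientGroup.mk' (center G)))) :
    ∃ (M H : Subgroup (G ⧸ center G)) (p : ℕ), p.Prime ∧ M.Normal ∧ M ≠ ⊥ ∧ IsElementaryAbelian p M ∧
      (Nat.card H).Prime ∧ M ⊔ H = N.map (QuotientGroup.mk' (center G)) ∧ FPF M H := by
  set π := QuotientGroup.mk' (center G) with hπd
  have hπ : Function.Surjective π := QuotientGroup.mk'_surjective _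
  have one : ∀ {x : G}, (x : G ⧸ center G) = 1 ↔ x ∈ center G := QuotientGroup.eq_one_iff _
  have hNm : ∀ g : G, (g : G ⧸ center G) ∈ N.map π → g ∈ N := by
    rintro g ⟨n, hn, e⟩
    simpa using mul_mem hn (hZ (QuotientGroup.eq.1 e))
  haveI := (inferInstance : N.Normal).map _ hπ
  obtain ⟨M, hMn, hM0, hMN, hmin⟩ := exists_minimal_normal_le (N.map π) fun e =>
    hp 2 Nat.prime_two (e ▸ IsPGroup.of_bot)
  have hsol : Group.IsSolvable M := by
    haveI : Fact (Nat.Prime 2) := ⟨Nat.prime_two⟩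
    by_cases h2 : IsPGroup 2 M
    · exact isSolvable_of_isPGroup h2
    obtain ⟨y, hyM, y1, q, hq, hq2, e⟩ := exq h2
    obtain ⟨y, rfl⟩ := QuotientGroup.mk_surjective y
    haveI := Fact.mk hq
    have hyN := hNm y (hMN hyM)
    have hy : y ∉ center G := fun e => y1 (one.2 e)
    refine solv_min hmin (isCoatom_map_mk' (Z_le y) (h y hyN hy)) ?_ hq2 ?_
    · rcases dich' h hq hyN hy e with h1 | h1
      · haveI : IsMulCommutative ↥(M ⊓ (C y).map π) := ⟨⟨by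
          rintro ⟨_, ha, a, ha', rfl⟩ ⟨_, hb, b, hb', rfl⟩
          exact Subtype.ext (congrArg π (memC.1 (h1 b ⟨hb', hNm b (hMN hb)⟩ ha')))⟩⟩
        exact isNilpotent_of_isMulCommutative this
      · refine IsPGroup.isNilpotent (p := q) ?_
        rintro ⟨_, ha, a, ha', rfl⟩
        exact (h1 a ⟨ha', hNm a (hMN ha)⟩).imp fun j hj => Subtype.ext hj
    · rw [← orderOf_eq_prime (p := q) (by rwa [pow_one] at e) y1]
      exact Subgroup.orderOf_dvd_natCard _ ⟨hyM, y, memC.2 (Commute.refl y), rfl⟩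
  obtain ⟨p, hpp, hMe⟩ := elementary_of_minimal_normal hM0 hsol hmin
  haveI := Fact.mk hpp
  obtain ⟨K, hK⟩ : ∃ K, K = M.comap π := ⟨_, rfl⟩
  have hKm : ∀ g : G, g ∈ K ↔ (g : G ⧸ center G) ∈ M := fun g => by rw [hK]; rfl
  haveI hKn : K.Normal := hK ▸ inferInstance
  have KN : K ≤ N := fun g hg => hNm g (hMN ((hKm g).1 hg))
  have ZK : center G ≤ K := fun z hz => (hKm z).2 (by rw [one.2 hz]; exact one_mem _)
  have key : ∀ g ∈ N, g ∉ center G → ¬ K ≤ C g → C g ⊓ K ≤ center G := fun g hgN hg hK => by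
    rcases hmin ((C g).map π ⊓ M) ⟨fun m hm c => by
      obtain ⟨c, rfl⟩ := QuotientGroup.mk_surjective c
      obtain ⟨n, hn, d, hd, rfl⟩ := sup' (h g hgN hg) hK c
      have h1 : (d : G ⧸ center G) * m * (d : G ⧸ center G)⁻¹ ∈ (C g).map π ⊓ M :=
        mem_inf.2 ⟨mul_mem (mul_mem (mem_map_of_mem π hd) (mem_inf.1 hm).1) (inv_mem (mem_map_of_mem π hd)),
          hMn.conj_mem _ hm.2 _⟩
      have h2 : (n : G ⧸ center G) * _ = _ * n :=
        congrArg Subtype.val (hMe.1.is_comm.comm ⟨_, (hKm n).1 hn⟩ ⟨_, h1.2⟩)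
      convert h1 using 1
      rw [QuotientGroup.mk_mul, mul_inv_rev, ← mul_assoc, mul_inv_eq_iff_eq_mul, ← h2]
      simp only [mul_assoc]⟩ inf_le_right with h1 | h1
    · intro c hc
      exact one.1 (mem_bot.1 (h1.le ⟨⟨c, hc.1, rfl⟩, (hKm c).1 hc.2⟩))
    · refine absurd (fun n hn => ?_) hK
      obtain ⟨d, hd, e⟩ := (h1.ge ((hKm n).1 hn)).1
      simpa using mul_mem hd (Z_le g (QuotientGroup.eq.1 e))
  have hab : ∀ x ∈ K, K ≤ C x := fun x hx => by
    by_cases hz : x ∈ center G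
    · exact fun g _ => memC.2 (mem_center_iff.1 hz g)
    · by_contra hn
      exact hz (key x (KN hx) hz hn ⟨memC.2 (Commute.refl x), hx⟩)
  have cop : ∀ {c : G} {m n : ℕ}, (c : G ⧸ center G) ^ m = 1 → (c : G ⧸ center G) ^ n = 1 → m.Coprime n →
      c ∈ center G := fun h1 h2 h3 => one.1 ((pow_eq_one_iff_of_coprime h3).1 ⟨h1, h2⟩)
  have top : ∀ {g d w : G}, g ∈ N → g ∉ center G → C g ≤ C d → w ∈ C d → w ∉ C g → d ∈ center G :=
    fun hgN hg h1 h2 h3 => cen_of ((h _ hgN hg).2 _ (lt_of_le_of_ne h1 fun e => h3 (e.ge h2)))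
  have sy : ∀ {a b : G}, a ∈ C b → b ∈ C a := fun h => memC.2 (memC.1 h).symm
  have hCK : ∀ x ∈ K, x ∉ center G → C x ⊓ N ≤ K := fun x hxK hx c hc => by
    have xp : (x : G ⧸ center G) ^ p ^ 1 = 1 := by rw [pow_one]; exact hMe.2 _ ((hKm x).1 hxK)
    rcases dich' h hpp (KN hxK) hx xp with h1 | h1
    · obtain ⟨g, hgN, hg⟩ := SetLike.not_le_iff_exists.1 fun e => hx (hz x (KN hxK) e)
      obtain ⟨n, hn, d, hd, rfl⟩ := sup' (K := K) (h g hgN fun e => hg (Z_le x e)) (fun e => hg (sy (e hxK))) c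
      exact mul_mem hn (ZK (top (KN hxK) hx (h1 d ((mul_mem_cancel_left (mem_inf.2 ⟨hab x hxK hn, KN hn⟩)).1 hc))
        (sy hd) hg))
    · obtain ⟨_, ⟨y, hyN, rfl⟩, y1, q, hq, hqp, e⟩ := exq (hp p hpp)
      have hy : y ∉ center G := fun e => y1 (one.2 e)
      have hco := (Nat.coprime_primes hq hpp).2 hqp
      have h2 : ¬ K ≤ C y := fun h2 => by
        obtain ⟨j, hj⟩ := h1 y ⟨sy (h2 hxK), hyN⟩
        exact hy (cop e hj (hco.pow _ _))
      obtain ⟨n, hn, d, hd, rfl⟩ := sup' (h y hyN hy) h2 c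
      have h4 := (mul_mem_cancel_left (mem_inf.2 ⟨hab x hxK hn, KN hn⟩)).1 hc
      refine mul_mem hn (ZK ?_)
      rcases dich' h hq hyN hy e with h5 | h5
      · exact top hyN hy (h5 d ⟨hd, h4.2⟩) (sy h4.1) fun h6 => hx (key y hyN hy h2 ⟨h6, hxK⟩)
      · obtain ⟨i, hi⟩ := h5 d ⟨hd, h4.2⟩
        obtain ⟨j, hj⟩ := h1 d h4
        exact cop hi hj (hco.pow _ _)
  have hE : ∀ g ∈ N, g ∉ K → ∀ d ∈ C g, d ∈ K → d ∈ center G := fun g hgN hg d h1 h2 =>
    by_contra fun hd => hg (hCK d h2 hd ⟨sy h1, hgN⟩)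
  obtain ⟨⟨x, hxM⟩, hx1⟩ := ne_bot_iff_exists_ne_one.1 hM0
  obtain ⟨x, rfl⟩ := QuotientGroup.mk_surjective x
  have hx : x ∉ center G := fun e => hx1 (Subtype.ext (one.2 e))
  have hxK := (hKm x).2 hxM
  have hsup : ∀ g ∈ N, g ∉ K → ∀ c, ∃ n ∈ K, ∃ d ∈ C g, n * d = c := fun g hgN hg =>
    sup' (h g hgN fun e => hg (ZK e)) fun e => hx (hE g hgN hg x (e hxK) hxK)
  have hNK : ¬ N ≤ K := fun e => hp p hpp (by
    rintro ⟨_, a, ha, rfl⟩
    exact ⟨1, Subtype.ext (by rw [pow_one]; exact hMe.2 _ ((hKm a).1 (e ha)))⟩)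
  obtain ⟨r, hr, hr1, hr2⟩ := chief (h x (KN hxK) hx) (hCK x hxK hx) hNK (by
    haveI : IsMulCommutative (N.map (QuotientGroup.mk' K)) := ⟨⟨by
      rintro ⟨_, a, ha, rfl⟩ ⟨_, b, hb, rfl⟩
      refine Subtype.ext ?_
      change (a : G ⧸ K) * b = b * a
      by_cases hbK : b ∈ K
      · rw [(QuotientGroup.eq_one_iff b).2 hbK, mul_one, one_mul]
      · obtain ⟨n, hn, d, hd, rfl⟩ := hsup b hb hbK a
        rw [QuotientGroup.mk_mul, (QuotientGroup.eq_one_iff n).2 hn, one_mul]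
        exact congrArg QuotientGroup.mk (memC.1 hd)⟩⟩
    exact isSolvable_of_isMulCommutative this)
  have hpr : p ≠ r := by
    rintro rfl
    refine hp p hpp ?_
    rintro ⟨_, a, ha, rfl⟩
    exact ⟨2, Subtype.ext (by rw [sq]; exact (pow_mul _ _ _).trans (hMe.2 _ ((hKm _).1 (hr1 a ha))))⟩
  have hgr : ∀ g ∈ N, g ∉ K → (g : G ⧸ center G) ^ r = 1 := fun g hgN hg =>
    one.2 (hE g hgN hg _ (memC.2 ((Commute.refl g).pow_left _)) (hr1 g hgN))
  obtain ⟨g, hgN, hg⟩ := SetLike.not_le_iff_exists.1 hNK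
  have hf : FPF M ((C g ⊓ N).map π) := FPF.of_forall (by
    rintro _ ⟨a, ha, rfl⟩ a1 k hk hc
    obtain ⟨k, rfl⟩ := QuotientGroup.mk_surjective k
    have haK : a ∉ K := fun e => a1 (one.2 (hE g hgN hg a ha.1 e))
    have hkK := (hKm k).2 hk
    have h1 := hgr (a * k) (mul_mem ha.2 (KN hkK)) fun e => haK ((mul_mem_cancel_right hkK).1 e)
    rw [QuotientGroup.mk_mul, Commute.mul_pow (show Commute (a : G ⧸ center G) k from hc), hgr a ha.2 haK, one_mul] at h1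
    exact one.2 (cop (hMe.2 _ hk) h1 ((Nat.coprime_primes hpp hr).2 hpr)))
  haveI : IsMulCommutative ((C g ⊓ N).map π) := ⟨⟨by
    rintro ⟨_, a, ha, rfl⟩ ⟨_, b, hb, rfl⟩
    exact Subtype.ext (commutatorElement_eq_one_iff_mul_comm.1 (one.2 (hE g hgN hg ⁅a, b⁆
      (mul_mem (mul_mem (mul_mem ha.1 hb.1) (inv_mem ha.1)) (inv_mem hb.1)) (hr2 a ha.2 b hb.2))))⟩⟩
  refine ⟨M, (C g ⊓ N).map π, p, hpp, hMn, hM0, hMe, ?_, le_antisymm (sup_le hMN (map_mono inf_le_right)) ?_, hf⟩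
  · obtain ⟨⟨_, a, ha, rfl⟩, e⟩ := (hf.isCyclic_of_isMulCommutative (by rw [normalizer_eq_top]; exact le_top)
      hM0).exists_ofOrder_eq_natCard
    have h1 : Nat.card ((C g ⊓ N).map π) ∣ r := e ▸ orderOf_dvd_of_pow_eq_one
      (Subtype.ext (one.2 (hE g hgN hg _ (pow_mem ha.1 r) (hr1 a ha.2))))
    rcases (Nat.dvd_prime hr).1 h1 with h2 | h2
    · exact absurd (ZK (one.1 (mem_bot.1 ((card_eq_one.1 h2).le
        (mem_map_of_mem π ⟨memC.2 (Commute.refl g), hgN⟩))))) hg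
    · rwa [h2]
  · rintro _ ⟨a, ha, rfl⟩
    obtain ⟨n, hn, d, hd, rfl⟩ := hsup g hgN hg a
    rw [map_mul]
    exact mul_mem_sup ((hKm n).1 hn) (mem_map_of_mem π ⟨hd, (mul_mem_cancel_left (KN hn)).1 ha⟩)

end

/-- Let N be a normal subgroup of the finite group G such that for every element x of N outside the center of N the centralizer C_G(x) is a maximal subgroup of G. Then N/Z(N) is either an elementary abelian p-group for some prime p, or a Frobenius group whose kernel is an elementary abelian normal subgroup and whose complement has prime order. -/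
theorem result {G : Type*} [Group G] [Finite G] (N : Subgroup G) [N.Normal]
    (h : ∀ x : G, x ∈ N → x ∉ Subgroup.centralizer (N : Set G) → IsCoatom (Subgroup.centralizer ({x} : Set G))) :
    (∃ p : ℕ, p.Prime ∧ Cfsg.IsElementaryAbelian p (⊤ : Subgroup (↥N ⧸ Subgroup.center ↥N))) ∨
    (∃ (Q K : Subgroup (↥N ⧸ Subgroup.center ↥N)) (p : ℕ), p.Prime ∧ Cfsg.IsFrobeniusComplement Q ∧ (Nat.card ↥Q).Prime ∧
      K.Normal ∧ (K : Set (↥N ⧸ Subgroup.center ↥N)) = Cfsg.frobeniusKernel Q ∧ Cfsg.IsElementaryAbelian p K) := by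
  let φ := QuotientGroup.mk' (center N)
  have hφ : Function.Surjective φ := QuotientGroup.mk'_surjective _
  have hc : ∀ x : N, x ∈ center N ↔ (x : G) ∈ centralizer (N : Set G) := fun x => by
    rw [mem_center_iff, mem_centralizer_iff]
    exact ⟨fun h g hg => congrArg Subtype.val (h ⟨g, hg⟩), fun h g => Subtype.ext (h g g.2)⟩
  have hc' : ∀ x : G, x ∈ centralizer (N : Set G) ↔ N ≤ C x := fun x =>
    ⟨fun h g hg => memC.2 (h g hg), fun h g hg => memC.1 (h hg)⟩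
  by_cases hp : ∃ p : ℕ, p.Prime ∧ IsPGroup p (N ⧸ center N)
  · obtain ⟨p, hp, hQ⟩ := hp
    haveI := Fact.mk hp
    haveI := hQ.isNilpotent
    have hn : Group.IsNilpotent N := Subgroup.isNilpotent_of_ker_le_center φ (by simp [φ])
    have key : ∀ x ∈ N, (∀ a ∈ N, a ^ p ∈ C x) ∧ ∀ a ∈ N, ∀ b ∈ N, ⁅a, b⁆ ∈ C x := fun x hx => by
      by_cases hz : N ≤ C x
      · exact ⟨fun a ha => hz (pow_mem ha _), fun a ha b hb =>
          hz (mul_mem (mul_mem (mul_mem ha hb) (inv_mem ha)) (inv_mem hb))⟩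
      have hco := h x hx (mt (hc' x).1 hz)
      have h1 := lt_inf_normalizer_of_isNilpotent hn (inf_lt_right.2 hz)
      haveI : (C x ⊓ N).Normal := normalizer_eq_top_iff.1 ((hco.le_iff.1 (le_normalizer_inf le_normalizer
        (by rw [normalizer_eq_top]; exact le_top))).resolve_right fun e => h1.not_ge (by rw [e, inf_comm]))
      obtain ⟨r, hr, h2, h3⟩ := chief hco le_rfl (fun e => hz (e.trans inf_le_left))
        (haveI := hn; Group.isSolvable_of_surjective (MonoidHom.subgroupMap_surjective _ N))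
      refine ⟨fun a ha => ?_, fun a ha b hb => (h3 a ha b hb).1⟩
      by_cases e : r = p
      · exact e ▸ (h2 a ha).1
      obtain ⟨k, hk⟩ := hQ (φ ⟨a, ha⟩)
      exact pow_mem (bez (h2 a ha).1 (memC.2 ((hc _).1 ((QuotientGroup.eq_one_iff ((⟨a, ha⟩ : N) ^ p ^ k)).1 hk) x hx).symm)
        (((Nat.coprime_primes hr hp).2 e).pow_right k)) _
    refine .inl ⟨p, hp, ⟨⟨fun ⟨a, _⟩ ⟨b, _⟩ => Subtype.ext ?_⟩⟩, fun a _ => ?_⟩
    · obtain ⟨a, rfl⟩ := hφ a
      obtain ⟨b, rfl⟩ := hφ b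
      exact commutatorElement_eq_one_iff_mul_comm.1 ((QuotientGroup.eq_one_iff ⁅a, b⁆).2 ((hc _).2 fun x hx =>
        (memC.1 ((key x hx).2 a a.2 b b.2)).symm))
    · obtain ⟨a, rfl⟩ := hφ a
      exact (QuotientGroup.eq_one_iff (a ^ p)).2 ((hc _).2 fun x hx => (memC.1 ((key x hx).1 a a.2)).symm)
  right
  push Not at hp
  have ex : ∀ p : ℕ, p.Prime → ∃ q : ℕ, q.Prime ∧ q ≠ p ∧ ∀ z ∈ N, N ≤ C z → ∀ n, q.Coprime n → z ^ n = 1 →
      z ∈ center G := fun p hpp => by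
    obtain ⟨y, -, y1, q, hq, hqp, e⟩ := exq (H := ⊤) fun e => hp p hpp (e.of_equiv topEquiv)
    obtain ⟨y, rfl⟩ := hφ y
    obtain ⟨i, m, hm, e'⟩ := dec hq (y : G)
    refine ⟨q, hq, hqp, fun z hz hzN n hn zn => cen_of (by_contra fun hne => ?_)⟩
    have e1 : ((y : G) ^ m) ^ q ^ i = 1 := by rw [← pow_mul, mul_comm, e']
    have hcm : Commute ((y : G) ^ m) z := memC.1 (hzN (pow_mem y.2 m))
    have h1 : ¬ N ≤ C ((y : G) ^ m * z) := fun h1 => y1 ((pow_eq_one_iff_of_coprime (hm.pow_left 1)).1 ⟨e,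
      (QuotientGroup.eq_one_iff (y ^ m)).2 ((hc _).2 (zpowers_le.2 ((hc' _).2 h1) (l1 hcm e1 zn (hn.pow_left i))))⟩)
    have h2 : C ((y : G) ^ m * z) ≤ C z := fun g hg => by
      obtain ⟨k, hk⟩ := l1 hcm.symm zn e1 (hn.pow_left i).symm
      have := (memC.1 hg).zpow_right k
      rw [hcm.eq] at this
      exact memC.2 (hk ▸ this)
    exact h1 (hzN.trans (((h _ (mul_mem (pow_mem y.2 m) hz) (mt (hc' _).1 h1)).le_iff.1 h2).resolve_left hne).le)
  have hz : ∀ z ∈ N, N ≤ C z → z ∈ center G := fun z hz hzN => by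
    obtain ⟨p, hpp, -, h1⟩ := ex 2 Nat.prime_two
    obtain ⟨q, hq, hqp, h2⟩ := ex p hpp
    obtain ⟨i, n, hn, e⟩ := dec hpp z
    have h3 : ∀ k : ℕ, N ≤ C (z ^ k) := fun k g hg => memC.2 ((memC.1 (hzN hg)).pow_right k)
    exact bez (h1 _ (pow_mem hz _) (h3 _) n hn (by rw [← pow_mul, e])) (h2 _ (pow_mem hz n) (h3 _) (p ^ i)
      (((Nat.coprime_primes hq hpp).2 hqp).pow_right i) (by rw [← pow_mul, mul_comm, e])) (hn.pow_left i)
  let f : N ⧸ center N →* G ⧸ center G := QuotientGroup.map _ _ N.subtype fun x hx => hz x x.2 ((hc' _).1 ((hc x).1 hx))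
  have hf : Function.Injective f := (injective_iff_map_eq_one f).2 fun x hx => by
    obtain ⟨x, rfl⟩ := hφ x
    exact (QuotientGroup.eq_one_iff x).2 ((hc x).2 fun g _ => mem_center_iff.1 ((QuotientGroup.eq_one_iff (x : G)).1 hx) g)
  have hr : (N ⊔ center G).map (QuotientGroup.mk' (center G)) = f.range := by
    rw [Subgroup.map_sup, QuotientGroup.map_mk'_self, sup_bot_eq]
    ext y
    constructor
    · rintro ⟨x, hx, rfl⟩; exact ⟨φ ⟨x, hx⟩, rfl⟩
    · rintro ⟨x, rfl⟩; obtain ⟨x, rfl⟩ := hφ x; exact ⟨x, x.2, rfl⟩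
  have hC : ∀ n z : G, z ∈ center G → C (n * z) = C n := fun n z hz => le_antisymm
    (l0 (by rw [QuotientGroup.mk_mul, (QuotientGroup.eq_one_iff z).2 hz, mul_one]; exact mem_zpowers _))
    (l0 (by rw [QuotientGroup.mk_mul, (QuotientGroup.eq_one_iff z).2 hz, mul_one]; exact mem_zpowers _))
  obtain ⟨M, H, p, hpp, hMn, hM0, hMe, hH, hsup, hF⟩ := main (N := N ⊔ center G) (fun x hx hx' => by
      obtain ⟨n, hn, z, hz', rfl⟩ := mem_sup_of_normal_left.1 hx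
      rw [hC n z hz']
      exact h n hn fun e => hx' (mul_mem (hz n hn ((hc' n).1 e)) hz')) le_sup_right (fun x hx hx' => by
      obtain ⟨n, hn, z, hz', rfl⟩ := mem_sup_of_normal_left.1 hx
      rw [hC n z hz'] at hx'
      exact mul_mem (hz n hn (le_sup_left.trans hx')) hz')
    fun p hpp e => hp p hpp ((hr ▸ e).of_equiv (MonoidHom.ofInjective hf).symm)
  rw [hr] at hsup
  have hM : (M.comap f).map f = M := map_comap_eq_self (le_sup_left.trans hsup.le)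
  have hH' : (H.comap f).map f = H := map_comap_eq_self (le_sup_right.trans hsup.le)
  have h1 : M.comap f ⊔ H.comap f = ⊤ := map_injective hf (by rw [Subgroup.map_sup, hM, hH', hsup, MonoidHom.range_eq_map])
  have h2 : FPF (M.comap f) (H.comap f) := FPF.of_forall fun a ha a1 k hk e =>
    hf ((hF.eq_one ha (fun e => a1 (hf (e.trans (map_one f).symm))) hk (by rw [← map_mul, e, map_mul])).trans
      (map_one f).symm)
  have h3 : (Nat.card (H.comap f)).Prime := by rwa [← hH', card_map_of_injective hf] at hH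
  refine ⟨H.comap f, M.comap f, p, hpp, L.frobenius_of_fpf h1 (fun e => hM0 (by rw [← hM, e, Subgroup.map_bot]))
    (fun e => h3.ne_one (by rw [e, card_bot])) h2, h3, inferInstance, (GS.frobKernel_eq h1 h2).symm,
    ⟨⟨fun a b => Subtype.ext (hf ?_)⟩⟩, fun a ha => hf (by rw [map_pow, map_one]; exact hMe.2 _ ha)⟩
  rw [coe_mul, coe_mul, map_mul, map_mul]
  exact congrArg (Subtype.val : M → _) (hMe.1.is_comm.comm ⟨_, a.2⟩ ⟨_, b.2⟩)

end Cfsg.Agent.S3905
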