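import Cfsg.Statements.S4006
import Cfsg.Agent.S3779
import Cfsg.Agent.GS.Lem1
import Cfsg.Agent.H2.Dih
import Cfsg.Agent.H2.Invol
import Cfsg.Agent.L.Frob2
import Cfsg.Agent.H3.Mackey
import Cfsg.Agent.H1.Frattini
import Cfsg.Agent.B.NilCov

set_option autoImplicit false
open Cfsg

namespace Cfsg.Agent.S4006

open Cfsg.Agent Subgroup
open scoped Pointwise commutatorElement
variable {G : Type*} [Group G]

def Hy (G : Type*) [Group G] : Prop := ∀ g : G, g ^ 3 = 1 ∨ g ^ 4 = 1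

theorem Hy.quo (h : Hy G) (N : Subgroup G) [N.Normal] : Hy (G ⧸ N) := by
  intro q
  obtain ⟨g, rfl⟩ := QuotientGroup.mk_surjective q
  rcases h g with h | h
  · left; rw [← QuotientGroup.mk_pow, h]; rfl
  · right; rw [← QuotientGroup.mk_pow, h]; rfl

theorem cop {x : G} {m n : ℕ} (h1 : x ^ m = 1) (h2 : x ^ n = 1) (h : m.Coprime n) : x = 1 :=
  orderOf_eq_one_iff.1 (Nat.eq_one_of_dvd_coprimes h (orderOf_dvd_of_pow_eq_one h1) (orderOf_dvd_of_pow_eq_one h2))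

theorem Hy.no6 (h : Hy G) {x y : G} (hx : x ^ 3 = 1) (hy : y ^ 4 = 1) (hc : x * y = y * x) : x = 1 ∨ y = 1 := by
  have hc' : Commute x y := hc
  rcases h (x * y) with h | h
  · rw [hc'.mul_pow, hx, one_mul] at h
    exact Or.inr (cop h hy (by norm_num))
  · rw [hc'.mul_pow, hy, mul_one] at h
    exact Or.inl (cop h hx (by norm_num))

theorem Hy.c3 (h : Hy G) {K : Subgroup G} (hK : (Nat.card K).Coprime 3) {x : G} (hx : x ∈ K) : x ^ 4 = 1 := by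
  rcases h x with h | h
  · have h1 : x ^ Nat.card K = 1 := congrArg Subtype.val (pow_card_eq_one' (x := (⟨x, hx⟩ : K)))
    rw [cop h1 h hK, one_pow]
  · exact h

theorem Hy.c2 (h : Hy G) {K : Subgroup G} (hK : (Nat.card K).Coprime 2) {x : G} (hx : x ∈ K) : x ^ 3 = 1 := by
  rcases h x with h | h
  · exact h
  · have h1 : x ^ Nat.card K = 1 := congrArg Subtype.val (pow_card_eq_one' (x := (⟨x, hx⟩ : K)))
    rw [cop h1 h (hK.pow_right 2), one_pow]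

theorem pc [Finite G] {K : Subgroup G} {p q : ℕ} (hp : p.Prime) (hq : q.Prime) (h : p ≠ q) (hK : IsPGroup p K) :
    (Nat.card K).Coprime q := by
  haveI := Fact.mk hp
  obtain ⟨k, hk⟩ := IsPGroup.iff_card.1 hK
  rw [hk]
  exact ((Nat.coprime_primes hp hq).2 h).pow_left k

theorem fpf32 (h : Hy G) {K H : Subgroup G} (hK : ∀ x ∈ K, x ^ 3 = 1) (hH : ∀ x ∈ H, x ^ 4 = 1) : L.FPF K H := by
  intro y hy hy1
  rw [eq_bot_iff]
  intro x hx
  exact (h.no6 (hK x hx.1) (hH y hy) (mem_centralizer_singleton_iff.1 hx.2)).resolve_right hy1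

theorem fpf23 (h : Hy G) {K H : Subgroup G} (hK : ∀ x ∈ K, x ^ 4 = 1) (hH : ∀ x ∈ H, x ^ 3 = 1) : L.FPF K H := by
  intro y hy hy1
  rw [eq_bot_iff]
  intro x hx
  exact (h.no6 (hH y hy) (hK x hx.1) (mem_centralizer_singleton_iff.1 hx.2).symm).resolve_left hy1

theorem caseA [Finite G] (h : Hy G) (hs : Group.IsSolvable G) {u : G} (hu : orderOf u = 4) (N : Subgroup G) [N.Normal]
    (hN : N = pCore 3 G) (hN1 : N ≠ ⊥) :
    Cfsg.IsElementaryAbelian 3 N ∧ ((IsCyclic (G ⧸ N) ∧ N.index = 4) ∨ Nonempty (G ⧸ N ≃* QuaternionGroup 2)) := by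
  haveI : Fact (Nat.Prime 3) := ⟨by norm_num⟩
  have hN3 : ∀ x ∈ N, x ^ 3 = 1 := fun x hx => h.c2 (pc (by norm_num) (by norm_num) (by norm_num) (hN ▸ H1.isPGroup_pCore 3 G)) hx
  obtain ⟨⟨x0, hx0⟩, hx1⟩ := ne_bot_iff_exists_ne_one.1 hN1
  have hO : pPrimeCore 3 G = ⊥ := by
    rw [eq_bot_iff]
    intro y hy
    exact (h.no6 (hN3 x0 hx0) (h.c3 (H1.coprime_pPrimeCore 3 G) hy)
      (H1.pPrimeCore_le_centralizer_pCore 3 hy x0 (hN ▸ hx0))).resolve_left fun h => hx1 (Subtype.ext h)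
  have hC : centralizer (N : Set G) ≤ N := hN ▸ H1.centralizer_pCore_le hs hO
  have hu4 : u ^ 4 = 1 := hu ▸ pow_orderOf_eq_one u
  have hu2 : u ^ 2 ≠ 1 := fun h => absurd (hu ▸ orderOf_dvd_of_pow_eq_one h) (by norm_num)
  have hz2 : (u ^ 2) ^ 2 = 1 := by rw [← pow_mul]; exact hu4
  have hz4 : (u ^ 2) ^ 4 = 1 := by rw [← pow_mul, mul_comm, pow_mul, hu4, one_pow]
  have hzN : u ^ 2 ∉ N := fun hz => hu2 (cop hz2 (hN3 _ hz) (by norm_num))
  obtain ⟨hinv, hab⟩ := L.inverts_of_involution (K := N) (s := u ^ 2) (by rw [← hz2, pow_two (u ^ 2)])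
    (by rw [normalizer_eq_top]; trivial) (by
      rw [eq_bot_iff]
      intro x hx
      exact (h.no6 (hN3 x hx.1) hz4 (mem_centralizer_singleton_iff.1 hx.2)).resolve_right hu2)
  have h3 : ∀ g : G, g ^ 3 = 1 → g ∈ N := by
    intro g hg
    have h1 : (g * u ^ 2)⁻¹ * (u ^ 2 * g) ∈ N := by
      apply hC
      intro n hn
      have h2 := hinv _ (‹N.Normal›.conj_mem n hn g)
      have h4 := hinv n hn
      calc n * ((g * u ^ 2)⁻¹ * (u ^ 2 * g)) = (g * u ^ 2)⁻¹ * (g * (u ^ 2 * n * (u ^ 2)⁻¹) * g⁻¹) * (u ^ 2 * g) := by group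
        _ = (g * u ^ 2)⁻¹ * (u ^ 2 * (g * n * g⁻¹) * (u ^ 2)⁻¹) * (u ^ 2 * g) := by rw [h2, h4]; group
        _ = _ := by group
    have h5 := (h.quo N).no6 (x := (g : G ⧸ N)) (y := ((u ^ 2 : G) : G ⧸ N)) (by rw [← QuotientGroup.mk_pow, hg]; rfl)
      (by rw [← QuotientGroup.mk_pow, hz4]; rfl) (QuotientGroup.eq.2 h1)
    rw [QuotientGroup.eq_one_iff, QuotientGroup.eq_one_iff] at h5
    exact h5.resolve_right hzN
  have h4 : ∀ q : G ⧸ N, q ^ 4 = 1 := by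
    intro q
    obtain ⟨g, rfl⟩ := QuotientGroup.mk_surjective q
    rcases h g with h | h
    · rw [(QuotientGroup.eq_one_iff g).2 (h3 g h), one_pow]
    · rw [← QuotientGroup.mk_pow, h]; rfl
  have hQ : IsPGroup 2 (G ⧸ N) := fun q => ⟨2, h4 q⟩
  obtain ⟨S⟩ := (inferInstance : Nonempty (Sylow 2 G))
  have hS4 : ∀ x ∈ (S : Subgroup G), x ^ 4 = 1 := fun x hx => h.c3 (pc (by norm_num) (by norm_num) (by norm_num) S.2) hx
  have hb : Function.Bijective ((QuotientGroup.mk' N).comp (S : Subgroup G).subtype) := by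
    constructor
    · rw [injective_iff_map_eq_one]
      intro x hx
      exact Subtype.ext (cop (hN3 _ ((QuotientGroup.eq_one_iff _).1 hx)) (hS4 _ x.2) (by norm_num))
    · intro q
      have h1 := (S.mapSurjective (QuotientGroup.mk'_surjective N)).3 (hQ.to_subgroup ⊤) le_top
      have h2 : q ∈ (S : Subgroup G).map (QuotientGroup.mk' N) := by
        rw [← Sylow.coe_mapSurjective (QuotientGroup.mk'_surjective N), ← h1]; trivial
      obtain ⟨x, hx, rfl⟩ := h2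
      exact ⟨⟨x, hx⟩, rfl⟩
  refine ⟨⟨hab, hN3⟩, ?_⟩
  rcases (fpf32 h hN3 hS4).isCyclic_or_quaternion (by rw [normalizer_eq_top]; exact le_top) hN1 S.2 with hc | ⟨-, n, hn, ⟨e⟩⟩
  · left
    haveI : IsCyclic (G ⧸ N) := isCyclic_of_surjective _ hb.2
    refine ⟨inferInstance, ?_⟩
    change Nat.card (G ⧸ N) = 4
    rw [← IsCyclic.exponent_eq_card]
    apply Nat.dvd_antisymm (Monoid.exponent_dvd_of_forall_pow_eq_one h4)
    have : orderOf (u : G ⧸ N) = 2 ^ (1 + 1) := orderOf_eq_prime_pow (by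
      rw [pow_one, ← QuotientGroup.mk_pow, QuotientGroup.eq_one_iff]; exact hzN) (h4 _)
    have h5 := Monoid.order_dvd_exponent (u : G ⧸ N)
    rw [this] at h5
    exact h5
  · right
    have e' := (MulEquiv.ofBijective _ hb).symm.trans e
    have h1 : (QuaternionGroup.a 1 : QuaternionGroup (2 ^ n)) ^ 4 = 1 := by
      rw [← e'.apply_symm_apply (QuaternionGroup.a 1), ← map_pow, h4, map_one]
    have h2 := Nat.le_of_dvd (by norm_num) (orderOf_dvd_of_pow_eq_one h1)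
    rw [QuaternionGroup.orderOf_a_one] at h2
    obtain rfl : n = 1 := by
      by_contra hne
      have := Nat.pow_le_pow_right two_pos (show 2 ≤ n by omega)
      omega
    exact ⟨e'⟩

theorem elab2 [Finite G] (h : Hy G) (N : Subgroup G) [hN : N.Normal] (hN4 : ∀ x ∈ N, x ^ 4 = 1) {ρ t : G}
    (h3 : ρ ^ 3 = 1) (h1 : ρ ≠ 1) (ht : t * t = 1) (htρ : t * ρ * t⁻¹ = ρ⁻¹) (htN : t ∉ N)
    (hcl : ∀ x ∈ N, ∀ y ∈ N, ∀ z ∈ N, z * (x * y * x⁻¹ * y⁻¹) = (x * y * x⁻¹ * y⁻¹) * z) :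
    IsElementaryAbelian 2 N := by
  have hfp : ∀ n ∈ N, ρ * n = n * ρ → n = 1 := fun n hn hc => (h.no6 h3 (hN4 n hn) hc).resolve_left h1
  have hti : t⁻¹ = t := inv_eq_of_mul_eq_one_right ht
  have hρi : ρ⁻¹ = ρ * ρ := by rw [inv_eq_iff_mul_eq_one, ← h3]; simp [pow_succ, mul_assoc]
  have hcos : ∀ σ : G, σ ^ 3 = 1 → σ ≠ 1 → ∀ n ∈ N, (n * σ) ^ 3 = 1 := by
    intro σ hσ hσ1 n hn
    refine (h _).resolve_right fun h4 => hσ1 (cop hσ (hN4 σ ?_) (by norm_num))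
    rw [← QuotientGroup.eq_one_iff]
    refine cop (m := 3) (n := 4) (by rw [← QuotientGroup.mk_pow, hσ]; rfl) ?_ (by norm_num)
    have := congrArg (QuotientGroup.mk' N) h4
    rwa [map_pow, map_mul, QuotientGroup.mk'_apply, (QuotientGroup.eq_one_iff n).2 hn, one_mul] at this
  have k1 : ∀ n ∈ N, n * (ρ * n * ρ⁻¹) * (ρ⁻¹ * n * ρ) = 1 := by
    intro n hn
    have := hcos ρ h3 h1 n hn
    calc n * (ρ * n * ρ⁻¹) * (ρ⁻¹ * n * ρ) = n * ρ * n * (ρ * ρ)⁻¹ * n * ρ := by group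
      _ = (n * ρ) ^ 3 := by rw [← hρi]; simp [pow_succ, mul_assoc]
      _ = 1 := this
  have k2 : ∀ n ∈ N, n * (ρ⁻¹ * n * ρ) * (ρ * n * ρ⁻¹) = 1 := by
    intro n hn
    have := hcos ρ⁻¹ (by rw [inv_pow, h3, inv_one]) (inv_ne_one.2 h1) n hn
    calc n * (ρ⁻¹ * n * ρ) * (ρ * n * ρ⁻¹) = n * ρ⁻¹ * n * (ρ * ρ) * n * ρ⁻¹ := by group
      _ = (n * ρ⁻¹) ^ 3 := by rw [← hρi]; simp [pow_succ, mul_assoc]
      _ = 1 := this
  have k3 : ∀ n ∈ N, (ρ * n * ρ⁻¹) * (ρ⁻¹ * n * ρ) = n⁻¹ := fun n hn => by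
    rw [eq_inv_iff_mul_eq_one, mul_eq_one_comm, ← mul_assoc]; exact k1 n hn
  have k4 : ∀ n ∈ N, (ρ⁻¹ * n * ρ) * (ρ * n * ρ⁻¹) = n⁻¹ := fun n hn => by
    rw [eq_inv_iff_mul_eq_one, mul_eq_one_comm, ← mul_assoc]; exact k2 n hn
  have k5 : ∀ n ∈ N, n * (ρ * n * ρ⁻¹) = (ρ * n * ρ⁻¹) * n := by
    intro n hn
    have a1 := k1 n hn
    have a2 := k2 n hn
    have a3 : n * (ρ * n * ρ⁻¹) = (ρ⁻¹ * n * ρ)⁻¹ := eq_inv_of_mul_eq_one_left a1
    have a4 : (ρ * n * ρ⁻¹) * n = (ρ⁻¹ * n * ρ)⁻¹ := by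
      apply eq_inv_of_mul_eq_one_left
      rw [mul_assoc, mul_eq_one_comm]; exact a2
    rw [a3, a4]
  have k6 : ∀ n ∈ N, (t * n * t⁻¹ * n) ^ 2 = 1 := by
    intro n hn
    have : (t * n) ^ 4 = 1 := by
      refine (h _).resolve_left fun h4 => htN ?_
      rw [← QuotientGroup.eq_one_iff]
      refine cop (m := 2) (n := 3) (by rw [← QuotientGroup.mk_pow, pow_two, ht]; rfl) ?_ (by norm_num)
      have := congrArg (QuotientGroup.mk' N) h4
      rwa [map_pow, map_mul, QuotientGroup.mk'_apply N n, (QuotientGroup.eq_one_iff n).2 hn, mul_one] at this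
    rw [hti, ← this]; simp [pow_succ, mul_assoc]
  have tc : ∀ n : G, t * (ρ * n * ρ⁻¹) * t⁻¹ = ρ⁻¹ * (t * n * t⁻¹) * ρ := by
    intro n
    calc t * (ρ * n * ρ⁻¹) * t⁻¹ = (t * ρ * t⁻¹) * (t * n * t⁻¹) * (t * ρ * t⁻¹)⁻¹ := by group
      _ = _ := by rw [htρ, inv_inv]
  have e1 : ∀ n ∈ N, t * n * t⁻¹ = n → n * n = 1 := by
    intro n hn he
    have := k6 _ (hN.conj_mem n hn ρ)
    rw [tc, he, k4 n hn, inv_pow, inv_eq_one, pow_two] at this
    exact this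
  have e2 : ∀ n ∈ N, t * n * t⁻¹ = n⁻¹ → t * n * t⁻¹ = n := by
    intro n hn he
    have a1 := k6 _ (hN.conj_mem n hn ρ)
    rw [tc, he] at a1
    have hc : Commute (ρ⁻¹ * n * ρ) (ρ * n * ρ⁻¹) := (k4 n hn).trans (k3 n hn).symm
    have a2 : ρ⁻¹ * n⁻¹ * ρ = (ρ⁻¹ * n * ρ)⁻¹ := by group
    rw [a2, hc.inv_left.mul_pow, inv_pow, inv_mul_eq_one] at a1
    have a3 : n * n = 1 := by
      apply hfp _ (N.mul_mem hn hn)
      have a4 : ρ⁻¹ * (n * n) * ρ = ρ * (n * n) * ρ⁻¹ := by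
        calc ρ⁻¹ * (n * n) * ρ = (ρ⁻¹ * n * ρ) ^ 2 := by rw [pow_two]; group
          _ = _ := by rw [a1, pow_two]; group
      calc ρ * (n * n) = ρ⁻¹ * (ρ * ρ * (n * n) * ρ) * ρ⁻¹ := by group
        _ = ρ⁻¹ * (ρ * (n * n) * ρ⁻¹) * ρ⁻¹ := by rw [← hρi, a4]
        _ = n * n * (ρ * ρ)⁻¹ := by group
        _ = _ := by rw [← hρi, inv_inv]
    rw [he, inv_eq_of_mul_eq_one_right a3]
  have e3 : ∀ a ∈ N, t * a * t⁻¹ = a → ∀ b ∈ N, t * b * t⁻¹ = b → a * b = b * a := by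
    intro a ha hta b hb htb
    have a1 := e1 (a * b) (N.mul_mem ha hb) (by
      calc t * (a * b) * t⁻¹ = (t * a * t⁻¹) * (t * b * t⁻¹) := by group
        _ = _ := by rw [hta, htb])
    rw [← inv_eq_of_mul_eq_one_right a1, mul_inv_rev, inv_eq_of_mul_eq_one_right (e1 a ha hta),
      inv_eq_of_mul_eq_one_right (e1 b hb htb)]
  have e4 : ∀ a ∈ N, t * a * t⁻¹ = a → ∀ b ∈ N, t * b * t⁻¹ = b → a * (ρ * b * ρ⁻¹) = (ρ * b * ρ⁻¹) * a := by
    intro a ha hta b hb htb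
    have hab := e3 a ha hta b hb htb
    have ha' := hN.conj_mem a ha ρ
    have hb' := hN.conj_mem b hb ρ
    have r1 := k5 a ha
    have r2 := k5 b hb
    have r3 := k5 _ (N.mul_mem ha hb)
    have r4 : ρ * (a * b) * ρ⁻¹ = (ρ * a * ρ⁻¹) * (ρ * b * ρ⁻¹) := by group
    have r5 : (ρ * a * ρ⁻¹) * (ρ * b * ρ⁻¹) = (ρ * b * ρ⁻¹) * (ρ * a * ρ⁻¹) := by rw [← r4, hab]; group
    have r6 : ρ * (ρ * b * ρ⁻¹) * ρ⁻¹ = (ρ * b * ρ⁻¹)⁻¹ * b⁻¹ := by
      rw [← k3 b hb]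
      calc ρ * (ρ * b * ρ⁻¹) * ρ⁻¹ = (ρ * ρ) * b * (ρ * ρ)⁻¹ := by group
        _ = _ := by rw [← hρi]; group
    have r7 : ρ * (a * (ρ * b * ρ⁻¹) * a⁻¹ * (ρ * b * ρ⁻¹)⁻¹) * ρ⁻¹ =
        (ρ * a * ρ⁻¹) * (ρ * (ρ * b * ρ⁻¹) * ρ⁻¹) * (ρ * a * ρ⁻¹)⁻¹ * (ρ * (ρ * b * ρ⁻¹) * ρ⁻¹)⁻¹ := by group
    rw [r4] at r3
    rw [r6] at r7
    have bi := inv_eq_of_mul_eq_one_right (e1 b hb htb)
    have c1 := hcl a ha _ hb'
    have d1 := hcl _ ha' b hb
    generalize ρ * a * ρ⁻¹ = a' at *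
    generalize ρ * b * ρ⁻¹ = b' at *
    have s1 : a * b' = (a * b' * a⁻¹ * b'⁻¹) * b' * a := by group
    have s2 : a' * b = (a' * b * a'⁻¹ * b⁻¹) * b * a' := by group
    have s3 : a' * (b'⁻¹ * b⁻¹) * a'⁻¹ * (b'⁻¹ * b⁻¹)⁻¹ = a' * b * a'⁻¹ * b⁻¹ := by
      calc a' * (b'⁻¹ * b⁻¹) * a'⁻¹ * (b'⁻¹ * b⁻¹)⁻¹ = b'⁻¹ * (b' * a') * b'⁻¹ * b⁻¹ * a'⁻¹ * b⁻¹⁻¹ * b' := by group
        _ = b'⁻¹ * ((a' * b * a'⁻¹ * b⁻¹) * b') := by rw [← r5, bi, bi]; group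
        _ = _ := by rw [← d1 b' hb']; group
    rw [s3] at r7
    have hcN : a * b' * a⁻¹ * b'⁻¹ ∈ N := N.mul_mem (N.mul_mem (N.mul_mem ha hb') (N.inv_mem ha)) (N.inv_mem hb')
    generalize a * b' * a⁻¹ * b'⁻¹ = c at *
    generalize a' * b * a'⁻¹ * b⁻¹ = d at *
    have s4 : c = d := by
      have u1 : c * (a * b * (a' * b')) = d * (a * b * (a' * b')) := by
        calc c * (a * b * (a' * b')) = (c * a') * b' * a * b := by rw [r3]; group
          _ = a' * (c * b' * a) * b := by rw [← c1 a' ha']; group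
          _ = (a' * a) * (b' * b) := by rw [← s1]; group
          _ = a * (a' * b) * b' := by rw [← r1, ← r2]; group
          _ = (a * d) * b * a' * b' := by rw [s2]; group
          _ = _ := by rw [d1 a ha]; group
      exact mul_right_cancel u1
    have s5 : c = 1 := hfp c hcN (by rw [← s4] at r7; rw [← mul_inv_eq_iff_eq_mul]; exact r7)
    rw [s1, s5, one_mul]
  have hsur : ∀ m ∈ N, ∃ n ∈ N, m = n⁻¹ * (ρ⁻¹ * n * ρ) := by
    intro m hm
    let f : N → N := fun n => ⟨(n : G)⁻¹ * (ρ⁻¹ * n * ρ), N.mul_mem (N.inv_mem n.2) (by simpa using hN.conj_mem _ n.2 ρ⁻¹)⟩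
    have hf : Function.Injective f := by
      intro x y hxy
      have a1 : (x : G)⁻¹ * (ρ⁻¹ * x * ρ) = (y : G)⁻¹ * (ρ⁻¹ * y * ρ) := congrArg Subtype.val hxy
      have a2 := hfp ((y : G) * (x : G)⁻¹) (N.mul_mem y.2 (N.inv_mem x.2)) (by
        calc ρ * ((y : G) * (x : G)⁻¹) = ρ * y * ((x : G)⁻¹ * (ρ⁻¹ * x * ρ)) * ρ⁻¹ * (x : G)⁻¹ * ρ := by group
          _ = _ := by rw [a1]; group)
      exact Subtype.ext (mul_inv_eq_one.1 a2).symm
    obtain ⟨n, hn⟩ := Finite.surjective_of_injective hf ⟨m, hm⟩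
    exact ⟨n, n.2, (congrArg Subtype.val hn).symm⟩
  have hE : ∀ n ∈ N, n⁻¹ * (t * n * t⁻¹) ∈ N ∧ t * (n⁻¹ * (t * n * t⁻¹)) * t⁻¹ = n⁻¹ * (t * n * t⁻¹) := by
    intro n hn
    have a1 := N.mul_mem (N.inv_mem hn) (hN.conj_mem n hn t)
    refine ⟨a1, e2 _ a1 ?_⟩
    calc t * (n⁻¹ * (t * n * t⁻¹)) * t⁻¹ = t * n⁻¹ * (t * t) * t⁻¹ * n * (t * t)⁻¹ := by group
      _ = _ := by rw [ht]; group
  have hdec : ∀ m ∈ N, ∃ a ∈ N, t * a * t⁻¹ = a ∧ ∃ b ∈ N, t * b * t⁻¹ = b ∧ m = (ρ * a * ρ⁻¹) * (ρ⁻¹ * b * ρ) := by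
    intro m hm
    obtain ⟨n, hn, rfl⟩ := hsur m hm
    have hn' : ρ⁻¹ * n * ρ ∈ N := by simpa using hN.conj_mem _ hn ρ⁻¹
    refine ⟨_, (hE _ hn').1, (hE _ hn').2, _, (hE n hn).1, (hE n hn).2, ?_⟩
    have a1 : t * (ρ⁻¹ * n * ρ) * t⁻¹ = ρ * (t * n * t⁻¹) * ρ⁻¹ := by
      calc t * (ρ⁻¹ * n * ρ) * t⁻¹ = (t * ρ * t⁻¹)⁻¹ * (t * n * t⁻¹) * (t * ρ * t⁻¹) := by group
        _ = _ := by rw [htρ, inv_inv]
    have a2 := inv_eq_of_mul_eq_one_right (e1 _ (hE n hn).1 (hE n hn).2)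
    rw [a1]
    conv_rhs => rw [← a2]
    calc n⁻¹ * (ρ⁻¹ * n * ρ) = n⁻¹ * ρ⁻¹ * (t * n * t⁻¹) * ρ⁻¹⁻¹ * (ρ⁻¹ * (n⁻¹ * (t * n * t⁻¹))⁻¹ * ρ) := by group
      _ = n⁻¹ * (ρ * ρ) * (t * n * t⁻¹) * (ρ * ρ)⁻¹ * (ρ⁻¹ * (n⁻¹ * (t * n * t⁻¹))⁻¹ * ρ) := by rw [← hρi]
      _ = _ := by group
  have m1 : ∀ a ∈ N, t * a * t⁻¹ = a → ∀ b ∈ N, t * b * t⁻¹ = b → Commute (ρ * a * ρ⁻¹) (ρ⁻¹ * b * ρ) := by
    intro a ha hta b hb htb
    have := e4 a ha hta b hb htb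
    calc (ρ * a * ρ⁻¹) * (ρ⁻¹ * b * ρ) = (ρ * a * ρ⁻¹) * ((ρ * ρ) * b * (ρ * ρ)⁻¹) := by rw [← hρi, inv_inv]
      _ = ρ * (a * (ρ * b * ρ⁻¹)) * ρ⁻¹ := by group
      _ = ((ρ * ρ) * b * (ρ * ρ)⁻¹) * (ρ * a * ρ⁻¹) := by rw [this]; group
      _ = _ := by rw [← hρi, inv_inv]
  have m2 : ∀ (g : G), ∀ a ∈ N, t * a * t⁻¹ = a → ∀ b ∈ N, t * b * t⁻¹ = b → Commute (g * a * g⁻¹) (g * b * g⁻¹) := by
    intro g a ha hta b hb htb
    calc (g * a * g⁻¹) * (g * b * g⁻¹) = g * (a * b) * g⁻¹ := by group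
      _ = _ := by rw [e3 a ha hta b hb htb]; group
  refine ⟨⟨⟨fun x y => Subtype.ext ?_⟩⟩, fun x hx => ?_⟩
  · obtain ⟨a, ha, hta, b, hb, htb, hx⟩ := hdec x x.2
    obtain ⟨a', ha', hta', b', hb', htb', hy⟩ := hdec y y.2
    change Commute (x : G) y
    rw [hx, hy]
    refine Commute.mul_left (Commute.mul_right (m2 ρ a ha hta a' ha' hta') (m1 a ha hta b' hb' htb'))
      (Commute.mul_right (m1 a' ha' hta' b hb htb).symm ?_)
    simpa using m2 ρ⁻¹ b hb htb b' hb' htb'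
  · obtain ⟨a, ha, hta, b, hb, htb, rfl⟩ := hdec x hx
    rw [(m1 a ha hta b hb htb).mul_pow]
    calc (ρ * a * ρ⁻¹) ^ 2 * (ρ⁻¹ * b * ρ) ^ 2 = ρ * (a * a) * ρ⁻¹ * (ρ⁻¹ * (b * b) * ρ) := by simp [pow_two, mul_assoc]
      _ = 1 := by rw [e1 a ha hta, e1 b hb htb]; group

theorem caseB [Finite G] (h : Hy G) (hs : Group.IsSolvable G) {u ρ : G} (hu : orderOf u = 4) (hρ : orderOf ρ = 3)
    (N : Subgroup G) [hNn : N.Normal] (hN : N = pCore 2 G) (h3 : pCore 3 G = ⊥) :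
    (IsPGroup 2 ↥N ∧ Monoid.exponent ↥N = 4 ∧ Group.nilpotencyClass ↥N ≤ 2 ∧ N.index = 3) ∨
      (Cfsg.IsElementaryAbelian 2 N ∧ Nonempty (G ⧸ N ≃* Equiv.Perm (Fin 3))) := by
  haveI : Fact (Nat.Prime 3) := ⟨by norm_num⟩
  have hN2 : IsPGroup 2 N := hN ▸ H1.isPGroup_pCore 2 G
  have hN4 : ∀ x ∈ N, x ^ 4 = 1 := fun x hx => h.c3 (pc (by norm_num) (by norm_num) (by norm_num) hN2) hx
  have hO : pPrimeCore 2 G = ⊥ := by
    rw [eq_bot_iff, ← h3]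
    exact H1.le_pCore inferInstance fun x => ⟨1, Subtype.ext (h.c2 (H1.coprime_pPrimeCore 2 G) x.2)⟩
  have hC : centralizer (N : Set G) ≤ N := hN ▸ H1.centralizer_pCore_le hs hO
  have hρ3 : ρ ^ 3 = 1 := hρ ▸ pow_orderOf_eq_one ρ
  have hρ1 : ρ ≠ 1 := by rintro rfl; simp at hρ
  have hρN : ρ ∉ N := fun hx => hρ1 (cop hρ3 (hN4 _ hx) (by norm_num))
  have hN1 : N ≠ ⊥ := by
    rintro rfl
    exact hρN (hC fun x hx => by rw [mem_bot.1 hx]; simp)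
  have hu4 : u ^ 4 = 1 := hu ▸ pow_orderOf_eq_one u
  have hZ : IsPGroup 3 (zpowers ρ) := IsPGroup.of_card (n := 1) (by rw [Nat.card_zpowers, hρ]; rfl)
  obtain ⟨R, hR⟩ := hZ.exists_le_sylow
  have hR3 : ∀ x ∈ (R : Subgroup G), x ^ 3 = 1 := fun x hx => h.c2 (pc (by norm_num) (by norm_num) (by norm_num) R.2) hx
  have hf := fpf23 h hN4 hR3
  have hRn : (R : Subgroup G) ≤ normalizer (N : Set G) := by rw [normalizer_eq_top]; exact le_top
  haveI hRc := hf.isCyclic_of_odd hRn hN1 (p := 3) (by norm_num) R.2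
  have hRρ : (R : Subgroup G) = zpowers ρ := by
    symm
    apply eq_of_le_of_card_ge hR
    rw [Nat.card_zpowers, hρ, ← IsCyclic.exponent_eq_card]
    exact Nat.le_of_dvd (by norm_num) (Monoid.exponent_dvd_of_forall_pow_eq_one fun x => Subtype.ext (hR3 x x.2))
  have hq3 : (ρ : G ⧸ N) ^ 3 = 1 := by rw [← QuotientGroup.mk_pow, hρ3]; rfl
  have hq1 : (ρ : G ⧸ N) ≠ 1 := fun h => hρN ((QuotientGroup.eq_one_iff _).1 h)
  have hqo : orderOf (ρ : G ⧸ N) = 3 := orderOf_eq_prime hq3 hq1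
  set S := R.mapSurjective (QuotientGroup.mk'_surjective N) with hS
  have hSρ : (S : Subgroup (G ⧸ N)) = zpowers (ρ : G ⧸ N) := by
    rw [hS, Sylow.coe_mapSurjective, hRρ, MonoidHom.map_zpowers]; rfl
  have hQ := h.quo N
  haveI hSn : (S : Subgroup (G ⧸ N)).Normal := by
    obtain ⟨M, r, hM, hM1, -, hr, hMr⟩ := H1.exists_normal_isPGroup_of_isSolvable (⊤ : Subgroup (G ⧸ N))
      (fun ht => hq1 (mem_bot.1 (ht ▸ mem_top _))) inferInstance
    by_cases hr3 : r = 3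
    · subst hr3
      have h1 : M ≤ S := le_sup_right.trans (S.3 (S.2.to_sup_of_normal_right hMr) le_sup_left).le
      rw [← (L.eq_bot_or_eq_of_prime_card (by rw [hSρ, Nat.card_zpowers, hqo]; norm_num) h1).resolve_left hM1]
      exact hM
    · exfalso
      have h1 : IsPGroup 2 M := fun x => ⟨2, Subtype.ext (hQ.c3 (pc hr (by norm_num) hr3 hMr) x.2)⟩
      have h2 : M.comap (QuotientGroup.mk' N) ≤ N := by
        conv_rhs => rw [hN]
        exact H1.le_pCore inferInstance (h1.comap_of_ker_isPGroup _ (by rw [QuotientGroup.ker_mk']; exact hN2))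
      apply hM1
      rw [eq_bot_iff]
      intro q hq
      obtain ⟨g, rfl⟩ := QuotientGroup.mk_surjective q
      exact (QuotientGroup.eq_one_iff g).2 (h2 hq)
  have hcen : ∀ q : G ⧸ N, (ρ : G ⧸ N) * q = q * ρ → q ∈ zpowers (ρ : G ⧸ N) := by
    intro q hq
    rw [← hSρ]
    rcases hQ q with h1 | h1
    · obtain ⟨k, -, hk⟩ := (Nat.dvd_prime_pow (p := 3) (m := 1) (by norm_num)).1 (orderOf_dvd_of_pow_eq_one h1)
      exact NilCov.mem_syl S ⟨k, hk⟩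
    · rw [(hQ.no6 hq3 h1 hq).resolve_left hq1]; exact one_mem _
  have hz3 : ∀ {X : Type _} [Group X] {x y : X}, x ^ 3 = 1 → y ∈ zpowers x → y = 1 ∨ y = x ∨ y = x⁻¹ := by
    intro X _ x y hx ⟨i, hi⟩
    have h1 : y = x ^ (i % 3) := by
      rw [← hi]
      conv_lhs => rw [← Int.mul_ediv_add_emod i 3]
      simp only [zpow_add, zpow_mul]
      rw [show x ^ (3 : ℤ) = 1 from by exact_mod_cast hx]; simp
    have h2 : i % 3 = 0 ∨ i % 3 = 1 ∨ i % 3 = 2 := by omega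
    rcases h2 with h2 | h2 | h2 <;> rw [h2] at h1
    · left; simpa using h1
    · right; left; simpa using h1
    · right; right
      rw [h1, eq_inv_iff_mul_eq_one, ← hx, ← zpow_natCast]
      exact (zpow_add_one x 2).symm
  have hconj : ∀ q : G ⧸ N, q * ρ * q⁻¹ = ρ ∨ q * ρ * q⁻¹ = (ρ : G ⧸ N)⁻¹ := by
    intro q
    have h1 : q * ρ * q⁻¹ ∈ zpowers (ρ : G ⧸ N) := by
      rw [← hSρ]; exact hSn.conj_mem _ (hSρ ▸ mem_zpowers _) q
    refine (hz3 hq3 h1).resolve_left fun h2 => hq1 ?_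
    simpa using h2
  have hlcs : (⊤ : Subgroup N).lowerCentralSeries 2 = ⊥ := by
    have hfp : ∀ g : N, MulAut.conjNormal ρ g = g → g = 1 := by
      intro g hg
      have h1 : ρ * g * ρ⁻¹ = g := congrArg Subtype.val hg
      exact Subtype.ext ((h.no6 hρ3 (hN4 g g.2) (by rw [← mul_inv_eq_iff_eq_mul]; exact h1)).resolve_left hρ1)
    refine (S3779.result (p := 3) (by norm_num) (MulAut.conjNormal (H := N) ρ) ?_ hfp).2.1 rfl
    refine orderOf_eq_prime (by rw [← map_pow, hρ3, map_one]) fun h1 => ?_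
    obtain ⟨x, hx⟩ := ne_bot_iff_exists_ne_one.1 hN1
    exact hx (hfp x (by rw [h1]; rfl))
  haveI := hN2.isNilpotent
  have hcl : Group.nilpotencyClass N ≤ 2 := Subgroup.lowerCentralSeries_eq_bot_iff_nilpotencyClass_le.1 hlcs
  by_cases hall : ∀ q : G ⧸ N, q * ρ * q⁻¹ = ρ
  · left
    have h1 : zpowers (ρ : G ⧸ N) = ⊤ := eq_top_iff.2 fun q _ => hcen q (by rw [← mul_inv_eq_iff_eq_mul.1 (hall q)])
    have h2 : N.index = 3 := by
      change Nat.card (G ⧸ N) = 3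
      rw [← card_top, ← h1, Nat.card_zpowers, hqo]
    refine ⟨hN2, ?_, hcl, h2⟩
    apply Nat.dvd_antisymm (Monoid.exponent_dvd_of_forall_pow_eq_one fun x => Subtype.ext (hN4 x x.2))
    have huN : u ∈ N := by
      rw [← QuotientGroup.eq_one_iff]
      refine cop (m := Nat.card (G ⧸ N)) (n := 4) pow_card_eq_one' (by rw [← QuotientGroup.mk_pow, hu4]; rfl) ?_
      change N.index.Coprime 4
      rw [h2]; norm_num
    have h5 := Monoid.order_dvd_exponent (⟨u, huN⟩ : N)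
    rwa [← orderOf_coe, hu] at h5
  · right
    push Not at hall
    obtain ⟨q, hq⟩ := hall
    have hq' := (hconj q).resolve_left hq
    obtain ⟨t0, rfl⟩ := QuotientGroup.mk_surjective q
    have hx : t0 * ρ * t0⁻¹ ∈ N ⊔ (R : Subgroup G) := by
      have h1 : (t0 * ρ * t0⁻¹) * ρ ∈ N := by
        rw [← QuotientGroup.eq_one_iff]
        simp only [QuotientGroup.mk_mul, QuotientGroup.mk_inv, hq', inv_mul_cancel]
      have := (N ⊔ (R : Subgroup G)).mul_mem (le_sup_left (a := N) h1) (inv_mem (le_sup_right (a := N) (hR (mem_zpowers ρ))))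
      simpa using this
    obtain ⟨k, hk, hkR⟩ := hf.exists_conj_mem hRn hx (fun hm => hρN (by simpa [mul_assoc] using hNn.conj_mem _ hm t0⁻¹))
    have hkq : ((k⁻¹ * t0 : G) : G ⧸ N) = t0 := by
      rw [QuotientGroup.mk_mul, QuotientGroup.mk_inv, (QuotientGroup.eq_one_iff k).2 hk]; simp
    have htρ : (k⁻¹ * t0) * ρ * (k⁻¹ * t0)⁻¹ = ρ⁻¹ := by
      have h1 : (k⁻¹ * t0) * ρ * (k⁻¹ * t0)⁻¹ ∈ zpowers ρ := by
        rw [← hRρ]; simpa [mul_assoc] using hkR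
      rcases hz3 hρ3 h1 with h2 | h2 | h2
      · exact absurd (conj_eq_one_iff.1 h2) hρ1
      · exfalso
        apply hq
        have := congrArg (QuotientGroup.mk (s := N)) h2
        rwa [QuotientGroup.mk_mul, QuotientGroup.mk_mul, QuotientGroup.mk_inv, hkq] at this
      · exact h2
    rw [← hkq] at hq hq'
    generalize k⁻¹ * t0 = t at *
    have htt : ρ * (t * t) = t * t * ρ := by
      calc ρ * (t * t) = (t * ρ * t⁻¹)⁻¹ * (t * t) := by rw [htρ, inv_inv]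
        _ = t * ρ⁻¹ * t := by group
        _ = _ := by rw [← htρ]; group
    have ht4 : t ^ 4 = 1 := by
      refine (h t).resolve_left fun h1 => hq ?_
      have h2 : t = (t * t) * (t * t) := by
        calc t = t * t ^ 3 := by rw [h1, mul_one]
          _ = _ := by simp [pow_succ, mul_assoc]
      have h3 : ρ * t = t * ρ := by
        rw [h2, ← mul_assoc, htt, mul_assoc, htt, ← mul_assoc]
      rw [← QuotientGroup.mk_inv, ← QuotientGroup.mk_mul, ← QuotientGroup.mk_mul, ← h3]; simp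
    have ht : t * t = 1 := (h.no6 hρ3 (by rw [← pow_two, ← pow_mul, mul_comm, pow_mul, ht4, one_pow]) htt).resolve_left hρ1
    have htz : (t : G ⧸ N) ∉ zpowers (ρ : G ⧸ N) := by
      rintro ⟨i, hi⟩
      apply hq
      rw [← hi]; group
    refine ⟨elab2 h N hN4 hρ3 hρ1 ht htρ (fun hm => htz (by rw [(QuotientGroup.eq_one_iff t).2 hm]; exact one_mem _)) ?_, ?_⟩
    · intro x hx y hy z hz
      have h1 := (GS.class_le_two_iff.1 hcl) (commutator_mem_commutator (mem_top (⟨x, hx⟩ : N)) (mem_top (⟨y, hy⟩ : N)))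
      exact congrArg Subtype.val (mem_center_iff.1 h1 ⟨z, hz⟩)
    · obtain ⟨e⟩ := H2.closure_equiv_dihedral hqo (t := (t : G ⧸ N)) (by rw [← QuotientGroup.mk_mul, ht]; rfl) hq' htz
      obtain ⟨e'⟩ := H2.Dh.dih3
      have h1 : closure ({(ρ : G ⧸ N), (t : G ⧸ N)} : Set (G ⧸ N)) = ⊤ := by
        rw [eq_top_iff]
        intro q _
        have hz : zpowers (ρ : G ⧸ N) ≤ closure ({(ρ : G ⧸ N), (t : G ⧸ N)} : Set (G ⧸ N)) :=
          zpowers_le.2 (subset_closure (by simp))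
        rcases hconj q with h1 | h1
        · exact hz (hcen q (by rw [← mul_inv_eq_iff_eq_mul.1 h1]))
        · have h2 := hz (hcen ((t : G ⧸ N)⁻¹ * q) (by
            calc (ρ : G ⧸ N) * ((t : G ⧸ N)⁻¹ * q) = (t : G ⧸ N)⁻¹ * ((t : G ⧸ N) * ρ * (t : G ⧸ N)⁻¹) * q := by group
              _ = _ := by rw [hq', ← h1]; group))
          have h3 := mul_mem (subset_closure (k := ({(ρ : G ⧸ N), (t : G ⧸ N)} : Set (G ⧸ N))) (show (t : G ⧸ N) ∈ _ by simp)) h2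
          simpa using h3
      exact ⟨((topEquiv.symm.trans (MulEquiv.subgroupCongr h1.symm)).trans e).trans e'⟩

/-- A finite group whose set of element orders is exactly {1, 2, 3, 4} has a normal subgroup N such that either N is a 2-group of exponent 4 and nilpotency class at most 2 with G/N of order 3, or N is an elementary abelian 2-group with G/N isomorphic to the symmetric group of degree 3, or N is an elementary abelian 3-group with G/N cyclic of order 4 or quaternion of order 8. -/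
theorem result {G : Type*} [Group G] [Finite G] (h : Set.range (orderOf : G → ℕ) = {k : ℕ | 1 ≤ k ∧ k ≤ 4}) :
    ∃ (N : Subgroup G) (_ : N.Normal),
      (IsPGroup 2 ↥N ∧ Monoid.exponent ↥N = 4 ∧ Group.nilpotencyClass ↥N ≤ 2 ∧ N.index = 3) ∨
      (Cfsg.IsElementaryAbelian 2 N ∧ Nonempty (G ⧸ N ≃* Equiv.Perm (Fin 3))) ∨
      (Cfsg.IsElementaryAbelian 3 N ∧ ((IsCyclic (G ⧸ N) ∧ N.index = 4) ∨ Nonempty (G ⧸ N ≃* QuaternionGroup 2))) := by
  have ho : ∀ g : G, 1 ≤ orderOf g ∧ orderOf g ≤ 4 := fun g => (h ▸ Set.mem_range_self g : orderOf g ∈ {k : ℕ | 1 ≤ k ∧ k ≤ 4})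
  have hy : Hy G := by
    intro g
    have h1 := pow_orderOf_eq_one g
    obtain ⟨h2, h3⟩ := ho g
    by_cases h4 : orderOf g = 3
    · exact Or.inl (h4 ▸ h1)
    · refine Or.inr (orderOf_dvd_iff_pow_eq_one.1 ?_)
      generalize orderOf g = k at *
      interval_cases k <;> simp at h4 ⊢
  obtain ⟨u, hu⟩ : (4 : ℕ) ∈ Set.range (orderOf : G → ℕ) := by rw [h]; simp
  obtain ⟨ρ, hρ⟩ : (3 : ℕ) ∈ Set.range (orderOf : G → ℕ) := by rw [h]; simp
  have hs : Group.IsSolvable G := H3.burnside_pq (p := 2) (q := 3) (by norm_num) (by norm_num) (by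
    intro r hr hd
    haveI := Fact.mk hr
    obtain ⟨x, hx⟩ := exists_prime_orderOf_dvd_card' r hd
    have h1 := (ho x).2
    have h2 := hr.two_le
    rw [hx] at h1
    interval_cases r
    · simp
    · simp
    · exact absurd hr (by norm_num))
  by_cases h3 : pCore 3 G = ⊥
  · refine ⟨pCore 2 G, inferInstance, ?_⟩
    rcases caseB hy hs hu hρ (pCore 2 G) rfl h3 with h1 | h1
    · exact Or.inl h1
    · exact Or.inr (Or.inl h1)
  · exact ⟨pCore 3 G, inferInstance, Or.inr (Or.inr (caseA hy hs hu _ rfl h3))⟩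

end Cfsg.Agent.S4006
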