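import Cfsg.Statements.S4014
import Mathlib
import Cfsg.Agent.H2.DerLen

set_option autoImplicit false
open Cfsg

namespace Cfsg.Agent.S4014

open Cfsg.Agent.H2 Cfsg.Agent.BG Subgroup RegularWreathProduct commutatorElement

theorem der_wr {D C : Type*} [Group D] [Group C] [Nontrivial C] {k : ℕ} (h : derivedSeries (D ≀ᵣ C) (k + 1) = ⊥) :
    derivedSeries D k = ⊥ := by
  classical
  let π : (rightHom : D ≀ᵣ C →* C).ker →* D := MonoidHom.mk' (fun w => w.1.left 1) fun a b => by
    simp [show a.1.right = 1 from a.2]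
  have h1 : ∀ k, derivedSeries D k ≤ ((derivedSeries (D ≀ᵣ C) (k + 1)).subgroupOf _).map π := fun k => by
    induction k with
    | zero =>
      intro d _
      obtain ⟨c, hc⟩ := exists_ne (1 : C)
      refine ⟨⟨⁅(⟨Pi.mulSingle 1 d, 1⟩ : D ≀ᵣ C), inl c⁆, by simp [commutatorElement_def]⟩,
        commutator_mem_commutator (mem_top _) (mem_top _), ?_⟩
      simp [π, commutatorElement_def, hc]
    | succ k ih =>
      refine (Subgroup.commutator_mono ih ih).trans ((map_commutator _ _ _).ge.trans (map_mono ?_))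
      exact commutator_le.2 fun a ha b hb => commutator_mem_commutator ha hb
  have := h1 k
  rwa [h, bot_subgroupOf, Subgroup.map_bot, le_bot_iff] at this

theorem ex (p : ℕ) [hp : Fact p.Prime] (k : ℕ) : ∃ (D : Type) (_ : Group D) (_ : Finite D) (Λ : Type) (_ : Finite Λ)
    (_ : MulAction D Λ), FaithfulSMul D Λ ∧ IsPGroup p D ∧ ♯Λ = p ^ (k + 1) ∧ derivedSeries D k ≠ ⊥ := by
  induction k with
  | zero => exact ⟨Multiplicative (ZMod p), inferInstance, inferInstance, Multiplicative (ZMod p), inferInstance,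
      inferInstance, inferInstance, IsPGroup.of_card (n := 1) (by simp), by simp, top_ne_bot⟩
  | succ k ih =>
    obtain ⟨D, _, _, Λ, _, _, _, h1, h2, h3⟩ := ih
    obtain ⟨j, hj⟩ := h1.exists_card_eq
    haveI : Nonempty Λ := (Nat.card_pos_iff.1 (h2 ▸ pow_pos hp.out.pos _)).1
    exact ⟨D ≀ᵣ Multiplicative (ZMod p), inferInstance, inferInstance, Λ × Multiplicative (ZMod p), inferInstance,
      inferInstance, inferInstance, IsPGroup.of_card (n := j * p + 1) (by
        simp [RegularWreathProduct.card, hj, pow_succ, pow_mul]), by simp [h2, pow_succ], fun e => h3 (der_wr e)⟩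

/-- Let p be a prime, n ≥ 1, and P a Sylow p-subgroup of the symmetric group on n letters. Then the derived length of P is exactly k = ⌊log_p n⌋ (the largest k with p^k ≤ n): the k-th derived subgroup of P is trivial and, when k ≥ 1, the (k−1)-st is not. -/
theorem result (p : ℕ) [Fact p.Prime] (n : ℕ) (hn : 1 ≤ n) (P : Sylow p (Equiv.Perm (Fin n))) : derivedSeries ↥(P : Subgroup (Equiv.Perm (Fin n))) (Nat.log p n) = ⊥ ∧ (1 ≤ Nat.log p n → derivedSeries ↥(P : Subgroup (Equiv.Perm (Fin n))) (Nat.log p n - 1) ≠ ⊥) := by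
  have hp : p.Prime := Fact.out
  refine ⟨eq_bot_iff.2 fun g hg => Subtype.ext (Equiv.ext fun i => ?_), fun h1 h2 => ?_⟩
  · refine dr_le_of_relIndex (p := p) (MulAction.stabilizer P i) _ ⊤ (P.2.of_equiv topEquiv.symm) ?_ ((dr_top _).ge hg)
    rw [relIndex_top_right, MulAction.index_stabilizer]
    exact (Set.ncard_le_card _).trans_lt (by simpa using Nat.lt_pow_succ_log_self hp.one_lt n)
  · obtain ⟨D, _, _, Λ, _, _, _, h3, h4, h5⟩ := ex p (Nat.log p n - 1)
    rw [Nat.sub_add_cancel h1] at h4
    obtain ⟨f⟩ : Nonempty (Λ ↪ Fin n) := by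
      haveI := Fintype.ofFinite Λ
      exact Function.Embedding.nonempty_of_card_le (by
        rw [Fintype.card_fin, ← Nat.card_eq_fintype_card, h4]; exact Nat.pow_log_le_self p (Nat.one_le_iff_ne_zero.1 hn))
    classical
    let φ := (Equiv.Perm.viaEmbeddingHom f).comp (MulAction.toPermHom D Λ)
    have hφ : Function.Injective φ := (Equiv.Perm.viaEmbeddingHom_injective f).comp MulAction.toPerm_injective
    obtain ⟨Q, hQ⟩ := (h3.of_equiv (MonoidHom.ofInjective hφ)).exists_le_sylow
    let ψ := (Q.equiv P).toMonoidHom.comp ((inclusion hQ).comp φ.rangeRestrict)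
    have hψ : Function.Injective ψ := (Q.equiv P).injective.comp ((inclusion_injective hQ).comp
      (MonoidHom.rangeRestrict_injective_iff.2 hφ))
    exact h5 ((map_eq_bot_iff_of_injective _ hψ).1 (eq_bot_iff.2 (h2 ▸ map_derivedSeries_le_derivedSeries ψ _)))

end Cfsg.Agent.S4014
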