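import Cfsg.Statements.S4015
import Mathlib
import Cfsg.Agent.S4014
import Cfsg.Agent.S4417

set_option autoImplicit false
open Cfsg

namespace Cfsg.Agent.S4015

open Cfsg.Agent.H2 Cfsg.Agent.BG Subgroup RegularWreathProduct Module

universe u

theorem ex (p : ℕ) [hp : Fact p.Prime] (F : Type u) [Field F] [Fintype F] {e : ℕ} (he : 0 < e)
    (h : p ∣ Fintype.card F ^ e - 1) (k : ℕ) : ∃ (D : Type u) (_ : Group D) (_ : Finite D) (V : Type u)
    (_ : AddCommGroup V) (_ : Module F V) (ρ : Representation F D V),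
    MonoidHom.ker ρ = ⊥ ∧ IsPGroup p D ∧ finrank F V = e * p ^ k ∧ derivedSeries D k ≠ ⊥ := by
  classical
  induction k with
  | zero =>
    obtain ⟨g, hg⟩ := exists_prime_orderOf_dvd_card' (G := GL (Fin e) F) p (by
      rw [Matrix.card_GL_field]; exact h.trans (Finset.dvd_prod_of_mem _ (Finset.mem_univ (⟨0, he⟩ : Fin e))))
    haveI : Nontrivial (zpowers g) := Finite.one_lt_card_iff_nontrivial.1 (Nat.card_zpowers g ▸ hg ▸ hp.out.one_lt)
    exact ⟨zpowers g, inferInstance, inferInstance, Fin e → F, inferInstance, inferInstance, _,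
      ker_matRep (subtype_injective _), .of_card (n := 1) (by rw [Nat.card_zpowers, hg, pow_one]), by simp, top_ne_bot⟩
  | succ k ih =>
    obtain ⟨D, _, _, V, _, _, ρ, h1, h2, h3, h4⟩ := ih
    obtain ⟨j, hj⟩ := h2.exists_card_eq
    have h5 : 0 < finrank F V := h3 ▸ mul_pos he (pow_pos hp.out.pos k)
    haveI := Module.finite_of_finrank_pos h5
    obtain ⟨v, hv⟩ := finrank_pos_iff_exists_ne_zero.1 h5
    refine ⟨D ≀ᵣ Multiplicative (ZMod p), inferInstance, inferInstance, Multiplicative (ZMod p) → V, inferInstance,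
      inferInstance, ⟨⟨fun w => LinearMap.pi fun x => ρ (w.left x) ∘ₗ LinearMap.proj (w.right⁻¹ * x),
        LinearMap.ext fun f => funext fun x => by simp⟩, fun a b => LinearMap.ext fun f => funext fun x => by
          simp [mul_assoc]⟩, eq_bot_iff.2 fun w hw => ?_, IsPGroup.of_card (n := j * p + 1) (by
        simp [RegularWreathProduct.card, hj, pow_succ, pow_mul]), by
        simp [finrank_pi_fintype, h3, pow_succ, mul_comm, mul_left_comm], fun e => h4 (S4014.der_wr e)⟩
    have h6 : ∀ (f : Multiplicative (ZMod p) → V) x, ρ (w.left x) (f (w.right⁻¹ * x)) = f x := fun f x =>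
      congrFun (LinearMap.congr_fun hw f) x
    refine RegularWreathProduct.ext (funext fun x => h1.le (LinearMap.ext fun v => h6 (fun _ => v) x)) ?_
    by_contra h7
    exact hv (by simpa [Pi.single_eq_of_ne (inv_ne_one.2 h7)] using (h6 (Pi.single 1 v) 1).symm)

/-- Let p be an odd prime, F a finite field with q elements where p does not divide q, and e the multiplicative order of q modulo p. Let n ≥ e and write w = ⌊n/e⌋ and k = ⌊log_p w⌋. Then a Sylow p-subgroup of GL(n, F) has derived length exactly k + 1: its (k+1)-st derived subgroup is trivial and its k-th is not. -/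
theorem result (p : ℕ) [Fact p.Prime] (hp : p ≠ 2) (F : Type*) [Field F] [Fintype F] (q : ℕ) (hq : Fintype.card F = q) (hpq : ¬ p ∣ q) (n : ℕ) (hn : orderOf (q : ZMod p) ≤ n) (P : Sylow p (Matrix.GeneralLinearGroup (Fin n) F)) : derivedSeries ↥(P : Subgroup (Matrix.GeneralLinearGroup (Fin n) F)) (Nat.log p (n / orderOf (q : ZMod p)) + 1) = ⊥ ∧ derivedSeries ↥(P : Subgroup (Matrix.GeneralLinearGroup (Fin n) F)) (Nat.log p (n / orderOf (q : ZMod p))) ≠ ⊥ := by
  subst hq
  have hp : p.Prime := Fact.out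
  have hq : ((Fintype.card F : ℕ) : ZMod p) ≠ 0 := fun e => hpq ((ZMod.natCast_eq_zero_iff _ _).1 e)
  have he0 := (isOfFinOrder_iff_pow_eq_one.2 ⟨p - 1, Nat.sub_pos_of_lt hp.one_lt,
    ZMod.pow_card_sub_one_eq_one hq⟩).orderOf_pos
  constructor
  · let K := AlgebraicClosure F
    let φ : P →* GL (Fin n) K := (Matrix.GeneralLinearGroup.map (algebraMap F K)).comp P.1.subtype
    have hφ : Function.Injective φ := fun a b h => Subtype.ext (Units.ext (Matrix.ext fun i j =>
      (algebraMap F K).injective (congrArg (fun M : GL (Fin n) K => M.1 i j) h)))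
    obtain ⟨k, hk⟩ := P.2.exists_card_eq
    have h0 : (♯P : K) ≠ 0 := by
      rw [hk, Nat.cast_pow, ← map_natCast (algebraMap F K)]
      refine pow_ne_zero _ ((map_ne_zero _).2 fun e => hpq ?_)
      have := (CharP.charP_iff_prime_eq_zero hp).2 e
      obtain ⟨m, -, hm⟩ := FiniteField.card F p
      exact hm ▸ dvd_pow_self p m.ne_zero
    refine der_eq_bot_of_orbits (ker_matRep hφ) P.2 h0 fun A _ μ hμ => ?_
    letI := chAct K A
    refine lt_of_le_of_lt ?_ (Nat.lt_pow_succ_log_self hp.one_lt _)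
    by_cases h1 : μ = 1
    · refine le_trans (Finite.card_le_one_iff_subsingleton.2 ⟨?_⟩) (Nat.div_pos hn he0)
      rintro ⟨_, g, rfl⟩ ⟨_, h, rfl⟩
      exact Subtype.ext (h1 ▸ (cjw_triv _).trans (cjw_triv _).symm)
    refine (Nat.le_div_iff_mul_le he0).2 ((S4417.orbit_mul_le (Ω := {ν | wt (matRep φ) A ν ≠ ⊥}) hpq hk
      (fun ν => MonoidHom.ext fun a => ?_) (fun _ _ _ => rfl)
      (fun ν hν => by exact S4417.frob_wt (K := K) (ν := ν) P.1.subtype hν) ?_ h1).trans ?_)
    · show ν a ^ p ^ k = 1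
      rw [← map_pow, ← hk, show a ^ ♯P = 1 from Subtype.ext pow_card_eq_one', map_one]
    · rintro _ ⟨g, rfl⟩
      exact wt_cjw_ne_bot hμ _
    · simpa using card_le_finrank_of_wt (ρ := matRep φ) (natCast_ne_zero_of_dvd (card_subgroup_dvd_card A) h0)
        (ι := {ν | wt (matRep φ) A ν ≠ ⊥}) Subtype.val_injective fun ν => ν.2
  intro h2
  obtain ⟨D, _, _, V, _, _, ρ, h1, h3, h4, h5⟩ := ex p F he0 ((ZMod.natCast_eq_zero_iff _ _).1 (by
    rw [Nat.cast_sub (Nat.one_le_pow _ _ Fintype.card_pos), Nat.cast_pow, pow_orderOf_eq_one, Nat.cast_one, sub_self]))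
    (Nat.log p (n / orderOf (Fintype.card F : ZMod p)))
  haveI := Module.finite_of_finrank_pos (h4 ▸ mul_pos he0 (pow_pos hp.pos _))
  have h6 : finrank F V ≤ n := (h4.trans (mul_comm _ _)).trans_le ((Nat.le_div_iff_mul_le he0).1
    (Nat.pow_log_le_self p (Nat.div_pos hn he0).ne'))
  let b := finBasisOfFinrankEq F (V × (Fin (n - finrank F V) → F)) (n := n) (by simp [h6])
  let φ := ((LinearMap.toMatrixAlgEquiv b).toMulEquiv.toMonoidHom.comp (ρ.prod 1)).toHomUnits
  have hφ : Function.Injective φ := (injective_iff_map_eq_one _).2 fun g hg => h1.le (LinearMap.ext fun v =>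
    congrArg Prod.fst (LinearMap.congr_fun ((map_eq_one_iff _ (LinearMap.toMatrixAlgEquiv b).injective).1
      (congrArg Units.val hg)) (v, 0)))
  obtain ⟨Q, hQ⟩ := (h3.of_equiv (MonoidHom.ofInjective hφ)).exists_le_sylow
  let ψ := (Q.equiv P).toMonoidHom.comp ((inclusion hQ).comp φ.rangeRestrict)
  have hψ : Function.Injective ψ := (Q.equiv P).injective.comp ((inclusion_injective hQ).comp
    (MonoidHom.rangeRestrict_injective_iff.2 hφ))
  exact h5 ((map_eq_bot_iff_of_injective _ hψ).1 (eq_bot_iff.2 (h2 ▸ map_derivedSeries_le_derivedSeries ψ _)))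

end Cfsg.Agent.S4015
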