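import Cfsg.Statements.S4027
import Cfsg.Agent.GS.Lem1
import Cfsg.Agent.S3861

set_option autoImplicit false
open Cfsg

namespace Cfsg.Agent.S4027

open Cfsg.Agent.H1

/-- Let G be a finite group in which every element x of odd order satisfies N_G(⟨x⟩) = C_G(x). Then the Sylow 2-subgroups of G are normal. -/
theorem result {G : Type*} [Group G] [Finite G]
    (hirr : ∀ x : G, (∀ r : ℕ, r.Prime → r ∣ orderOf x → r ≠ 2) →
      Subgroup.normalizer ((Subgroup.zpowers x : Subgroup G) : Set G) ≤ Subgroup.centralizer {x}) (P : Sylow 2 G) :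
    (P : Subgroup G).Normal := by
  open Subgroup Pointwise commutatorElement Cfsg.Agent.BG Cfsg.Agent.GS in
  open Cfsg.Agent.H2 hiding card_lt_of_lt card_lt_of_ne_top isMulCommutative_of_le isPGroup_zpowers_iff mem_of_pow_mem_of_coprime inf_eq_bot_of_cop exists_maxElem_ge Sec in
  open Cfsg.Agent.H8 (Op Opp Fit SN) in
  open Cfsg.Agent.L (FPF) in focus
    refine (S3861.result P).1 fun x h1 h2 h3 => ?_
    obtain ⟨t, ht⟩ := isConj_iff.1 h3
    have h4 : t ∈ 𝒞₁ x := hirr x (fun r _ hd e => (Nat.not_even_iff_odd.2 h2) (even_iff_two_dvd.2 (e ▸ hd)))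
      (mem_normalizer_iff_cj.2 (by rw [cj_zpowers, ht, zpowers_inv]))
    rw [conj_eq_of_mem_cent1 h4] at ht
    exact (Nat.not_even_iff_odd.2 h2) (by rw [ord2_of (mul_eq_one_iff_eq_inv.2 ht) h1]; exact even_two)

end Cfsg.Agent.S4027
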