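import Cfsg.Statements.S4049
import Cfsg.Agent.GS.Lem1
import Cfsg.Agent.S3861

set_option autoImplicit false
open Cfsg

namespace Cfsg.Agent.S4049

open Cfsg.Agent.H1

/-- Let G be a finite group such that N_G(H)/C_G(H) has odd order for every nontrivial subgroup H of odd order. Then the Sylow 2-subgroups of G are normal. -/
theorem result {G : Type*} [Group G] [Finite G]
    (hhom : ∀ H : Subgroup G, H ≠ ⊥ → ¬ 2 ∣ Nat.card ↥H →
        ¬ 2 ∣ (Subgroup.centralizer (H : Set G)).relIndex (Subgroup.normalizer (H : Set G))) (P : Sylow 2 G) :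
    (P : Subgroup G).Normal := by
  open Subgroup Pointwise commutatorElement Cfsg.Agent.BG Cfsg.Agent.GS in
  open Cfsg.Agent.H2 hiding card_lt_of_lt card_lt_of_ne_top isMulCommutative_of_le isPGroup_zpowers_iff mem_of_pow_mem_of_coprime inf_eq_bot_of_cop exists_maxElem_ge Sec in
  open Cfsg.Agent.H8 (Op Opp Fit SN) in
  open Cfsg.Agent.L (FPF) in focus
    refine (S3861.result P).1 fun x h1 h2 h3 => ?_
    obtain ⟨t, ⟨j, hj⟩, ht⟩ := (S3863.result x h3).1
    have h5 := hhom (zpowers x) (zpowers_ne_bot.2 h1) (by rw [Nat.card_zpowers]; exact h2.not_two_dvd_nat)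
    have h4 := H8.mem_of_norm_of_coprime (normalizer_le_normalizer_centralizer (zpowers x)) (x := t)
      (mem_normalizer_iff_cj.2 (by rw [cj_zpowers, ht, zpowers_inv]))
      (hj ▸ ((Nat.Prime.coprime_iff_not_dvd Nat.prime_two).2 h5).pow_left j)
    rw [BL.cent_zpowers] at h4
    rw [conj_eq_of_mem_cent1 h4] at ht
    exact (Nat.not_even_iff_odd.2 h2) (by rw [ord2_of (mul_eq_one_iff_eq_inv.2 ht) h1]; exact even_two)

end Cfsg.Agent.S4049
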