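import Cfsg.Statements.S4050
import Cfsg.Agent.H8.Misc
import Cfsg.Agent.GS.Odd

set_option autoImplicit false
open Cfsg

namespace Cfsg.Agent.S4050

open Subgroup hiding commutator_def
open Function Cfsg.Agent.Hopf Cfsg.Agent.Reg
open scoped commutatorElement Pointwise

universe u

def Hom (π : Set ℕ) (G : Type*) [Group G] : Prop :=
  ∀ H : Subgroup G, (∀ p : ℕ, p.Prime → p ∣ Nat.card H → p ∉ π) → ∀ x ∈ normalizer (H : Set G),
    (∀ p : ℕ, p.Prime → p ∣ orderOf x → p ∈ π) → x ∈ centralizer (H : Set G)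

theorem hom_of {G : Type*} [Group G] [Finite G] {π : Set ℕ}
    (h : ∀ H : Subgroup G, H ≠ ⊥ → (∀ p : ℕ, p.Prime → p ∣ Nat.card ↥H → p ∉ π) →
        ∀ p : ℕ, p.Prime → p ∣ (Subgroup.centralizer (H : Set G)).relIndex
          (Subgroup.normalizer (H : Set G)) → p ∉ π) : Hom π G := by
  intro H hH x hx ho
  by_cases h1 : H = ⊥
  · subst h1
    intro y hy
    rw [mem_bot.1 hy]; simp
  refine H1.le_of_coprime_relIndex (zpowers_le_of_mem hx) (H1.normalizer_le_normalizer_centralizer H)
    ?_ (mem_zpowers x)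
  rw [Nat.card_zpowers]
  exact H1.coprime_of_pi ho fun p hp h2 h3 => h H h1 hH p hp h3 h2

theorem aux (π : Set ℕ) (n : ℕ) : ∀ (G : Type u) [Group G] [Finite G], Nat.card G = n →
    GS.PiSep π G → Hom π G → ∃ K : Subgroup G, K.Normal ∧ IsPiHall π K := by
  induction n using Nat.strong_induction_on with
  | _ n ih =>
  intro G _ _ hn hs hh
  rcases subsingleton_or_nontrivial G with h0 | h0
  · refine ⟨⊤, inferInstance, fun p hp h => ?_, fun p hp _ h => ?_⟩
    · rw [Nat.card_unique, Nat.dvd_one] at h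
      exact absurd h hp.one_lt.ne'
    · rw [index_top, Nat.dvd_one] at h
      exact absurd h hp.one_lt.ne'
  obtain ⟨M, _, hM1, hM⟩ := hs.exists_normal
  have ih' := ih _ (hn ▸ H1.card_quotient_lt hM1) (G ⧸ M) rfl (hs.quotient M)
  rcases hM with hM | hM
  · obtain ⟨K, _, hK⟩ := ih' (by
      intro H hH x hx ho
      have hc : (Nat.card M).Coprime (Nat.card H) :=
        H1.coprime_of_pi hM fun p hp h1 h2 => hH p hp h2 h1
      obtain ⟨B, -, -, hB1, hB2⟩ := H1.exists_complement_of_coprime (H1.le_comap_mk'' M H)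
        le_normalizer_of_normal (by rwa [H1.relIndex_comap_mk'])
      rw [H1.relIndex_comap_mk'] at hB2
      have hB3 : B.map (QuotientGroup.mk' M) = H := by
        rw [← H1.map_comap_mk' M H, ← hB1, Subgroup.map_sup, H1.map_mk'_eq_bot_iff.2 le_rfl,
          sup_bot_eq]
      have hc' : (Nat.card B).Coprime (Nat.card M) := hB2 ▸ hc.symm
      rw [← hB3, ← H1.map_mk'_normalizer hc' (GS.solv_or_solv' hc')] at hx
      obtain ⟨y, hy, rfl⟩ := hx
      rw [← hB3, ← H1.map_mk'_centralizer hc' (GS.solv_or_solv' hc')]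
      refine mem_map_of_mem _ (hh B (hB2 ▸ hH) y hy fun p hp hd => ?_)
      have h1 : orderOf y ∣ orderOf (QuotientGroup.mk' M y) * Nat.card M := by
        rw [orderOf_dvd_iff_pow_eq_one, pow_mul]
        refine H1.pow_card_eq_one_of_mem ((QuotientGroup.eq_one_iff _).1 ?_)
        exact pow_orderOf_eq_one (QuotientGroup.mk' M y)
      rcases (Nat.Prime.dvd_mul hp).1 (hd.trans h1) with h | h
      · exact ho p hp h
      · exact hM p hp h)
    refine ⟨K.comap (QuotientGroup.mk' M), inferInstance, fun p hp h => ?_, ?_⟩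
    · rw [H1.card_comap_mk'] at h
      rcases (Nat.Prime.dvd_mul hp).1 h with h | h
      · exact hM p hp h
      · exact hK.1 p hp h
    · rw [H1.index_comap_mk']; exact hK.2
  · obtain ⟨K, _, hK⟩ := ih' (by
      intro H hH x hx ho
      obtain ⟨y, rfl⟩ := QuotientGroup.mk'_surjective M x
      have hc : (orderOf (QuotientGroup.mk' M y)).Coprime (Nat.card M) :=
        H1.coprime_of_pi ho fun p hp h1 h2 => hM p hp h2 h1
      obtain ⟨k, hk1, hk2⟩ := Nat.chineseRemainder hc 1 0
      have e1 : QuotientGroup.mk' M (y ^ k) = QuotientGroup.mk' M y := by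
        rw [map_pow, (pow_eq_pow_iff_modEq).2 hk1, pow_one]
      have e2 : orderOf (y ^ k) ∣ orderOf (QuotientGroup.mk' M y) := by
        obtain ⟨c, rfl⟩ := (Nat.modEq_zero_iff_dvd).1 hk2
        rw [orderOf_dvd_iff_pow_eq_one, ← pow_mul, mul_comm, pow_mul, pow_mul,
          H1.pow_card_eq_one_of_mem ((QuotientGroup.eq_one_iff _).1
            (pow_orderOf_eq_one (QuotientGroup.mk' M y))), one_pow]
      rw [← e1] at hx ⊢
      have h1 := hh (H.comap (QuotientGroup.mk' M)) (fun p hp h => by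
        rw [H1.card_comap_mk'] at h
        rcases (Nat.Prime.dvd_mul hp).1 h with h | h
        · exact hM p hp h
        · exact hH p hp h) (y ^ k)
        (H1.comap_le_normalizer_comap _ le_rfl hx) fun p hp h => ho p hp (h.trans e2)
      intro z hz
      obtain ⟨z, rfl⟩ := QuotientGroup.mk'_surjective M z
      rw [← map_mul, ← map_mul, h1 z hz])
    have hc : (Nat.card M).Coprime (Nat.card K) :=
      (H1.coprime_of_pi hK.1 fun p hp h1 h2 => hM p hp h2 h1).symm
    obtain ⟨B, hB0, -, hB1, hB2⟩ := H1.exists_complement_of_coprime (H1.le_comap_mk'' M K)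
      le_normalizer_of_normal (by rwa [H1.relIndex_comap_mk'])
    rw [H1.relIndex_comap_mk'] at hB2
    have h1 : B ≤ centralizer (M : Set G) := fun x hx =>
      hh M hM x (le_normalizer_of_normal (mem_top x)) fun p hp h =>
        hK.1 p hp (hB2 ▸ h.trans (H1.orderOf_dvd_card_of_mem hx))
    have h2 : B.relIndex (K.comap (QuotientGroup.mk' M)) = Nat.card M := by
      have := H1.card_mul_relIndex hB0
      rw [H1.card_comap_mk', hB2, mul_comm] at this
      exact Nat.eq_of_mul_eq_mul_right Nat.card_pos this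
    have h3 : IsPiHallOf π B (K.comap (QuotientGroup.mk' M)) :=
      ⟨hB0, hB2 ▸ hK.1, fun p hp h4 h5 => hM p hp (h2 ▸ h5) h4⟩
    refine ⟨B, H1.normal_of_top_le_normalizer (le_trans le_normalizer_of_normal
      (H1.normalizer_le_of_normal_hallOf h3 ?_)), h3.2.1, fun p hp h4 h5 => ?_⟩
    · rw [← hB1]
      exact sup_le le_normalizer (H1.le_normalizer_of_centralizer_ge h1)
    · rw [← relIndex_mul_index hB0, H1.index_comap_mk'] at h5
      rcases (Nat.Prime.dvd_mul hp).1 h5 with h | h
      · exact h3.2.2 p hp h4 h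
      · exact hK.2 p hp h4 h

theorem closed_iff {G : Type*} [Group G] [Finite G] {π : Set ℕ} :
    (∃ K : Subgroup G, ∀ x : G, x ∈ K ↔ ∀ p : ℕ, p.Prime → p ∣ orderOf x → p ∈ π) ↔
      ∃ K : Subgroup G, K.Normal ∧ IsPiHall π K := by
  constructor
  · rintro ⟨K, hK⟩
    refine ⟨K, ⟨fun n hn g => ?_⟩, fun p hp h => ?_, fun p hp h1 h => ?_⟩
    · rw [hK] at hn ⊢
      rwa [show orderOf (g * n * g⁻¹) = orderOf n from (MulAut.conj g).orderOf_eq n]
    · obtain ⟨x, hx, e⟩ := H1.exists_mem_orderOf_eq_prime hp h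
      exact (hK x).1 hx p hp (e ▸ dvd_rfl)
    · haveI := Fact.mk hp
      let P : Sylow p G := default
      refine P.not_dvd_index (h.trans (index_dvd_of_le fun x hx => (hK x).2 fun q hq hd => ?_))
      obtain ⟨k, hk⟩ := H2.orderOf_eq_pow_of_mem P.2 hx
      rw [hk] at hd
      rwa [(Nat.prime_dvd_prime_iff_eq hq hp).1 (hq.dvd_of_dvd_pow hd)]
  · rintro ⟨K, _, hK⟩
    exact ⟨K, fun x => ⟨fun hx p hp h => hK.1 p hp (h.trans (H1.orderOf_dvd_card_of_mem hx)),
      fun h => H1.mem_of_coprime_index (H1.coprime_of_pi h hK.2)⟩⟩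

/-- Let π be a set of primes and G a finite group. The π-elements of G (elements whose order is divisible only by primes of π) form a subgroup if and only if G is π-separable (it has a chain of normal subgroups from 1 to G with each successive index divisible only by primes in π or only by primes outside π) and N_G(H)/C_G(H) is a π'-group for every nontrivial π'-subgroup H of G. -/
theorem result {G : Type*} [Group G] [Finite G] (π : Set ℕ)
    (hπ : ∀ p ∈ π, p.Prime) :
    (∃ K : Subgroup G, ∀ x : G, x ∈ K ↔ ∀ p : ℕ, p.Prime → p ∣ orderOf x → p ∈ π) ↔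
    ((∃ (n : ℕ) (H : Fin (n + 1) → Subgroup G), H 0 = ⊥ ∧ H (Fin.last n) = ⊤ ∧ Monotone H ∧ (∀ i, (H i).Normal) ∧
      ∀ i : Fin n, (∀ q : ℕ, q.Prime → q ∣ (H i.castSucc).relIndex (H i.succ) → q ∈ π) ∨
        (∀ q : ℕ, q.Prime → q ∣ (H i.castSucc).relIndex (H i.succ) → q ∉ π)) ∧
     (∀ H : Subgroup G, H ≠ ⊥ → (∀ p : ℕ, p.Prime → p ∣ Nat.card ↥H → p ∉ π) →
        ∀ p : ℕ, p.Prime → p ∣ (Subgroup.centralizer (H : Set G)).relIndex (Subgroup.normalizer (H : Set G)) → p ∉ π)) := by
  rw [closed_iff]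
  constructor
  · rintro ⟨K, _, hK⟩
    refine ⟨⟨2, ![⊥, K, ⊤], rfl, rfl, ?_, ?_, ?_⟩, fun H _ hH p hp hd h => ?_⟩
    · rw [Fin.monotone_iff_le_succ]
      intro i
      fin_cases i <;> simp
    · intro i
      fin_cases i <;> simp <;> infer_instance
    · intro i
      fin_cases i
      · left; simpa using hK.1
      · right
        intro q hq hd h
        exact hK.2 q hq h (by simpa using hd)
    · haveI := Fact.mk hp
      obtain ⟨P, hP⟩ := H2.exists_sylIn p (normalizer (H : Set G))
      refine hP.not_dvd_relIndex (hd.trans (relIndex_dvd_of_le_left _ ?_))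
      have h1 : P ≤ K := H1.le_of_coprime_index
        (H1.coprime_card_of_isPGroup hP.pgrp (hp.coprime_iff_not_dvd.2 (hK.2 p hp h)).symm)
      rw [← commutator_eq_bot_iff_le_centralizer, eq_bot_iff,
        ← (disjoint_of_coprime_natCard (H1.coprime_of_pi hK.1
          fun q hq h1 h2 => hH q hq h2 h1)).eq_bot]
      refine le_inf ((commutator_mono h1 le_rfl).trans (commutator_le_left _ _)) ?_
      rw [commutator_le]
      intro x hx y hy
      rw [commutatorElement_def]
      exact mul_mem (H1.conj_mem_of_mem_normalizer (hP.le hx) hy) (inv_mem hy)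
  · rintro ⟨⟨n, H, h0, hl, -, hn, hs⟩, h⟩
    exact aux π _ G rfl (GS.piSep_of_chain h0 hl hn hs) (hom_of h)

end Cfsg.Agent.S4050
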