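import Cfsg.Statements.S4083
import Mathlib
import Cfsg.Agent.S3905
import Cfsg.Agent.H2.Two2
import Cfsg.Agent.S0228
import Cfsg.Agent.L.Quat
import Cfsg.Agent.L.PCyc2

set_option autoImplicit false
open Cfsg

namespace Cfsg.Agent.S4083

open Cfsg.Agent.H1 Subgroup Cfsg.Agent.S3904 Cfsg.Agent.S3905
open scoped Pointwise

section
variable {H : Type*} [Group H] [Finite H]

theorem four {z b : H} (hz : orderOf z = 2) (hb : orderOf b = 2) (hne : z ≠ b) (hc : Commute z b) :
    ∃ K : Subgroup H, z ∈ K ∧ b ∈ K ∧ Nat.card K = 4 ∧ (∀ k ∈ K, k ^ 2 = 1) ∧ ∀ L : Subgroup H, z ∈ L → b ∈ L → K ≤ L := by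
  have z2 : z * z = 1 := by rw [← sq, ← hz, pow_orderOf_eq_one]
  have b2 : b * b = 1 := by rw [← sq, ← hb, pow_orderOf_eq_one]
  have z1 : z ≠ 1 := by rintro rfl; simp at hz
  have b1 : b ≠ 1 := by rintro rfl; simp at hb
  have zb : z * b * (z * b) = 1 := by rw [mul_assoc, ← mul_assoc b, ← hc.eq, mul_assoc, b2, mul_one, z2]
  classical
  let K : Subgroup H :=
    { carrier := {1, z, b, z * b}
      one_mem' := by simp
      mul_mem' := by
        have e1 : z * (z * b) = b := by rw [← mul_assoc, z2, one_mul]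
        have e2 : z * b * b = z := by rw [mul_assoc, b2, mul_one]
        have e3 : b * (z * b) = z := by rw [← mul_assoc, ← hc.eq, e2]
        have e4 : z * b * z = b := by rw [mul_assoc, ← hc.eq, e1]
        rintro x y (rfl | rfl | rfl | rfl) (rfl | rfl | rfl | rfl) <;> simp [*, ← hc.eq]
      inv_mem' := by
        rintro x (rfl | rfl | rfl | rfl)
        · simp
        · simp [inv_eq_of_mul_eq_one_left z2]
        · simp [inv_eq_of_mul_eq_one_left b2]
        · simp only [inv_eq_of_mul_eq_one_left zb]; simp }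
  refine ⟨K, by simp [K], by simp [K], ?_, ?_, fun L h1 h2 => ?_⟩
  · change Nat.card ({1, z, b, z * b} : Set H) = 4
    have : z * b ≠ 1 := fun e => hne (mul_right_cancel (e.trans b2.symm))
    rw [Nat.card_coe_set_eq, Set.ncard_insert_of_notMem (by simp [z1.symm, b1.symm, this.symm]),
      Set.ncard_insert_of_notMem (by simp [hne, b1]), Set.ncard_pair (by simp [z1])]
  · rintro x (rfl | rfl | rfl | rfl) <;> simp [sq, *]
  · rintro x (rfl | rfl | rfl | rfl)
    exacts [one_mem _, h1, h2, mul_mem h1 h2]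

theorem cyc {S : Subgroup H} [S.Normal] (hS : IsPGroup 2 S) {c : H} (hc : (orderOf c).Coprime 2)
    (hg : ∀ h : H, ∃ s ∈ S, ∃ k : ℤ, h = s * c ^ k) (h : IsCyclic S) : IsCyclic H := by
  obtain ⟨a, ha⟩ := h.exists_generator
  have h1 : Commute (a : H) c :=
    L.mem_centralizer_of_isCyclic_two hS h (by rw [normalizer_eq_top]; exact mem_top c) hc a a.2
  obtain ⟨k, hk⟩ := hS a
  have h2 := l1 h1 (congrArg Subtype.val hk) (pow_orderOf_eq_one c) (hc.symm.pow_left k)
  have h3 := l1 h1.symm (pow_orderOf_eq_one c) (congrArg Subtype.val hk) (hc.pow_right k)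
  rw [← h1.eq] at h3
  refine ⟨⟨a * c, fun x => ?_⟩⟩
  obtain ⟨s, hs, j, rfl⟩ := hg x
  obtain ⟨i, hi⟩ := ha ⟨s, hs⟩
  exact mul_mem ((show (a : H) ^ i = s from congrArg Subtype.val hi) ▸ zpow_mem h2 i) (zpow_mem h3 j)

theorem core {S : Subgroup H} [hn : S.Normal] (hS : IsPGroup 2 S) {c a : H} (hc : (orderOf c).Coprime 2)
    (hg : ∀ h : H, ∃ s ∈ S, ∃ k : ℤ, h = s * c ^ k) (ha : a ∈ S)
    (h1 : ∀ s ∈ S, s ∉ zpowers a → s ^ 2 = 1 ∧ s * a * s⁻¹ = a⁻¹ ∧ ∀ t ∈ S, t ∉ zpowers a → s * t ∈ zpowers a)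
    (hK : ∀ K ≤ S, Nat.card K = 4 → (∀ k ∈ K, k ^ 2 = 1) → centralizer (K : Set H) ≤ K) :
    IsCyclic H ∨ (∃ n : ℕ, Nonempty (H ≃* DihedralGroup (2 ^ n))) ∨ Nonempty (H ≃* alternatingGroup (Fin 4)) := by
  haveI : Fact (Nat.Prime 2) := ⟨Nat.prime_two⟩
  by_cases hcy : IsCyclic S
  · exact .inl (cyc hS hc hg hcy)
  right
  obtain ⟨b, hb, hba⟩ : ∃ b ∈ S, b ∉ zpowers a := SetLike.not_le_iff_exists.1 fun e =>
    hcy (le_antisymm e (zpowers_le.2 ha) ▸ inferInstance)
  obtain ⟨b2, hinv, h2⟩ := h1 b hb hba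
  have b1 : b ≠ 1 := fun e => hba (e ▸ one_mem _)
  have hi : ((zpowers a).subgroupOf S).index = 2 := index_eq_two_iff'.2 ⟨⟨b, hb⟩, fun t => by
    by_cases ht : (t : H) ∈ zpowers a
    · exact .inr ⟨ht, fun e => hba ((mul_mem_cancel_right ht).1 e)⟩
    · exact .inl ⟨h2 t t.2 ht, ht⟩⟩
  have hcard : Nat.card S = 2 * orderOf a := by
    rw [← ((zpowers a).subgroupOf S).index_mul_card, hi, Nat.card_congr (subgroupOfEquivOfLe (zpowers_le.2 ha)).toEquiv,
      Nat.card_zpowers]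
  obtain ⟨m, hm⟩ := IsPGroup.iff_orderOf.1 hS ⟨a, ha⟩
  replace hm : orderOf a = 2 ^ m := (orderOf_coe (⟨a, ha⟩ : S)).trans hm
  have odd1 : ∀ x : H, (orderOf x).Coprime 2 → x ∈ S → x = 1 := fun x h hx => by
    obtain ⟨k, hk⟩ := hS ⟨x, hx⟩
    exact orderOf_eq_one_iff.1 (Nat.eq_one_of_dvd_coprimes (h.pow_right k) dvd_rfl
      (orderOf_dvd_of_pow_eq_one (congrArg Subtype.val hk)))
  by_cases c1 : c = 1
  · left
    have : S = ⊤ := eq_top_iff.2 fun x _ => by obtain ⟨s, hs, k, rfl⟩ := hg x; simpa [c1] using hs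
    exact ⟨m, L.nonempty_equiv_dihedral hm hba b2 hinv (by rw [← card_top, ← this, hcard, hm])⟩
  right
  -- if `c` centralizes an index two subgroup `zpowers a'` of `S`, it centralizes `S`
  have cen : ∀ a' b' : H, a' ∈ S → b' ∈ S → Commute c a' → b'⁻¹ * (c * b' * c⁻¹) ∈ zpowers a' → Commute c b' := by
    rintro a' b' ha' hb' h ⟨k, hk⟩
    have h3 : ∀ j : ℕ, c ^ j * b' * (c ^ j)⁻¹ = b' * (a' ^ k) ^ j := fun j => by
      induction j with
      | zero => simp
      | succ j ih =>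
        calc c ^ (j + 1) * b' * (c ^ (j + 1))⁻¹ = c * (c ^ j * b' * (c ^ j)⁻¹) * c⁻¹ := by rw [pow_succ']; group
          _ = b' * (b'⁻¹ * (c * b' * c⁻¹)) * (c * (a' ^ k) ^ j * c⁻¹) := by rw [ih]; group
          _ = _ := by
            simp only at hk
            rw [← hk, ((h.zpow_right k).pow_right j).eq, mul_inv_cancel_right, mul_assoc, ← pow_succ']
    have h4 := h3 (orderOf c)
    rw [pow_orderOf_eq_one, one_mul, inv_one, mul_one, left_eq_mul] at h4
    have h5 := odd1 _ (hc.coprime_dvd_left (orderOf_dvd_of_pow_eq_one h4)) (zpow_mem ha' k)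
    simp only at hk
    rw [h5, eq_inv_mul_iff_mul_eq, mul_one, eq_mul_inv_iff_mul_eq] at hk
    exact hk.symm
  rcases m with _ | _ | m
  · exact absurd (isCyclic_of_prime_card (p := 2) (by rw [hcard, hm]; rfl)) hcy
  · have h4 : Nat.card S = 4 := by rw [hcard, hm]; rfl
    have hs2 : ∀ s ∈ S, s ^ 2 = 1 := fun s hs => by
      by_cases e : s ∈ zpowers a
      · obtain ⟨k, rfl⟩ := e
        simp only
        rw [← zpow_natCast, ← zpow_mul, mul_comm, zpow_mul, zpow_natCast, show a ^ 2 = 1 from orderOf_dvd_iff_pow_eq_one.1 hm.dvd, one_zpow]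
      · exact (h1 s hs e).1
    have hC := hK S le_rfl h4 hs2
    have hnc : c ∉ centralizer (S : Set H) := fun e => c1 (odd1 c hc (hC e))
    have hN : ∀ A : Subgroup H, A ≤ normalizer (S : Set H) := fun A => by rw [normalizer_eq_top]; exact le_top
    have h5 : Nat.card H = orderOf c * 4 := by
      rw [← h4, ← Nat.card_zpowers, ← card_sup_of_disjoint (hN _) (eq_bot_iff.2 fun x hx => mem_bot.2 (odd1 x
        (hc.coprime_dvd_left (orderOf_dvd_of_mem_zpowers hx.1)) hx.2)), ← card_top]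
      congr 2
      exact (eq_top_iff.2 fun x _ => by
        obtain ⟨s, hs, k, rfl⟩ := hg x
        exact mul_mem (mem_sup_right hs) (mem_sup_left (zpow_mem_zpowers c k))).symm
    have h6 : S.index = orderOf c := by have := S.index_mul_card; rw [h4, h5] at this; omega
    have h7 : orderOf c = 3 := by
      have e1 := (index_dvd_of_le hC).trans ((relIndex_top_right (centralizer (S : Set H))).symm.dvd.trans
        (H2.relIndex_centralizer_dvd_six h4 (hN ⊤)))
      rw [h6] at e1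
      have e2 : orderOf c ∣ 3 := hc.dvd_of_dvd_mul_left e1
      exact ((Nat.dvd_prime Nat.prime_three).1 e2).resolve_left fun e => c1 (orderOf_eq_one_iff.1 e)
    refine S0228.result (by rw [h5, h7]) fun z hz hzc => hnc ?_
    haveI : Fact (Nat.Prime 3) := ⟨Nat.prime_three⟩
    have hzS : z ∈ S := mem_of_coprime_index (by rw [hz, h6, h7]; norm_num)
    have e1 := card_modEq_card_centralizer (p := 3) (A := zpowers c) (K := S)
      (IsPGroup.of_card (n := 1) (by rw [Nat.card_zpowers, h7, pow_one])) (hN _)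
    have e2 : 2 ∣ Nat.card ↥(S ⊓ centralizer (zpowers c : Set H)) :=
      hz ▸ Subgroup.orderOf_dvd_natCard _ ⟨hzS, fun g _ => mem_center_iff.1 hzc g⟩
    have e3 := card_le_of_le (inf_le_left : S ⊓ centralizer (zpowers c : Set H) ≤ S)
    have e4 : S ⊓ centralizer (zpowers c : Set H) = S := eq_of_le_of_card_ge inf_le_left (by
      rw [h4] at e1 e3 ⊢
      simp only [Nat.ModEq] at e1
      omega)
    exact le_centralizer_iff.1 (inf_eq_left.1 e4) (mem_zpowers c)
  · exfalso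
    have e1 : c * a * c⁻¹ ∈ zpowers a := by_contra fun e => by
      have := orderOf_dvd_of_pow_eq_one (h1 _ (hn.conj_mem a ha c) e).1
      rw [show orderOf (c * a * c⁻¹) = orderOf a from (MulAut.conj c).orderOf_eq a, hm] at this
      have := Nat.le_of_dvd two_pos this
      have := Nat.two_pow_pos m
      simp only [pow_succ] at *
      omega
    have e2 : c ∈ normalizer (zpowers a : Set H) := mem_normalizer_fintype (by
      rintro _ ⟨k, rfl⟩
      simp only [← conj_zpow]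
      exact zpow_mem e1 k)
    have e3 : Commute a c := L.mem_centralizer_of_isCyclic_two (hS.to_le (zpowers_le.2 ha)) inferInstance e2 hc a
      (mem_zpowers a)
    have e4 := cen a b ha hb e3.symm (by
      rw [inv_eq_of_mul_eq_one_left (by rw [← sq, b2])]
      exact h2 _ (hn.conj_mem b hb c) fun e => hba ((mem_normalizer_iff.1 e2 b).2 e))
    have e5 : orderOf (a ^ 2 ^ (m + 1)) = 2 := by
      rw [orderOf_pow_of_dvd (by positivity) (hm ▸ pow_dvd_pow 2 (by omega)), hm, Nat.pow_div (by omega) two_pos,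
        show m + 1 + 1 - (m + 1) = 1 by omega]
      rfl
    obtain ⟨K, -, -, k4, k2, hmin⟩ := four e5 (orderOf_eq_prime b2 b1) (fun e => hba (e ▸ npow_mem_zpowers _ _)) (by
      have : b * a ^ 2 ^ (m + 1) * b⁻¹ = a ^ 2 ^ (m + 1) := by
        rw [← conj_pow, hinv, inv_pow, inv_eq_iff_mul_eq_one, ← sq]
        exact orderOf_dvd_iff_pow_eq_one.1 e5.dvd
      exact (mul_inv_eq_iff_eq_mul.1 this).symm)
    have e6 := hmin S (pow_mem ha _) hb
    exact c1 (odd1 c hc (e6 (hK K e6 k4 k2 fun g hg =>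
      memC.1 (hmin (C c) (memC.2 (e3.pow_left _)) (memC.2 e4.symm) hg))))

theorem nocyc {K : Subgroup H} (h4 : Nat.card K = 4) (h2 : ∀ k ∈ K, k ^ 2 = 1) : ¬ IsCyclic K := fun h => by
  obtain ⟨g, hg⟩ := h.exists_ofOrder_eq_natCard
  have := orderOf_dvd_of_pow_eq_one (show g ^ 2 = 1 from Subtype.ext (h2 g g.2))
  rw [hg, h4] at this
  omega

omit [Finite H] in
theorem rot {n : ℕ} {x : DihedralGroup n} (h : x ∉ zpowers (DihedralGroup.r (1 : ZMod n))) : ∃ i, x = .sr i := by
  rcases x with i | i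
  · exact absurd ⟨i.cast, by simp⟩ h
  · exact ⟨i, rfl⟩

end

/-- Let G be a finite group with Sylow 2-subgroup P. Every subgroup H of G whose Sylow 2-subgroup is normal in H with cyclic quotient is cyclic, dihedral of 2-power order, or isomorphic to the alternating group of degree 4, if and only if either P is cyclic, or P is dihedral (of order at least 4) and every elementary abelian subgroup K of order 4 of P satisfies C_G(K) = K. -/
theorem result {G : Type*} [Group G] [Finite G] (P : Sylow 2 G) :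
    (∀ H : Subgroup G, (∀ S : Sylow 2 ↥H, (S : Subgroup ↥H).Normal) →
        (∀ (S : Sylow 2 ↥H) [(S : Subgroup ↥H).Normal], IsCyclic (↥H ⧸ (S : Subgroup ↥H))) →
        IsCyclic H ∨ (∃ n : ℕ, Nonempty (H ≃* DihedralGroup (2 ^ n))) ∨ Nonempty (H ≃* alternatingGroup (Fin 4))) ↔
    (IsCyclic P ∨
      ((∃ n : ℕ, 1 ≤ n ∧ Nonempty ((P : Subgroup G) ≃* DihedralGroup (2 ^ n))) ∧
        ∀ K : Subgroup G, K ≤ P → Nat.card K = 4 → (∀ k ∈ K, k ^ 2 = 1) → Subgroup.centralizer (K : Set G) = K)) := by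
  haveI : Fact (Nat.Prime 2) := ⟨Nat.prime_two⟩
  constructor
  · intro h
    have hP : ∀ S : Sylow 2 P, (S : Subgroup P) = ⊤ := fun S =>
      (S.is_maximal' (P.isPGroup'.to_subgroup ⊤) le_top).symm
    rcases h P (fun S => hP S ▸ inferInstance) (fun S _ => by
      haveI : Subsingleton (P ⧸ (S : Subgroup P)) := by
        rw [← Finite.card_le_one_iff_subsingleton, ← index_eq_card, hP, index_top]
      infer_instance) with h1 | ⟨n, ⟨e⟩⟩ | ⟨⟨e⟩⟩
    · exact .inl h1
    · rcases n with _ | n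
      · exact .inl (isCyclic_of_prime_card (p := 2) (by rw [Nat.card_congr e.toEquiv, DihedralGroup.nat_card]; rfl))
      refine .inr ⟨⟨n + 1, by omega, ⟨e⟩⟩, fun K _ h4 h2 => ?_⟩
      have hKc : K ≤ centralizer (K : Set G) := fun a ha b hb => by
        have e1 := h2 a ha
        have e2 := h2 b hb
        have e3 := h2 _ (mul_mem hb ha)
        rw [sq, mul_eq_one_iff_eq_inv] at e1 e2 e3
        rw [e3, mul_inv_rev, ← e1, ← e2]
      refine le_antisymm (fun c hc => ?_) hKc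
      have hcen : ∀ k ∈ K, K ⊔ zpowers c ≤ C k := fun k hk =>
        sup_le (fun a ha => memC.2 (hKc hk a ha)) (zpowers_le.2 (memC.2 (hc k hk).symm))
      haveI : IsMulCommutative ↥(K ⊔ zpowers c) := ⟨⟨fun a b => Subtype.ext (memC.1 ((show K ⊔ zpowers c ≤ C (b : G) from
        sup_le (fun k hk => memC.2 (memC.1 (hcen k hk b.2)).symm) (zpowers_le.2 (memC.2 (memC.1
          ((show K ⊔ zpowers c ≤ C c from sup_le (fun k hk => memC.2 (hc k hk)) (zpowers_le.2 (memC.2 (Commute.refl c))))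
            b.2)).symm))) a.2))⟩⟩
      have k4 : Nat.card (K.subgroupOf (K ⊔ zpowers c)) = 4 :=
        (Nat.card_congr (subgroupOfEquivOfLe le_sup_left).toEquiv).trans h4
      have k2 : ∀ k ∈ K.subgroupOf (K ⊔ zpowers c), k ^ 2 = 1 := fun k hk => Subtype.ext (h2 k hk)
      rcases h (K ⊔ zpowers c) (fun S => inferInstance) (fun S _ => ⟨⟨(⟨c, mem_sup_right (mem_zpowers c)⟩ : ↥(K ⊔ zpowers c)),
        fun x => by
          obtain ⟨⟨x, hx⟩, rfl⟩ := QuotientGroup.mk_surjective x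
          have hKS : K.subgroupOf (K ⊔ zpowers c) ≤ S := IsPGroup.le_sylow_of_normal (IsPGroup.of_card (n := 2) k4) S
          obtain ⟨k, hk, j, rfl⟩ := (mem_sup_zpowers_iff (centralizer_le_normalizer _ hc)).1 hx
          refine ⟨j, (QuotientGroup.eq.2 (hKS ?_))⟩
          change (c ^ j)⁻¹ * (k * c ^ j) ∈ K
          rwa [(Commute.zpow_right (hc k hk) j).eq, inv_mul_cancel_left]⟩⟩) with h1 | ⟨m, ⟨f⟩⟩ | ⟨⟨f⟩⟩
      · exact absurd (Subgroup.isCyclic _) (nocyc k4 k2)
      · have h5 : (.r 1 : DihedralGroup (2 ^ m)) * .sr 0 = .sr 0 * .r 1 := f.symm.injective (by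
          rw [map_mul, map_mul, mul_comm'])
        simp only [DihedralGroup.r_mul_sr, DihedralGroup.sr_mul_r, DihedralGroup.sr.injEq] at h5
        have h6 : ((2 : ℕ) : ZMod (2 ^ m)) = 0 := by push_cast; linear_combination -h5
        have h7 := Nat.le_of_dvd two_pos ((ZMod.natCast_eq_zero_iff _ _).1 h6)
        exact (eq_of_le_of_card_ge (le_sup_left : K ≤ K ⊔ zpowers c) (by
          rw [Nat.card_congr f.toEquiv, DihedralGroup.nat_card]; omega)).ge (mem_sup_right (mem_zpowers c))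
      · refine absurd (fun x y => f.symm.injective (by rw [map_mul, map_mul, mul_comm'])) (show
          ¬ ∀ x y : alternatingGroup (Fin 4), x * y = y * x by decide)
    · obtain ⟨k, hk⟩ := IsPGroup.iff_card.1 P.isPGroup'
      rw [Nat.card_congr e.toEquiv, nat_card_alternatingGroup] at hk
      exact absurd (Nat.prime_three.dvd_of_dvd_pow (hk ▸ by simp; decide : 3 ∣ 2 ^ k)) (by norm_num)
  · intro h H hn hq
    obtain ⟨S⟩ := (inferInstance : Nonempty (Sylow 2 H))
    haveI := hn S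
    obtain ⟨x, hx⟩ := (hq S).exists_generator
    obtain ⟨x, rfl⟩ := QuotientGroup.mk_surjective x
    obtain ⟨i, n, hn', e⟩ := dec Nat.prime_two x
    have hc : (orderOf (x ^ 2 ^ i)).Coprime 2 :=
      hn'.symm.coprime_dvd_left (orderOf_dvd_of_pow_eq_one (by rw [← pow_mul, e]))
    have hg : ∀ y : H, ∃ s ∈ (S : Subgroup H), ∃ k : ℤ, y = s * (x ^ 2 ^ i) ^ k := fun y => by
      have h1 : (x : H ⧸ (S : Subgroup H)) ∈ zpowers ((x : H ⧸ (S : Subgroup H)) ^ 2 ^ i) := by
        have e1 : orderOf (x : H ⧸ (S : Subgroup H)) ∣ (S : Subgroup H).index := orderOf_dvd_natCard _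
        have e2 : Nat.Coprime (2 ^ i) (orderOf (x : H ⧸ (S : Subgroup H))) := Nat.Coprime.pow_left i
          (((Nat.Prime.coprime_iff_not_dvd Nat.prime_two).2 S.not_dvd_index).coprime_dvd_right e1)
        rw [mem_zpowers_pow_iff]
        exact e2
      obtain ⟨k, hk⟩ := zpowers_le.2 h1 (hx y)
      refine ⟨y * ((x ^ 2 ^ i) ^ k)⁻¹, (QuotientGroup.eq_one_iff _).1 ?_, k, (inv_mul_cancel_right _ _).symm⟩
      rw [QuotientGroup.mk_mul, QuotientGroup.mk_inv, QuotientGroup.mk_zpow, QuotientGroup.mk_pow, mul_inv_eq_one]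
      exact hk.symm
    obtain ⟨Q, hQ⟩ := (S.isPGroup'.map H.subtype).exists_le_sylow
    obtain ⟨g, rfl⟩ := MulAction.exists_smul_eq G Q P
    let ψ : H →* G := (MulAut.conj g).toMonoidHom.comp H.subtype
    have hψ : Function.Injective ψ := (MulAut.conj g).injective.comp H.subtype_injective
    have hSP : ∀ s ∈ (S : Subgroup H), ψ s ∈ ((g • Q : Sylow 2 G) : Subgroup G) := fun s hs =>
      smul_mem_pointwise_smul _ (MulAut.conj g) _ (hQ (mem_map_of_mem _ hs))
    let φ : S →* ((g • Q : Sylow 2 G) : Subgroup G) := (ψ.comp (S : Subgroup H).subtype).codRestrict _ fun s => hSP s s.2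
    have hφ : Function.Injective φ := fun a b e => Subtype.ext (hψ (congrArg Subtype.val e))
    rcases h with h | ⟨⟨n, -, ⟨e⟩⟩, h⟩
    · exact .inl (cyc S.isPGroup' hc hg (isCyclic_of_injective φ hφ))
    let χ := e.toMonoidHom.comp φ
    have hχ : Function.Injective χ := e.injective.comp hφ
    obtain ⟨a, ha⟩ := (isCyclic_of_injective (χ.subgroupComap (zpowers (.r 1))) fun a b e =>
      Subtype.ext (hχ (congrArg Subtype.val e))).exists_generator
    have hz : ∀ s : S, (s : H) ∈ zpowers ((a : S) : H) ↔ χ s ∈ zpowers (DihedralGroup.r 1) := fun s =>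
      ⟨fun ⟨k, hk⟩ => (show (a : S) ^ k = s from Subtype.ext hk) ▸ zpow_mem a.2 k, fun h => by
        obtain ⟨k, hk⟩ := ha ⟨s, h⟩
        exact ⟨k, congrArg Subtype.val (congrArg Subtype.val hk)⟩⟩
    refine core S.isPGroup' hc hg (a : S).2 (fun s hs h1 => ?_) fun K hK h4 h2 y hy => ?_
    · obtain ⟨i, hi⟩ := rot (mt (hz ⟨s, hs⟩).2 h1)
      obtain ⟨k, hk⟩ := a.2
      refine ⟨congrArg Subtype.val (hχ (a₁ := ⟨s, hs⟩ ^ 2) (a₂ := 1) (by rw [map_pow, hi, map_one, sq]; simp)),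
        congrArg Subtype.val (hχ (a₁ := ⟨s, hs⟩ * a * ⟨s, hs⟩⁻¹) (a₂ := a⁻¹) (by
          rw [map_mul, map_mul, map_inv, map_inv, hi, ← hk]; simp)), fun t ht h2 => ?_⟩
      obtain ⟨j, hj⟩ := rot (mt (hz ⟨t, ht⟩).2 h2)
      exact (hz (⟨s, hs⟩ * ⟨t, ht⟩)).2 (by rw [map_mul, hi, hj]; exact ⟨(j - i).cast, by simp⟩)
    · obtain ⟨w, hw, e⟩ := (h (K.map ψ) (map_le_iff_le_comap.2 fun s hs => hSP s (hK hs))
        (by rw [card_map_of_injective hψ, h4]) (by rintro _ ⟨k, hk, rfl⟩; rw [← map_pow, h2 k hk, map_one])).le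
        (show ψ y ∈ _ by rintro _ ⟨k, hk, rfl⟩; rw [← map_mul, hy k hk, map_mul])
      exact hψ e ▸ hw

end Cfsg.Agent.S4083
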