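import Cfsg.Statements.S4113
import Cfsg.Agent.GS.Lem2

set_option autoImplicit false
open Cfsg

namespace Cfsg.Agent.S4113

open Cfsg.Agent.H1

/-- Let G be a finite group, M ≤ N non-trivial proper normal subgroups, and H a subgroup with HM = G and H ∩ M = 1. Then every element of G outside N acts fixed-point-freely on M (C_G(x) ≤ N for every x ∈ M, x ≠ 1) if and only if H ∩ gHg⁻¹ ≤ H ∩ N for every g outside H, with H proper and non-trivial and H ∩ N proper in H. -/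
theorem result {G : Type*} [Group G] [Finite G] (N M : Subgroup G) [N.Normal] [M.Normal] (hMN : M ≤ N) (hM1 : M ≠ ⊥) (hN2 : N ≠ ⊤)
    (H : Subgroup G) (hHM : H ⊔ M = ⊤) (hHM' : H ⊓ M = ⊥) :
    (∀ x ∈ M, x ≠ 1 → Subgroup.centralizer ({x} : Set G) ≤ N) ↔
      (H ≠ ⊥ ∧ H ≠ ⊤ ∧ H ⊓ N < H ∧ ∀ g : G, g ∉ H → H ⊓ H.map (MulAut.conj g).toMonoidHom ≤ N) := by
  open Subgroup Pointwise commutatorElement Cfsg.Agent.BG Cfsg.Agent.GS in
  open Cfsg.Agent.H2 hiding card_lt_of_lt card_lt_of_ne_top isMulCommutative_of_le isPGroup_zpowers_iff mem_of_pow_mem_of_coprime inf_eq_bot_of_cop exists_maxElem_ge Sec in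
  open Cfsg.Agent.H8 (Op Opp Fit SN) in
  open Cfsg.Agent.L (FPF) in focus
    have h0 : ∀ x ∈ H, x ∈ M → x = 1 := fun x a b => mem_bot.1 (hHM' ▸ (⟨a, b⟩ : x ∈ H ⊓ M))
    constructor
    · intro h
      refine ⟨fun e => hN2 (top_le_iff.1 (by rw [← hHM, e, bot_sup_eq]; exact hMN)),
        fun e => hM1 (by rwa [e, top_inf_eq] at hHM'),
        inf_le_left.lt_of_ne fun e => hN2 (top_le_iff.1 (hHM ▸ sup_le (inf_eq_left.1 e) hMN)), fun g hg x ⟨h1, h2⟩ => ?_⟩
      obtain ⟨m, hm, a, ha, rfl⟩ := forall_mul_of_sup_eq_top' (sup_comm H M ▸ hHM) g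
      have h3 : m⁻¹ * x * m ∈ H := by
        have := mul_mem (mul_mem ha (mem_map_conj.1 h2)) (inv_mem ha)
        rwa [show a * ((m * a)⁻¹ * x * (m * a)) * a⁻¹ = m⁻¹ * x * m by group] at this
      have h4 := h0 _ (mul_mem h3 (inv_mem h1)) (by
        rw [show m⁻¹ * x * m * x⁻¹ = m⁻¹ * (x * m * x⁻¹) by group]
        exact mul_mem (inv_mem hm) (‹M.Normal›.conj_mem m hm x))
      refine h m hm (fun e => hg (by rwa [e, one_mul])) (mem_cent1.2 ?_)
      calc m * x = m * (m⁻¹ * x * m * x⁻¹) * x := by rw [h4, mul_one]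
        _ = x * m := by group
    · intro ⟨_, _, _, h⟩ x hx h1 g hg
      obtain ⟨m, hm, a, ha, rfl⟩ := forall_mul_of_sup_eq_top' (sup_comm H M ▸ hHM) g
      refine mul_mem (hMN hm) (by_contra fun h2 => h1 ?_)
      have h3 : M ⊓ 𝒞₁ a = ⊥ := eq_bot_iff.2 fun y ⟨y1, y2⟩ => by_contra fun e => h2 (h y (fun c => e (h0 y c y1))
        ⟨ha, mem_map_conj.2 (by rw [mul_assoc, mem_cent1.1 y2, inv_mul_cancel_left]; exact ha)⟩)
      obtain ⟨k, hk, e⟩ := L.exists_commutator_eq_of_centralizer (mem_norm_of_normal M a) h3 hm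
      have h4 : k⁻¹ * x * k ∈ M ⊓ 𝒞₁ a := ⟨M.mul_mem (M.mul_mem (M.inv_mem hk) hx) hk, by
        have := mem_cent1_conj (mem_cent1_comm.1 hg) k⁻¹
        rwa [← e, inv_inv, show k⁻¹ * (k * a * k⁻¹) * k = a by group] at this⟩
      rw [h3, mem_bot] at h4
      calc x = k * (k⁻¹ * x * k) * k⁻¹ := by group
        _ = 1 := by rw [h4]; group

end Cfsg.Agent.S4113
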