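import Cfsg.Statements.S4365
import Cfsg.Agent.H8.Mann

set_option autoImplicit false
open Cfsg

namespace Cfsg.Agent.S4365

open Subgroup hiding commutator_def
open Function Cfsg.Agent.Hopf Cfsg.Agent.Reg
open scoped commutatorElement Pointwise


/-- Let P be a finite p-group whose conjugacy class sizes are exactly 1 and pᵃ for some a ≥ 1. Then every element of P has its p-th power in the center of P (P/Z(P) has exponent p). -/
theorem result {P : Type*} [Group P] [Finite P] (p : ℕ) [Fact p.Prime]
    (hP : IsPGroup p P) (a : ℕ) (ha : 1 ≤ a)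
    (hcs : {k : ℕ | ∃ x : P, (Subgroup.centralizer ({x} : Set P)).index = k} = {1, p ^ a}) (x : P) :
    x ^ p ∈ Subgroup.center P := by
  have hp : p.Prime := Fact.out
  have hall : ∀ y : P, (centralizer ({y} : Set P)).index = 1 ∨
      (centralizer ({y} : Set P)).index = p ^ a := fun y => by
    have : (centralizer ({y} : Set P)).index ∈ ({1, p ^ a} : Set ℕ) := hcs ▸ ⟨y, rfl⟩
    simpa using this
  -- equal centralizers
  have heq : ∀ u v : P, u ∉ center P → v ∉ center P →
      centralizer ({u} : Set P) ≤ centralizer ({v} : Set P) →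
      centralizer ({v} : Set P) ≤ centralizer ({u} : Set P) := by
    intro u v hu hv hle
    have h1 := (hall u).resolve_left (fun h => hu (idx_one_iff.1 h))
    have h2 := (hall v).resolve_left (fun h => hv (idx_one_iff.1 h))
    have h3 := relIndex_mul_index hle
    rw [h1, h2] at h3
    have h4 : (centralizer ({u} : Set P)).relIndex (centralizer ({v} : Set P)) = 1 :=
      Nat.eq_of_mul_eq_mul_right (pow_pos hp.pos a) (by rw [h3, one_mul])
    exact relIndex_eq_one.1 h4
  have hpw : ∀ g : P, g ^ p ∉ center P → ∀ w : P, w * g ^ p = g ^ p * w → w * g = g * w := by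
    intro g hg w hw
    refine mem_centralizer_singleton_iff.1 (heq g (g ^ p) (fun h => hg (pow_mem h p)) hg ?_
      (mem_centralizer_singleton_iff.2 hw))
    intro u hu
    exact mem_centralizer_singleton_iff.2
      ((Commute.pow_right (mem_centralizer_singleton_iff.1 hu : Commute u g) p))
  by_contra hx
  -- an element of order p in the centre of P / Z
  haveI : Nontrivial (P ⧸ center P) := by
    refine ⟨⟨(x ^ p : P), 1, fun h => hx ((QuotientGroup.eq_one_iff _).1 h)⟩⟩
  have hQ : IsPGroup p (P ⧸ center P) := hP.to_quotient _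
  haveI := hQ.center_nontrivial
  obtain ⟨z0, hz0⟩ := exists_prime_orderOf_dvd_card' (G := center (P ⧸ center P)) p
    (by
      obtain ⟨k, hk⟩ := IsPGroup.iff_card.1 (hQ.to_subgroup (center _))
      rw [hk]
      refine dvd_pow_self p ?_
      rintro rfl
      exact Finite.one_lt_card.ne' (hk.trans (pow_zero p)))
  obtain ⟨z, hz⟩ := QuotientGroup.mk_surjective z0.1
  have hz1 : z ∉ center P := by
    intro h
    have : z0 = 1 := Subtype.ext (hz ▸ (QuotientGroup.eq_one_iff _).2 h)
    rw [this, orderOf_one] at hz0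
    exact hp.one_lt.ne hz0
  have hzp : z ^ p ∈ center P := by
    rw [← QuotientGroup.eq_one_iff, QuotientGroup.mk_pow, hz, ← hz0, ← Subgroup.coe_pow,
      pow_orderOf_eq_one]; rfl
  have hzc : ∀ g : P, g * z * g⁻¹ * z⁻¹ ∈ center P := by
    intro g
    rw [← QuotientGroup.eq_one_iff]
    have := mem_center_iff.1 z0.2 (g : P ⧸ center P)
    simp only [QuotientGroup.mk_mul, QuotientGroup.mk_inv, hz, this]
    group
  -- general power formula
  have pw : ∀ u v : P, u * v * u⁻¹ * v⁻¹ ∈ center P → v ^ p ∈ center P → u ^ p * v = v * u ^ p := by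
    intro u v h hv
    obtain ⟨c, hc⟩ : ∃ c, c = u * v * u⁻¹ * v⁻¹ := ⟨_, rfl⟩
    rw [← hc] at h
    have e0 : u * v * u⁻¹ = c * v := by rw [hc]; group
    have hcv : Commute c v := (mem_center_iff.1 h v).symm
    have e1 : c ^ p = 1 := by
      have e2 : (u * v * u⁻¹) ^ p = v ^ p := by
        rw [conj_pow, mem_center_iff.1 hv u]; group
      rw [e0, hcv.mul_pow] at e2
      simpa using e2
    have e3 : ∀ k : ℕ, u ^ k * v = c ^ k * v * u ^ k := by
      intro k
      induction k with
      | zero => simp
      | succ k ih =>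
        have hcu : Commute u (c ^ k) := mem_center_iff.1 (pow_mem h k) u
        calc u ^ (k + 1) * v = u * (u ^ k * v) := by rw [pow_succ']; group
          _ = (u * c ^ k) * v * u ^ k := by rw [ih]; group
          _ = c ^ k * (u * v * u⁻¹) * (u * u ^ k) := by rw [hcu.eq]; group
          _ = _ := by rw [e0, ← pow_succ', pow_succ c k]; group
    rw [e3, e1, one_mul]
  -- elements with non central p-th power have the centralizer of z
  have hC : ∀ g : P, g ^ p ∉ center P → ∀ w : P, (w * g = g * w ↔ w * z = z * w) := by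
    intro g hg
    have h1 : z * g = g * z := hpw g hg z (pw g z (hzc g) hzp).symm
    have h2 : (g * z) ^ p = g ^ p * z ^ p := (Commute.mul_pow (h1.symm : Commute g z) p)
    have h3 : (g * z) ^ p ∉ center P := by
      intro h
      rw [h2] at h
      exact hg (by simpa using mul_mem h (inv_mem hzp))
    have h4 : ∀ w : P, w * g = g * w → w * z = z * w := by
      intro w hw
      have h5 := hpw (g * z) h3 w (by
        rw [h2, ← mul_assoc, (Commute.pow_right (hw : Commute w g) p).eq, mul_assoc,
          mem_center_iff.1 hzp w, mul_assoc])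
      rw [← mul_assoc, hw, mul_assoc, mul_assoc] at h5
      exact mul_left_cancel h5
    intro w
    refine ⟨h4 w, fun hw => mem_centralizer_singleton_iff.1 (heq g z (fun h => hg (pow_mem h p)) hz1
      (fun u hu => mem_centralizer_singleton_iff.2 (h4 u (mem_centralizer_singleton_iff.1 hu)))
      (mem_centralizer_singleton_iff.2 hw))⟩
  obtain ⟨B, hB⟩ : ∃ B, B = centralizer ({z} : Set P) := ⟨_, rfl⟩
  haveI hBn : B.Normal := by
    constructor
    intro u hu g
    rw [hB, mem_centralizer_singleton_iff] at hu ⊢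
    have c1 := mem_center_iff.1 (hzc g⁻¹) u
    calc g * u * g⁻¹ * z = g * (u * (g⁻¹ * z * g⁻¹⁻¹ * z⁻¹)) * z * g⁻¹ := by group
      _ = g * (g⁻¹ * z * g⁻¹⁻¹ * z⁻¹) * (u * z) * g⁻¹ := by rw [c1]; group
      _ = _ := by rw [hu]; group
  have hab : ∀ u ∈ B ⊓ centralizer (B : Set P), ∀ v ∈ B ⊓ centralizer (B : Set P), u * v = v * u :=
    fun u hu v hv => hv.2 u hu.1
  have hxA : x ∈ B ⊓ centralizer (B : Set P) := by
    refine ⟨hB ▸ mem_centralizer_singleton_iff.2 ((hC x hx x).1 rfl), fun u hu => ?_⟩
    exact (hC x hx u).2 (mem_centralizer_singleton_iff.1 (hB ▸ hu))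
  obtain ⟨y, hy⟩ : ∃ y : P, y * z ≠ z * y := by
    by_contra h
    push Not at h
    exact hz1 (mem_center_iff.2 h)
  have hyp : y ^ p ∈ center P := by
    by_contra h
    exact hy ((hC y h y).1 rfl)
  have h1 := mann_cen (B ⊓ centralizer (B : Set P)) hab (p ^ a)
    (fun x hx => by rcases hall x with h | h <;> omega) y (hall y) x hxA
  exact hy ((hC x hx y).1 (hpw x hx y (pw x y h1 hyp).symm))

end Cfsg.Agent.S4365
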