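import Cfsg.Statements.S4134
import Cfsg.Agent.H8.Ito
import Cfsg.Agent.S4365

set_option autoImplicit false
open Cfsg

namespace Cfsg.Agent.S4134

open Subgroup hiding commutator_def
open Function Cfsg.Agent.Hopf Cfsg.Agent.Reg
open scoped commutatorElement Pointwise


/-- Let G be a finite group whose conjugacy classes have exactly two sizes, 1 and n > 1. Then n is a power of a prime p and G is the direct product of a p-group and an abelian group of order prime to p: its Sylow p-subgroup P is normal with an abelian normal complement centralizing it; moreover P has an abelian normal subgroup A with P/A of exponent dividing p. -/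
theorem result {G : Type*} [Group G] [Finite G] (n : ℕ) (hn : 1 < n)
    (h : ∀ x : G, (Subgroup.centralizer ({x} : Set G)).index = 1 ∨ (Subgroup.centralizer ({x} : Set G)).index = n) (hex : ∃ x : G, (Subgroup.centralizer ({x} : Set G)).index = n) :
    ∃ (p : ℕ) (_ : Fact p.Prime) (a : ℕ), n = p ^ a ∧ ∀ P : Sylow p G, (P : Subgroup G).Normal ∧
      (∃ N : Subgroup G, N.Normal ∧ N.IsComplement' (P : Subgroup G) ∧ IsMulCommutative N ∧
        ∀ x ∈ N, ∀ y ∈ (P : Subgroup G), x * y = y * x) ∧
      ∃ A : Subgroup (P : Subgroup G), A.Normal ∧ IsMulCommutative A ∧ ∀ y : (P : Subgroup G), y ^ p ∈ A := by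
  obtain ⟨p, hp, hQ⟩ := ito n h
  haveI := Fact.mk hp
  obtain ⟨x, hx⟩ := hex
  obtain ⟨k, hk⟩ := IsPGroup.iff_card.1 hQ
  have hd : n ∣ p ^ k := by
    rw [← hx, ← hk]; exact index_dvd_of_le (center_le_centralizer _)
  obtain ⟨a, -, ha⟩ := (Nat.dvd_prime_pow hp).1 hd
  refine ⟨p, inferInstance, a, ha, fun P => ?_⟩
  have hN : Cfsg.pResidual p G ≤ center G := H2.pResidual_le_of_quotient hQ
  have hnil : H2.PNil p (⊤ : Subgroup G) := H2.pNil_of_mul (fun u _ v _ hu hv =>
    Nat.Coprime.coprime_dvd_left (Commute.orderOf_mul_dvd_mul_orderOf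
      (mem_center_iff.1 (hN (H2.mem_pResidual hv)) u)) (Nat.Coprime.mul_left hu hv))
  have hdec : ∀ g : G, ∃ u ∈ (P : Subgroup G), ∃ c ∈ center G, g = u * c := by
    intro g
    have : g ∈ (↑((P : Subgroup G) ⊔ center G) : Set G) := by
      have e : (P : Subgroup G) ⊔ center G = ⊤ := by
        rw [eq_top_iff, ← H2.pResidual_sup_sylow P, sup_comm]
        exact sup_le_sup_left hN _
      rw [e]; trivial
    rw [mul_normal] at this
    obtain ⟨u, hu, c, hc, e⟩ := this
    exact ⟨u, hu, c, hc, e.symm⟩
  have hcj : ∀ u c y : G, c ∈ center G → u * c * y * (u * c)⁻¹ = u * y * u⁻¹ := by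
    intro u c y hc
    calc u * c * y * (u * c)⁻¹ = u * (c * y) * c⁻¹ * u⁻¹ := by group
      _ = _ := by rw [← mem_center_iff.1 hc y]; group
  refine ⟨⟨fun y hy g => ?_⟩, ⟨_, inferInstance, hnil.isComplement' P,
    ⟨⟨fun u v => Subtype.ext (mem_center_iff.1 (hN v.2) u)⟩⟩,
    fun u hu v _ => (mem_center_iff.1 (hN hu) v).symm⟩, center _, inferInstance, inferInstance, ?_⟩
  · obtain ⟨u, hu, c, hc, rfl⟩ := hdec g
    rw [hcj u c y hc]
    exact mul_mem (mul_mem hu hy) (inv_mem hu)
  have hidx : ∀ y : (P : Subgroup G), (centralizer ({y} : Set (P : Subgroup G))).index =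
      (centralizer ({(y : G)} : Set G)).index := by
    intro y
    have e1 : centralizer ({y} : Set (P : Subgroup G)) =
        (centralizer ({(y : G)} : Set G)).subgroupOf P := by
      ext u
      rw [mem_subgroupOf, mem_centralizer_singleton_iff, mem_centralizer_singleton_iff,
        Subtype.ext_iff]
      rfl
    rw [e1, ← relIndex_top_right (centralizer ({(y : G)} : Set G)), ← ncard_cj]
    show (centralizer ({(y : G)} : Set G)).relIndex P = _
    rw [← ncard_cj]
    congr 1
    ext v
    constructor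
    · rintro ⟨t, -, rfl⟩; exact ⟨t, mem_top _, rfl⟩
    · rintro ⟨t, -, rfl⟩
      obtain ⟨u, hu, c, hc, rfl⟩ := hdec t
      exact ⟨u, hu, (hcj u c y hc).symm⟩
  refine S4365.result p P.isPGroup' a ?_ ?_
  · by_contra h0
    have : a = 0 := by omega
    rw [this, pow_zero] at ha
    omega
  · ext m
    constructor
    · rintro ⟨y, rfl⟩
      rw [hidx, ← ha]
      exact h y
    · rintro (rfl | rfl)
      · exact ⟨1, idx_one_iff.2 (one_mem _)⟩
      · obtain ⟨u, hu, c, hc, rfl⟩ := hdec x
        refine ⟨⟨u, hu⟩, ?_⟩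
        rw [hidx, ← ha, ← hx]
        congr 1
        ext w
        rw [mem_centralizer_singleton_iff, mem_centralizer_singleton_iff]
        show w * u = u * w ↔ _
        rw [← mul_assoc, mul_assoc u c w, ← mem_center_iff.1 hc w, ← mul_assoc, mul_left_inj]

end Cfsg.Agent.S4134
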