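import Cfsg.Statements.S4196
import Cfsg.Agent.GS.Lem1
import Cfsg.Agent.S3863

set_option autoImplicit false
open Cfsg

namespace Cfsg.Agent.S4196

open Cfsg.Agent.H1

/-- A finite group G has elementary abelian Sylow 2-subgroups (commutative with every element squaring to the identity) if and only if every 2-element of G has a Sylow 2-subgroup in its centralizer and is conjugate to its inverse. -/
theorem result {G : Type*} [Group G] [Finite G] (P : Sylow 2 G) :
    (IsMulCommutative (P : Subgroup G) ∧ ∀ x ∈ (P : Subgroup G), x ^ 2 = 1) ↔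
      ∀ x : G, (∃ k : ℕ, orderOf x = 2 ^ k) → (∃ Q : Sylow 2 G, (Q : Subgroup G) ≤ Subgroup.centralizer ({x} : Set G)) ∧ IsConj x x⁻¹ := by
  open Subgroup Pointwise commutatorElement Cfsg.Agent.BG Cfsg.Agent.GS in
  open Cfsg.Agent.H2 hiding card_lt_of_lt card_lt_of_ne_top isMulCommutative_of_le isPGroup_zpowers_iff mem_of_pow_mem_of_coprime inf_eq_bot_of_cop exists_maxElem_ge Sec in
  open Cfsg.Agent.H8 (Op Opp Fit SN) in
  open Cfsg.Agent.L (FPF) in focus
    constructor
    · rintro ⟨h1, h2⟩ x ⟨k, hk⟩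
      obtain ⟨g, hg⟩ := exists_conj_mem_sylow P hk
      have h3 : x ∈ ((g⁻¹ • P : Sylow 2 G) : Subgroup G) := by rw [coe_smul_sylow, mem_cj, inv_inv]; exact hg
      refine ⟨⟨g⁻¹ • P, le_cent1_of_comm (by rw [coe_smul_sylow]; exact comm_cj h1 _) h3⟩, ?_⟩
      have h4 := h2 _ hg
      rw [conj_pow, conj_eq_one_iff, pow_two, mul_eq_one_iff_eq_inv] at h4
      rw [← h4]
    · intro h
      have h1 : ∀ x ∈ (P : Subgroup G), x ^ 2 = 1 := fun x hx => by
        obtain ⟨⟨Q, hQ⟩, h2⟩ := h x (orderOf_eq_pow_of_mem P.isPGroup' hx)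
        exact (S3863.result x h2).2.1 (Nat.odd_iff.2 (Nat.two_dvd_ne_zero.1 (not_dvd_index_of_sylIn (sylIn_top Q) hQ)))
      refine ⟨isMulCommutative_of_forall fun a ha b hb => ?_, h1⟩
      have h2 := h1 _ (mul_mem ha hb)
      have h3 := h1 a ha
      have h4 := h1 b hb
      rw [pow_two] at h2 h3 h4
      calc a * b = (a * b)⁻¹ := eq_inv_of_mul_eq_one_left h2
        _ = b * a := by rw [mul_inv_rev, ← eq_inv_of_mul_eq_one_left h3, ← eq_inv_of_mul_eq_one_left h4]

end Cfsg.Agent.S4196
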