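import Cfsg.Statements.S4231
import Cfsg.Agent.S2119
import Cfsg.Agent.S0813
import Cfsg.Agent.S0254
import Cfsg.Agent.S0265
import Cfsg.Agent.H4.Linear

set_option autoImplicit false
open Cfsg

namespace Cfsg.Agent.S4231

open Cfsg.Agent Cfsg.Agent.H9
theorem syl_comm {G : Type*} [Group G] [Finite G] {q : ℕ} [hq : Fact q.Prime] (h : ¬ q ^ 3 ∣ Nat.card G) (P : Sylow q G) :
    IsMulCommutative (P : Subgroup G) := by
  obtain ⟨k, hk⟩ := IsPGroup.iff_card.mp P.isPGroup'
  have h1 : q ^ k ∣ Nat.card G := hk ▸ Subgroup.card_subgroup_dvd_card _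
  rcases k with _ | _ | _ | k
  · have : Subsingleton (P : Subgroup G) := (Nat.card_eq_one_iff_unique.mp (by simpa using hk)).1
    exact ⟨⟨fun a b => Subsingleton.elim _ _⟩⟩
  · have := isCyclic_of_prime_card (p := q) (by simpa using hk : Nat.card (P : Subgroup G) = q)
    exact IsCyclic.isMulCommutative
  · exact IsPGroup.isMulCommutative_of_card_eq_prime_sq (p := q) hk
  · exact absurd ((pow_dvd_pow q (by omega)).trans h1) h

theorem card_aut6 : Nat.card (MulAut (alternatingGroup (Fin 6))) = 1440 := by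
  haveI : Fact (Nat.Prime 3) := ⟨by norm_num⟩
  letI : Fintype (GaloisField 3 2) := Fintype.ofFinite _
  have hF : Fintype.card (GaloisField 3 2) = 3 ^ 2 := by
    rw [← Nat.card_eq_fintype_card, GaloisField.card 3 2 (by norm_num)]
  obtain ⟨e⟩ := Cfsg.Agent.S0254.result (F := GaloisField 3 2) hF
  rw [← Nat.card_congr (MulAut.congr e).toEquiv, Cfsg.Agent.S0813.result 3 2 (by norm_num) hF 2 le_rfl (fun _ => by norm_num),
    Cfsg.Agent.S0265.result, H4.card_SL_two, hF]
  norm_num

theorem main (n : ℕ) (hn : 5 ≤ n) (G : Subgroup (MulAut (alternatingGroup (Fin n))))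
    (hG : (MulAut.conj : alternatingGroup (Fin n) →* MulAut (alternatingGroup (Fin n))).range ≤ G)
    (p q : ℕ) [hp : Fact p.Prime] [hq : Fact q.Prime] (hpq : p < q) (h : ∀ g : G, orderOf g ≠ p * q) :
    ∀ Q : Sylow q G, IsMulCommutative (Q : Subgroup G) := by
  have hp2 := hp.out.two_le
  have hqo : Odd q := hq.out.odd_of_ne_two (by omega)
  refine syl_comm fun h3 => ?_
  have h4 : q ^ 3 ∣ Nat.card (MulAut (alternatingGroup (Fin n))) := h3.trans (Subgroup.card_subgroup_dvd_card G)
  by_cases h6 : n = 6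
  · subst h6
    rw [card_aut6] at h4
    have h5 : q ^ 3 ≤ 1440 := Nat.le_of_dvd (by norm_num) h4
    have h7 : q < 12 := by
      by_contra h8
      have : 12 ^ 3 ≤ q ^ 3 := Nat.pow_le_pow_left (by omega) 3
      omega
    have h9 : 3 ≤ q := by omega
    obtain ⟨m, hm⟩ := hqo
    interval_cases q <;> omega
  rw [← Nat.card_eq_of_bijective _ (Cfsg.Agent.S2119.result n (by omega) h6), Nat.card_perm, Nat.card_eq_fintype_card, Fintype.card_fin] at h4
  by_cases h3q : n < 3 * q
  · rw [hq.out.pow_dvd_factorial_iff (b := 2) (Nat.log_lt_of_lt_pow (by omega) (by nlinarith))] at h4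
    simp only [Nat.Ico_succ_singleton, Finset.sum_singleton, pow_one] at h4
    have := (Nat.le_div_iff_mul_le hq.out.pos).mp h4
    omega
  obtain ⟨σ, hσ⟩ := (Equiv.Perm.exists_with_cycleType_iff (Fin n) (m := {q, p, p})).mpr
    ⟨by simp; omega, by simp; omega⟩
  have hs : σ ∈ alternatingGroup (Fin n) := by
    rw [Equiv.Perm.mem_alternatingGroup, Equiv.Perm.sign_of_cycleType, hσ]
    refine Even.neg_one_pow ?_
    obtain ⟨m, hm⟩ := hqo
    refine ⟨m + p + 2, ?_⟩
    simp; omega
  have hinj : Function.Injective (MulAut.conj : alternatingGroup (Fin n) →* MulAut (alternatingGroup (Fin n))) := by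
    refine (injective_iff_map_eq_one _).mpr fun a ha => ?_
    have : a ∈ Subgroup.center (alternatingGroup (Fin n)) := Subgroup.mem_center_iff.mpr fun g => by
      have := MulEquiv.congr_fun ha g
      simp only [MulAut.conj_apply, MulAut.one_apply] at this
      exact (mul_inv_eq_iff_eq_mul.mp this).symm
    rwa [alternatingGroup.center_eq_bot (by simp; omega), Subgroup.mem_bot] at this
  refine h ⟨MulAut.conj ⟨σ, hs⟩, hG ⟨_, rfl⟩⟩ ?_
  rw [Subgroup.orderOf_mk, orderOf_injective _ hinj, Subgroup.orderOf_mk, ← Equiv.Perm.lcm_cycleType, hσ]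
  have hc : Nat.Coprime q p := (Nat.coprime_primes hq.out hp.out).mpr (by omega)
  simp only [Multiset.insert_eq_cons, Multiset.lcm_cons, Multiset.lcm_singleton, normalize_eq, lcm_same]
  rw [mul_comm]
  exact hc.lcm_eq_mul

/-- Let n ≥ 5 and let G be a group of automorphisms of the alternating group of degree n containing all inner automorphisms. If p ≠ q are primes and G has no element of order pq, then every Sylow p-subgroup of G is abelian or every Sylow q-subgroup of G is abelian. -/
theorem result (n : ℕ) (hn : 5 ≤ n) (G : Subgroup (MulAut (alternatingGroup (Fin n))))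
    (hG : (MulAut.conj : alternatingGroup (Fin n) →* MulAut (alternatingGroup (Fin n))).range ≤ G)
    (p q : ℕ) [Fact p.Prime] [Fact q.Prime] (hpq : p ≠ q) (h : ∀ g : G, orderOf g ≠ p * q) :
    (∀ P : Sylow p G, IsMulCommutative (P : Subgroup G)) ∨ (∀ Q : Sylow q G, IsMulCommutative (Q : Subgroup G)) := by
  rcases lt_or_gt_of_ne hpq with h1 | h1
  · exact Or.inr (main n hn G hG p q h1 h)
  · exact Or.inl (main n hn G hG q p h1 fun g => mul_comm p q ▸ h g)

end Cfsg.Agent.S4231
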