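import Cfsg.Statements.S4281
import Cfsg.Agent.H5.Ic

set_option autoImplicit false
open scoped BigOperators
open Cfsg

namespace Cfsg.Agent.S4281

/-- In the Chevalley group of type E₈ over a finite field of odd order q there are exactly two conjugacy classes of involutions; the centralizer of an involution in one class has order q⁵⁶(q⁸ − 1)·∏_{i=1}^{7}(q^{2i} − 1), and in the other class q⁶⁴(q² − 1)²(q⁶ − 1)(q⁸ − 1)(q¹⁰ − 1)(q¹² − 1)(q¹⁴ − 1)(q¹⁸ − 1). -/
theorem result {F : Type*} [Field F] [Fintype F] (hF : Odd (Fintype.card F)) : ∃ s t : ↥(Cfsg.Lie.chevE8.group F), orderOf s = 2 ∧ orderOf t = 2 ∧ ¬ IsConj s t ∧ (∀ u : ↥(Cfsg.Lie.chevE8.group F), orderOf u = 2 → IsConj u s ∨ IsConj u t) ∧ Nat.card (Subgroup.centralizer ({s} : Set ↥(Cfsg.Lie.chevE8.group F))) = Fintype.card F ^ 56 * (Fintype.card F ^ 8 - 1) * ∏ i ∈ Finset.Icc 1 7, (Fintype.card F ^ (2 * i) - 1) ∧ Nat.card (Subgroup.centralizer ({t} : Set ↥(Cfsg.Lie.chevE8.group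 F))) = Fintype.card F ^ 64 * (Fintype.card F ^ 2 - 1) ^ 2 * (Fintype.card F ^ 6 - 1) * (Fintype.card F ^ 8 - 1) * (Fintype.card F ^ 10 - 1) * (Fintype.card F ^ 12 - 1) * (Fintype.card F ^ 14 - 1) * (Fintype.card F ^ 18 - 1) := by
  have hk := H5.kerE8.ker_eq_bot (K := F)
  obtain ⟨a1, a2, a3⟩ := H5.rsE8.inv_chk hF hk (x := 3) (A := 0xfa8307c00003ff003ff400f83f03ffffc0fc1f002ffc00ffc00003e0c15f) (m := 56)
    (t := [(0xfa8307c00003ff003ff400f83f03ffffc0fc1f002ffc00ffc00003e0c15f, 239, 0x400000b7001ef400782f01da5b80f41e002f7800ed000002000000, [1, 1, 2, 2, 3, 3, 5, 5, 6, 6, 7, 7, 8, 8, 7, 7, 6, 6, 5, 5, 3, 3, 2, 2, 1, 1]), (0x400000000000000000000000000000000000000000000002000000, 214, 0xb7001ef400782f01da5b80f41e002f7800ed000000000000, [1, 1]), (0xb7001ef400782f01da5b80f41e002f7800ed000000000000, 191, 0x100063400182300424200c418002c600080000000000000, [1, 1, 2, 2, 4, 4, 5, 5, 6, 6, 5, 5, 4, 4, 2, 2, 1, 1]), (0x2400000000000000000000000000000,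 121, 0x100063400182300400200c418002c600080000000000000, [1, 1]), (0x100063400182300400200c418002c600080000000000000, 184, 0x40000200040020004000020000000000000000000, [1, 1, 3, 3, 4, 4, 3, 3, 1, 1]), (0x40020000000000000000000000000000, 126, 0x40000200000000004000020000000000000000000, [1, 1]), (0x200000000004000000000000000000000000, 141, 0x40000000000000000000020000000000000000000, [1, 1]), (0x40000000000000000000020000000000000000000, 162, 0x0, [1, 1])]) (by decide +kernel)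
  obtain ⟨b1, b2, b3⟩ := H5.rsE8.inv_chk hF hk (x := 1) (A := 0xfd0007ffffffff0000040007e07ffffffe07e000200000ffffffffe000bf) (m := 64)
    (t := [(0x40000000000000000000020000000000000000000, 162, 0xfd0007ffffffff0000000007e07ffffffe07e000000000ffffffffe000bf, [1, 1]), (0xfd0007ffffffff0000000007e07ffffffe07e000000000ffffffffe000bf, 239, 0x44b12cb70000000003e03dda5bbc07c000000000ed348d22000000, [1, 1, 1, 1, 2, 2, 3, 3, 4, 4, 5, 5, 6, 6, 6, 6, 7, 7, 6, 6, 6, 6, 5, 5, 4, 4, 3, 3, 2, 2, 1, 1, 1, 1]), (0x44b12cb70000000003e03dda5bbc07c000000000ed348d22000000, 214, 0xb700000000002001da5b80040000000000ed000000000000, [1, 1, 2, 2, 4, 4, 5, 5, 6, 6, 5, 5, 4, 4, 2, 2, 1, 1]), (0x200000000004000000000000000000000000, 141, 0xb700000000000001da5b80000000000000ed000000000000, [1, 1]), (0xb700000000000001da5b80000000000000ed000000000000, 191, 0x10000000000000042420000000000000080000000000000, [1, 1, 3, 3, 4, 4, 3, 3, 1, 1]), (0x2400000000000000000000000000000,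 121, 0x10000000000000040020000000000000080000000000000, [1, 1]), (0x40020000000000000000000000000000, 126, 0x10000000000000000000000000000000080000000000000, [1, 1]), (0x10000000000000000000000000000000080000000000000, 184, 0x0, [1, 1])]) (by decide +kernel)
  have h := fun n => Nat.one_le_pow n _ (Fintype.card_pos (α := F))
  have h1 := Fintype.card_pos (α := F)
  refine ⟨_, _, a1, b1, fun e => by have := H5.RS.ncard_of_isConj hk e; omega, fun u => H5.rsE8.invol_conj hF H5.goodE8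
    H5.kerE8.ker_eq_bot (t := [(0, 0, 0), (0, 0, 0), (3, 10, 6), (0, 0, 0), (0, 5, 2), (2, 1, 1), (0, 7, 2), (2, 3, 1), (2, 12, 4), (1, 11, 2), (2, 14, 5), (3, 3, 1), (3, 4, 3), (3, 5, 2), (1, 12, 4), (1, 13, 3), (3, 24, 6), (3, 25, 4), (5, 50, 14), (2, 23, 6), (0, 21, 6), (2, 17, 5), (3, 30, 6), (3, 31, 5), (4, 8, 5), (4, 9, 3), (4, 10, 6), (4, 11, 2), (4, 12, 4), (4, 13, 3), (4, 14, 5), (4, 15, 4), (4, 48, 8), (4, 49, 6), (3, 42, 12), (4, 51, 8), (4, 52, 8), (4, 53, 7), (4, 54, 8), (4, 55, 7), (2, 44, 10), (1, 43, 10), (2, 46, 11), (3, 35, 9), (3, 36, 9), (3, 37, 8), (1, 44, 10), (1, 45, 9), (5, 16, 7), (5, 17, 5), (4, 34, 13), (5, 19, 7), (5, 20, 7), (5, 21, 6), (5, 22, 7), (5, 23, 6), (5, 24, 6), (5, 25, 4), (5, 26, 7), (5, 27, 3), (5, 28, 5), (5, 29, 4), (5, 30, 6), (5, 31, 5), (5, 96, 10), (5, 97, 8), (5, 98, 14), (5, 99, 10), (5, 100, 10), (5, 101, 9), (5, 102, 10), (5, 103, 9), (5, 104, 12), (5, 105, 12), (5, 106,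 13), (5, 107, 11), (5, 108, 11), (5, 109, 10), (5, 110, 12), (5, 111, 11), (3, 88, 14), (3, 89, 14), (7, 210, 28), (2, 87, 14), (0, 85, 16), (2, 81, 15), (3, 94, 14), (3, 95, 13), (4, 72, 13), (4, 73, 13), (4, 74, 14), (4, 75, 12), (4, 76, 12), (4, 77, 11), (4, 78, 13), (4, 79, 12), (6, 32, 9), (6, 33, 7), (6, 34, 13), (6, 35, 9), (6, 36, 9), (6, 37, 8), (6, 38, 9), (6, 39, 8), (6, 40, 11), (6, 41, 11), (6, 42, 12), (6, 43, 10), (6, 44, 10), (6, 45, 9), (6, 46, 11), (6, 47, 10), (6, 48, 8), (6, 49, 6), (6, 50, 14), (6, 51, 8), (6, 52, 8), (6, 53, 7), (6, 54, 8), (6, 55, 7), (6, 56, 7), (6, 57, 5), (6, 58, 8), (6, 59, 4), (6, 60, 6), (6, 61, 5), (6, 62, 7), (6, 63, 6), (6, 192, 12), (6, 193, 10), (6, 194, 16), (6, 195, 12), (6, 196, 12), (6, 197, 11), (6, 198, 12), (6, 199, 11), (6, 200, 14), (6, 201, 14), (6, 202, 15), (6, 203, 13), (6, 204, 13), (6, 205, 12), (6, 206, 14), (6, 207, 13), (6, 208, 16), (6, 209, 16), (5,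 178, 26), (6, 211, 16), (6, 212, 18), (6, 213, 17), (6, 214, 16), (6, 215, 15), (6, 216, 15), (6, 217, 15), (6, 218, 16), (6, 219, 14), (6, 220, 14), (6, 221, 13), (6, 222, 15), (6, 223, 14), (4, 176, 18), (4, 177, 18), (3, 170, 24), (4, 179, 18), (4, 180, 20), (4, 181, 19), (4, 182, 18), (4, 183, 17), (2, 172, 22), (1, 171, 20), (2, 174, 23), (3, 163, 19), (3, 164, 21), (3, 165, 20), (1, 172, 22), (1, 173, 21), (5, 144, 17), (5, 145, 17), (4, 162, 25), (5, 147, 17), (5, 148, 19), (5, 149, 18), (5, 150, 17), (5, 151, 16), (5, 152, 16), (5, 153, 16), (5, 154, 17), (5, 155, 15), (5, 156, 15), (5, 157, 14), (5, 158, 16), (5, 159, 15), (7, 64, 11), (7, 65, 9), (7, 66, 15), (7, 67, 11), (7, 68, 11), (7, 69, 10), (7, 70, 11), (7, 71, 10), (7, 72, 13), (7, 73, 13), (7, 74, 14), (7, 75, 12), (7, 76, 12), (7, 77, 11), (7, 78, 13), (7, 79, 12), (7, 80, 15), (7, 81, 15), (6, 146, 27), (7, 83, 15), (7, 84, 17), (7, 85, 16), (7, 86,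 15), (7, 87, 14), (7, 88, 14), (7, 89, 14), (7, 90, 15), (7, 91, 13), (7, 92, 13), (7, 93, 12), (7, 94, 14), (7, 95, 13), (7, 96, 10), (7, 97, 8), (7, 98, 14), (7, 99, 10), (7, 100, 10), (7, 101, 9), (7, 102, 10), (7, 103, 9), (7, 104, 12), (7, 105, 12), (7, 106, 13), (7, 107, 11), (7, 108, 11), (7, 109, 10), (7, 110, 12), (7, 111, 11), (7, 112, 9), (7, 113, 7), (7, 114, 15), (7, 115, 9), (7, 116, 9), (7, 117, 8), (7, 118, 9), (7, 119, 8), (7, 120, 8), (7, 121, 6), (7, 122, 9), (7, 123, 5), (7, 124, 7), (7, 125, 6), (7, 126, 8), (7, 127, 7)]) (by decide +kernel), a3.trans ?_, b3.trans ?_⟩ <;>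
  · simp only [List.map_cons, List.map_nil, List.prod_cons, List.prod_nil, H5.horner, show Cfsg.Lie.chevE8.rank = 8 from rfl,
      show Finset.Icc 1 7 = {1, 2, 3, 4, 5, 6, 7} from rfl]
    zify [h, h1]
    try simp only [Finset.mem_insert, Finset.mem_singleton, Nat.reduceEqDiff, or_self, not_false_eq_true, Finset.prod_insert,
      Finset.prod_singleton, OfNat.one_ne_ofNat]
    ring

end Cfsg.Agent.S4281
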