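import Cfsg.Statements.S4334
import Cfsg.Agent.H8.Misc
import Cfsg.Agent.S0581
import Cfsg.Agent.S4050

set_option autoImplicit false
open Cfsg

namespace Cfsg.Agent.S4334

open Subgroup hiding commutator_def
open Function Cfsg.Agent.Hopf Cfsg.Agent.Reg
open scoped commutatorElement Pointwise


/-- Let σ and τ be disjoint sets of primes with union π. Suppose a finite group G has a Hall π-subgroup H which is the direct product of a nilpotent σ-subgroup and a τ-subgroup (two elementwise-commuting subgroups generating H), and that the maximal τ-subgroups of G are pairwise conjugate. Then the maximal π-subgroups of G are pairwise conjugate. -/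
theorem result {G : Type*} [Group G] [Finite G]
    (σ τ π : Set ℕ) (hπ : π = σ ∪ τ) (hd : Disjoint σ τ) (H Hs Ht : Subgroup G) (hH : Cfsg.IsPiHall π H)
    (hs : Cfsg.IsPiSubgroup σ Hs) (ht : Cfsg.IsPiSubgroup τ Ht) (hsn : Group.IsNilpotent Hs)
    (hjoin : Hs ⊔ Ht = H) (hcomm : ∀ a ∈ Hs, ∀ b ∈ Ht, a * b = b * a) (hD : Cfsg.IsDPiGroup τ G) :
    Cfsg.IsDPiGroup π G := by
  have hs' : ∀ p : ℕ, p.Prime → p ∣ Nat.card Hs → p ∈ σ := hs
  have ht' : ∀ p : ℕ, p.Prime → p ∣ Nat.card Ht → p ∈ τ := ht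
  have hst : Hs ≤ centralizer (Ht : Set G) := H1.le_centralizer_iff'.2 hcomm
  have hcop : (Nat.card Hs).Coprime (Nat.card Ht) :=
    H1.coprime_of_pi hs' fun p hp h1 h2 => Set.disjoint_left.1 hd h1 (ht' p hp h2)
  have hcard : Nat.card H = Nat.card Hs * Nat.card Ht := by
    rw [← hjoin]
    exact H1.card_sup_of_disjoint (H1.le_normalizer_of_le_centralizer hst)
      (disjoint_of_coprime_natCard hcop).eq_bot
  have hsH : Hs ≤ H := hjoin ▸ le_sup_left
  have htH : Ht ≤ H := hjoin ▸ le_sup_right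
  have hHs : IsPiHall σ Hs := ⟨hs', fun p hp h1 h2 => by
    rw [← relIndex_mul_index hsH] at h2
    rcases (Nat.Prime.dvd_mul hp).1 h2 with h | h
    · have := H1.card_mul_relIndex hsH
      rw [hcard] at this
      rw [Nat.eq_of_mul_eq_mul_left Nat.card_pos this] at h
      exact Set.disjoint_left.1 hd h1 (ht' p hp h)
    · exact hH.2 p hp (hπ ▸ Or.inl h1) h⟩
  have hHt : IsPiHall τ Ht := ⟨ht', fun p hp h1 h2 => by
    rw [← relIndex_mul_index htH] at h2
    rcases (Nat.Prime.dvd_mul hp).1 h2 with h | h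
    · have := H1.card_mul_relIndex htH
      rw [hcard, mul_comm (Nat.card Hs)] at this
      rw [Nat.eq_of_mul_eq_mul_left Nat.card_pos this] at h
      exact Set.disjoint_left.1 hd (hs' p hp h) h1
    · exact hH.2 p hp (hπ ▸ Or.inr h1) h⟩
  have hmax : ∀ {ρ : Set ℕ} {X : Subgroup G}, IsPiHall ρ X → Maximal (IsPiSubgroup ρ) X :=
    fun h => ⟨h.1, fun Y hY hle =>
      (H1.eq_of_isPiHallOf_of_le (H1.isPiHallOf_top.2 h) hle le_top hY).le⟩
  have key : ∀ K : Subgroup G, IsPiSubgroup π K → ∃ g : G, H2.cj g K ≤ H := by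
    intro K hK
    -- each prime of σ gives a normal complement in K
    have h1 : ∀ p : ℕ, p.Prime → p ∈ σ → H2.PNil p K := by
      intro p hp hpσ
      haveI := Fact.mk hp
      refine pNil_of_q fun U hUK hU _ q hq hqp Q hQK hQ hn => ?_
      haveI := Fact.mk hq
      by_cases hQ1 : Q = ⊥
      · rw [hQ1]; exact bot_le
      have hqπ : q ∈ π := hK q hq ((H1.dvd_card_of_isPGroup_of_ne_bot hQ hQ1).trans (card_dvd_of_le hQK))
      obtain ⟨P, hP⟩ := H2.exists_sylIn p Hs
      have hP' := hP.trans_of_not_dvd le_top (by rw [relIndex_top_right]; exact hHs.2 p hp hpσ)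
      obtain ⟨g, -, hg⟩ := hP'.exists_le_cj hU le_top
      obtain ⟨S, hS⟩ := H2.exists_sylIn q H
      have hS' := hS.trans_of_not_dvd le_top (by rw [relIndex_top_right]; exact hH.2 q hq hqπ)
      have hHn : Hs ≤ normalizer (P : Set G) :=
        le_normalizer.trans (H1.IsSylowIn.normalizer_le_of_isNilpotent (H2.sylIn_iff.1 hP) hsn)
      have h2 : S ≤ centralizer (P : Set G) := by
        have h3 : H ≤ normalizer (P : Set G) := hjoin ▸ sup_le hHn
          (H1.le_normalizer_of_centralizer_ge (hP.le.trans hst))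
        refine H1.le_of_coprime_relIndex hS.le (H1.le_normalizer_centralizer h3) ?_
        refine H1.coprime_card_of_isPGroup hS.pgrp ((hq.coprime_iff_not_dvd.2 fun h4 => ?_).symm)
        obtain ⟨S1, hS1⟩ := H2.exists_sylIn q Hs
        have h5 : S1 ≤ centralizer (P : Set G) := H1.le_centralizer_of_isNilpotent_of_coprime hsn
          hS1.le hP.le (IsPGroup.coprime_card_of_ne q p hqp _ _ hS1.pgrp hP.pgrp)
        have h6 : H ≤ centralizer (P : Set G) ⊔ Hs := hjoin ▸ sup_le le_sup_right
          ((le_centralizer_iff.1 (hP.le.trans hst)).trans le_sup_left)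
        have h7 := H1.relIndex_dvd_of_le_norm h6 (sup_le le_normalizer
          (H1.le_normalizer_centralizer hHn))
        rw [sup_comm, H1.relIndex_sup_norm (H1.le_normalizer_centralizer hHn)] at h7
        exact hS1.not_dvd_relIndex ((h4.trans h7).trans (relIndex_dvd_of_le_left _ h5))
      have h3 : H2.cj g S ≤ centralizer (U : Set G) :=
        ((H2.cj_mono g h2).trans (H2.cj_centralizer g P).le).trans (H1.centralizer_anti hg)
      refine H1.le_of_coprime_relIndex hn (H1.normalizer_le_normalizer_centralizer U) ?_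
      refine H1.coprime_card_of_isPGroup hQ ((hq.coprime_iff_not_dvd.2 fun h4 => ?_).symm)
      have h5 := (hS'.cj_of_mem (mem_top g)).mono
        (h3.trans (centralizer_le_normalizer _)) le_top
      exact h5.not_dvd_relIndex (h4.trans (relIndex_dvd_of_le_left _ h3))
    obtain ⟨L0, _, hL0⟩ := (S4050.closed_iff (G := K) (π := σᶜ)).1
      ⟨{ carrier := {x | ∀ p : ℕ, p.Prime → p ∣ orderOf x → p ∈ σᶜ}
         one_mem' := fun p hp h => absurd (Nat.dvd_one.1 (by simpa using h)) hp.one_lt.ne'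
         inv_mem' := fun {x} hx p hp h => hx p hp (by simpa using h)
         mul_mem' := fun {x y} hx hy p hp h hσ => by
           have h2 := h1 p hp hσ
           have h3 : ∀ z : K, (∀ p : ℕ, p.Prime → p ∣ orderOf z → p ∈ σᶜ) → (z : G) ∈ H2.resOf p K :=
             fun z hz => H2.mem_resOf z.2 (by
               rw [orderOf_coe]
               exact (hp.coprime_iff_not_dvd.2 fun h => hz p hp h hσ).symm)
           have h4 := (h2.mem_resOf_iff.1 (mul_mem (h3 x hx) (h3 y hy))).2
           rw [← coe_mul, orderOf_coe] at h4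
           exact hp.coprime_iff_not_dvd.1 h4.symm h }, fun x => Iff.rfl⟩
    have hL := H1.isPiHallOf_map_subtype hL0
    have hKL := H1.le_normalizer_map_subtype_of_normal K L0
    obtain ⟨L, hLd⟩ : ∃ L, L = L0.map K.subtype := ⟨_, rfl⟩
    rw [← hLd] at hL hKL
    obtain ⟨M, hLM, hM, hM'⟩ := H1.exists_maximal_ge (IsPiSubgroup τ) (N := L) fun p hp h =>
      (hπ ▸ hK p hp (h.trans (card_dvd_of_le hL.1)) : p ∈ σ ∪ τ).resolve_left (hL.2.1 p hp h)
    obtain ⟨g, hg⟩ := hD Ht M (hmax hHt) ⟨hM, fun Y hY hle => (hM' Y hY hle).le⟩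
    change M = H2.cj g Ht at hg
    obtain ⟨S, hSK, -, hSL, hS⟩ := H1.exists_complement_of_coprime hL.1 hKL
      (H1.coprime_of_pi hL.2.1 hL.2.2)
    have h2 : H2.cj g Hs ≤ normalizer (L : Set G) :=
      H1.le_normalizer_of_le_centralizer (((H2.cj_mono g hst).trans
        (H2.cj_centralizer g Ht).le).trans (H1.centralizer_anti (hg ▸ hLM)))
    have h3 : IsPiHall σ (H2.cj g Hs) := H1.isPiHall_conj_smul hHs g
    obtain ⟨x, hx⟩ := S0581.result ((H2.cj g Hs).subgroupOf (normalizer (L : Set G)))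
      (S.subgroupOf (normalizer (L : Set G)))
      (H1.isNilpotent_subgroupOf (H1.isNilpotent_conj_smul g hsn))
      (by
        rw [H1.card_subgroupOf h2]
        exact (H1.IsPiHall.coprime h3).coprime_dvd_right (relIndex_dvd_index_of_le h2))
      fun p hp h => by
        rw [H1.card_subgroupOf (hSK.trans hKL)] at h
        rw [H1.card_subgroupOf h2]
        have h4 : p ∈ σ := by
          by_contra hc
          exact hL.2.2 p hp hc (hS ▸ h)
        have h5 := h.trans (card_subgroup_dvd_card S)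
        rw [← card_mul_index (H2.cj g Hs)] at h5
        exact ((Nat.Prime.dvd_mul hp).1 h5).resolve_right (h3.2 p hp h4)
    refine ⟨((x : G) * g)⁻¹, ?_⟩
    rw [H2.cj_le_iff, inv_inv, H2.cj_mul]
    refine hSL.ge.trans (sup_le (fun y hy => ?_) ?_)
    · have := H1.mem_conj_smul.1 (hx (show (⟨y, hKL (hSK hy)⟩ : normalizer (L : Set G)) ∈
        S.subgroupOf _ from hy))
      rw [mem_subgroupOf] at this
      exact H2.mem_cj.2 (H2.cj_mono g hsH this)
    · exact (H2.cj_eq_of_mem_normalizer x.2).ge.trans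
        (H2.cj_mono _ (hLM.trans (hg ▸ H2.cj_mono g htH)))
  intro A B hA hB
  obtain ⟨a, ha⟩ := key A hA.1
  obtain ⟨b, hb⟩ := key B hB.1
  have h1 : ∀ {X : Subgroup G} {x : G}, Maximal (IsPiSubgroup π) X → H2.cj x X ≤ H → H2.cj x X = H := by
    intro X x hX h
    rw [H2.cj_le_iff] at h
    rw [H2.cj_eq_iff]
    exact le_antisymm h (hX.2 (fun p hp hd => hH.1 p hp (by rwa [H2.card_cj] at hd)) h)
  refine ⟨b⁻¹ * a, ?_⟩
  change B = H2.cj (b⁻¹ * a) A
  rw [H2.cj_mul, h1 hA ha, ← h1 hB hb, H2.cj_inv_cj]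

end Cfsg.Agent.S4334
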