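import Cfsg.Statements.S4347
import Mathlib
import Cfsg.Agent.H7.SylN

set_option autoImplicit false
open Cfsg

namespace Cfsg.Agent.S4347

/-- Let G be a finite group and p a prime. Say a Sylow p-subgroup Q is redundant when every element of p-power order lies in some Sylow p-subgroup other than Q. Then G has no redundant Sylow p-subgroup if and only if some element of p-power order lies in exactly one Sylow p-subgroup. -/
theorem result {G : Type*} [Group G] [Finite G]
    (p : ℕ) [Fact p.Prime] :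
    (¬ ∃ Q : Sylow p G, ∀ x : G, (∃ k : ℕ, orderOf x = p ^ k) → ∃ P : Sylow p G, P ≠ Q ∧ x ∈ P) ↔
      ∃ x : G, (∃ k : ℕ, orderOf x = p ^ k) ∧ ∃! P : Sylow p G, x ∈ P := by
  constructor
  · intro h
    obtain ⟨Q⟩ : Nonempty (Sylow p G) := inferInstance
    push Not at h
    obtain ⟨x, hx, h⟩ := h Q
    obtain ⟨k, hk⟩ := hx
    obtain ⟨P, hP⟩ := (H2.isPGroup_zpowers_of_orderOf hk).exists_le_sylow
    have : ∀ R : Sylow p G, x ∈ R → R = Q := fun R hR => by_contra fun e => h R e hR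
    exact ⟨x, ⟨k, hk⟩, P, hP (Subgroup.mem_zpowers x), fun R hR =>
      (this R hR).trans (this P (hP (Subgroup.mem_zpowers x))).symm⟩
  · rintro ⟨x, ⟨k, hk⟩, P, hP, hP'⟩ ⟨Q, hQ⟩
    obtain ⟨g, rfl⟩ := MulAction.exists_smul_eq G P Q
    obtain ⟨R, h1, h2⟩ := hQ (g * x * g⁻¹) ⟨k, by
      rw [show g * x * g⁻¹ = MulAut.conj g x from rfl, MulEquiv.orderOf_eq, hk]⟩
    refine h1 ?_
    rw [← hP' (g⁻¹ • R) (show x ∈ ((g⁻¹ • R : Sylow p G) : Subgroup G) by
      rw [H2.coe_smul_sylow, H2.mem_cj, inv_inv]; exact h2), smul_inv_smul]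

end Cfsg.Agent.S4347
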