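import Cfsg.Statements.S4357
import Mathlib
import Cfsg.Agent.H4.Dick9
import Cfsg.Agent.S0262

set_option autoImplicit false
open Cfsg

namespace Cfsg.Agent.S4357

open Matrix H4
open scoped MatrixGroups Pointwise

def Two (p : ℕ) (G : Type*) [Group G] : Prop :=
  ∀ x : G, (∃ k : ℕ, orderOf x = p ^ k) → ∃ P P' : Sylow p G, P ≠ P' ∧ x ∈ P ∧ x ∈ P'

theorem exists_sylow_mem {G : Type*} [Group G] [Finite G] {p : ℕ} [Fact p.Prime] {x : G}
    (h : ∃ k : ℕ, orderOf x = p ^ k) : ∃ P : Sylow p G, x ∈ P := by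
  obtain ⟨k, hk⟩ := h
  obtain ⟨P, hP⟩ := (IsPGroup.of_card (G := Subgroup.zpowers x) (p := p) (n := k)
    (by rw [Nat.card_zpowers, hk])).exists_le_sylow
  exact ⟨P, hP (Subgroup.mem_zpowers x)⟩

theorem ord_of_mem {G : Type*} [Group G] [Finite G] {p : ℕ} [Fact p.Prime] {P : Subgroup G}
    (hP : IsPGroup p P) {x : G} (h : x ∈ P) : ∃ k : ℕ, orderOf x = p ^ k := by
  obtain ⟨k, hk⟩ := IsPGroup.iff_orderOf.1 hP ⟨x, h⟩
  exact ⟨k, by rw [← hk, Subgroup.orderOf_mk]⟩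

theorem mem_smul_sylow {G : Type*} [Group G] {p : ℕ} (P : Sylow p G) (g x : G) :
    x ∈ g • P ↔ g⁻¹ * x * g ∈ P := by
  constructor
  · rintro ⟨y, hy, rfl⟩; simpa [mul_assoc] using hy
  · intro h; exact ⟨_, h, by simp [mul_assoc]⟩

theorem red_iff {G : Type*} [Group G] [Finite G] (p : ℕ) [Fact p.Prime] :
    (∃ Q : Sylow p G, ∀ x : G, (∃ k : ℕ, orderOf x = p ^ k) → ∃ P : Sylow p G, P ≠ Q ∧ x ∈ P) ↔
      Two p G := by
  constructor
  · rintro ⟨Q, hQ⟩ x hx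
    obtain ⟨P₀, h0⟩ := exists_sylow_mem hx
    obtain ⟨g, rfl⟩ := MulAction.exists_smul_eq G Q P₀
    obtain ⟨P, h1, h2⟩ := hQ _ (ord_of_mem Q.isPGroup' ((mem_smul_sylow Q g x).1 h0))
    exact ⟨g • P, g • Q, fun e => h1 (smul_left_cancel g e), (mem_smul_sylow P g x).2 h2, h0⟩
  · intro h
    obtain ⟨Q⟩ : Nonempty (Sylow p G) := inferInstance
    refine ⟨Q, fun x hx => ?_⟩
    obtain ⟨P, P', h1, h2, h3⟩ := h x hx
    by_cases e : P = Q
    · exact ⟨P', fun e' => h1 (e.trans e'.symm), h3⟩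
    · exact ⟨P, e, h2⟩

theorem two_iff_of_central {G G' : Type*} [Group G] [Group G'] [Finite G] {p : ℕ} [Fact p.Prime]
    (f : G →* G') (hf : Function.Surjective f) (hk : f.ker ≤ Subgroup.center G) :
    Two p G ↔ Two p G' := by
  haveI : Finite G' := Finite.of_surjective f hf
  have key : ∀ (P : Sylow p G) x, (∃ k : ℕ, orderOf x = p ^ k) → f x ∈ P.mapSurjective hf →
      x ∈ P := by
    rintro P x ⟨k, hx⟩ ⟨y, hy, e⟩
    have hz : y⁻¹ * x ∈ Subgroup.center G := hk (by rw [MonoidHom.mem_ker, map_mul, map_inv, e]; simp)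
    obtain ⟨j, hj⟩ := ord_of_mem P.isPGroup' hy
    have hc : Commute y⁻¹ x := by
      have h1 : Commute y (y⁻¹ * x) := Subgroup.mem_center_iff.1 hz y
      have h2 := (Commute.refl y).mul_right h1
      rw [mul_inv_cancel_left] at h2
      exact h2.inv_left
    have h1 : (y⁻¹ * x) ^ p ^ (j + k) = 1 := by
      rw [hc.mul_pow, inv_pow, pow_add, pow_mul y, ← hj, pow_orderOf_eq_one, mul_comm, pow_mul x,
        ← hx, pow_orderOf_eq_one]; simp
    haveI : (Subgroup.zpowers (y⁻¹ * x)).Normal := ⟨fun n hn g => by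
      rw [Subgroup.mem_center_iff.1 ((Subgroup.zpowers_le.2 hz) hn) g]; simpa using hn⟩
    obtain ⟨i, -, hi⟩ := (Nat.dvd_prime_pow Fact.out).1 (orderOf_dvd_of_pow_eq_one h1)
    have h2 := (IsPGroup.of_card (G := Subgroup.zpowers (y⁻¹ * x)) (p := p) (n := i)
      (by rw [Nat.card_zpowers, hi])).le_sylow_of_normal P (Subgroup.mem_zpowers _)
    have h3 := P.mul_mem hy h2
    rwa [mul_inv_cancel_left] at h3
  constructor
  · intro h x hx
    obtain ⟨P₀, h0⟩ := exists_sylow_mem hx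
    obtain ⟨P₀, rfl⟩ := Sylow.mapSurjective_surjective hf p P₀
    obtain ⟨y, hy, rfl⟩ := h0
    obtain ⟨P, P', h1, h2, h3⟩ := h y (ord_of_mem P₀.isPGroup' hy)
    refine ⟨P.mapSurjective hf, P'.mapSurjective hf, fun e => h1 ?_, ⟨y, h2, rfl⟩, ⟨y, h3, rfl⟩⟩
    exact Sylow.ext (P.is_maximal' P'.isPGroup' fun z hz =>
      key P' z (ord_of_mem P.isPGroup' hz) (e ▸ ⟨z, hz, rfl⟩)).symm
  · intro h x hx
    obtain ⟨P₀, h0⟩ := exists_sylow_mem hx
    obtain ⟨P, P', h1, h2, h3⟩ := h (f x) (ord_of_mem (P₀.mapSurjective hf).isPGroup' ⟨x, h0, rfl⟩)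
    obtain ⟨P, rfl⟩ := Sylow.mapSurjective_surjective hf p P
    obtain ⟨P', rfl⟩ := Sylow.mapSurjective_surjective hf p P'
    exact ⟨P, P', fun e => h1 (e ▸ rfl), key P x hx h2, key P' x hx h3⟩

variable {F : Type*} [Field F] [Fintype F]

theorem card_TS_cases {x y : Pt F} (h : TP x y) :
    Nat.card (TS x y) + 1 = Fintype.card F ∨ Nat.card (TS x y) = Fintype.card F + 1 := by
  by_cases hx : H4.Rat x
  · left; rw [h.card_TS_rat hx]; have := Fintype.one_lt_card (α := F); omega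
  · right; exact h.card_TS_qd hx

theorem index_NS {x y : Pt F} (h : TP x y) (hq : Fintype.card F % 2 = 1)
    (h4 : 4 ∣ Nat.card (TS x y)) : ¬ 2 ∣ (NS x y).index := by
  have h1 := Subgroup.card_mul_index (NS x y)
  rw [h.card_NS, card_SL_two] at h1
  have h0 : 0 < Nat.card (TS x y) := Nat.card_pos
  have h2 := card_TS_cases h
  generalize Nat.card (TS x y) = t at *
  generalize Fintype.card F = q at *
  obtain ⟨s, rfl⟩ := h4
  rintro ⟨i, hi⟩
  rw [hi] at h1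
  rcases h2 with rfl | h2
  · have : (4 * s + 1) ^ 2 - 1 = 4 * s * (4 * s + 2) := by
      rw [Nat.sub_eq_iff_eq_add (Nat.one_le_pow _ _ (by omega))]; ring
    rw [this] at h1
    have h3 : 4 * s * (4 * i) = 4 * s * ((4 * s + 1) * (4 * s + 2)) := by linarith
    have h4 := Nat.eq_of_mul_eq_mul_left h0 h3
    have : (4 * s + 1) * (4 * s + 2) = 4 * (4 * s * s + 3 * s) + 2 := by ring
    omega
  · obtain ⟨u, rfl⟩ : ∃ u, s = u + 1 := ⟨s - 1, by omega⟩
    obtain rfl : q = 4 * u + 3 := by omega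
    have : (4 * u + 3) ^ 2 - 1 = 4 * (u + 1) * (4 * u + 2) := by
      rw [Nat.sub_eq_iff_eq_add (Nat.one_le_pow _ _ (by omega))]; ring
    rw [this] at h1
    have h3 : 4 * (u + 1) * (4 * i) = 4 * (u + 1) * ((4 * u + 3) * (4 * u + 2)) := by linarith
    have h4 := Nat.eq_of_mul_eq_mul_left h0 h3
    have : (4 * u + 3) * (4 * u + 2) = 4 * (4 * u * u + 5 * u + 1) + 2 := by ring
    omega

theorem two_of (h2 : (2 : F) ≠ 0) (hq : Fintype.card F % 2 = 1)
    (h1 : ¬ ∃ k : ℕ, Fintype.card F + 1 = 2 ^ k) (h3 : ¬ ∃ k : ℕ, Fintype.card F = 2 ^ k + 1) :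
    Two 2 SL(2, F) := by
  have key : ∀ g : SL(2, F), g ≠ 1 → g ≠ -1 → (∃ k : ℕ, orderOf g = 2 ^ k) →
      ∃ P P' : Sylow 2 SL(2, F), P ≠ P' ∧ g ∈ P ∧ g ∈ P' := by
    rintro g g1 g2 ⟨k, hk⟩
    obtain ⟨p, hc, -, hp, -⟩ := FiniteField.card' F
    haveI := Fact.mk hp
    have hp2 : p ≠ 2 := by rintro rfl; exact h2 (CharP.cast_eq_zero F 2)
    have hco : (2 ^ k).Coprime p := ((Nat.coprime_primes Nat.prime_two hp).2 hp2.symm).pow_left k
    have hg : g ^ 2 ^ k = 1 := hk ▸ pow_orderOf_eq_one g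
    have hk2 : 2 ≤ k := by
      by_contra h
      have : g ^ 2 = 1 := orderOf_dvd_iff_pow_eq_one.1 (by
        rw [hk]; exact (pow_dvd_pow 2 (show k ≤ 1 by omega)).trans (by simp))
      rcases (sq_eq_one_iff_SL h2).1 this with h | h <;> contradiction
    have ht : tr g ^ 2 ≠ 4 := by
      intro h
      have : (tr g - 2) * (tr (-g) - 2) = 0 := by rw [tr_neg]; linear_combination -h
      rcases mul_eq_zero.1 this with h | h
      · exact g1 ((pow_eq_one_iff_of_coprime hco).1 ⟨hg, pow_eq_one_of_tr p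
          (fun e => by rcases toPGL_eq_one_iff.1 e with h | h <;> contradiction) (sub_eq_zero.1 h)⟩)
      · have h5 : (-g) ^ 2 ^ k = 1 := by
          rw [Even.neg_pow (Nat.even_pow.2 ⟨even_two, by omega⟩), hg]
        have := (pow_eq_one_iff_of_coprime hco).1 ⟨h5, pow_eq_one_of_tr p
          (fun e => by
            rw [toPGL_neg] at e
            rcases toPGL_eq_one_iff.1 e with h | h <;> contradiction) (sub_eq_zero.1 h)⟩
        exact g2 (neg_eq_iff_eq_neg.1 this)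
    obtain ⟨x, y, hxy, hT⟩ := exists_TS_of_tr ht
    have h4 : 4 ∣ Nat.card (TS x y) :=
      ((pow_dvd_pow 2 hk2).trans (hk ▸ dvd_rfl)).trans (Subgroup.orderOf_dvd_natCard _ hT)
    obtain ⟨r, hr, hrd, hr2⟩ : ∃ r, r.Prime ∧ r ∣ Nat.card (TS x y) ∧ r ≠ 2 := by
      by_contra h
      push Not at h
      have h5 := Nat.eq_prime_pow_of_unique_prime_dvd (p := 2) Nat.card_pos.ne'
        (fun {d} hd hd' => h d hd hd')
      rcases card_TS_cases hxy with h6 | h6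
      · exact h3 ⟨_, by rw [← h6, h5]⟩
      · exact h1 ⟨_, by rw [← h6, h5]⟩
    haveI := Fact.mk hr
    obtain ⟨u, hu⟩ := exists_prime_orderOf_dvd_card' r hrd
    obtain ⟨P₀, hP₀⟩ := exists_sylow_mem (G := NS x y) (p := 2) (x := ⟨g, TS_le_NS hT⟩)
      ⟨k, by rw [Subgroup.orderOf_mk, hk]⟩
    let P : Sylow 2 SL(2, F) := (P₀.isPGroup'.map (NS x y).subtype).toSylow (by
      rw [Subgroup.index_map_subtype, Nat.prime_two.dvd_mul]
      exact not_or.2 ⟨P₀.not_dvd_index, index_NS hxy hq h4⟩)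
    have hgP : g ∈ P := ⟨_, hP₀, rfl⟩
    refine ⟨(u : SL(2, F)) • P, P, fun e => ?_, (mem_smul_sylow P u g).2 ?_, hgP⟩
    · obtain ⟨s, hs, hs'⟩ : ∃ s : NS x y, s ∈ P₀ ∧ s ∉ (TS x y).subgroupOf (NS x y) := by
        by_contra h
        push Not at h
        exact P₀.not_dvd_index (hxy.index_TS.symm.dvd.trans (Subgroup.index_dvd_of_le h))
      have hsP : (s : SL(2, F)) ∈ P := ⟨s, hs, rfl⟩
      have h5 : (u : SL(2, F))⁻¹ * s * u ∈ P := (mem_smul_sylow P u s).1 (e.symm ▸ hsP)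
      have h6 := P.mul_mem h5 (P.inv_mem hsP)
      have h7 : (u : SL(2, F))⁻¹ * s * u * (s : SL(2, F))⁻¹ = ((u : SL(2, F)) ^ 2)⁻¹ := by
        rw [mul_assoc, mul_assoc, ← mul_assoc (s : SL(2, F)), hxy.NS_conj s.2 hs' u.2]; group
      rw [h7, inv_mem_iff] at h6
      obtain ⟨j, hj⟩ := ord_of_mem P.isPGroup' h6
      have h8 : (u : SL(2, F)) ^ (2 * 2 ^ j) = 1 := by rw [pow_mul, ← hj, pow_orderOf_eq_one]
      have h9 := orderOf_dvd_of_pow_eq_one h8
      rw [Subgroup.orderOf_coe, hu, ← pow_succ'] at h9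
      exact hr2 ((Nat.prime_dvd_prime_iff_eq hr Nat.prime_two).1 (hr.dvd_of_dvd_pow h9))
    · rw [mul_assoc, hxy.TS_comm hT u.2]; simpa using hgP
  intro g hg
  by_cases h : g = 1 ∨ g = -1
  · let w : SL(2, F) := sm 0 (-1) 1 0 (by simp)
    have hw : w ^ 2 = -1 := (sq_eq_neg_one_iff h2).2 (by simp [w, tr_sm])
    have hw4 : w ^ 2 ^ 2 = 1 := by rw [show 2 ^ 2 = 2 * 2 from rfl, pow_mul, hw]; simp
    obtain ⟨i, -, hi⟩ := (Nat.dvd_prime_pow Nat.prime_two).1 (orderOf_dvd_of_pow_eq_one hw4)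
    have hne : ∀ e : SL(2, F), e = 1 ∨ e = -1 → w ≠ e := by
      rintro e he rfl
      rw [(sq_eq_one_iff_SL h2).2 he] at hw
      exact neg_one_ne_one_SL h2 hw.symm
    obtain ⟨P, P', a1, a2, a3⟩ := key w (hne _ (Or.inl rfl)) (hne _ (Or.inr rfl)) ⟨i, hi⟩
    rcases h with rfl | rfl
    · exact ⟨P, P', a1, P.one_mem, P'.one_mem⟩
    · exact ⟨P, P', a1, hw ▸ P.pow_mem a2 2, hw ▸ P'.pow_mem a3 2⟩
  · exact key g (fun e => h (Or.inl e)) (fun e => h (Or.inr e)) hg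

theorem not_two_of {x y : Pt F} (hxy : TP x y) (hq : Fintype.card F % 2 = 1) {k : ℕ} (hk : 2 ≤ k)
    (h : Nat.card (TS x y) = 2 ^ k) : ¬ Two 2 SL(2, F) := by
  intro hT
  obtain ⟨c, hc⟩ := hxy.isCyclic_TS.exists_ofOrder_eq_natCard
  rw [h, ← Subgroup.orderOf_coe] at hc
  have h4 : 4 ≤ 2 ^ k := Nat.pow_le_pow_right two_pos hk
  let Q : Sylow 2 SL(2, F) := (IsPGroup.of_card (G := NS x y) (p := 2) (n := k + 1)
    (by rw [hxy.card_NS, h]; ring)).toSylow (index_NS hxy hq (h ▸ pow_dvd_pow 2 hk))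
  have hc1 : SpecialLinearGroup.toPGL (c : SL(2, F)) ≠ 1 := fun e => by
    have : (c : SL(2, F)) ^ 2 = 1 := by rcases toPGL_eq_one_iff.1 e with h | h <;> simp [h]
    have := Nat.le_of_dvd two_pos (orderOf_dvd_of_pow_eq_one this)
    omega
  have key : ∀ P : Sylow 2 SL(2, F), (c : SL(2, F)) ∈ P → P = Q := by
    intro P hP
    have hle : Subgroup.zpowers (c : SL(2, F)) ≤ P := Subgroup.zpowers_le.2 hP
    have h1 : Nat.card P = 2 ^ k * 2 := by
      rw [Nat.card_congr (P.equiv Q).toEquiv]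
      exact hxy.card_NS.trans (by rw [h, mul_comm])
    have h2 := Subgroup.card_mul_index ((Subgroup.zpowers (c : SL(2, F))).subgroupOf P)
    rw [Nat.card_congr (Subgroup.subgroupOfEquivOfLe hle).toEquiv, Nat.card_zpowers, hc, h1] at h2
    haveI := Subgroup.normal_of_index_eq_two (Nat.eq_of_mul_eq_mul_left (by omega) h2)
    have h3 := Subgroup.le_normalizer_of_normal_subgroupOf hle
    rw [hxy.normalizer_eq (Subgroup.zpowers_le.2 c.2) (Subgroup.mem_zpowers _) hc1] at h3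
    exact Sylow.ext (P.is_maximal' Q.isPGroup' h3).symm
  obtain ⟨P, P', h1, h2, h3⟩ := hT c ⟨k, hc⟩
  exact h1 ((key P h2).trans (key P' h3).symm)

theorem two_iff (p : ℕ) [hp : Fact p.Prime] : Two p SL(2, F) ↔
    (p = 2 ∧ (¬ ∃ k : ℕ, Fintype.card F + 1 = 2 ^ k) ∧ (¬ ∃ k : ℕ, Fintype.card F = 2 ^ k) ∧
        ¬ ∃ k : ℕ, Fintype.card F = 2 ^ k + 1) := by
  obtain ⟨l, hc, n, hl, hn⟩ := FiniteField.card' F
  haveI := Fact.mk hl
  have hq1 := Fintype.one_lt_card (α := F)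
  constructor
  · intro hT
    have hpl : p ≠ l := by
      rintro rfl
      obtain ⟨P⟩ : Nonempty (Sylow p SL(2, F)) := inferInstance
      obtain ⟨x, hx, e⟩ := (cov_SL (F := F) p).sylow_eq P
      have h1 : (P : Subgroup SL(2, F)) ≠ ⊥ := by
        rw [← Subgroup.one_lt_card_iff_ne_bot, e, (cov_SL (F := F) p).card_V hx]; exact hq1
      obtain ⟨⟨g, hg⟩, hg1⟩ := Subgroup.ne_bot_iff_exists_ne_one.1 h1
      obtain ⟨P₁, P₂, a1, a2, a3⟩ := hT g (ord_of_mem P.isPGroup' hg)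
      obtain ⟨x₁, -, e₁⟩ := (cov_SL (F := F) p).sylow_eq P₁
      obtain ⟨x₂, -, e₂⟩ := (cov_SL (F := F) p).sylow_eq P₂
      have h2 := (cov_SL (F := F) p).V_inf (x := x₁) (y := x₂) fun e =>
        a1 (Sylow.ext (by rw [e₁, e₂, e]))
      have h3 : g ∈ (P₁ : Subgroup SL(2, F)) ⊓ P₂ := ⟨a2, a3⟩
      rw [e₁, e₂, h2] at h3
      exact hg1 (Subtype.ext h3)
    have hp2 : p = 2 := by
      by_contra h
      obtain ⟨P⟩ : Nonempty (Sylow p SL(2, F)) := inferInstance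
      obtain ⟨g, hg⟩ := (Cfsg.Agent.S0262.result l p h hpl P).exists_generator
      have key : ∀ P' : Sylow p SL(2, F), (g : SL(2, F)) ∈ P' → P = P' := fun P' h' =>
        Sylow.ext (P.is_maximal' P'.isPGroup' fun z hz => by
          obtain ⟨i, hi⟩ := hg ⟨z, hz⟩
          have : z = (g : SL(2, F)) ^ i := (congrArg Subtype.val hi).symm
          rw [this]; exact P'.zpow_mem h' i).symm
      obtain ⟨P₁, P₂, a1, a2, a3⟩ := hT g (ord_of_mem P.isPGroup' g.2)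
      exact a1 ((key _ a2).symm.trans (key _ a3))
    subst hp2
    have hq : Fintype.card F % 2 = 1 := by
      rw [hn]; exact Nat.odd_iff.1 ((hl.odd_of_ne_two hpl.symm).pow)
    obtain ⟨x, y, hxy, hx⟩ := exists_tp_rat (F := F)
    obtain ⟨x', y', hxy', hx'⟩ := exists_tp_qd (F := F)
    have a1 : ¬ ∃ k : ℕ, Fintype.card F + 1 = 2 ^ k := by
      rintro ⟨k, hk⟩
      refine not_two_of hxy' hq (k := k) ?_ ((hxy'.card_TS_qd hx').trans hk) hT
      by_contra h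
      have : k = 0 ∨ k = 1 := by omega
      rcases this with rfl | rfl <;> omega
    refine ⟨rfl, a1, ?_, ?_⟩
    · rintro ⟨k, hk⟩
      rcases k with _ | k
      · omega
      · rw [pow_succ] at hk; omega
    · rintro ⟨k, hk⟩
      refine not_two_of hxy hq (k := k) ?_ (by rw [hxy.card_TS_rat hx, hk]; rfl) hT
      by_contra h
      have : k = 0 ∨ k = 1 := by omega
      rcases this with rfl | rfl
      · omega
      · exact a1 ⟨2, by omega⟩
  · rintro ⟨rfl, h1, h2, h3⟩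
    have hl2 : l ≠ 2 := by rintro rfl; exact h2 ⟨n, hn⟩
    refine two_of (fun e => hl2 ?_) ?_ h1 h3
    · exact (Nat.prime_dvd_prime_iff_eq hl Nat.prime_two).1 ((CharP.cast_eq_zero_iff F l 2).1 e)
    · rw [hn]; exact Nat.odd_iff.1 ((hl.odd_of_ne_two hl2).pow)

/-- Let F be a finite field with q elements, p a prime and G = SL(2, F). Say a Sylow p-subgroup Q of G is redundant when every element of p-power order lies in some Sylow p-subgroup other than Q. Then G has a redundant Sylow p-subgroup if and only if p = 2 and q is not of any of the forms 2ᵏ - 1, 2ᵏ, 2ᵏ + 1. -/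
theorem result {F : Type*} [Field F] [Fintype F] (p : ℕ) [Fact p.Prime] :
    (∃ Q : Sylow p (Matrix.SpecialLinearGroup (Fin 2) F), ∀ x : Matrix.SpecialLinearGroup (Fin 2) F,
        (∃ k : ℕ, orderOf x = p ^ k) → ∃ P : Sylow p (Matrix.SpecialLinearGroup (Fin 2) F), P ≠ Q ∧ x ∈ P) ↔
      (p = 2 ∧ (¬ ∃ k : ℕ, Fintype.card F + 1 = 2 ^ k) ∧ (¬ ∃ k : ℕ, Fintype.card F = 2 ^ k) ∧
        ¬ ∃ k : ℕ, Fintype.card F = 2 ^ k + 1) := by
  exact (red_iff p).trans (two_iff p)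

end Cfsg.Agent.S4357
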