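import Cfsg.Statements.S4419
import Cfsg.Agent.H8.Cls
import Cfsg.Agent.H8.Meta
import Cfsg.Agent.H2.BG1

set_option autoImplicit false
open Cfsg

namespace Cfsg.Agent.S4419

open Subgroup hiding commutator_def
open Function Cfsg.Agent.Hopf Cfsg.Agent.Reg
open scoped commutatorElement Pointwise

theorem rank_le {G : Type*} [Group G] [Finite G] (h : IsMetacyclic G) : Group.rank G ≤ 2 := by
  classical
  obtain ⟨x, y, -, h⟩ := meta_gen h
  refine (Group.rank_le (S := {x, y}) (by simpa using h)).trans Finset.card_le_two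

/-- Let p be a prime and G a finite group whose Sylow p-subgroups are metacyclic (a cyclic normal subgroup with cyclic quotient). Then G has a normal p-complement if and only if the order of G/O_{p′,p}(G) is coprime to p² − 1. -/
theorem result {G : Type*} [Group G] [Finite G] (p : ℕ) [Fact p.Prime] (S : Sylow p G) (hS : Cfsg.IsMetacyclic ↥(S : Subgroup G)) : Cfsg.HasNormalPComplement p G ↔ Nat.Coprime (Nat.card (G ⧸ Cfsg.pPrimePCore p G)) (p ^ 2 - 1) := by
  have hp : p.Prime := Fact.out
  constructor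
  · intro h
    have h1 : Cfsg.pPrimePCore p G = ⊤ :=
      top_le_iff.1 (H2.le_pPrimePCore (H2.hasNPC_iff_top.1 h))
    have h2 : Nat.card (G ⧸ Cfsg.pPrimePCore p G) = 1 := by
      rw [← index_eq_card, h1, index_top]
    rw [h2]; simp
  · intro h
    rw [← index_eq_card, Cfsg.pPrimePCore, H1.index_comap_mk'] at h
    rw [H2.hasNPC_iff_top]
    refine H2.pNil_of_map (QuotientGroup.mk' (Cfsg.pPrimeCore p G))
      (by rw [QuotientGroup.ker_mk']; exact H1.coprime_pPrimeCore p G) ?_
    refine pNil_of_q fun U hUle hU hU1 q hq hqp Q _ hQ hn => ?_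
    by_contra hc
    haveI := Fact.mk hq
    obtain ⟨i, hi, h1, h2⟩ := dvd_of_not_cent hqp hU hQ hn hc
    have hS' := (H2.sylIn_top S).map (QuotientGroup.mk' (Cfsg.pPrimeCore p G))
    obtain ⟨g, -, hg⟩ := hS'.exists_cj_le hU hUle
    have m1 : IsMetacyclic ((S : Subgroup G).map (QuotientGroup.mk' (Cfsg.pPrimeCore p G))) :=
      meta_surj hS _ (MonoidHom.subgroupMap_surjective _ _)
    have m2 : IsMetacyclic (H2.cj g U) := meta_inj m1 (inclusion hg) (inclusion_injective hg)
    have m3 : IsMetacyclic U :=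
      meta_inj m2 (H1.conjEquiv g U).toMonoidHom (H1.conjEquiv g U).injective
    rw [relIndex_frat] at h1
    have h3 := (Nat.pow_dvd_pow_iff_le_right hp.one_lt).1 (h1.trans (index_frattini_dvd hU))
    have h4 : i ≤ 2 := h3.trans (rank_le m3)
    have h5 : q ∣ p ^ 2 - 1 := by
      interval_cases i
      · refine h2.trans ?_
        have := Nat.sub_one_dvd_pow_sub_one p 2
        simpa using this
      · exact h2
    have hQ1 : Q ≠ ⊥ := fun e => hc (e ▸ bot_le)
    have h6 := dvd_card_of_ne_bot hQ hQ1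
    rw [← card_mul_index (Cfsg.pCore p (G ⧸ Cfsg.pPrimeCore p G))] at h6
    rcases (Nat.Prime.dvd_mul hq).1 h6 with h7 | h7
    · obtain ⟨k, hk⟩ := IsPGroup.iff_card.1 (H1.isPGroup_pCore p (G ⧸ Cfsg.pPrimeCore p G))
      rw [hk] at h7
      exact hqp ((Nat.prime_dvd_prime_iff_eq hq hp).1 (hq.dvd_of_dvd_pow h7))
    · exact hq.one_lt.ne' (Nat.eq_one_of_dvd_coprimes h h7 h5)

end Cfsg.Agent.S4419
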