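import Cfsg.Statements.S4584
import Mathlib
import Cfsg.Agent.H3.Misc
import Cfsg.Agent.L.PGroup
import Cfsg.Agent.S3866

set_option autoImplicit false
open Cfsg

namespace Cfsg.Agent.S4584

open Cfsg H3 L
open scoped commutatorElement

/-- Let p be a prime and P a group of order p^4. Then the derived subgroup P' has order p if and only if the centre Z(P) has index p^2 in P. -/
theorem result {P : Type*} [Group P] [Finite P] (p : ℕ) [Fact p.Prime] (hP : Nat.card P = p ^ 4) :
    Nat.card (commutator P) = p ↔ (Subgroup.center P).index = p ^ 2 := by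
  have hp : p.Prime := Fact.out
  have hG : IsPGroup p P := IsPGroup.of_card hP
  have h1 := (Subgroup.center P).card_mul_index
  refine ⟨fun h => ?_, fun h => ?_⟩
  · obtain ⟨χ, hχ, h2⟩ : ∃ χ, IsIrrCharacter P χ ∧ ¬ commutator P ≤ charKer χ := by
      by_contra! H
      rw [(Subgroup.eq_bot_iff_forall _).2 fun x hx => eq_one_of_forall_irr fun χ hχ =>
        apply_of_mem_charKer (H χ hχ hx), Subgroup.card_bot] at h
      exact hp.one_lt.ne h
    have h3 : charCenter χ = Subgroup.center P := le_antisymm (fun x hx => Subgroup.mem_center_iff.2 fun g => by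
      haveI := Fact.mk (h ▸ hp)
      have := (((charKer χ).subgroupOf (commutator P)).eq_bot_or_eq_top_of_prime_card).resolve_right
        fun e => h2 (Subgroup.subgroupOf_eq_top.1 e)
      exact commutatorElement_eq_one_iff_mul_comm.1 (congrArg Subtype.val (Subgroup.mem_bot.1 (this.le
        (x := ⟨⁅g, x⁆, Subgroup.commutator_mem_commutator trivial trivial⟩)
        (hχ.isClassFunction.commutator_mem_charKer hx g))))) hχ.center_le_charCenter
    have h4 := hχ.degree_sq_eq_of_commutator_le (h3 ▸ le_center_of_card_prime hG _ h)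
    obtain ⟨k, hk, e⟩ := (Nat.dvd_prime_pow hp).1 (hP ▸ hχ.degree_dvd_card)
    rw [h3, e, ← pow_mul] at h4
    obtain ⟨j, hj, e'⟩ := IsPGroup.card_center_eq_prime_pow hP (by norm_num)
    rw [e', ← h4, hP, ← pow_add, Nat.pow_right_inj hp.one_lt] at h1
    have : k ≠ 0 := fun h0 => h2 (hχ.degree_eq_one_iff.1 (by rw [← hχ.cast_charDegree, e, h0]; simp))
    rw [← h4, show k = 1 by omega]
  · obtain ⟨A, hA, h2, -, h3, -⟩ := exists_normal_relIndex_eq hG (K := Subgroup.center P) (N := ⊤)
      (lt_top_iff_ne_top.2 fun e => by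
        rw [e, Subgroup.index_top] at h; exact (one_lt_pow₀ hp.one_lt two_ne_zero).ne h)
    have h4 : A.index = p := by
      have := Subgroup.relIndex_mul_index h2
      rw [h3, h, sq] at this
      exact Nat.eq_of_mul_eq_mul_left hp.pos this
    have h5 : IsMulCommutative A := by
      haveI := isCyclic_of_prime_card (α := A ⧸ (Subgroup.center P).subgroupOf A) h3
      exact ⟨⟨commutative_of_cyclic_center_quotient (QuotientGroup.mk' ((Subgroup.center P).subgroupOf A))
        fun x hx => Subgroup.mem_center_iff.2 fun y => Subtype.ext (Subgroup.mem_center_iff.1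
          (show (x : P) ∈ Subgroup.center P by simpa [Subgroup.mem_subgroupOf] using hx) y)⟩⟩
    have hc := isCoatom_of_index_prime (h4 ▸ hp)
    obtain ⟨x, -, hx⟩ := SetLike.exists_of_lt hc.1.lt_top
    have h6 : A ⊔ Subgroup.zpowers x = ⊤ := hc.2 _ (lt_of_le_of_ne le_sup_left fun e =>
      hx (e.ge (Subgroup.mem_sup_right (Subgroup.mem_zpowers x))))
    have h7 := (S3866.result A h5 x h6).2.2.2
    rw [show A ⊓ Subgroup.centralizer {x} = Subgroup.center P from le_antisymm (fun a ha =>
      Subgroup.mem_center_iff.2 fun g => Subgroup.mem_centralizer_singleton_iff.1 ((show ⊤ ≤ _ from h6.ge.trans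
        (sup_le (fun b hb => Subgroup.mem_centralizer_singleton_iff.2 (mul_comm_of_isMulCommutative hb ha.1))
        (Subgroup.zpowers_le.2 (Subgroup.mem_centralizer_singleton_iff.2
          (Subgroup.mem_centralizer_singleton_iff.1 ha.2).symm)))) trivial))
      (le_inf h2 (Subgroup.center_le_centralizer _))] at h7
    have h8 := A.card_mul_index
    rw [← h7, ← h1, h, h4, mul_assoc, mul_comm (Nat.card _) (p ^ 2), mul_comm _ p, ← mul_assoc, sq] at h8
    exact Nat.eq_of_mul_eq_mul_right hp.pos (Nat.eq_of_mul_eq_mul_right Nat.card_pos h8)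

end Cfsg.Agent.S4584
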