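import Cfsg.Statements.S5094
import Cfsg.Agent.H9.Gl2
import Cfsg.Agent.S0215

set_option autoImplicit false
open Cfsg

namespace Cfsg.Agent.S5094

open Cfsg.Agent Cfsg.Agent.H9
open Subgroup H2 in
theorem aux {G : Type*} [Group G] [Finite G] {p : ℕ} [Fact p.Prime] {N : Subgroup G} [N.Normal]
    (h0 : pPrimeCore p G = ⊥) (hN : IsPGroup p N) (hc : N ≤ center G) :
    pPrimeCore p (G ⧸ N) = ⊥ := by
  set K := (pPrimeCore p (G ⧸ N)).comap (QuotientGroup.mk' N)
  have hk := H1.coprime_pPrimeCore p (G ⧸ N)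
  have h1 : SylIn p N K := sylIn_of_not_dvd (QuotientGroup.le_comap_mk' _ _) hN (by
    rw [H1.relIndex_comap_mk']
    exact (Nat.Prime.coprime_iff_not_dvd Fact.out).1 hk.symm)
  have h2 := h1.pNil_of_normalizer_le fun g _ y hy => (mem_center_iff.1 (hc hy) g).symm
  have h3 := H1.eq_bot_of_pPrimeCore_eq_bot h0 inferInstance (pNil_iff_card.1 h2)
  have h4 := h1.resOf_sup
  rw [h3, bot_sup_eq] at h4
  rw [← map_comap_eq_self_of_surjective (QuotientGroup.mk'_surjective N) (pPrimeCore p (G ⧸ N))]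
  change K.map _ = _
  rw [← h4, Subgroup.map_eq_bot_iff, QuotientGroup.ker_mk']

open Subgroup H2 in
theorem aux2 {G : Type*} [Group G] [Finite G] {S : Subgroup G} (hS : SylIn 2 S ⊤) {x : G}
    (hx : x ∈ S) (h : ∀ g, g * x * g⁻¹ ∈ S → g * x * g⁻¹ = x) (g : G) :
    g * x * g⁻¹ * x⁻¹ ∈ pPrimeCore 2 G := by
  induction hn : Nat.card G using Nat.strong_induction_on generalizing G with
  | _ n ih =>
  by_cases h0 : pPrimeCore 2 G = ⊥
  swap
  · have := ih _ (hn ▸ card_quot_lt h0) (hS.map_surj _ (QuotientGroup.mk'_surjective (pPrimeCore 2 G)))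
      (mem_map_of_mem _ hx) (fun a ha => ?_) (QuotientGroup.mk' _ g) rfl
    · rw [L.pPrimeCore_quotient_eq_bot, mem_bot, ← map_inv, ← map_inv, ← map_mul, ← map_mul,
        ← map_mul] at this
      exact (QuotientGroup.eq_one_iff _).1 this
    obtain ⟨a, rfl⟩ := QuotientGroup.mk'_surjective _ a
    obtain ⟨y, -, h1, h2⟩ := hS.lift_cj (QuotientGroup.mk' (pPrimeCore 2 G))
      (by rw [QuotientGroup.ker_mk']; exact H1.coprime_pPrimeCore 2 G) (mem_top a)
      (zpowers_le_of_mem hx) (by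
        rw [cj_zpowers, MonoidHom.map_zpowers, map_mul, map_mul, map_inv]
        exact zpowers_le_of_mem ha)
    rw [← h1, ← map_inv, ← map_mul, ← map_mul, h y (h2 (conj_mem_cj y (mem_zpowers x)))]
  by_cases h1 : x = 1
  · simp [h1]
  obtain ⟨T, rfl⟩ := hS.exists_sylow_top
  have hx' : x ∈ (groupFusionSystem (T : Subgroup G)).center :=
    (sat_group T).mem_center_iff.2 ⟨hx, fix_group_iff.2 fun g _ => h g⟩
  obtain ⟨u, hu, hu2⟩ := exists_orderOf_prime (T.isPGroup'.to_le (zpowers_le_of_mem hx))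
    (by simpa using h1)
  obtain ⟨huT, hu'⟩ := (sat_group T).mem_center_iff.1 (zpowers_le_of_mem hx' hu)
  obtain ⟨N, hN, h2, h3⟩ := S0215.result T u hu2 huT fun g => fix_group_iff.1 hu' g huT
  have h4 := H1.eq_bot_of_pPrimeCore_eq_bot h0 hN h2.coprime_two_right
  have h5 : zpowers u ≤ center G := zpowers_le_of_mem (mem_center_iff.2 fun g => by
    have := h3 g
    rw [h4, mem_bot, mul_inv_eq_one, mul_inv_eq_iff_eq_mul] at this
    exact this.symm)
  have : (zpowers u).Normal := ⟨fun a ha g => by rwa [mem_center_iff.1 (h5 ha), mul_inv_cancel_right]⟩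
  have h6 := zpowers_le_of_mem huT
  have key : ∀ a : G, QuotientGroup.mk' (zpowers u) a ∈ (T : Subgroup G).map (QuotientGroup.mk' _) →
      a ∈ (T : Subgroup G) := fun a ha => by
    rwa [← mem_comap, comap_map_eq, QuotientGroup.ker_mk', sup_eq_left.2 h6] at ha
  have h7 := ih _ (hn ▸ card_quot_lt (N := zpowers u) (by
      rw [Ne, zpowers_eq_bot]; rintro rfl; simp at hu2))
    (hS.map_surj _ (QuotientGroup.mk'_surjective (zpowers u)))
    (mem_map_of_mem _ hx) (fun a ha => ?_) (QuotientGroup.mk' _ g) rfl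
  · rw [aux h0 (T.isPGroup'.to_le h6) h5, mem_bot, ← map_inv, ← map_inv, ← map_mul, ← map_mul,
      ← map_mul] at h7
    have h8 := T.mul_mem (h6 ((QuotientGroup.eq_one_iff _).1 h7)) hx
    rw [inv_mul_cancel_right] at h8
    rw [h g h8, mul_inv_cancel]; exact one_mem _
  · obtain ⟨a, rfl⟩ := QuotientGroup.mk'_surjective _ a
    rw [← map_inv, ← map_mul, ← map_mul] at ha ⊢
    rw [h a (key _ ha)]

/-- Glauberman's Z*-Theorem in fusion language: for a finite group G with Sylow 2-subgroup S, the centre of the fusion system of G on S is the set of elements of S whose image in G/O(G) is central, O(G) being the largest normal subgroup of odd order. -/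
theorem result {G : Type*} [Group G] [Finite G] (S : Sylow 2 G) : (Cfsg.groupFusionSystem (S : Subgroup G)).center = (S : Subgroup G) ⊓ (Subgroup.center (G ⧸ Cfsg.oddCore G)).comap (QuotientGroup.mk' (Cfsg.oddCore G)) := by
  ext x
  rw [(sat_group S).mem_center_iff, fix_group_iff]
  refine and_congr_right fun hx => ⟨fun h => Subgroup.mem_center_iff.2 fun a => ?_, fun h g _ hg => ?_⟩
  · obtain ⟨g, rfl⟩ := QuotientGroup.mk'_surjective _ a
    have := (QuotientGroup.eq_one_iff _).2 (aux2 (H2.sylIn_top S) hx (fun g => h g hx) g)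
    simpa [mul_inv_eq_one, mul_inv_eq_iff_eq_mul] using this
  · refine H2.eq_of_map_eq (H2.inf_ker_mk'_eq_bot S.isPGroup' _ (H1.coprime_pPrimeCore 2 G)) hg hx ?_
    rw [map_mul, map_mul, Subgroup.mem_center_iff.1 h, map_inv, mul_inv_cancel_right]

end Cfsg.Agent.S5094
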