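import Cfsg.Statements.S5192
import Cfsg.Agent.H9.CtlTr

set_option autoImplicit false
open Cfsg

namespace Cfsg.Agent.S5192

open Cfsg.Agent Cfsg.Agent.H9
theorem card_fib {G I : Type*} [Group G] (q : I → Prop) (w : I → G) (y : G) :
    {z : I × G | q z.1 ∧ z.2⁻¹ * y * z.2 = w z.1}.ncard =
      {i | q i ∧ IsConj y (w i)}.ncard * Nat.card (Subgroup.centralizer ({y} : Set G)) := by
  have : ∀ i : {i | q i ∧ IsConj y (w i)}, ∃ s : G, s⁻¹ * y * s = w i := fun i => by
    obtain ⟨c, hc⟩ := isConj_iff.1 i.2.2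
    exact ⟨c⁻¹, by simpa using hc⟩
  choose s hs using this
  rw [← Nat.card_coe_set_eq, ← Nat.card_coe_set_eq, ← Nat.card_prod]
  have h0 : ∀ a : {i | q i ∧ IsConj y (w i)} × Subgroup.centralizer ({y} : Set G),
      ((a.2 : G) * s a.1)⁻¹ * y * (a.2 * s a.1) = w a.1 := fun a => by
    rw [← hs, mul_inv_rev, mul_assoc _ _ y, mul_assoc, mul_assoc _ y, ← mul_assoc y,
      ← Subgroup.mem_centralizer_singleton_iff.1 a.2.2]
    simp [mul_assoc]
  refine (Nat.card_congr (Equiv.ofBijective (fun a => ⟨(a.1, a.2 * s a.1), a.1.2.1, h0 a⟩)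
    ⟨fun a b e => ?_, fun z => ?_⟩)).symm
  · have e1 : a.1 = b.1 := Subtype.ext (congrArg (fun z => z.1.1) e)
    have e2 : (a.2 : G) * s a.1 = b.2 * s b.1 := congrArg (fun z => z.1.2) e
    rw [e1] at e2
    exact Prod.ext e1 (Subtype.ext (mul_right_cancel e2))
  · obtain ⟨⟨i, t⟩, h1, h2⟩ := z
    have h3 : IsConj y (w i) := isConj_iff.2 ⟨t⁻¹, by simpa using h2⟩
    refine ⟨(⟨i, h1, h3⟩, ⟨t * (s ⟨i, h1, h3⟩)⁻¹, Subgroup.mem_centralizer_singleton_iff.2 ?_⟩),
      Subtype.ext (by simp)⟩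
    have h4 := (hs ⟨i, h1, h3⟩).trans h2.symm
    calc _ = t * ((s ⟨i, h1, h3⟩)⁻¹ * y * s ⟨i, h1, h3⟩) * (s ⟨i, h1, h3⟩)⁻¹ := by group
      _ = _ := by rw [h4]; group

theorem card_N {Ω : Type*} [Group Ω] [Finite Ω] {S : Subgroup Ω} (y : S) (hy : orderOf (y : Ω) = 2) :
    Nat.card (FusionSystem.normalizerIn S (Subgroup.zpowers (y : Ω))) =
      Nat.card (Subgroup.centralizer ({y} : Set S)) := by
  rw [← Subgroup.card_map_of_injective S.subtype_injective]
  congr 2
  classical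
  ext g
  refine ⟨fun hg => ⟨⟨g, hg.1⟩, Subgroup.mem_centralizer_singleton_iff.2 (Subtype.ext ?_), rfl⟩, ?_⟩
  · have h1 := conj_mem_of_mem_N hg (Subgroup.mem_zpowers (y : Ω))
    rw [mem_zpowers_iff_mem_range_orderOf] at h1
    obtain ⟨k, hk, e⟩ := Finset.mem_image.1 h1
    rw [hy, Finset.mem_range] at hk
    interval_cases k
    · have : (y : Ω) = 1 := by simpa [eq_comm] using e
      simp [this] at hy
    · exact (mul_inv_eq_iff_eq_mul.1 (by simpa using e.symm))
  · rintro ⟨g, hg, rfl⟩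
    refine C_le_N _ _ (mem_C.2 ⟨g.2, ?_⟩)
    rintro _ ⟨k, rfl⟩
    exact (Commute.zpow_left (congrArg Subtype.val
      (Subgroup.mem_centralizer_singleton_iff.1 hg)).symm k)

/-- A Thompson-type transfer for saturated fusion systems. Let F be a saturated fusion system on a finite 2-group S, T a subgroup of S of index 2, and i an involution of S such that every fully normalized F-conjugate of i lies in S but outside T. Then i does not lie in the hyperfocal subgroup of F (the Sylow group of the 2-residual subsystem). -/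
theorem result {Ω : Type*} [Group Ω] [Finite Ω] {S : Subgroup Ω}
    (hS : IsPGroup 2 ↥S) (F : Cfsg.FusionSystem S) (hF : F.IsSaturated 2)
    (T : Subgroup Ω) (hTS : T ≤ S) (hT : T.relIndex S = 2)
    (i : Ω) (hi : i ∈ S) (hi2 : orderOf i = 2)
    (h : ∀ j : Ω, F.IsConjElt i j → F.IsFullyNormalized (Subgroup.zpowers j) → j ∉ T) :
    i ∉ F.hyperfocalSubgroup 2 := by
  classical
  have hF' : Sat 2 F := ⟨hS, hF⟩
  intro hh
  let T' := T.subgroupOf S
  haveI : T'.Normal := Subgroup.normal_of_index_eq_two hT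
  obtain ⟨A, _, χ, hχ⟩ := exists_chi (S := S) (D := T) (Subgroup.commutator_le.2 fun a ha b hb => by
    have : (⟨a, ha⟩ * ⟨b, hb⟩ * ⟨a, ha⟩⁻¹ * ⟨b, hb⟩⁻¹ : S) ∈ T' := by
      rw [Subgroup.mul_mem_iff_of_index_two hT, Subgroup.mul_mem_iff_of_index_two hT,
        Subgroup.mul_mem_iff_of_index_two hT, inv_mem_iff, inv_mem_iff]
      tauto
    exact this)
  obtain ⟨I, _, _, k, d, hn⟩ := hF'.exists_trD
  let x : S := ⟨i, hi⟩
  have hx2 : x * x = 1 := Subtype.ext (by rw [Subgroup.coe_mul, ← sq, ← hi2]; exact pow_orderOf_eq_one _)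
  let s := Finset.univ.filter fun j : I => x • j = j
  have h1 : ∏ j ∈ sᶜ, χ (k x j) = 1 := by
    refine Finset.prod_involution (fun j _ => x • j) (fun j _ => ?_) (fun j hj _ => by simpa [s] using hj)
      (fun j hj => ?_) fun j _ => by rw [← mul_smul, hx2, one_smul]
    · rw [mul_comm, ← map_mul, ← d.coc, hx2, show k 1 j = 1 by simpa using d.coc 1 1 j, map_one]
    · simp only [s, Finset.mem_compl, Finset.mem_filter, Finset.mem_univ, true_and] at hj ⊢
      rw [← mul_smul, hx2, one_smul]; exact fun e => hj e.symm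
  have h2 := d.tr_focal χ (z := x) (hyp_le_focal F hh)
  rw [d.tr_apply, ← Finset.prod_mul_prod_compl s, h1, mul_one] at h2
  have h3 : Odd s.card := by
    have a : Even sᶜ.card := by
      rw [even_iff_two_dvd, ← ZMod.natCast_eq_zero_iff, Finset.card_eq_sum_ones, Nat.cast_sum]
      refine Finset.sum_involution (fun j _ => x • j) (fun j _ => by simp; decide)
        (fun j hj _ => by simpa [s] using hj) (fun j hj => ?_) fun j _ => by
          rw [← mul_smul, hx2, one_smul]
      simp only [s, Finset.mem_compl, Finset.mem_filter, Finset.mem_univ, true_and] at hj ⊢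
      rw [← mul_smul, hx2, one_smul]; exact fun e => hj e.symm
    rw [← Finset.card_add_card_compl s, ← even_iff_two_dvd, Nat.even_add] at hn
    exact Nat.not_even_iff_odd.1 fun e => hn (iff_of_true e a)
  have h4 : Even (s.filter fun j => k x j ∈ T').card := by
    rw [Finset.card_eq_sum_card_image (fun j => ConjClasses.mk (k x j))]
    refine Finset.even_sum _ fun c hc => ?_
    obtain ⟨j, hj, rfl⟩ := Finset.mem_image.1 hc
    obtain ⟨hj1, hj2⟩ := Finset.mem_filter.1 hj
    obtain ⟨P, σ, a, b⟩ := d.gen j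
    obtain ⟨b1, b2⟩ := b x (Finset.mem_filter.1 hj1).2
    have ho : orderOf (k x j : Ω) = 2 := by rw [b2, a.homOn.orderOf_apply b1, hi2]
    obtain ⟨Q, τ, c1, c2⟩ := exists_fullyNormalized F (Subgroup.zpowers_le_of_mem (k x j).2)
    have hy := Subgroup.mem_zpowers (k x j : Ω)
    let y : S := ⟨τ (k x j), c1.mor.mem hy⟩
    have ho' : orderOf (y : Ω) = 2 := by rw [← ho]; exact c1.homOn.orderOf_apply hy
    have hQ : Subgroup.zpowers (y : Ω) = Q := Subgroup.eq_of_le_of_card_ge
      (Subgroup.zpowers_le_of_mem (c1.maps hy)) (by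
        rw [← c1.card_eq, Nat.card_zpowers, Nat.card_zpowers, ho, ho'])
    rw [← hQ] at c1 c2
    have h5 := lt_of_not_ge fun e => h _ (b2 ▸ a.isConjElt b1) (fn_of_card c2 c1.symm e) hj2
    have h6 := d.rst _ _ c1.mor x (k x j) y hy rfl
    rw [card_fib (fun j => x • j = j), card_fib (fun j => x • j = j), ← card_N _ ho, ← card_N _ ho'] at h6
    obtain ⟨m, hm⟩ := (hS.to_le (N_le S (Subgroup.zpowers (k x j : Ω)))).exists_card_eq
    obtain ⟨n, hn⟩ := (hS.to_le (N_le S (Subgroup.zpowers (y : Ω)))).exists_card_eq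
    rw [hm, hn] at h5 h6
    obtain ⟨r, rfl⟩ := Nat.exists_eq_add_of_lt ((Nat.pow_lt_pow_iff_right one_lt_two).1 h5)
    rw [add_assoc, pow_add, mul_comm (2 ^ m), ← mul_assoc] at h6
    have h7 := Nat.eq_of_mul_eq_mul_right (by positivity) h6
    rw [← Set.ncard_coe_finset]
    refine (congrArg (fun X => Even (Set.ncard X)) (Set.ext fun l => ?_)).mpr
      (show Even _ from h7 ▸ (Even.mul_left (by rw [pow_succ]; simp) _))
    simp only [s, Finset.coe_filter, Finset.mem_filter, Finset.mem_univ, true_and, Set.mem_setOf_eq,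
      ConjClasses.mk_eq_mk_iff_isConj]
    refine ⟨fun e => ⟨e.1.1, e.2.symm⟩, fun e => ⟨⟨e.1, ?_⟩, e.2.symm⟩⟩
    obtain ⟨c, hc⟩ := isConj_iff.1 e.2
    exact hc ▸ Subgroup.Normal.conj_mem inferInstance _ hj2 c
  obtain ⟨t, ht⟩ := Subgroup.index_eq_two_iff.1 hT
  have ht1 : t ∉ T' := fun e => by simpa [e, T'] using ht 1
  have h5 : ∀ j ∈ s.filter fun j => k x j ∉ T', χ (k x j) = χ t := fun j hj => by
    rw [← inv_mul_eq_one, ← map_inv, ← map_mul, hχ]
    exact (Subgroup.mul_mem_iff_of_index_two hT).2 (iff_of_false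
      (fun e => (Finset.mem_filter.1 hj).2 (inv_mem_iff.1 e)) ht1)
  rw [← Finset.prod_filter_mul_prod_filter_not s fun j => k x j ∈ T', Finset.prod_congr rfl h5,
    Finset.prod_eq_one (s := s.filter fun j => k x j ∈ T') fun j hj =>
      (hχ _).2 (Finset.mem_filter.1 hj).2, one_mul,
    Finset.prod_const] at h2
  rw [← Finset.card_filter_add_card_filter_not fun j => k x j ∈ T', Nat.odd_add'] at h3
  obtain ⟨r, hr⟩ := h3.2 h4
  rw [hr, pow_succ, pow_mul, ← map_pow, (hχ (t ^ 2)).2 (Subgroup.mem_subgroupOf.1 (Subgroup.sq_mem_of_index_two hT t)), one_pow,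
    one_mul] at h2
  exact ht1 ((hχ _).1 h2)

end Cfsg.Agent.S5192
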