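import Cfsg.Statements.S5195
import Cfsg.Agent.H9.Gl2

set_option autoImplicit false
open Cfsg

namespace Cfsg.Agent.S5195

open Cfsg.Agent Cfsg.Agent.H9

/-- A strengthened Frobenius normal p-complement criterion for fusion systems. Let F be a saturated fusion system over a finite p-group S such that p is odd or F is S₄-free (the symmetric group of degree 4 is not involved in any model of the normalizer system of a fully normalized F-centric subgroup). If Aut_F(Q) is a p-group for every nontrivial characteristic subgroup Q of S, then F is the inner fusion system of S. -/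
theorem result {Ω : Type*} [Group Ω] {S : Subgroup Ω} [Finite S] (p : ℕ) [Fact p.Prime] (hS : IsPGroup p S) (F : Cfsg.FusionSystem S) (hF : F.IsSaturated p) (hp : p ≠ 2 ∨ F.IsSectionFree p (Equiv.Perm (Fin 4))) (h : ∀ Q : Subgroup Ω, Q ≤ S → Q ≠ ⊥ → (Q.subgroupOf S).Characteristic → IsPGroup p (F.autGroup Q)) : ∀ P : Subgroup Ω, F.Hom P = (Cfsg.innerFusionSystem S).Hom P := by
  have hs : Sat p F := ⟨hS, hF⟩
  refine inr_iff.2 (by_contra fun hn => ?_)
  obtain ⟨U, h1, h2, -, h4⟩ := hs.exists_chr (hs.qf hp) hn
  refine h4 (hs.inrA_of_pgroup (fn_of_normal F h1 (h2.le_N h1)) (h U h1 ?_ h2.characteristic))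
  rintro rfl
  exact h4 fun σ hσ => ⟨1, one_mem _, fun x hx => by
    rw [Subgroup.mem_bot.1 hx, hσ.mor.map_one]; simp⟩

end Cfsg.Agent.S5195
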