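import Cfsg.Statements.S5220
import Cfsg.Agent.H9.GlN

set_option autoImplicit false
open Cfsg

namespace Cfsg.Agent.S5220

open Cfsg.Agent Cfsg.Agent.H9

/-- Let F be a saturated fusion system over a nontrivial finite p-group S, let J(S) be the subgroup generated by the abelian subgroups of S of largest order, and let V be the subgroup generated by the p-th powers of the elements of Z(S). Then F is generated by the centralizer fusion system of V and the normalizer fusion system of J(S): every fusion system over S containing the maps of both contains every map of F. -/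
theorem result {Ω : Type*} [Group Ω] {S : Subgroup Ω} [Finite S] (p : ℕ) [Fact p.Prime] (hS : IsPGroup p S) (F : Cfsg.FusionSystem S) (hF : F.IsSaturated p) (hS1 : S ≠ ⊥) (C : Cfsg.FusionSystem (Cfsg.FusionSystem.centralizerIn S (Cfsg.powerClosure p 1 (S ⊓ Subgroup.centralizer (S : Set Ω))))) (hC : F.IsCentralizerSystem (Cfsg.powerClosure p 1 (S ⊓ Subgroup.centralizer (S : Set Ω))) C) (N : Cfsg.FusionSystem (Cfsg.FusionSystem.normalizerIn S (Cfsg.thompsonSubgroupAOf S))) (hN : F.IsNormalizerSystem (Cfsg.thompsonSubgroupAOf S) N) (E : Cfsg.FusionSystem S) (hCE : C.IsSubsystemOf E) (hNE : N.IsSubsystemOf E) : F.IsSubsystemOf E := by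
  have h : Sat p F := ⟨hS, hF⟩
  have e : Cfsg.powerClosure p 1 (S ⊓ Subgroup.centralizer (S : Set Ω)) = mz p S := by
    unfold Cfsg.powerClosure mz
    congr 1
    ext y
    simp only [pow_one, Set.mem_setOf_eq, Set.mem_image]
    exact ⟨fun ⟨x, h1, h2⟩ => ⟨x, h1, h2.symm⟩, fun ⟨x, h1, h2⟩ => ⟨x, h1, h2.symm⟩⟩
  refine isSubsystemOf_iff.2 fun P σ hσ => h.gen_mho_J E (fun P σ h1 => ?_) (fun P σ h1 => ?_) hσ
  · exact ((cm_iff hC).2 (e ▸ h1)).of_sub hCE
  · rw [JJ_zero_eq] at h1
    exact ((nm_iff hN (JJ_zero_eq S ▸ JJ_le 0 S)).2 h1).of_sub hNE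

end Cfsg.Agent.S5220
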