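import Cfsg.Statements.S5222
import Cfsg.Agent.H9.CtlTr

set_option autoImplicit false
open Cfsg

namespace Cfsg.Agent.S5222

open Cfsg.Agent Cfsg.Agent.H9

/-- Let F be a saturated fusion system over a finite p-group S whose normalizer fusion system of S is the inner fusion system of S (Aut_F(S) is a p-group). Then for every subgroup Q of S with [S, S] ≤ Q ≤ Φ(S), the normalizer fusion system of Q in F is the inner fusion system of N_S(Q) = S. -/
theorem result {Ω : Type*} [Group Ω] {S : Subgroup Ω} [Finite S] (p : ℕ) [Fact p.Prime] (hS : IsPGroup p S) (F : Cfsg.FusionSystem S) (hF : F.IsSaturated p) (hN : ∀ N : Cfsg.FusionSystem (Cfsg.FusionSystem.normalizerIn S S), F.IsNormalizerSystem S N → ∀ P : Subgroup Ω, N.Hom P = (Cfsg.innerFusionSystem (Cfsg.FusionSystem.normalizerIn S S)).Hom P) (Q : Subgroup Ω) (h1 : (commutator ↥S).map S.subtype ≤ Q) (h2 : Q ≤ (frattini ↥S).map S.subtype) : ∀ N : Cfsg.FusionSystem (Cfsg.FusionSystem.normalizerIn S Q), F.IsNormalizerSystem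 Q N → ∀ P : Subgroup Ω, N.Hom P = (Cfsg.innerFusionSystem (Cfsg.FusionSystem.normalizerIn S Q)).Hom P := by
  have h : Sat p F := ⟨hS, hF⟩
  rw [Subgroup.map_subtype_commutator] at h1
  have hQ : Q ≤ S := h2.trans (Subgroup.map_subtype_le _)
  have := finite_of_le hQ
  have hn : S ≤ FusionSystem.normalizerIn S Q := fun g hg => mem_N_of_finite hg fun x hx => by
    simpa [commutatorElement_def] using Q.mul_mem (h1 (Subgroup.commutator_mem_commutator hg (hQ hx))) hx
  obtain ⟨_, E, a, b, -, d⟩ := h.exists_nm (fn_of_normal F hQ hn) (eq_N_of_le hn)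
  have h3 : Inr E := a.inr_of_sc_le_phi (stronglyClosed_iff.2 ⟨hQ, fun P σ hσ x hx hx' => by
      obtain ⟨-, τ, -, e, e'⟩ := (d P σ).1 hσ
      exact e x hx ▸ e' x hx'⟩) h1
    (fun σ hσ => (inrN_of_forall le_rfl hN).inrA σ (hσ.of_sub b)) h2
  exact InrN.forall (fun P σ hσ => h3 P σ ((d P σ).2 hσ)) hQ hn

end Cfsg.Agent.S5222
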