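import Cfsg.Statements.S5225
import Cfsg.Agent.H9.CtlTr

set_option autoImplicit false
open Cfsg

namespace Cfsg.Agent.S5225

open Cfsg.Agent Cfsg.Agent.H9

/-- Yoshida's Theorem for fusion systems. Let F be a saturated fusion system over a finite p-group S and N the normalizer fusion system of S in F. If the focal subgroups of F and N differ (N does not control transfer in F), then S has a quotient isomorphic to the wreath product C_p ≀ C_p (realised as a Sylow p-subgroup of the symmetric group of degree p²). -/
theorem result {Ω : Type*} [Group Ω] {S : Subgroup Ω} [Finite S] (p : ℕ) [Fact p.Prime] (hS : IsPGroup p S) (F : Cfsg.FusionSystem S) (hF : F.IsSaturated p) (N : Cfsg.FusionSystem (Cfsg.FusionSystem.normalizerIn S S)) (hN : F.IsNormalizerSystem S N) (hne : N.focalSubgroup ≠ F.focalSubgroup) : ∃ (W : Sylow p (Equiv.Perm (Fin (p ^ 2)))) (f : ↥S →* ↥(W : Subgroup (Equiv.Perm (Fin (p ^ 2))))), Function.Surjective f := by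
  have h : Sat p F := ⟨hS, hF⟩
  obtain ⟨_, E, a, b, -, d⟩ := h.exists_nm (fn_top F) (N_self S).symm
  have e : N.focalSubgroup = E.focalSubgroup :=
    focal_congr fun P σ => (nm_iff hN le_rfl).trans (d P σ).symm
  refine h.yoshida (D := (frattini S).map S.subtype ⊔ E.focalSubgroup) le_sup_left
    (fun σ hσ x hx => Subgroup.mem_sup_right (mem_focal ((d S σ).2 (nm_of (N_self S).ge hσ le_rfl
      le_rfl fun _ => hσ.mem)) hx)) fun h2 => hne ?_
  rw [e, h.focal_eq, a.focal_eq, h.tate' a b h2]

end Cfsg.Agent.S5225
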