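import Cfsg.Statements.S5270
import Cfsg.Agent.H9.MxD

set_option autoImplicit false
open Cfsg

namespace Cfsg.Agent.S5270

open Cfsg.Agent Cfsg.Agent.H9 Cfsg.FusionSystem

/-- Let p ≥ 5 be a prime, S a finite p-group of maximal class of order p^n with n ≥ 4, and F a saturated fusion system over S. If some map of F defined on the second centre Z₂(S) with image Z₂(S) does not carry Z(S) into itself, then the centralizer C_S(Z₂(S)) is an F-essential subgroup. -/
theorem result {Ω : Type*} [Group Ω] {S : Subgroup Ω} [Finite S] (p : ℕ) [Fact p.Prime] (hS : IsPGroup p ↥S) (n : ℕ) (hn : Nat.card S = p ^ n) (h4 : 4 ≤ n) (hmax : Subgroup.lowerCentralSeries S (n - 2) ≠ ⊥) (F : Cfsg.FusionSystem S) (hF : F.IsSaturated p) (hp : 5 ≤ p) (φ : ↥((Subgroup.upperCentralSeries ↥S 2).map S.subtype) →* Ω) (hφ : φ ∈ F.Hom ((Subgroup.upperCentralSeries ↥S 2).map S.subtype)) (hφZ : φ.range = ((Subgroup.upperCentralSeries ↥S 2).map S.subtype)) (hmove : ∃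 (z : Ω) (hz : z ∈ ((Subgroup.upperCentralSeries ↥S 2).map S.subtype)), z ∈ ((Subgroup.center ↥S).map S.subtype) ∧ φ ⟨z, hz⟩ ∉ ((Subgroup.center ↥S).map S.subtype)) : F.IsEssential p (S ⊓ Subgroup.centralizer (((Subgroup.upperCentralSeries ↥S 2).map S.subtype) : Set Ω)) := by
  have hF' : Sat p F := ⟨hS, hF⟩
  have h : MC S p n := by
    refine ⟨hn, by omega, fun e => hmax ?_⟩
    rw [show n - 1 = n - 2 + 1 by omega] at e
    have e' : (⊤ : Subgroup S).lowerCentralSeries (n - 2) = ⊥ := e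
    have := congrArg (Subgroup.map S.subtype) e'
    rwa [Subgroup.map_lowerCentralSeries, ← MonoidHom.range_eq_map, S.range_subtype, Subgroup.map_bot] at this
  have hZ : Subgroup.upperCentralSeries S 2 = Reg.Nf S (n - 2) := by
    ext x
    rw [← mk_mem_Nf (N := Reg.Nf S (n - 1)) (Reg.Nf_anti (by omega)), show n - 2 = n - 1 - 1 by omega,
      ← (h.quot h4).center_eq, Subgroup.mem_upperCentralSeries_succ_iff, Subgroup.upperCentralSeries_one,
      h.center_eq, Subgroup.mem_center_iff, (QuotientGroup.mk'_surjective _).forall]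
    refine forall_congr' fun y => ?_
    rw [eq_comm, ← commutatorElement_eq_one_iff_mul_comm, ← map_commutatorElement, QuotientGroup.mk'_apply,
      QuotientGroup.eq_one_iff]
  generalize hY : (Subgroup.upperCentralSeries S 2).map S.subtype = Y at *
  have hYS : Y ≤ S := hY ▸ Subgroup.map_subtype_le _
  have mY : ∀ x : S, (x : Ω) ∈ Y ↔ x ∈ Reg.Nf S (n - 2) := fun x => by
    rw [← hY, ← hZ]; exact Subgroup.mem_map_iff_mem S.subtype_injective
  have hC : ∀ x : S, (x : Ω) ∈ centralizerIn S Y ↔ x ∈ Kc S (n - 2) := fun x => by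
    rw [mem_C, mem_Kc, h.bot (i := n - 2 + 2) (by omega)]
    simp only [Subgroup.mem_bot, commutatorElement_eq_one_iff_mul_comm]
    exact ⟨fun e y hy => Subtype.ext (e.2 y ((mY y).2 hy)).symm, fun e => ⟨x.2, fun y hy =>
      (congrArg Subtype.val (e ⟨y, hYS hy⟩ ((mY _).1 hy))).symm⟩⟩
  show F.IsEssential p (centralizerIn S Y)
  have := finite_of_le hYS
  have hYC : Y ≤ centralizerIn S Y := fun y hy => (hC ⟨y, hYS hy⟩).2
    (two_le_Kc _ (Reg.Nf_anti (by omega) ((mY _).1 hy)))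
  have nY : S ≤ normalizerIn S Y := fun g hg => mem_N_of_finite hg fun y hy =>
    (mY (⟨g, hg⟩ * ⟨y, hYS hy⟩ * ⟨g, hg⟩⁻¹)).2 (Subgroup.Normal.conj_mem inferInstance _ ((mY _).1 hy) _)
  have nK : (Kc S (n - 2)).Normal := Subgroup.Normal.of_commutator_le _ (two_le_Kc _)
  have nC : S ≤ normalizerIn S (centralizerIn S Y) := fun g hg => mem_N_of_finite hg fun y hy =>
    (hC (⟨g, hg⟩ * ⟨y, C_le _ _ hy⟩ * ⟨g, hg⟩⁻¹)).2 (nK.conj_mem _ ((hC _).1 hy) _)
  have fnC := fn_of_normal F (C_le S Y) nC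
  obtain ⟨σ, hσ, eσ⟩ := exists_iso hφ
  rw [hφZ] at hσ
  obtain ⟨τ, hτ, eτ⟩ := hF'.extend_C (hF'.fn_fc (fn_of_normal F hYS nY)) hσ
  rw [sup_eq_right.2 hYC] at hτ
  have iτ := hτ.iso_self fun x hx => (hσ.congr eτ).maps_C hτ hYC hx (mem_C.1 hx).2
  by_contra c
  have lt : centralizerIn S Y < S := lt_of_le_of_ne (C_le _ _) fun e =>
    h.Kc_ne (i := n - 2) (by omega) (by omega) (top_le_iff.1 fun x _ => (hC x).1 (e.ge x.2))
  have mx : ∀ Q, centralizerIn S Y < Q → Q ≤ S → Q = S := fun Q h1 h2 => by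
    refine le_antisymm h2 (Subgroup.subgroupOf_eq_top.1 (h.top_of_chain (h.lt_Kc (i := n - 2) (by omega) (by omega)) ?_))
    obtain ⟨x, a, b⟩ := SetLike.exists_of_lt h1
    exact lt_of_le_of_ne (fun y hy => h1.le ((hC y).2 hy)) fun e => b ((hC ⟨x, h2 a⟩).2 (e.ge a))
  have hm := (hF'.extAut_eq fnC lt c).ge iτ.toEquiv_mem
  have mZ : ∀ x, x ∈ (Subgroup.center S).map S.subtype ↔ x ∈ centralizerIn S S := fun x => by
    rw [mem_C]
    exact ⟨fun ⟨y, hy, e⟩ => e ▸ ⟨y.2, fun g hg => congrArg Subtype.val (Subgroup.mem_center_iff.1 hy ⟨g, hg⟩)⟩,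
      fun e => ⟨⟨x, e.1⟩, Subgroup.mem_center_iff.2 fun g => Subtype.ext (e.2 g g.2), rfl⟩⟩
  have key : ∀ α ∈ extAut F (centralizerIn S Y), ∀ x : centralizerIn S Y,
      (α x : Ω) ∈ centralizerIn S S ↔ (x : Ω) ∈ centralizerIn S S := by
    intro α hα
    induction hα using Subgroup.closure_induction with
    | mem α hα =>
      obtain ⟨Q, h1, ρ, h2, h3⟩ := hα
      obtain rfl := mx Q h1 h2.le
      intro x
      rw [← h3]
      exact ⟨fun e => by simpa using h2.iso_top.symm.maps_C h2.iso_top.symm.mor le_rfl e.1 (mem_C.1 e).2,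
        fun e => h2.iso_top.maps_C h2 le_rfl e.1 (mem_C.1 e).2⟩
    | one => exact fun x => Iff.rfl
    | mul α β _ _ a b => exact fun x => (a (β x)).trans (b x)
    | inv α _ a => exact fun x => by simpa using (a (α⁻¹ x)).symm
  obtain ⟨z, hz, h1, h2⟩ := hmove
  rw [mZ] at h1 h2
  refine h2 ?_
  rw [← eσ, ← eτ z hz]
  exact (key _ hm ⟨z, hYC hz⟩).2 h1

end Cfsg.Agent.S5270
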