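import Cfsg.Statements.S5296
import Cfsg.Agent.H9.Small

set_option autoImplicit false
universe u
open Cfsg

namespace Cfsg.Agent.S5296

open Cfsg.Agent Cfsg.Agent.H9

/-- Small-exponent abelian subgroups of the hyperfocal subgroup control fusion. Let E and F be saturated fusion systems over the same finite p-group S with E contained in F. Suppose that E and F have the same maps between A and B for all subgroups A, B of the hyperfocal subgroup of F that are elementary abelian when p is odd, respectively abelian of exponent dividing 4 when p = 2. Then E = F. -/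
theorem result {Ω : Type u} [Group Ω] {S : Subgroup Ω} [Finite S] (p : ℕ) [Fact p.Prime] (hS : IsPGroup p S)
    (E F : Cfsg.FusionSystem S) (hE : E.IsSaturated p) (hF : F.IsSaturated p) (hEF : E.IsSubsystemOf F)
    (hodd : p ≠ 2 → ∀ A B : Subgroup Ω, A ≤ (F.hyperfocalSubgroup p) → B ≤ (F.hyperfocalSubgroup p) →
      Cfsg.IsElementaryAbelian p A → Cfsg.IsElementaryAbelian p B → E.homSet A B = F.homSet A B)
    (htwo : p = 2 → ∀ A B : Subgroup Ω, A ≤ (F.hyperfocalSubgroup p) → B ≤ (F.hyperfocalSubgroup p) →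
      IsMulCommutative ↥A → IsMulCommutative ↥B → (∀ a ∈ A, a ^ 4 = 1) → (∀ b ∈ B, b ^ 4 = 1) → E.homSet A B = F.homSet A B) :
    ∀ P : Subgroup Ω, E.Hom P = F.Hom P := by
  have h : H9.Sat p F := ⟨hS, hF⟩
  refine H9.hom_eq_of_mor fun P σ => ⟨H9.Mor.of_sub hEF, h.mor_of_small ⟨hS, hE⟩ hEF
    fun V σ a b c d => ?_⟩
  have e : ∀ x ∈ H9.img σ V, ∃ y ∈ V, σ y = x := fun x => d.homOn.mem_img'.1
  have a' := H9.img_le_iff.2 fun x hx => H9.sc_mem h.sc_hyp d hx (a hx)
  have b1 : IsMulCommutative V := ⟨⟨fun x y => Subtype.ext (b x x.2 y y.2)⟩⟩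
  have b2 : IsMulCommutative (H9.img σ V) := ⟨⟨fun x y => Subtype.ext (by
    obtain ⟨u, hu, e1⟩ := e x x.2
    obtain ⟨v, hv, e2⟩ := e y y.2
    simp only [Subgroup.coe_mul, ← e1, ← e2, ← d.map_mul hu hv, ← d.map_mul hv hu, b u hu v hv])⟩⟩
  have c' : ∀ x ∈ H9.img σ V, H9.Sm p x := fun x hx => by
    obtain ⟨u, hu, rfl⟩ := e x hx
    exact d.homOn.sm hu (c u hu)
  have k : E.homSet V (H9.img σ V) = F.homSet V (H9.img σ V) := by
    by_cases h2 : p = 2
    · exact htwo h2 _ _ a a' b1 b2 (fun x hx => by simpa [h2] using (c x hx).2)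
        fun x hx => by simpa [h2] using (c' x hx).2
    · exact hodd h2 _ _ a a' ⟨b1, fun x hx => (c x hx).1 h2⟩ ⟨b2, fun x hx => (c' x hx).1 h2⟩
  exact ⟨_, (k.ge ⟨d.toHom_mem, fun x => H9.apply_mem_img_of_mem σ x.2⟩).1, fun _ => rfl⟩

end Cfsg.Agent.S5296
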