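import Cfsg.Statements.S5276
import Cfsg.Agent.H9.CtlTr

set_option autoImplicit false
open Cfsg

namespace Cfsg.Agent.S5276

open Cfsg.Agent Cfsg.Agent.H9

/-- Let p be a prime and F a saturated fusion system over a finite p-group S. Then F is the inner fusion system of S if and only if the normalizer fusion system of S itself in F is the inner fusion system (equivalently, Aut_F(S) is induced by S) and the Frattini subgroup Φ(S) is strongly closed in F. -/
theorem result {Ω : Type*} [Group Ω] {S : Subgroup Ω} [Finite S] (p : ℕ) [Fact p.Prime] (hS : IsPGroup p ↥S) (F : Cfsg.FusionSystem S) (hF : F.IsSaturated p) : (∀ P : Subgroup Ω, F.Hom P = (Cfsg.innerFusionSystem S).Hom P) ↔ (∀ N : Cfsg.FusionSystem (Cfsg.FusionSystem.normalizerIn S S), F.IsNormalizerSystem S N → ∀ P : Subgroup Ω, N.Hom P = (Cfsg.innerFusionSystem (Cfsg.FusionSystem.normalizerIn S S)).Hom P) ∧ F.StronglyClosed ((frattini ↥S).map S.subtype) := by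
  have h : Sat p F := ⟨hS, hF⟩
  refine ⟨fun e => ⟨((inr_iff.1 e).inrN S).forall le_rfl (N_self S).ge, stronglyClosed_iff.2
    ⟨Subgroup.map_subtype_le _, fun P σ hσ x hx hx' => ?_⟩⟩, fun ⟨a, b⟩ => inr_iff.2
    (h.inr_of_sc_le_phi b (commutator_le_phi hS) (inrN_of_forall le_rfl a).inrA le_rfl)⟩
  obtain ⟨g, hg, e⟩ := inr_iff.1 e P σ hσ
  obtain ⟨y, hy, rfl⟩ := hx'
  rw [e _ hx]
  exact ⟨_, Subgroup.Normal.conj_mem inferInstance y hy ⟨g, hg⟩, rfl⟩

end Cfsg.Agent.S5276
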