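import Cfsg.Statements.S5287
import Cfsg.Agent.H9.SupU
import Cfsg.Agent.H9.Met

set_option autoImplicit false
open Cfsg

namespace Cfsg.Agent.S5287

open Cfsg.Agent Cfsg.Agent.H9
open Cfsg.FusionSystem

/-- Let S be a finite metacyclic p-group (an extension of a cyclic group by a cyclic group). Every saturated fusion system over S is supersoluble (S has a chain of F-strongly closed subgroups from 1 to S with cyclic steps) if and only if S is not homocyclic of rank two (isomorphic to Z/p^n × Z/p^n with n ≥ 1) and, when p = 2, S is not dihedral of order at least 4, not quasi-dihedral (semidihedral) and not generalized quaternion of order at least 8. -/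
theorem result {Ω : Type*} [Group Ω] {S : Subgroup Ω} [Finite S] (p : ℕ) [Fact p.Prime] (hS : IsPGroup p ↥S) (hm : Cfsg.IsMetacyclic ↥S) : (∀ F : Cfsg.FusionSystem S, F.IsSaturated p → (∃ (m : ℕ) (c : Fin (m + 1) → Subgroup Ω), c 0 = ⊥ ∧ c (Fin.last m) = S ∧ (∀ i : Fin (m + 1), F.StronglyClosed (c i)) ∧ ∀ i : Fin m, c i.castSucc ≤ c i.succ ∧ ∃ x ∈ S, c i.succ = c i.castSucc ⊔ Subgroup.zpowers x)) ↔ ¬ ((∃ n : ℕ, 0 < n ∧ Nonempty (↥S ≃* Multiplicative (ZMod (p ^ n)) × Multiplicative (ZMod (p ^ n)))) ∨ (p = 2 ∧ ((∃ n : ℕ, 2 ≤ n ∧ Nonempty (↥S ≃* DihedralGroup n)) ∨ Cfsg.IsQuasiDihedral ↥S ∨ (∃ n : ℕ, 2 ≤ n ∧ Nonempty (↥S ≃* QuaternionGroup n))))) := by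
  have cy : IsCyclic S → ∀ F : FusionSystem S, F.IsSaturated p → SS F := fun c F _ => ss_of_cyclic c F
  refine ⟨fun h => ?_, fun h => ?_⟩
  · rintro (⟨n, hn, ⟨e⟩⟩ | ⟨rfl, c⟩)
    · exact not_goodA hn (GoodA.of_equiv ((ss_all_iff hS).1 h).2 e)
    · exact not_ss_two hS h c
  by_cases c : IsCyclic S
  · exact cy c
  rw [not_or] at h
  obtain ⟨h1, h2⟩ := h
  by_cases hp : p = 2
  · subst hp
    have h2 := fun c => h2 ⟨rfl, c⟩
    have hA : IsPGroup 2 (MulAut S) := by
      by_contra d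
      rcases meta_aut hS hm d with e | ⟨n, ⟨e⟩⟩
      · exact h2 (.inr (.inr ⟨2, le_rfl, e⟩))
      · rcases n with _ | n
        · have : Subsingleton (ZMod (2 ^ 0)) := ZMod.subsingleton_iff.2 rfl
          have : Subsingleton S := e.injective.subsingleton
          exact c inferInstance
        · exact h1 ⟨n + 1, n.succ_pos, ⟨e.trans (MulEquiv.prodMultiplicative _ _)⟩⟩
    intro F hF
    have hF' : Sat 2 F := ⟨hS, hF⟩
    refine hF'.ss_of (hF'.normal_of_meta (sc_top F) hm ?_ ?_ fun e => h2 (.inr (.inl e))) fun H hH => ?_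
    · rintro ⟨m, ⟨e⟩⟩
      match m with
      | 0 => have := Finite.of_equiv _ e.toEquiv; exact not_finite (DihedralGroup 0)
      | 1 => exact c (isCyclic_of_prime_card (p := 2) (by rw [Nat.card_congr e.toEquiv, DihedralGroup.nat_card]))
      | m + 2 => exact h2 (.inl ⟨m + 2, by omega, ⟨e⟩⟩)
    · rintro ⟨m, ⟨e⟩⟩
      match m with
      | 0 =>
        have := Finite.of_equiv _ e.toEquiv
        have : Finite ℤ := Finite.of_injective (fun i : ZMod (2 * 0) => QuaternionGroup.a i)
          fun _ _ => QuaternionGroup.a.inj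
        exact not_finite ℤ
      | 1 =>
        have := QuaternionGroup.quaternionGroup_one_isCyclic
        exact c (isCyclic_of_surjective e.symm.toMonoidHom e.symm.surjective)
      | m + 2 => exact h2 (.inr (.inr ⟨m + 2, by omega, ⟨e⟩⟩))
    · have : ∀ α ∈ H, α = 1 := fun α hα => by
        have := Subgroup.eq_bot_of_card_eq H (((hA.to_subgroup H).card_eq_or_dvd).resolve_right fun d =>
          (Nat.Prime.coprime_iff_not_dvd Nat.prime_two).1 hH.symm d)
        rwa [this] at hα
      exact ch_of_comm hS ⟨⟨fun a b => Subtype.ext (by rw [this _ (a * b).2, this _ (b * a).2])⟩⟩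
        fun α hα => by rw [this α hα, one_pow]
  by_cases hab : IsMulCommutative S
  · exact (ss_ab_iff hS hab).2 fun ⟨n, H, _, hn, ⟨e⟩⟩ => h1 ⟨n, hn, homo_of_dec hp hS hm hn e⟩
  · exact fun F hF => Sat.ss_of ⟨hS, hF⟩ (S5234.result p hS F hF S (sc_top F) hp hm) (ch_meta hp hS hm hab)

end Cfsg.Agent.S5287
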