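import Cfsg.Statements.S5308
import Cfsg.Agent.H9.CP2

set_option autoImplicit false
open Cfsg

namespace Cfsg.Agent.S5308

open Cfsg.Agent Cfsg.Agent.H9

/-- A saturated fusion system F over a finite p-group S has a generalized Fitting subsystem — a central product of the inner fusion system of O_p(F) (the largest subgroup of S normal in F) with a layer of F — and every generalized Fitting subsystem of F is a normal subsystem of F. -/
theorem result {Ω : Type*} [Group Ω] {S : Subgroup Ω} [Finite S] (p : ℕ) [Fact p.Prime] (hS : IsPGroup p S) (F : Cfsg.FusionSystem S) (hF : F.IsSaturated p) :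
    (∃ (U : Subgroup Ω) (D : Cfsg.FusionSystem U), D.IsGeneralizedFittingOf F p) ∧
      ∀ (U : Subgroup Ω) (D : Cfsg.FusionSystem U), D.IsGeneralizedFittingOf F p → D.IsNormalIn F p := by
  have h : H9.Sat p F := ⟨hS, hF⟩
  have := H9.finite_of_le (H9.core_le F)
  refine ⟨?_, fun U D ⟨T, E, a, b⟩ => ?_⟩
  · obtain ⟨T, E, a⟩ := h.exists_lay
    have := H9.finite_of_le a.nml.le
    obtain ⟨D, b⟩ := (a.cph (H9.core_normal F)).exists_cp rfl
    exact ⟨_, D, T, E, (H9.lay_iff hS).2 a, H9.cp_iff.2 b⟩
  · have a := (H9.lay_iff hS).1 a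
    have := H9.finite_of_le a.nml.le
    exact ((H9.cp_iff.1 b).nml (h.nml_inner (H9.core_normal F)) a.nml).isNormalIn

end Cfsg.Agent.S5308
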