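import Cfsg.Statements.S5309
import Cfsg.Agent.H9.CP2

set_option autoImplicit false
open Cfsg

namespace Cfsg.Agent.S5309

open Cfsg.Agent Cfsg.Agent.H9

/-- Self-centralizing property of the generalized Fitting subsystem. Let F be a saturated fusion system over a finite p-group S and D a generalized Fitting subsystem of F, over U. Then the centre of D is the largest subgroup Y of C_S(U) centralized by D in F, in the sense that every map of D extends to a map of F fixing Y elementwise: the centre of D is such a subgroup, and every such Y lies in the centre of D. -/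
theorem result {Ω : Type*} [Group Ω] {S : Subgroup Ω} [Finite S] (p : ℕ) [Fact p.Prime] (hS : IsPGroup p S) (F : Cfsg.FusionSystem S) (hF : F.IsSaturated p)
    {U : Subgroup Ω} (D : Cfsg.FusionSystem U) (hD : D.IsGeneralizedFittingOf F p) :
    (D.center ≤ Cfsg.FusionSystem.centralizerIn S U ∧ ∀ P : Subgroup Ω, D.Hom P ⊆ F.centralizerHom D.center P) ∧
      ∀ Y : Subgroup Ω, Y ≤ Cfsg.FusionSystem.centralizerIn S U →
        (∀ P : Subgroup Ω, D.Hom P ⊆ F.centralizerHom Y P) → Y ≤ D.center := by
  have h : H9.Sat p F := ⟨hS, hF⟩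
  have := H9.finite_of_le (H9.core_le F)
  obtain ⟨T, E, a, b⟩ := hD
  have a := (H9.lay_iff hS).1 a
  have := H9.finite_of_le a.nml.le
  have b := H9.cp_iff.1 b
  have c := b.nml (h.nml_inner (H9.core_normal F)) a.nml
  have := H9.finite_of_le c.le
  have d : D.center ≤ Cfsg.FusionSystem.centralizerIn S U := fun z hz => H9.mem_C.2
    ⟨c.le (H9.center_le D hz), fun x hx => H9.central_comm (H9.center_central D) hz hx⟩
  refine ⟨⟨d, H9.sub_cm_iff.2 fun P σ e => (H9.cm_of_central (H9.center_central D) e).of_sub c.sub⟩,
    fun Y e f => ?_⟩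
  have f := H9.sub_cm_iff.1 f
  exact H9.le_center (c.satE.central_of_fix ((c.ce_iff.1 ⟨e, f⟩).trans (H9.cse_le_of_comps c b.le₁
    fun R C g => H9.sub_trans (a.comps R C g) b.symm.sub)) fun P σ g x k l => (f P σ g).fix k l)

end Cfsg.Agent.S5309
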