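import Cfsg.Statements.S5318
import Cfsg.Agent.C3.FS3
import Cfsg.Agent.C3.FS2

set_option autoImplicit false
open Cfsg

namespace Cfsg.Agent.S5318

/-- For a finite field F of odd order, the 2-fusion system of PSL(3,F) on a Sylow 2-subgroup (semidihedral or wreathed according as |F| ≡ 3 or 1 mod 4) is simple. -/
theorem result {F : Type*} [Field F] [Fintype F] (hodd : Fintype.card F % 2 = 1) (S : Sylow 2 (Matrix.ProjectiveSpecialLinearGroup (Fin 3) F)) :
    (Cfsg.groupFusionSystem (S : Subgroup (Matrix.ProjectiveSpecialLinearGroup (Fin 3) F))).IsSimple 2 := by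
  have h2 : (2 : F) ≠ 0 := fun h => by
    have := FiniteField.even_card_of_char_two (F := F) (by
      have := (ringChar.spec F 2).1 (by exact_mod_cast h)
      exact ((Nat.dvd_prime Nat.prime_two).1 this).resolve_left CharP.ringChar_ne_one)
    omega
  refine C3.FS.simple_quot ?_ (fun P => ?_) S
  · rw [H4.card_center_SL]
    exact fun h => absurd (h.trans (Nat.gcd_dvd_left _ _)) (by simp)
  · obtain ⟨Q⟩ : Nonempty (Sylow 2 (⊤ : Subgroup (Matrix.SpecialLinearGroup (Fin 3) F))) := inferInstance
    refine H9.simple_of_equiv Subgroup.topEquiv (H9.syl_top Q)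
      (C3.FS.sub3 h2 ⊤ ?_ trivial trivial trivial trivial Q) P
    apply Subgroup.map_injective (Subgroup.subtype_injective _)
    rw [Subgroup.map_subtype_commutator, ← commutator_def, H4.SL_commutator_eq_top (by simp),
      ← MonoidHom.range_eq_map, Subgroup.range_subtype]

end Cfsg.Agent.S5318
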