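import Cfsg.Statements.S5319
import Cfsg.Agent.C3.FS3
import Cfsg.Agent.S0279
import Cfsg.Agent.S0780
import Cfsg.Agent.S0781

set_option autoImplicit false
open Cfsg

namespace Cfsg.Agent.S5319

/-- Let q be an odd prime power and F a field with q² elements. Then the 2-fusion system of PSU(3,q) (realised as the special unitary group of the standard Hermitian form over F modulo its centre) on a Sylow 2-subgroup is simple. -/
theorem result {F : Type*} [Field F] [Fintype F] (q : ℕ) (hq : Fintype.card F = q ^ 2) (hodd : q % 2 = 1) (S : Sylow 2 (Cfsg.PSU 3 F q)) :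
    (Cfsg.groupFusionSystem (S : Subgroup (Cfsg.PSU 3 F q))).IsSimple 2 := by
  have h2 : (2 : F) ≠ 0 := fun h => by
    have := FiniteField.even_card_of_char_two (F := F) (by
      have := (ringChar.spec F 2).1 (by exact_mod_cast h)
      exact ((Nat.dvd_prime Nat.prime_two).1 this).resolve_left CharP.ringChar_ne_one)
    rw [hq, Nat.pow_mod, hodd] at this
    omega
  have h3 : 3 ≤ q := by
    have := Fintype.one_lt_card (α := F)
    rw [hq] at this
    by_contra h
    interval_cases q <;> simp_all
  have ho : Odd q := Nat.odd_iff.2 hodd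
  refine C3.FS.simple_quot ?_ (fun P => C3.FS.sub3 h2 _ ?_ ?_ ?_ ?_ ?_ P) S
  · rw [S0279.result hq 3 le_rfl]
    exact fun h => absurd (h.trans (Nat.gcd_dvd_left _ _)) (by simp)
  · rw [eq_top_iff, ← S0780.result hq 3 le_rfl (by omega), Subgroup.closure_le]
    rintro A ⟨v, c, h1, h4⟩
    obtain ⟨a, b, e⟩ := S0781.result hq 3 (Or.inr ⟨rfl, h3⟩) A v c h1 h4
    exact e ▸ Subgroup.commutator_mem_commutator (Subgroup.mem_top a) (Subgroup.mem_top b)
  all_goals
    intro u v
    rw [show ∀ g : Matrix.SpecialLinearGroup (Fin 3) F, Cfsg.slToMat 3 F g = g.1 from fun _ => rfl]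
    simp [Cfsg.hermForm, C3.FS.mz, C3.FS.mt, C3.FS.mw, C3.FS.mu, Fin.sum_univ_three,
      Matrix.mulVec, dotProduct, ho.neg_pow]
    try ring

end Cfsg.Agent.S5319
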