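import Cfsg.Statements.S5328
import Cfsg.Agent.H9.CtlTr

set_option autoImplicit false
universe u
open Cfsg

namespace Cfsg.Agent.S5328

open Cfsg.Agent Cfsg.Agent.H9

/-- Every fusion system over a finite p-group S, saturated or not, is realized inside some finite group: there is a finite group G and an injective homomorphism ι of S into G such that the maps of the system are exactly the homomorphisms between subgroups of S that become conjugations by elements of G (the image of S need not be a Sylow p-subgroup of G). -/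
theorem result {Ω : Type u} [Group Ω] {S : Subgroup Ω} [Finite S] (p : ℕ) [Fact p.Prime] (hS : IsPGroup p S) (F : Cfsg.FusionSystem S) : ∃ (G : Type u) (_ : Group G) (_ : Finite G) (ι : ↥S →* G), F.IsRealizedBy ι := by
  obtain ⟨I, _, _, h, d, i0, s0, h0⟩ := exists_trD F
  have h1 : ∀ i, h 1 i = 1 := fun i => by simpa using d.coc 1 1 i
  let G : Subgroup (Equiv.Perm (I × S)) :=
    { carrier := {g | ∀ i s t, g (i, s * t) = ((g (i, s)).1, (g (i, s)).2 * t)}
      one_mem' := fun i s t => rfl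
      mul_mem' := fun {a b} ha hb i s t => by
        simp only [Equiv.Perm.mul_apply]; rw [hb, ha]
      inv_mem' := fun {a} ha i s t => by
        rw [Equiv.Perm.inv_eq_iff_eq, ha]; simp }
  let mk : (π : Equiv.Perm I) → (I → S) → G := fun π c =>
    ⟨{ toFun := fun z => (π z.1, c z.1 * z.2)
       invFun := fun z => (π⁻¹ z.1, (c (π⁻¹ z.1))⁻¹ * z.2)
       left_inv := fun z => by simp
       right_inv := fun z => by simp }, fun i s t => by simp [mul_assoc]⟩
  let ι : S →* G := MonoidHom.mk' (fun x => mk (MulAction.toPerm x) (h x)) fun x y =>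
    Subtype.ext (Equiv.ext fun z => by simp [mk, d.coc, mul_smul, mul_assoc])
  have hι : ∀ x z, (ι x : Equiv.Perm (I × S)) z = (x • z.1, h x z.1 * z.2) := fun _ _ => rfl
  refine ⟨G, inferInstance, inferInstance, ι, (injective_iff_map_eq_one ι).2 fun x hx => ?_,
    fun P hP φ hφ => ⟨fun hm => ?_, fun ⟨g, hg⟩ => ?_⟩⟩
  · have := hι x (i0, 1)
    rw [hx, (h0 x).2] at this
    simpa [mul_assoc, eq_comm, inv_mul_eq_one] using congrArg Prod.snd this
  · obtain ⟨σ, a, b⟩ := exists_mor hm
    obtain ⟨π, c, e⟩ := d.stab P σ a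
    refine ⟨mk π fun i => (c i)⁻¹, fun x => eq_mul_inv_of_mul_eq (Subtype.ext (Equiv.ext fun z => ?_))⟩
    have := e ⟨x, hP x.2⟩ ⟨φ x, hφ x⟩ x.2 (b x).symm z.1
    simp only [Subgroup.coe_mul, Equiv.Perm.mul_apply, hι]
    simp [mk, this.1, this.2, mul_assoc]
  · obtain ⟨R, σ, a, b⟩ := d.gen ((g : Equiv.Perm (I × S)) (i0, 1)).1
    let c : S := ((g : Equiv.Perm (I × S)) (i0, 1)).2 * s0⁻¹
    have e : ∀ x : P, φ x ∈ R ∧ σ (φ x) = c * x * (c : Ω)⁻¹ := fun x => by
      have e1 := congrArg (fun k : G => (k : Equiv.Perm (I × S)) (i0, 1)) (mul_eq_of_eq_mul_inv (hg x))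
      simp only [Subgroup.coe_mul, Equiv.Perm.mul_apply, hι, (h0 _).1, (h0 _).2] at e1
      rw [mul_one, ← one_mul (s0⁻¹ * _ * s0), g.2] at e1
      obtain ⟨b1, b2⟩ := b _ (congrArg Prod.fst e1)
      refine ⟨b1, b2 ▸ ?_⟩
      rw [eq_mul_inv_of_mul_eq (congrArg Prod.snd e1)]
      simp [c, mul_assoc]
    refine ((mor_cj F hP c.2).comp a.inv_img fun x hx => ?_).hom_mem fun x => ?_
    · rw [cj_apply, ← (e ⟨x, hx⟩).2]
      exact apply_mem_img_of_mem σ (e _).1
    · rw [Equiv.Perm.mul_apply, cj_apply, ← (e x).2, pia]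

end Cfsg.Agent.S5328
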