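import Cfsg.Statements.S5331
import Cfsg.Agent.H9.SupT

set_option autoImplicit false
open Cfsg

namespace Cfsg.Agent.S5331

open Cfsg.Agent Cfsg.Agent.H9

/-- Let S be a finite abelian 2-group that is a direct product of cyclic groups of pairwise distinct orders 2^{a_1} < 2^{a_2} < ⋯ < 2^{a_n} (all a_i ≥ 1). Then every saturated fusion system over S is the inner one: its maps are exactly the conjugations by elements of S. -/
theorem result {Ω : Type*} [Group Ω] {S : Subgroup Ω} [Finite S] (n : ℕ) (a : Fin n → ℕ) (ha : StrictMono a) (ha1 : ∀ i, 1 ≤ a i) (e : ↥S ≃* Multiplicative ((i : Fin n) → ZMod (2 ^ a i))) (F : Cfsg.FusionSystem S) (hF : F.IsSaturated 2) (P : Subgroup Ω) : F.Hom P = (Cfsg.innerFusionSystem S).Hom P := by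
  have hS : IsPGroup 2 S := IsPGroup.of_card (n := ∑ i, a i) (by
    rw [Nat.card_congr e.toEquiv]
    show Nat.card ((i : Fin n) → ZMod (2 ^ a i)) = _
    simp [Nat.card_pi, Finset.prod_pow_eq_pow_sum])
  have hc : ∀ x y : S, x * y = y * x := fun x y => e.injective (by rw [map_mul, map_mul, mul_comm])
  have h : Sat 2 F := ⟨hS, hF⟩
  have hn := h.normal_of_abelian_sc (sc_top F) fun x hx y hy => congrArg Subtype.val (hc ⟨x, hx⟩ ⟨y, hy⟩)
  have hA : IsPGroup 2 (MulAut S) := fun α => by
    simpa using ((ch_of_up hS hc ((up_pi ha.injective).of_equiv e) ⊤).aut_pow hS (α := α) (β := α) trivial trivial).2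
  refine hom_eq_of_mor (fun P σ => ⟨h.eq_inner_of_pgroup ?_, Mor.of_inner⟩) P
  rintro P (rfl | c)
  · exact hA.to_subgroup _
  · exact absurd c (h.not_ess_of_normal_top hn)

end Cfsg.Agent.S5331
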