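import Cfsg.Statements.S5405
import Cfsg.Agent.GS.Mk1
import Cfsg.Agent.H6.Mat3
import Cfsg.Agent.H6.M24c
import Cfsg.Agent.S0287
import Cfsg.Agent.S0288

set_option autoImplicit false
open scoped MatrixGroups
open Cfsg

namespace Cfsg.Agent.S5405

section
open Finset Pointwise Cfsg.Agent.St Cfsg.Agent.H6

set_option maxRecDepth 100000
open Matrix
open scoped commutatorElement
noncomputable def defOk (e : List ℕ → List ℕ → Bool) (k : List ℕ → Bool) (dl : List (ℕ × List ℕ)) : List ℕ → Bool :=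
  List.rec (motive := fun _ => List ℕ → Bool) k (fun p _ ih kl => band (wok (tb (mkM kl)) p.2) (band (e [p.1] p.2) (ih (p.1 :: kl)))) dl

theorem defOk_spec {G : Type*} [Group G] {g : ℕ → G} {e : List ℕ → List ℕ → Bool} (he : ∀ u w, e u w = true → wp g u = wp g w)
    {k : List ℕ → Bool} {S : Subgroup G} (dl : List (ℕ × List ℕ)) :
    ∀ kl, defOk e k dl kl = true → cl g (lw kl) ≤ S → ∃ kl', cl g (lw kl') ≤ S ∧ k kl' = true := by
  induction dl with
  | nil => exact fun kl h hS => ⟨kl, hS, h⟩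
  | cons p dl ih =>
    intro kl h hS
    have h' : band (wok (tb (mkM kl)) p.2) (band (e [p.1] p.2) (defOk e k dl (p.1 :: kl))) = true := h
    rw [band_eq, band_eq] at h'
    refine ih _ h'.2.2 (cl_lw_le.2 fun l hl => ?_)
    rcases List.mem_cons.1 hl with rfl | hl
    · have := he _ _ h'.2.1
      rw [wp_cons, wp_nil, mul_one] at this
      exact this ▸ hS (wp_mem_lw h'.1)
    · exact hS (gen_mem_lw hl)

noncomputable def evc (a b : Net) (u : ℕ) (w : List ℕ) : ℕ :=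
  List.rec (motive := fun _ => ℕ) 0 (fun l _ ih => seq ih fun x => cnd (Nat.beq l 0) (a.fnc x) (Nat.xor u (b.fnc x))) w

theorem evc_cons (a b : Net) (u l : ℕ) (w : List ℕ) :
    evc a b u (l :: w) = cnd (Nat.beq l 0) (a.fnc (evc a b u w)) (Nat.xor u (b.fnc (evc a b u w))) :=
  seq_eq (evc a b u w) fun x => cnd (Nat.beq l 0) (a.fnc x) (Nat.xor u (b.fnc x))

theorem vecC_xor (n i j : ℕ) : vecC 2 (Nat.cast : ℕ → ZMod 2) n (i ^^^ j) = vecC 2 Nat.cast n i + vecC 2 Nat.cast n j := by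
  funext k
  simp only [vecC, dg_eq, Pi.add_apply, ← Nat.toNat_testBit, Nat.testBit_xor]
  cases i.testBit k <;> cases j.testBit k <;> decide

theorem comm_le {G : Type*} [Group G] [Finite G] {K : Subgroup G} {m : ℕ} (hG : Nat.card G = 2 * m) (hK : m ≤ Nat.card K) :
    commutator G ≤ K := by
  have h := K.index_mul_card
  have h0 : K.index ≠ 0 := Subgroup.index_ne_zero_of_finite
  have h1 : K.index ≤ 2 := by
    by_contra hc
    have := Nat.mul_le_mul (Nat.succ_le_of_lt (not_le.1 hc)) hK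
    have := Nat.card_pos (α := G)
    omega
  rcases (by omega : K.index = 1 ∨ K.index = 2) with h2 | h2
  · rw [Subgroup.index_eq_one.1 h2]; exact le_top
  · refine Subgroup.commutator_le.2 fun a _ b _ => ?_
    simp only [commutatorElement_def, Subgroup.mul_mem_iff_of_index_two h2, inv_mem_iff]
    tauto

theorem core {H : Type*} [Group H] {n : ℕ} {ρ : H →* Matrix (Fin n) (Fin n) (ZMod 2)} {g : ℕ → H} {ml : List (List ℕ)}
    (hg : MRep (ixFin n) (cdP 2) Nat.cast ρ g (lk (idm 2 n) ml)) {nl : List Net} {L : Lev} {k r : ℕ}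
    {dl : List (ℕ × List ℕ)} {R : List (List ℕ)} {pre : List ℕ} (hc : Nat.card H = 2 * L.ord)
    (h2 : band (nall (fun i => Nat.beq (mkrow 2 (dg 2 i) n 0) i) (2 ^ n)) (band (lall2 (vecChk (cdP 2) n (2 ^ n)) ml nl)
      (band (Nat.beq (llen ml) (llen nl)) (vecChk (cdP 2) n (2 ^ n) (idm 2 n) Net.nil))) = true)
    (h3 : band (Nat.ble 1 L.ord) (L.chk (2 ^ n) k (lk Net.nil nl) vT r) = true)
    (h4 : defOk ((cdP 2).eqv n (lk (idm 2 n) ml)) (fun kl => wsok (tb (mkM kl)) L.ws) dl [0, 1] = true)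
    (h5 : band ((cdP 2).eqv n (lk (idm 2 n) ml) [0, 3, 2] [2, 3]) (band ((cdP 2).eqv n (lk (idm 2 n) ml) [1, 5, 4] [4, 5])
      (lall (fun w => band ((cdP 2).one n (lk (idm 2 n) ml) w) (lall (fun l => Nat.ble l 1) w)) R)) = true)
    (h6 : nall (fun i => band (Nat.ble (Nat.succ (lk 0 pre i)) (2 ^ n))
      (Nat.beq (Nat.xor ((lk Net.nil nl 0).fnc (lk 0 pre i)) (lk 0 pre i)) i)) (2 ^ n) = true)
    (h7 : nall (fun u => bor (Nat.beq u 0) (lany (fun w => Nat.ble 1 (evc (lk Net.nil nl 0) (lk Net.nil nl 1) u w)) R)) (2 ^ n) = true)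
    (f : commutator H → Fin n → ZMod 2) (hf : ∀ a b, f (a * b) = f a + ρ a *ᵥ f b) : ∃ v, ∀ a, f a = ρ a *ᵥ v - v := by
  simp only [band_eq, ble_eq, nall_eq, bor_eq, beq_eq, lany_eq, lall_eq] at h3 h5 h6 h7
  haveI : Finite H := Nat.finite_of_card_ne_zero (by omega)
  letI : MulAction H (Fin n → ZMod 2) :=
    { smul := fun a v => ρ a *ᵥ v
      one_smul := fun v => by show ρ 1 *ᵥ v = v; rw [map_one, one_mulVec]
      mul_smul := fun a b v => by show ρ (a * b) *ᵥ v = ρ a *ᵥ (ρ b *ᵥ v); rw [map_mul, mulVec_mulVec] }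
  have m := vecModel (fun _ _ => rfl) hg (injP 2) h2
  have sj : ∀ v : Fin n → ZMod 2, ∃ i < 2 ^ n, vecC 2 Nat.cast n i = v := fun v => by
    obtain ⟨i, hi⟩ := ((Fintype.bijective_iff_injective_and_card (fun i : Fin (2 ^ n) => vecC 2 (Nat.cast : ℕ → ZMod 2) n i)).2
      ⟨fun i j e => Fin.ext (m.inj _ i.2 _ j.2 e), by simp⟩).2 v
    exact ⟨i, i.2, hi⟩
  have st : ∀ l, ∀ i < 2 ^ n, (lk Net.nil nl l).fnc i < 2 ^ n ∧ ρ (g l) *ᵥ vecC 2 Nat.cast n i = vecC 2 Nat.cast n ((lk Net.nil nl l).fnc i) :=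
    fun l i hi => by
      rw [Net.fnc_eq]
      exact ⟨(m.ok.fnW_lt (w := [l]) (fun _ _ => rfl) i).2 hi, m.cmp l rfl i hi⟩
  have cm : ∀ a x y, wp g [a, y, x] = wp g [x, y] → g a ∈ commutator H := fun a x y e => by
    simp only [wp_cons, wp_nil, mul_one] at e
    have : g a = ⁅g x, g y⁆ := by rw [commutatorElement_def, ← e]; group
    exact this ▸ Subgroup.commutator_mem_commutator (Subgroup.mem_top _) (Subgroup.mem_top _)
  have ha := cm _ _ _ (hg.eqv _ _ h5.1)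
  have hb := cm _ _ _ (hg.eqv _ _ h5.2.1)
  obtain ⟨i, hi, ei⟩ := sj (f ⟨_, ha⟩)
  refine ⟨vecC 2 Nat.cast n (lk 0 pre i), ?_⟩
  have e0 := (st 0 _ (h6 i hi).1).2
  have e1 := vecC_xor n ((lk Net.nil nl 0).fnc (lk 0 pre i)) (lk 0 pre i)
  rw [show _ ^^^ _ = i from (h6 i hi).2, ei, ← e0] at e1
  generalize vecC 2 (Nat.cast : ℕ → ZMod 2) n (lk 0 pre i) = v at e1
  obtain ⟨f0, e2⟩ : ∃ f0 : commutator H → Fin n → ZMod 2, ∀ a, f0 a = f a - (ρ a *ᵥ v - v) := ⟨_, fun _ => rfl⟩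
  have hf0 : ∀ a b, f0 (a * b) = f0 a + ρ a *ᵥ f0 b := fun a b => by
    rw [e2, e2, e2, hf, Subgroup.coe_mul, map_mul, ← mulVec_mulVec, mulVec_sub, mulVec_sub]; abel
  have z1 : f0 1 = 0 := by
    have := hf0 1 1
    rw [mul_one, Subgroup.coe_one, map_one, one_mulVec] at this
    exact left_eq_add.1 this
  have za : f0 ⟨_, ha⟩ = 0 := by
    rw [e2, e1]; funext j; simp [CharTwo.sub_eq_add, CharTwo.add_self_eq_zero]
  obtain ⟨u, hu, eu⟩ := sj (f0 ⟨_, hb⟩)
  have x0 : vecC 2 (Nat.cast : ℕ → ZMod 2) n 0 = 0 := by funext j; simp [vecC, dg_zero]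
  have ew : ∀ w : List ℕ, (∀ l ∈ w, l ≤ 1) → ∃ h : wp g w ∈ commutator H, evc (lk Net.nil nl 0) (lk Net.nil nl 1) u w < 2 ^ n ∧
      f0 ⟨_, h⟩ = vecC 2 Nat.cast n (evc (lk Net.nil nl 0) (lk Net.nil nl 1) u w) := fun w => by
    induction w with
    | nil => exact fun _ => ⟨one_mem _, Nat.two_pow_pos n, z1.trans x0.symm⟩
    | cons l w ih =>
      intro hw
      obtain ⟨h, a1, a2⟩ := ih fun l hl => hw l (List.mem_cons_of_mem _ hl)
      rcases (by have := hw l List.mem_cons_self; omega : l = 0 ∨ l = 1) with rfl | rfl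
      · have e : evc (lk Net.nil nl 0) (lk Net.nil nl 1) u (0 :: w) = (lk Net.nil nl 0).fnc (evc (lk Net.nil nl 0) (lk Net.nil nl 1) u w) :=
          evc_cons _ _ _ _ _
        refine ⟨mul_mem ha h, e ▸ (st 0 _ a1).1, (hf0 ⟨_, ha⟩ ⟨_, h⟩).trans ?_⟩
        rw [za, zero_add, a2, e, (st 0 _ a1).2]
      · have e : evc (lk Net.nil nl 0) (lk Net.nil nl 1) u (1 :: w) = u ^^^ (lk Net.nil nl 1).fnc (evc (lk Net.nil nl 0) (lk Net.nil nl 1) u w) :=
          evc_cons _ _ _ _ _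
        refine ⟨mul_mem hb h, e ▸ Nat.xor_lt_two_pow hu (st 1 _ a1).1, (hf0 ⟨_, hb⟩ ⟨_, h⟩).trans ?_⟩
        rw [← eu, a2, e, (st 1 _ a1).2, vecC_xor]
  have zb : f0 ⟨_, hb⟩ = 0 := by
    rcases h7 u hu with rfl | ⟨w, hw, a⟩
    · exact eu.symm.trans x0
    · obtain ⟨h, a1, a2⟩ := ew w (h5.2.2 w hw).2
      have : (⟨_, h⟩ : commutator H) = 1 := Subtype.ext (hg.one (h5.2.2 w hw).1)
      rw [this, z1, ← x0] at a2
      have := m.inj _ (Nat.two_pow_pos n) _ a1 a2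
      omega
  let S : Subgroup (commutator H) :=
    { carrier := {a | f0 a = 0}
      one_mem' := z1
      mul_mem' := fun {a b} h h' => by
        show f0 _ = 0
        rw [hf0, show f0 a = 0 from h, show f0 b = 0 from h', mulVec_zero, add_zero]
      inv_mem' := fun {a} h => by
        have := hf0 a⁻¹ a
        rw [inv_mul_cancel, z1, show f0 a = 0 from h, mulVec_zero, add_zero] at this
        exact this.symm }
  obtain ⟨kl, a1, a2⟩ := defOk_spec hg.eqv (S := S.map (commutator H).subtype) dl _ h4 (cl_lw_le.2 fun l hl => by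
    rcases List.mem_pair.1 hl with rfl | rfl
    exacts [⟨⟨_, ha⟩, za, rfl⟩, ⟨⟨_, hb⟩, zb, rfl⟩])
  intro a
  obtain ⟨b, hb, e⟩ := a1 (comm_le hc (lb_of m h3.2 a2) a.2)
  rw [← sub_eq_zero, ← e2, ← show b = a from Subtype.ext e]
  exact hb

theorem wrap {ι : Type} [Fintype ι] [DecidableEq ι] {n : ℕ} (I : Ix ι n) {Q : (ι → ZMod 2) → ZMod 2} {U : List ℕ}
    {ml inv : List (List ℕ)} {nl : List Net} {L : Lev} {k r : ℕ} {dl : List (ℕ × List ℕ)} {R : List (List ℕ)} {pre : List ℕ}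
    (hQ : ∀ v, Q v = v ⬝ᵥ (toMat I (cdP 2).q Nat.cast U *ᵥ v)) (hc : Nat.card (isometryGroup (ZMod 2) Q) = 2 * L.ord)
    (h1 : band (lall (fun X => Nat.ble (llen X) n) ml)
      (lall2 (fun X Y => band ((cdP 2).invC n X Y) ((cdP 2).quadC n U X)) ml inv) = true)
    (h2 : band (nall (fun i => Nat.beq (mkrow 2 (dg 2 i) n 0) i) (2 ^ n)) (band (lall2 (vecChk (cdP 2) n (2 ^ n)) ml nl)
      (band (Nat.beq (llen ml) (llen nl)) (vecChk (cdP 2) n (2 ^ n) (idm 2 n) Net.nil))) = true)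
    (h3 : band (Nat.ble 1 L.ord) (L.chk (2 ^ n) k (lk Net.nil nl) vT r) = true)
    (h4 : defOk ((cdP 2).eqv n (lk (idm 2 n) ml)) (fun kl => wsok (tb (mkM kl)) L.ws) dl [0, 1] = true)
    (h5 : band ((cdP 2).eqv n (lk (idm 2 n) ml) [0, 3, 2] [2, 3]) (band ((cdP 2).eqv n (lk (idm 2 n) ml) [1, 5, 4] [4, 5])
      (lall (fun w => band ((cdP 2).one n (lk (idm 2 n) ml) w) (lall (fun l => Nat.ble l 1) w)) R)) = true)
    (h6 : nall (fun i => band (Nat.ble (Nat.succ (lk 0 pre i)) (2 ^ n))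
      (Nat.beq (Nat.xor ((lk Net.nil nl 0).fnc (lk 0 pre i)) (lk 0 pre i)) i)) (2 ^ n) = true)
    (h7 : nall (fun u => bor (Nat.beq u 0) (lany (fun w => Nat.ble 1 (evc (lk Net.nil nl 0) (lk Net.nil nl 1) u w)) R)) (2 ^ n) = true)
    (f : Omega (ZMod 2) Q → ι → ZMod 2)
    (hf : ∀ a b, f (a * b) = f a + ((a.1 : GL ι (ZMod 2)) : Matrix ι ι (ZMod 2)) *ᵥ f b) :
    ∃ v, ∀ a, f a = ((a.1 : GL ι (ZMod 2)) : Matrix ι ι (ZMod 2)) *ᵥ v - v := by
  obtain ⟨g, hg⟩ := mrep_O (semP (F := ZMod 2) 2 (by norm_num)) I hQ h1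
  have hg' : MRep (ixFin n) (cdP 2) Nat.cast ((reindexRingEquiv (ZMod 2) I.e).toMonoidHom.comp
      ((Units.coeHom _).comp (isometryGroup (ZMod 2) Q).subtype)) g (lk (idm 2 n) ml) :=
    ⟨hg.1, (reindexRingEquiv (ZMod 2) I.e).injective.comp hg.2.1, fun l => ⟨(hg.2.2 l).1, by
      show reindex I.e I.e (((Units.coeHom _).comp (isometryGroup (ZMod 2) Q).subtype) (g l)) = _
      rw [(hg.2.2 l).2]; ext i j; simp [toMat, Ix.ix, ixFin]; rfl⟩⟩
  obtain ⟨v, hv⟩ := core hg' hc h2 h3 h4 h5 h6 h7 (fun a => f a ∘ I.e.symm) fun a b => by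
    show _ = _ + submatrix _ I.e.symm I.e.symm *ᵥ _
    rw [hf, submatrix_mulVec_equiv]
    funext i; simp [Function.comp_assoc]
  refine ⟨v ∘ I.e, fun a => funext fun i => ?_⟩
  have : f a (I.e.symm (I.e i)) = (submatrix ((a.1 : GL ι (ZMod 2)) : Matrix ι ι (ZMod 2)) I.e.symm I.e.symm *ᵥ v - v) (I.e i) :=
    congrFun (hv a) (I.e i)
  rw [submatrix_mulVec_equiv] at this
  simpa using this

noncomputable def nlA : List Net := [(Net.cons (nat_lit 8) (nat_lit 204)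
  (Net.cons (nat_lit 4) (nat_lit 780)
  (Net.cons (nat_lit 2) (nat_lit 4626)
  (Net.cons (nat_lit 1) (nat_lit 1360)
  (Net.cons (nat_lit 4) (nat_lit 3084)
  Net.nil))))),
 (Net.cons (nat_lit 8) (nat_lit 90)
  (Net.cons (nat_lit 2) (nat_lit 12336)
  (Net.cons (nat_lit 1) (nat_lit 17476)
  (Net.cons (nat_lit 2) (nat_lit 8738)
  Net.nil)))),
 (Net.cons (nat_lit 8) (nat_lit 204)
  (Net.cons (nat_lit 1) (nat_lit 5140)
  Net.nil)),
 (Net.cons (nat_lit 8) (nat_lit 90)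
  (Net.cons (nat_lit 4) (nat_lit 1290)
  (Net.cons (nat_lit 2) (nat_lit 12336)
  (Net.cons (nat_lit 1) (nat_lit 17476)
  (Net.cons (nat_lit 2) (nat_lit 8738)
  Net.nil))))),
 (Net.cons (nat_lit 8) (nat_lit 170)
  (Net.cons (nat_lit 2) (nat_lit 4626)
  (Net.cons (nat_lit 1) (nat_lit 4420)
  (Net.cons (nat_lit 4) (nat_lit 3084)
  Net.nil)))),
 (Net.cons (nat_lit 8) (nat_lit 204)
  (Net.cons (nat_lit 1) (nat_lit 5140)
  Net.nil))]
def LA : Lev := (Lev.cons 1 5 [[1,1,0]]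
  (Lev.cons 2 4 [[0,0,0,1]]
  (Lev.cons 4 3 [[1,0,0,0]]
  Lev.nil)))
noncomputable def nlB : List Net := [(Net.cons (nat_lit 32) (nat_lit 0x3c3c3c3c)
  (Net.cons (nat_lit 16) (nat_lit 0x3c3c00003c3c)
  (Net.cons (nat_lit 8) (nat_lit 0x66006600660066)
  (Net.cons (nat_lit 4) (nat_lit 0x606090909090606)
  (Net.cons (nat_lit 2) (nat_lit 0x3300330033003300)
  (Net.cons (nat_lit 1) (nat_lit 0x5555000055550000)
  (Net.cons (nat_lit 8) (nat_lit 0xcc00cc00cc00cc)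
  (Net.cons (nat_lit 16) (nat_lit 0xf0f00000f0f0)
  Net.nil)))))))),
 (Net.cons (nat_lit 16) (nat_lit 0x33330000cccc)
  (Net.cons (nat_lit 8) (nat_lit 0xc300c3003c003c)
  (Net.cons (nat_lit 4) (nat_lit 0xc0c0c0c0c0c0c0c)
  (Net.cons (nat_lit 2) (nat_lit 0x2112211221122112)
  (Net.cons (nat_lit 4) (nat_lit 0xc0c0c0c0c0c0c0c)
  (Net.cons (nat_lit 8) (nat_lit 0xf000f000f000f0)
  Net.nil)))))),
 (Net.cons (nat_lit 32) (nat_lit 0xff00ff00)
  (Net.cons (nat_lit 16) (nat_lit 0x55550000aaaa)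
  (Net.cons (nat_lit 8) (nat_lit 0xcc0033003300cc)
  (Net.cons (nat_lit 4) (nat_lit 0xf000f0f000f00)
  (Net.cons (nat_lit 2) (nat_lit 0x1212212121211212)
  (Net.cons (nat_lit 1) (nat_lit 0x4114411441144114)
  (Net.cons (nat_lit 2) (nat_lit 0x2222222222222222)
  (Net.cons (nat_lit 4) (nat_lit 0xc0c0c0c0c0c0c0c)
  (Net.cons (nat_lit 8) (nat_lit 0xf000f000f000f0)
  Net.nil))))))))),
 (Net.cons (nat_lit 32) (nat_lit 0xff00ff00)
  (Net.cons (nat_lit 16) (nat_lit 0xf0f0000f0f0)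
  (Net.cons (nat_lit 8) (nat_lit 0xf000f000f000f0)
  (Net.cons (nat_lit 2) (nat_lit 0x330300330030330)
  (Net.cons (nat_lit 1) (nat_lit 0x4411441111441144)
  (Net.cons (nat_lit 32) (nat_lit 0xffff0000)
  Net.nil)))))),
 (Net.cons (nat_lit 32) (nat_lit 0x96696996)
  (Net.cons (nat_lit 16) (nat_lit 0xc3c300003c3c)
  (Net.cons (nat_lit 8) (nat_lit 0x66009900990066)
  (Net.cons (nat_lit 4) (nat_lit 0x30c030c030c030c)
  (Net.cons (nat_lit 2) (nat_lit 0x2222222222222222)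
  (Net.cons (nat_lit 1) (nat_lit 0x1441411414414114)
  (Net.cons (nat_lit 2) (nat_lit 0x2222222222222222)
  (Net.cons (nat_lit 8) (nat_lit 0xf000f000f000f0)
  (Net.cons (nat_lit 16) (nat_lit 0xf0f00000f0f0)
  Net.nil))))))))),
 (Net.cons (nat_lit 32) (nat_lit 0x96696996)
  (Net.cons (nat_lit 16) (nat_lit 0xff000000ff0)
  (Net.cons (nat_lit 8) (nat_lit 0x5a00a500a5005a)
  (Net.cons (nat_lit 4) (nat_lit 0x609090606090906)
  (Net.cons (nat_lit 2) (nat_lit 0x303303003033030)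
  (Net.cons (nat_lit 1) (nat_lit 0x5500005500555500)
  (Net.cons (nat_lit 8) (nat_lit 0xf000f000f000f0)
  (Net.cons (nat_lit 16) (nat_lit 0xff000000ff00)
  Net.nil))))))))]
def LB : Lev := (Lev.cons 1 27 [[1,0,1,0,1,1,0,0,0,1,0,1,0,1,0,0,0,0,0]]
  (Lev.cons 2 10 [[0,1]]
  (Lev.cons 4 8 [[1,0,1,0,0,0,0,0,1,1]]
  (Lev.cons 8 4 [[0,1,1,0,0,1,0,0,0,1,0,1,0,0,0,0,0]]
  (Lev.cons 16 3 [[1,1,0,0,1,0,1,0,1,1,0,0,1,1]]
  Lev.nil)))))
noncomputable def nlC : List Net := [(Net.cons (nat_lit 128) (nat_lit 0xcccc3333cccc33333333cccc3333cccc)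
  (Net.cons (nat_lit 64) (nat_lit 0xffffffffffffffff00000000000000000000000000000000)
  (Net.cons (nat_lit 32) (nat_lit 0xffff000000000000ffff000000000000ffff000000000000ffff0000)
  (Net.cons (nat_lit 16) (nat_lit 0xc3c30000c3c300003c3c00003c3c0000c3c30000c3c300003c3c00003c3c)
  (Net.cons (nat_lit 8) (nat_lit 0x99006600990066006600990066009900660099006600990099006600990066)
  (Net.cons (nat_lit 4) (nat_lit 0xa050a050a050a050a050a050a050a05050a050a050a050a050a050a050a050a)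
  (Net.cons (nat_lit 2) (nat_lit 0x2222222211111111111111112222222222222222111111111111111122222222)
  (Net.cons (nat_lit 1) (nat_lit 0x1441411414414114144141141441411414414114144141141441411414414114)
  (Net.cons (nat_lit 4) (nat_lit 0xa0a0a0a0a0a0a0a0a0a0a0a0a0a0a0a0a0a0a0a0a0a0a0a0a0a0a0a0a0a0a0a)
  (Net.cons (nat_lit 16) (nat_lit 0xff000000ff000000ff000000ff000000ff000000ff000000ff000000ff00)
  (Net.cons (nat_lit 32) (nat_lit 0xf0f0f0f000000000f0f0f0f000000000f0f0f0f000000000f0f0f0f0)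
  (Net.cons (nat_lit 128) (nat_lit 0xffffffffffffffff0000000000000000)
  Net.nil)))))))))))),
 (Net.cons (nat_lit 128) (nat_lit 0x99996666666699996666999999996666)
  (Net.cons (nat_lit 64) (nat_lit 0xaa55aa55aa55aa55000000000000000055aa55aa55aa55aa)
  (Net.cons (nat_lit 32) (nat_lit 0x69699696000000009696696900000000969669690000000069699696)
  (Net.cons (nat_lit 16) (nat_lit 0x3c3c0000c3c30000c3c300003c3c00003c3c0000c3c30000c3c300003c3c)
  (Net.cons (nat_lit 8) (nat_lit 0x3c003c003c003c003c003c003c003c003c003c003c003c003c003c003c003c)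
  (Net.cons (nat_lit 4) (nat_lit 0xf000f00000f000f000f000f0f000f000f000f00000f000f000f000f0f000f00)
  (Net.cons (nat_lit 2) (nat_lit 0x1212212121211212121221212121121212122121212112121212212121211212)
  (Net.cons (nat_lit 1) (nat_lit 0x1414141414141414141414141414141414141414141414141414141414141414)
  (Net.cons (nat_lit 16) (nat_lit 0xcccc0000cccc0000cccc0000cccc0000cccc0000cccc0000cccc0000cccc)
  (Net.cons (nat_lit 32) (nat_lit 0xf0f0f0f000000000f0f0f0f000000000f0f0f0f000000000f0f0f0f0)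
  (Net.cons (nat_lit 128) (nat_lit 0xffffffffffffffff0000000000000000)
  Net.nil))))))))))),
 (Net.cons (nat_lit 64) (nat_lit 0x3c3c3c3cc3c3c3c30000000000000000c3c3c3c33c3c3c3c)
  (Net.cons (nat_lit 32) (nat_lit 0xf0f0f0f00000000f0f0f0f0000000000f0f0f0f00000000f0f0f0f0)
  (Net.cons (nat_lit 16) (nat_lit 0xffff000000000000ffff000000000000ffff000000000000ffff00000000)
  (Net.cons (nat_lit 8) (nat_lit 0xf00f000f0000f00f0000f000f00f0000f00f000f0000f00f0000f000f00f0)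
  (Net.cons (nat_lit 4) (nat_lit 0x50a050a050a050a050a050a050a050a050a050a050a050a050a050a050a050a)
  (Net.cons (nat_lit 2) (nat_lit 0x3003300330033003300330033003300303300330033003300330033003300330)
  (Net.cons (nat_lit 1) (nat_lit 0x1111111111111111111111111111111144444444444444444444444444444444)
  (Net.cons (nat_lit 4) (nat_lit 0xc0c0c0c0c0c0c0c0c0c0c0c0c0c0c0c0c0c0c0c0c0c0c0c0c0c0c0c0c0c0c0c)
  (Net.cons (nat_lit 32) (nat_lit 0xffff000000000000ffff000000000000ffff000000000000ffff0000)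
  (Net.cons (nat_lit 128) (nat_lit 0xffffffffffffffff0000000000000000)
  Net.nil)))))))))),
 (Net.cons (nat_lit 128) (nat_lit 0xffffffffffffffff00000000)
  (Net.cons (nat_lit 64) (nat_lit 0xaaaaaaaa55555555000000000000000055555555aaaaaaaa)
  (Net.cons (nat_lit 32) (nat_lit 0xffff000000000000ffff00000000ffff000000000000ffff0000)
  (Net.cons (nat_lit 16) (nat_lit 0x33cc000033cc000033cc000033cc000033cc000033cc000033cc000033cc)
  (Net.cons (nat_lit 8) (nat_lit 0x66006600660066006600660066006600660066006600660066006600660066)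
  (Net.cons (nat_lit 4) (nat_lit 0x909090906060606090909090606060609090909060606060909090906060606)
  (Net.cons (nat_lit 2) (nat_lit 0x1221211221121221211212211221211212212112211212212112122112212112)
  (Net.cons (nat_lit 1) (nat_lit 0x4141141414144141141441414141141441411414141441411414414141411414)
  (Net.cons (nat_lit 2) (nat_lit 0x2222222222222222222222222222222222222222222222222222222222222222)
  (Net.cons (nat_lit 8) (nat_lit 0xaa00aa00aa00aa00aa00aa00aa00aa00aa00aa00aa00aa00aa00aa00aa00aa)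
  (Net.cons (nat_lit 16) (nat_lit 0xcccc0000cccc0000cccc0000cccc0000cccc0000cccc0000cccc0000cccc)
  (Net.cons (nat_lit 32) (nat_lit 0xf0f0f0f000000000f0f0f0f000000000f0f0f0f000000000f0f0f0f0)
  (Net.cons (nat_lit 64) (nat_lit 0xffff0000ffff00000000000000000000ffff0000ffff0000)
  (Net.cons (nat_lit 128) (nat_lit 0xffff0000ffff0000ffff0000ffff0000)
  Net.nil)))))))))))))),
 (Net.cons (nat_lit 128) (nat_lit 0x66666666666666666666666666666666)
  (Net.cons (nat_lit 64) (nat_lit 0x33cccc3333cccc330000000000000000cc3333cccc3333cc)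
  (Net.cons (nat_lit 32) (nat_lit 0xaa55aa550000000055aa55aa00000000aa55aa550000000055aa55aa)
  (Net.cons (nat_lit 16) (nat_lit 0xcc33000033cc0000cc33000033cc0000cc33000033cc0000cc33000033cc)
  (Net.cons (nat_lit 8) (nat_lit 0xf000f00f000f0000f000f00f000f0000f000f00f000f0000f000f00f000f0)
  (Net.cons (nat_lit 4) (nat_lit 0x30303030c0c0c0c030303030c0c0c0c030303030c0c0c0c030303030c0c0c0c)
  (Net.cons (nat_lit 2) (nat_lit 0x2211221111221122221122111122112222112211112211222211221111221122)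
  (Net.cons (nat_lit 1) (nat_lit 0x4141414114141414141414144141414114141414414141414141414114141414)
  (Net.cons (nat_lit 2) (nat_lit 0x2222222222222222222222222222222222222222222222222222222222222222)
  (Net.cons (nat_lit 32) (nat_lit 0xffff000000000000ffff000000000000ffff000000000000ffff0000)
  (Net.cons (nat_lit 64) (nat_lit 0xffff0000ffff00000000000000000000ffff0000ffff0000)
  (Net.cons (nat_lit 128) (nat_lit 0xffff0000ffff0000ffff0000ffff0000)
  Net.nil)))))))))))),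
 (Net.cons (nat_lit 128) (nat_lit 0xaa5555aa55aaaa5555aaaa55aa5555aa)
  (Net.cons (nat_lit 64) (nat_lit 0x3cc33cc3c33cc33c00000000000000003cc33cc3c33cc33c)
  (Net.cons (nat_lit 32) (nat_lit 0x96966969000000009696696900000000696996960000000069699696)
  (Net.cons (nat_lit 16) (nat_lit 0xc33c00003cc30000c33c00003cc300003cc30000c33c00003cc30000c33c)
  (Net.cons (nat_lit 8) (nat_lit 0x69006900690069009600960096009600690069006900690096009600960096)
  (Net.cons (nat_lit 4) (nat_lit 0x606090906060909090906060909060606060909060609090909060609090606)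
  (Net.cons (nat_lit 2) (nat_lit 0x2112122112212112122121122112122112212112211212212112122112212112)
  (Net.cons (nat_lit 1) (nat_lit 0x4444444411111111111111114444444444444444111111111111111144444444)
  (Net.cons (nat_lit 4) (nat_lit 0xc0c0c0c0c0c0c0c0c0c0c0c0c0c0c0c0c0c0c0c0c0c0c0c0c0c0c0c0c0c0c0c)
  (Net.cons (nat_lit 16) (nat_lit 0xf0f00000f0f00000f0f00000f0f00000f0f00000f0f00000f0f00000f0f0)
  (Net.cons (nat_lit 32) (nat_lit 0xffff000000000000ffff000000000000ffff000000000000ffff0000)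
  (Net.cons (nat_lit 64) (nat_lit 0xff00ff00ff00ff000000000000000000ff00ff00ff00ff00)
  Net.nil)))))))))))),
 (Net.cons (nat_lit 128) (nat_lit 0x3333cccc3333cccc3333cccc3333cccc)
  (Net.cons (nat_lit 64) (nat_lit 0xffffffffffffffff00000000000000000000000000000000)
  (Net.cons (nat_lit 32) (nat_lit 0xffff0000000000ff0000ff00000000ff0000ff0000000000ffff00)
  (Net.cons (nat_lit 8) (nat_lit 0x3c00c3003c00c300c3003c00c3003c003c00c3003c00c300c3003c00c3003c)
  (Net.cons (nat_lit 4) (nat_lit 0xc0c03030c0c03030c0c03030c0c030303030c0c03030c0c03030c0c03030c0c)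
  (Net.cons (nat_lit 2) (nat_lit 0x3030303030303030303030303030303030303030303030303030303030303030)
  (Net.cons (nat_lit 1) (nat_lit 0x1144114411441144114411441144114411441144114411441144114411441144)
  (Net.cons (nat_lit 64) (nat_lit 0xffffffff000000000000000000000000ffffffff00000000)
  Net.nil)))))))),
 (Net.cons (nat_lit 128) (nat_lit 0x33cccc33cc3333cc33cccc33cc3333cc)
  (Net.cons (nat_lit 64) (nat_lit 0x3c3c3c3cc3c3c3c30000000000000000c3c3c3c33c3c3c3c)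
  (Net.cons (nat_lit 32) (nat_lit 0xff00ff0000000000ff00ff0000000000ff00ff0000000000ff00ff0)
  (Net.cons (nat_lit 8) (nat_lit 0xf000f000f000f000f000f000f000f000f000f000f000f000f000f000f000f0)
  (Net.cons (nat_lit 4) (nat_lit 0xf0f0f0f000000000f0f0f0f000000000f0f0f0f000000000f0f0f0f0000)
  (Net.cons (nat_lit 2) (nat_lit 0x33003300330033330033003300330000330033003300333300330033003300)
  (Net.cons (nat_lit 1) (nat_lit 0x5005055005505005055050055005055050050550055050050550500550050550)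
  Net.nil))))))),
 (Net.cons (nat_lit 64) (nat_lit 0x3cc33cc33cc33cc30000000000000000c33cc33cc33cc33c)
  (Net.cons (nat_lit 32) (nat_lit 0x3c3c3c3c00000000c3c3c3c300000000c3c3c3c3000000003c3c3c3c)
  (Net.cons (nat_lit 8) (nat_lit 0xff00ff00ff00ff000000000000000000ff00ff00ff00ff00000000)
  (Net.cons (nat_lit 4) (nat_lit 0xf0f0f0f000000000f0f0f0f0f0f0f0f000000000f0f0f0f00000000)
  (Net.cons (nat_lit 2) (nat_lit 0x330033030033003300330030330033003300330300330033003300303300330)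
  (Net.cons (nat_lit 8) (nat_lit 0xcc00cc00cc00cc00cc00cc00cc00cc00cc00cc00cc00cc00cc00cc00cc00cc)
  (Net.cons (nat_lit 32) (nat_lit 0xf0f0f0f000000000f0f0f0f000000000f0f0f0f000000000f0f0f0f0)
  (Net.cons (nat_lit 64) (nat_lit 0xff00ff00ff00ff000000000000000000ff00ff00ff00ff00)
  (Net.cons (nat_lit 128) (nat_lit 0xffffffffffffffff0000000000000000)
  Net.nil))))))))),
 (Net.cons (nat_lit 128) (nat_lit 0x33cc33cccc33cc33cc33cc3333cc33cc)
  (Net.cons (nat_lit 64) (nat_lit 0xffffffffffffffff00000000000000000000000000000000)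
  (Net.cons (nat_lit 32) (nat_lit 0xff00ff000000000000ff00ff0000000000ff00ff00000000ff00ff00)
  (Net.cons (nat_lit 8) (nat_lit 0x3c003c003c003c003c003c003c003c003c003c003c003c003c003c003c003c)
  (Net.cons (nat_lit 4) (nat_lit 0xc0c0c0c0c0c0c0c0c0c0c0c0c0c0c0c0c0c0c0c0c0c0c0c0c0c0c0c0c0c0c0c)
  (Net.cons (nat_lit 2) (nat_lit 0x3300330033003300330033003300330033003300330033003300330033003300)
  (Net.cons (nat_lit 64) (nat_lit 0xffffffff000000000000000000000000ffffffff00000000)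
  Net.nil)))))))]
def LC : Lev := (Lev.cons 1 135 [[0],[1]]
  (Lev.cons 16 64 [[6],[7]]
  (Lev.cons 2 35 [[8,9,8,9,9,8,8,9,9]]
  (Lev.cons 4 18 [[8,9,8,8,9,8,9,8,9,8,8,9,8,9]]
  (Lev.cons 32 8 [[9,8,9,8,8,8,8,9,9,8,8,9,8,9,8,8,9],[9,8,9,9,8,9]]
  (Lev.cons 8 2 [[8,9,9,9,8,9,9,9]]
  (Lev.cons 64 2 [[8,9,9,8,8,9,9,9,8,8,8,9,9,8]]
  Lev.nil)))))))

end

/-- Vanishing of first cohomology on the natural module for three small orthogonal groups over the field with two elements: for the commutator subgroup of the isometry group of the elliptic quadratic form in dimension 4, of the elliptic form in dimension 6, and of the hyperbolic form in dimension 8, every crossed homomorphism into the natural module (a map f with f(gh) = f(g) + g·f(h)) is principal (of the form g ↦ g·v − v). -/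
theorem result : (∀ f : ↥(Cfsg.Omega (ZMod 2) (Cfsg.quadFormMinus 1 (ZMod 2) 1 1)) → ((Fin 1 ⊕ Fin 1) ⊕ Fin 2 → ZMod 2), (∀ g h : ↥(Cfsg.Omega (ZMod 2) (Cfsg.quadFormMinus 1 (ZMod 2) 1 1)), f (g * h) = f g + Matrix.mulVec (((g : ↥(Cfsg.isometryGroup (ZMod 2) (Cfsg.quadFormMinus 1 (ZMod 2) 1 1))) : GL ((Fin 1 ⊕ Fin 1) ⊕ Fin 2) (ZMod 2)) : Matrix ((Fin 1 ⊕ Fin 1) ⊕ Fin 2) ((Fin 1 ⊕ Fin 1) ⊕ Fin 2) (ZMod 2)) (f h)) → ∃ v : (Fin 1 ⊕ Fin 1) ⊕ Fin 2 → ZMod 2, ∀ g : ↥(Cfsg.Omega (ZMod 2) (Cfsg.quadFormMinus 1 (ZMod 2) 1 1)), f g = Matrix.mulVec (((g : ↥(Cfsg.isometryGroup (ZMod 2) (Cfsg.quadFormMinus 1 (ZMod 2) 1 1))) : GL ((Fin 1 ⊕ Fin 1) ⊕ Fin 2) (ZMod 2)) : Matrix ((Fin 1 ⊕ Fin 1) ⊕ Fin 2) ((Fin 1 ⊕ Fin 1) ⊕ Fin 2) (ZMod 2)) v - v) ∧ (∀ f : ↥(Cfsg.Omega (ZMod 2) (Cfsg.quadFormMinus 2 (ZMod 2) 1 1)) → ((Fin 2 ⊕ Fin 2) ⊕ Fin 2 → ZMod 2), (∀ g h : ↥(Cfsg.Omega (ZMod 2) (Cfsg.quadFormMinus 2 (ZMod 2) 1 1)), f (g *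 h) = f g + Matrix.mulVec (((g : ↥(Cfsg.isometryGroup (ZMod 2) (Cfsg.quadFormMinus 2 (ZMod 2) 1 1))) : GL ((Fin 2 ⊕ Fin 2) ⊕ Fin 2) (ZMod 2)) : Matrix ((Fin 2 ⊕ Fin 2) ⊕ Fin 2) ((Fin 2 ⊕ Fin 2) ⊕ Fin 2) (ZMod 2)) (f h)) → ∃ v : (Fin 2 ⊕ Fin 2) ⊕ Fin 2 → ZMod 2, ∀ g : ↥(Cfsg.Omega (ZMod 2) (Cfsg.quadFormMinus 2 (ZMod 2) 1 1)), f g = Matrix.mulVec (((g : ↥(Cfsg.isometryGroup (ZMod 2) (Cfsg.quadFormMinus 2 (ZMod 2) 1 1))) : GL ((Fin 2 ⊕ Fin 2) ⊕ Fin 2) (ZMod 2)) : Matrix ((Fin 2 ⊕ Fin 2) ⊕ Fin 2) ((Fin 2 ⊕ Fin 2) ⊕ Fin 2) (ZMod 2)) v - v) ∧ (∀ f : ↥(Cfsg.Omega (ZMod 2) (Cfsg.quadFormPlus 4 (ZMod 2))) → (Fin 4 ⊕ Fin 4 → ZMod 2), (∀ g h : ↥(Cfsg.Omega (ZMod 2) (Cfsg.quadFormPlus 4 (ZMod 2))), f (g * h) = f g + Matrix.mulVec (((g : ↥(Cfsg.isometryGroup (ZMod 2) (Cfsg.quadFormPlus 4 (ZMod 2)))) : GL (Fin 4 ⊕ Fin 4) (ZMod 2)) : Matrix (Fin 4 ⊕ Fin 4) (Fin 4 ⊕ Fin 4) (ZMod 2)) (f h)) → ∃ v : Fin 4 ⊕ Fin 4 → ZMod 2, ∀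 g : ↥(Cfsg.Omega (ZMod 2) (Cfsg.quadFormPlus 4 (ZMod 2))), f g = Matrix.mulVec (((g : ↥(Cfsg.isometryGroup (ZMod 2) (Cfsg.quadFormPlus 4 (ZMod 2)))) : GL (Fin 4 ⊕ Fin 4) (ZMod 2)) : Matrix (Fin 4 ⊕ Fin 4) (Fin 4 ⊕ Fin 4) (ZMod 2)) v - v) := by
  open Finset Pointwise Cfsg.Agent.St Cfsg.Agent.H6 in focus
    have hs := semP (F := ZMod 2) 2 (by norm_num)
    refine ⟨wrap (ixMin 1) (U := [2,0,12,8]) (ml := [[15,11,5,3],[2,7,4,14],[7,2,4,10],[2,7,14,4],[11,15,6,3],[7,2,4,10]]) (inv := [[7,15,3,10],[7,1,4,13],[7,2,4,10],[11,1,8,13],[15,7,3,9],[7,2,4,10]]) (nl := nlA) (L := LA) (k := 1) (r := 60) (dl := []) (R := [[1,1,1],[0,1,1,0,1,1]]) (pre := [0,4,10,14,13,9,7,3,6,2,12,8,11,15,1,5]) (hQ_min hs (a := 1) (b := 1) (by decide +kernel)) ((S0288.result (ZMod.card 2) 2 (by norm_num) 1 1 (by decide)).trans (by decide +kernel)) (by decide +kernel) (by decide +kernel) (by decide +kernel) (by decide +kernel) (by decide +kernel)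 (by decide +kernel) (by decide +kernel),
      wrap (ixMin 2) (U := [4,8,0,0,48,32]) (ml := [[21,8,45,23,49,5],[1,9,15,42,57,32],[8,61,42,1,56,33],[59,46,4,12,36,60],[30,29,21,59,60,49],[53,30,59,58,25,19]]) (inv := [[23,9,55,2,33,38],[1,43,45,3,50,32],[8,45,26,1,57,40],[59,30,4,12,60,20],[45,46,27,6,50,63],[12,43,53,27,7,63]]) (nl := nlB) (L := LB) (k := 3) (r := 60) (dl := []) (R := [[1,1,1],[0,1,0,1,0,1,0,1,0,1]]) (pre := [0,49,35,18,10,59,41,24,33,16,2,51,43,26,8,57,62,15,29,44,52,5,23,38,31,46,60,13,21,36,54,7,20,37,55,6,30,47,61,12,53,4,22,39,63,14,28,45,42,27,9,56,32,17,3,50,11,58,40,25,1,48,34,19]) (hQ_min hs (a := 1) (b := 1) (by decide +kernel)) ((S0288.result (ZMod.card 2) 3 (by norm_num) 1 1 (by decide)).trans (by decide +kernel)) (by decide +kernel) (by decide +kernel) (by decide +kernel) (by decide +kernel) (by decide +kernel) (by decide +kernel) (by decide +kernel),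
      wrap (ixSum 4) (U := [16,32,64,128,0,0,0,0]) (ml := [[22,112,219,246,243,215,128,195],[7,55,104,87,41,213,208,220],[195,204,205,165,32,189,60,192],[96,8,72,97,123,207,111,48],[246,205,249,193,44,87,224,171],[123,155,186,26,159,117,6,13],[11,6,146,236,16,60,224,150],[125,74,52,60,16,40,150,206],[1,96,224,102,16,44,110,192],[1,10,14,12,16,204,224,170]]) (inv := [[243,161,235,207,75,219,146,64],[174,97,206,14,179,176,186,73],[6,135,120,250,210,16,230,102],[9,157,215,2,135,7,6,103],[82,93,246,252,234,26,51,105],[243,82,18,97,59,245,15,249],[75,134,132,204,16,120,170,146],[213,210,56,12,16,44,220,186],[1,230,236,72,16,132,134,6],[1,12,6,14,16,104,194,234]]) (nl := nlC) (L := LC) (k := 5) (r := 60) (dl := [(6,[0,0,0,0,0,1,1]),(7,[0,0,0,1,0,0,0]),(8,[6,6,6,7,6,6,6]),(9,[6,6,7,6,7,6,7])]) (R := [[1,1,1,1],[0,0,1,1,0,0,1,1,0,0,1,1,0,0,1,1,0,0,1,1,0,0,1,1],[0,0,0,0,1,0,0,0,0,1,0,0,0,0,1,0,0,0,0,1,0,0,0,0,1,0,0,0,0,1],[0,1,0,1,1,0,1,0,1,1,0,1,0,1,1,0,1,0,1,1,0,1,0,1,1,0,1,0,1,1]])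 (pre := [0,233,20,253,31,246,11,226,23,254,3,234,8,225,28,245,198,47,210,59,217,48,205,36,209,56,197,44,206,39,218,51,229,12,241,24,250,19,238,7,242,27,230,15,237,4,249,16,35,202,55,222,60,213,40,193,52,221,32,201,43,194,63,214,171,66,191,86,180,93,160,73,188,85,168,65,163,74,183,94,109,132,121,144,114,155,102,143,122,147,110,135,101,140,113,152,78,167,90,179,81,184,69,172,89,176,77,164,70,175,82,187,136,97,156,117,151,126,131,106,159,118,139,98,128,105,148,125,212,61,192,41,203,34,223,54,195,42,215,62,220,53,200,33,18,251,6,239,13,228,25,240,5,236,17,248,26,243,14,231,49,216,37,204,46,199,58,211,38,207,50,219,57,208,45,196,247,30,227,10,232,1,252,21,224,9,244,29,255,22,235,2,127,150,107,130,96,137,116,157,104,129,124,149,119,158,99,138,185,80,173,68,166,79,178,91,174,71,186,83,177,88,165,76,154,115,142,103,133,108,145,120,141,100,153,112,146,123,134,111,92,181,72,161,67,170,87,190,75,162,95,182,84,189,64,169])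 (hQ_plus hs (by decide +kernel)) ((S0287.result (ZMod.card 2) 4 (by norm_num)).trans (by decide +kernel)) (by decide +kernel) (by decide +kernel) (by decide +kernel) (by decide +kernel) (by decide +kernel) (by decide +kernel) (by decide +kernel)⟩

end Cfsg.Agent.S5405
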