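import Cfsg.Statements.S5522
import Cfsg.Agent.GS.Mk2

set_option autoImplicit false
open Cfsg

namespace Cfsg.Agent.S5522

/-- The Mathieu group M₁₁, realised as the stabiliser of one point of the dodecad of squares inside the stabiliser M₁₂ of that dodecad in M₂₄, acts on the twelve coordinate positions outside the dodecad of squares (its 3-transitive action of degree 12); in this action every element of prime order fixes a point, i.e. the action is elusive. -/
theorem result (g : Equiv.Perm Cfsg.GolayPt) (hg : g ∈ Cfsg.Spor.M11) (hord : (orderOf g).Prime) :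
    ∃ x : Cfsg.GolayPt, x ∉ Cfsg.Spor.squareDodecad ∧ g x = x := by
  open Finset Pointwise Cfsg.Agent.St Cfsg.Agent.H6 in focus
    rw [sq_cw]
    have hd : cw 863 ∈ dodecads := cw_mem_dodecads (by decide +kernel)
    have h1 : g ∈ M24 := hg.1.1
    have h2 : (⟨g, h1⟩ : M24) • cw 863 = cw 863 := by have := hg.1.2; rwa [sq_cw] at this
    have h3 : g (some 0) = some 0 := hg.2
    have ho : orderOf (⟨g, h1⟩ : M24) = orderOf g := Subgroup.orderOf_mk _ _
    have hne : (⟨g, h1⟩ : M24) ≠ 1 := fun e => by rw [← ho, e, orderOf_one] at hord; exact Nat.not_prime_one hord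
    by_contra hn
    push Not at hn
    have sub : (univ.filter fun p => g p = p) ⊆ cw 863 := fun p hp => by
      by_contra h; exact hn p h (mem_filter.1 hp).2
    have lt5 : ¬ 5 ≤ (univ.filter fun p => g p = p).card := fun h =>
      hne (eq_one_of_fix_d hd h2 sub h fun x hx => (mem_filter.1 hx).2)
    have pos : 0 < (univ.filter fun p => g p = p).card := card_pos.2 ⟨_, mem_filter.2 ⟨mem_univ _, h3⟩⟩
    by_cases e2 : orderOf g = 2
    · rcases inv_cnt (ho.trans e2) with h | h
      · exact lt5 (le_trans (by norm_num) h.1.ge)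
      · exact pos.ne' h.1
    by_cases e3 : orderOf g = 3
    · rcases three_cnt (ho.trans e3) with h | h
      · exact lt5 (le_trans (by norm_num) h.1.ge)
      · exact pos.ne' h.1
    haveI := Fact.mk hord
    let σ : Equiv.Perm {p // p ∉ cw 863} := g.subtypePerm fun p => by
      rw [← h2, not_iff_not]; nth_rewrite 2 [h2]; exact smul_mem_smul_finset_iff (⟨g, h1⟩ : M24)
    have h4 : σ ^ orderOf g ^ 1 = 1 := by
      ext p; rw [pow_one, Equiv.Perm.subtypePerm_pow]; simp [pow_orderOf_eq_one]
    obtain ⟨p, hp⟩ := Equiv.Perm.exists_fixed_point_of_prime (p := orderOf g) (by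
      rw [Fintype.card_subtype_compl, Fintype.card_coe, card_golayPt, hd.2]
      intro h
      rcases (Nat.Prime.dvd_mul hord).1 (show orderOf g ∣ 2 ^ 2 * 3 from h) with h | h
      · exact e2 ((Nat.prime_dvd_prime_iff_eq hord Nat.prime_two).1 (hord.dvd_of_dvd_pow h))
      · exact e3 ((Nat.prime_dvd_prime_iff_eq hord Nat.prime_three).1 h)) h4
    exact hn p.1 p.2 (congrArg Subtype.val hp)

end Cfsg.Agent.S5522
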