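import Cfsg.Statements.S5600
import Cfsg.Agent.GS.St7

set_option autoImplicit false
open scoped Pointwise
open Cfsg

namespace Cfsg.Agent.S5600

/-- Although the group of the length-24 code is only 5-transitive on the 24 points, it induces the full symmetric group on every 6-element subset: every permutation of a 6-set E is the restriction of an element of the group mapping E to itself. The pointwise stabiliser of E has order 16 when E lies in an octad and order 3 otherwise; in the latter case the setwise stabiliser of E has order 2160. -/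
theorem result (E : Finset Cfsg.GolayPt) (hE : E.card = 6) : (∀ σ : Equiv.Perm ↥E, ∃ g ∈ Cfsg.M24, ∀ p : ↥E, g p = σ p) ∧ ((∃ o ∈ Cfsg.octads, E ⊆ o) → Nat.card {g : Equiv.Perm Cfsg.GolayPt // g ∈ Cfsg.M24 ∧ ∀ p ∈ E, g p = p} = 16) ∧ ((¬ ∃ o ∈ Cfsg.octads, E ⊆ o) → Nat.card {g : Equiv.Perm Cfsg.GolayPt // g ∈ Cfsg.M24 ∧ ∀ p ∈ E, g p = p} = 3 ∧ Nat.card ↥(MulAction.stabilizer Cfsg.M24 E) = 2160) := by
  open Finset Pointwise Cfsg.Agent.St Cfsg.Agent.H6 in focus
    let x0 : Fin 6 ≃ E := (E.equivFinOfCardEq hE).symm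
    have inj : ∀ σ : Equiv.Perm E, Function.Injective fun i => (σ (x0 i) : GolayPt) :=
      fun σ => Subtype.val_injective.comp (σ.injective.comp x0.injective)
    have sub : ∀ (σ : Equiv.Perm E) o, (∀ i, (σ (x0 i) : GolayPt) ∈ o) ↔ E ⊆ o := fun σ o =>
      ⟨fun h a ha => by simpa using h (x0.symm (σ.symm ⟨a, ha⟩)), fun h i => h (σ (x0 i)).2⟩
    have key : ∃ b : Fin 6 → GolayPt, (∀ σ : Equiv.Perm E, ∃ g : M24, ∀ i, g • (σ (x0 i) : GolayPt) = b i) ∧
        ((∃ o ∈ octads, E ⊆ o) → b = b1) ∧ ((¬ ∃ o ∈ octads, E ⊆ o) → b = b2) := by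
      by_cases h : ∃ o ∈ octads, E ⊆ o
      · obtain ⟨o, ho, h⟩ := h
        exact ⟨b1, fun σ => orbit6a (inj σ) ho ((sub σ o).2 h), fun _ => rfl, fun h' => absurd ⟨o, ho, h⟩ h'⟩
      · exact ⟨b2, fun σ => orbit6b (inj σ) (by simpa only [sub] using h), fun h' => absurd h' h, fun _ => rfl⟩
    obtain ⟨b, h1, h2, h3⟩ := key
    have A : ∀ σ : Equiv.Perm E, ∃ g : M24, ∀ p : E, g • (p : GolayPt) = σ p := by
      intro σ
      obtain ⟨g, hg⟩ := h1 1
      obtain ⟨k, hk⟩ := h1 σ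
      refine ⟨k⁻¹ * g, fun p => ?_⟩
      obtain ⟨i, rfl⟩ := x0.surjective p
      rw [mul_smul, inv_smul_eq_iff, hk]; exact hg i
    have B : Nat.card (FixP E) = Nat.card (FixP (univ.image b)) := by
      obtain ⟨g, hg⟩ := h1 1
      rw [← card_Fix_smul g]
      refine congrArg (fun s => Nat.card (FixP s)) ?_
      ext a
      simp only [mem_smul_finset, mem_image, mem_univ, true_and]
      exact ⟨fun ⟨y, hy, e⟩ => ⟨x0.symm ⟨y, hy⟩, by rw [← hg, ← e]; simp⟩, fun ⟨i, e⟩ => ⟨_, (x0 i).2, (hg i).trans e⟩⟩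
    have C : (¬ ∃ o ∈ octads, E ⊆ o) → Nat.card (FixP E) = 3 := fun h => by
      rw [B, h3 h, ← card_P6b]
      congr 2
      ext g
      simp only [mem_Fix, mem_image, mem_univ, true_and, forall_exists_index, forall_apply_eq_imp_iff]
      refine ⟨fun h => ⟨⟨⟨⟨⟨h 0, h 1⟩, h 2⟩, h 3⟩, h 4⟩, h 5⟩, fun ⟨⟨⟨⟨⟨h0, h1⟩, h2⟩, h3⟩, h4⟩, h5⟩ i => ?_⟩
      fin_cases i <;> assumption
    refine ⟨fun σ => (A σ).elim fun g hg => ⟨g, g.2, hg⟩, fun h => ?_, fun h => ⟨by rw [card_Fix_eq, C h], ?_⟩⟩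
    · obtain ⟨o, ho, h⟩ := h
      rw [card_Fix_eq, ← card_Fix_oct ho]
      congr 2
      exact le_antisymm (fun g hg => fix_oct_of_six ho h hE.ge hg) fun g hg p hp => hg p (h hp)
    · obtain ⟨φ, h4, h5⟩ := exists_res E
      have : φ.range = ⊤ := eq_top_iff.2 fun σ _ => by
        obtain ⟨g, hg⟩ := A σ
        have h6 : g • E = E := by
          refine eq_of_subset_of_card_le (fun x hx => ?_) (by rw [card_smul_finset])
          obtain ⟨y, hy, rfl⟩ := mem_smul_finset.1 hx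
          rw [hg ⟨y, hy⟩]; exact (σ _).2
        exact ⟨⟨g, h6⟩, Equiv.ext fun a => Subtype.ext ((h4 _ a).symm.trans (hg a))⟩
      rw [card_res h5, this, C h, Subgroup.card_top, Nat.card_perm, Nat.card_eq_fintype_card, Fintype.card_coe, hE]; rfl

end Cfsg.Agent.S5600
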