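import Cfsg.Statements.S5662
import Cfsg.Agent.H4.As17

set_option autoImplicit false
open Cfsg

namespace Cfsg.Agent.S5662

/-- Subgroup structure of the finite symplectic groups. Let F be a finite field and m ≥ 2 with (m, |F|) ≠ (2, 2), and let Sp_2m(F) be the group of invertible matrices preserving the standard alternating form on F^(2m). Let H be a subgroup of Sp_2m(F) whose product with the scalar matrices ±1 is not all of Sp_2m(F) (H does not cover PSp_2m(F)). Then either H is contained in a member of one of the eight geometric classes of subgroups of Sp_2m(F) (with the conditions built into InSymplecticClass), or H is in the residual class: modulo scalars it is almost simple, and the perfect preimage of its socle acts absolutely irreducibly, is realisable over no proper subfield, and fixes no non-degenerate quadratic form and no non-degenerate unitary form on F^(2m). -/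
theorem result {F : Type*} [Field F] [Fintype F] (m : ℕ) (hm : 2 ≤ m) (hex : ¬ (m = 2 ∧ Fintype.card F = 2)) (H : Subgroup (Matrix.GeneralLinearGroup (Fin m ⊕ Fin m) F)) (hH : H ≤ Cfsg.spGL m F) (hproper : H ⊔ (Cfsg.Geo.scalars (Fin m ⊕ Fin m) F ⊓ Cfsg.spGL m F) ≠ Cfsg.spGL m F) : (∃ M : Subgroup (Matrix.GeneralLinearGroup (Fin m ⊕ Fin m) F), Cfsg.Geo.InSymplecticClass m F M ∧ H ≤ M) ∨ Cfsg.Geo.InSymplecticResidualClass H := by
  rcases H4.As.spAll hm hex hH (Φ := fun X => H ≤ X ⊓ spGL m F) (fun _ h _ => le_inf h hH) with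
    ⟨W, h1, h2, h⟩ | ⟨W, -, h1, h2, h3, h⟩ | ⟨t, k, D, -, -, -, h1, h⟩ | ⟨h1, D, h2, h3, h⟩ |
    ⟨r, K, h1, -, h2, h3, h4, h⟩ | ⟨h1, K, h2, h3, h4, h⟩ | ⟨h1, k, l, e, P, f₁, f₂, -, h2, -, h3, h4, h5, h⟩ |
    ⟨F₀, r, P, ζ, h1, h2, h3, h4, h⟩ | ⟨h1, h2, R, k, -, h3, h4, h5, h6, h7, h8, h⟩ |
    ⟨h1, k, t, e, P, f₁, -, h2, h3, h4, h5, h6, h⟩ | ⟨h1, Q, h2, h3, h⟩ | h
  · exact .inl ⟨_, .inl <| .inl ⟨W, h1, h2, rfl⟩, h⟩
  · exact .inl ⟨_, .inl <| .inr <| .inl ⟨W, h1, h2, h3, rfl⟩, h⟩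
  · exact .inl ⟨_, .inl <| .inr <| .inr <| .inl ⟨t, _, D, h1, rfl⟩, h⟩
  · exact .inl ⟨_, .inl <| .inr <| .inr <| .inr <| .inl ⟨D, h1, h2, h3, rfl⟩, h⟩
  · exact .inl ⟨_, .inr <| .inl ⟨r, K, h1, h2, h3, h4, rfl⟩, h⟩
  · exact .inl ⟨_, .inr <| .inr <| .inl ⟨K, h1, h2, h3, h4, rfl⟩, h⟩
  · exact .inl ⟨_, .inr <| .inr <| .inr <| .inl ⟨_, l, e, P, f₁, f₂, h1, h2, h3, h4, h5, rfl⟩, h⟩
  · exact .inl ⟨_, .inl <| .inr <| .inr <| .inr <| .inr <| .inl ⟨F₀, r, P, ζ, h1, h2, h3, h4, rfl⟩, h⟩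
  · exact .inl ⟨_, .inl <| .inr <| .inr <| .inr <| .inr <| .inr <| .inl
      ⟨R, _, k, h3, h4, h5, h2, h1, rfl, h6, h7, h8, rfl⟩, h⟩
  · exact .inl ⟨_, .inr <| .inr <| .inr <| .inr ⟨k, t, e, P, f₁, h1, h2, h3, h4, h5, h6, rfl⟩, h⟩
  · exact .inl ⟨_, .inl <| .inr <| .inr <| .inr <| .inr <| .inr <| .inr ⟨Q, h1, h2, h3, rfl⟩, h⟩
  · exact .inr h

end Cfsg.Agent.S5662
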