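import Cfsg.Statements.S5663
import Cfsg.Agent.H4.As16

set_option autoImplicit false
open Cfsg

namespace Cfsg.Agent.S5663

/-- Subgroup structure of the finite unitary groups. Let F be the field with q² elements and n ≥ 3 with (n, q) ≠ (3, 2), and let SU_n(q) be the group of matrices of determinant one preserving the standard unitary form Σ u_i v_i^q on F^n. Let H be a subgroup of SU_n(q) whose product with the scalar matrices in SU_n(q) is not all of SU_n(q) (H does not cover PSU_n(q)). Then either H is contained in a member of one of the geometric classes of subgroups of the unitary group GU_n(q) (with the conditions built into InUnitaryClass), or H is in the residual class: modulo scalars it is almost simple, and the perfect preimage of its socle acts absolutely irreducibly, is realisable over no proper subfield of F, and fixes no non-degenerate quadratic form and no non-degenerate symplectic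 form on F^n. -/
theorem result {F : Type*} [Field F] [Fintype F] (n q : ℕ) (hF : Fintype.card F = q ^ 2) (hn : 3 ≤ n) (hex : ¬ (n = 3 ∧ q = 2)) (H : Subgroup (Matrix.GeneralLinearGroup (Fin n) F)) (hH : H ≤ (Cfsg.GU n F q ⊓ Cfsg.Geo.specialLinear (Fin n) F)) (hproper : H ⊔ (Cfsg.Geo.scalars (Fin n) F ⊓ (Cfsg.GU n F q ⊓ Cfsg.Geo.specialLinear (Fin n) F)) ≠ (Cfsg.GU n F q ⊓ Cfsg.Geo.specialLinear (Fin n) F)) : (∃ M : Subgroup (Matrix.GeneralLinearGroup (Fin n) F), Cfsg.Geo.InUnitaryClass n F q M ∧ H ≤ M) ∨ Cfsg.Geo.InUnitaryResidualClass H := by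
  rcases H4.As.suAll hF hn hex (hH.trans inf_le_left) (Φ := fun X => H ≤ X ⊓ GU n F q)
    (fun _ h _ => le_inf h (hH.trans inf_le_left)) with ⟨W, h1, h2, h⟩ | ⟨W, h1, h2, h3, h⟩ |
    ⟨t, m, D, -, -, -, h1, h⟩ | ⟨m, D, h1, h2, h3, h⟩ | ⟨r, K, h1, h2, -, h3, h4, h⟩ |
    ⟨k, l, e, P, f₁, f₂, h1, h2, -, -, h3, h4, h5, h⟩ | ⟨F₀, r, P, h1, h2, h3, h4, h⟩ | ⟨h1, F₀, P, h2, h3, h⟩ |
    ⟨h1, F₀, P, ζ, h2, h3, h4, h5, h6, h⟩ | ⟨r, R, p, e, k, -, -, h1, h2, h3, h4, h5, h6, h⟩ |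
    ⟨k, t, e, P, f₁, -, h1, h2, h3, h4, h5, h⟩ | h
  · exact .inl ⟨_, .inl <| .inl ⟨W, h1, h2, rfl⟩, h⟩
  · exact .inl ⟨_, .inl <| .inr <| .inl ⟨W, h1, h2, h3, rfl⟩, h⟩
  · exact .inl ⟨_, .inl <| .inr <| .inr <| .inl ⟨t, m, D, h1, rfl⟩, h⟩
  · exact .inl ⟨_, .inl <| .inr <| .inr <| .inr <| .inl ⟨m, D, h1, h2, h3, rfl⟩, h⟩
  · exact .inl ⟨_, .inr <| .inl ⟨r, K, h1, h2, h3, h4, rfl⟩, h⟩
  · exact .inl ⟨_, .inr <| .inr <| .inl ⟨k, l, e, P, f₁, f₂, h1, h2, h3, h4, h5, rfl⟩, h⟩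
  · exact .inl ⟨_, .inl <| .inr <| .inr <| .inr <| .inr <| .inl ⟨F₀, r, P, h1, h2, h3, h4, rfl⟩, h⟩
  · exact .inl ⟨_, .inl <| .inr <| .inr <| .inr <| .inr <| .inr <| .inl ⟨F₀, P, h1, h2, h3, rfl⟩, h⟩
  · exact .inl ⟨_, .inl <| .inr <| .inr <| .inr <| .inr <| .inr <| .inr <| .inl
      ⟨F₀, P, ζ, h1, h2, h3, h4, h5, h6, rfl⟩, h⟩
  · exact .inl ⟨_, .inl <| .inr <| .inr <| .inr <| .inr <| .inr <| .inr <| .inr
      ⟨r, R, p, e, k, h1, h2, h3, h4, h5, h6, rfl⟩, h⟩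
  · exact .inl ⟨_, .inr <| .inr <| .inr ⟨k, t, e, P, f₁, h1, h2, h3, h4, h5, rfl⟩, h⟩
  · exact .inr h

end Cfsg.Agent.S5663
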