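import Cfsg.Statements.S5726
import Mathlib

set_option autoImplicit false
open Cfsg

namespace Cfsg.Agent.S5726

open MulAction in
theorem dvd_orbit {G Ω : Type*} [Group G] [Finite G] [MulAction G Ω] (htr : IsPretransitive G Ω)
    {p k : ℕ} [hp : Fact p.Prime] (h : p ^ k ∣ Nat.card Ω) (P : Sylow p G) (ω : Ω) :
    p ^ k ∣ (stabilizer (P : Subgroup G) ω).index := by
  have h2 : (stabilizer (P : Subgroup G) ω).index * (P : Subgroup G).index =
      (P ⊓ stabilizer G ω : Subgroup G).index := by
    rw [← Subgroup.relIndex_mul_index (inf_le_left (a := (P : Subgroup G)) (b := stabilizer G ω)),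
      Subgroup.inf_relIndex_left]; rfl
  refine (Nat.Coprime.pow_left k (hp.1.coprime_iff_not_dvd.2 P.not_dvd_index)).dvd_of_dvd_mul_right ?_
  rw [h2]
  exact (index_stabilizer_of_transitive G ω ▸ h).trans (Subgroup.index_dvd_of_le inf_le_right)

/-- If a finite group acts faithfully and transitively on a set with p^k elements, p a prime and k ≥ 1, then some element of order p fixes no point. -/
theorem result {G Ω : Type*} [Group G] [Finite G] [MulAction G Ω] [FaithfulSMul G Ω] [Fintype Ω] (htr : MulAction.IsPretransitive G Ω)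
    (p k : ℕ) (hp : p.Prime) (hk : 1 ≤ k) (hΩ : Fintype.card Ω = p ^ k) :
    ∃ g : G, orderOf g = p ∧ ∀ ω : Ω, g • ω ≠ ω := by
  open MulAction in
  haveI := Fact.mk hp
  obtain ⟨P⟩ : Nonempty (Sylow p G) := inferInstance
  have h1 : 1 < p ^ k := Nat.one_lt_pow (by omega) hp.one_lt
  have h := fun ω => dvd_orbit htr (k := k) (by rw [Nat.card_eq_fintype_card, hΩ]) P ω
  obtain ⟨ω₀⟩ : Nonempty Ω := Fintype.card_pos_iff.1 (by omega)
  haveI : Nontrivial (P : Subgroup G) := by
    by_contra e
    rw [not_nontrivial_iff_subsingleton] at e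
    have := h ω₀
    rw [Subsingleton.elim (stabilizer _ ω₀) ⊤, Subgroup.index_top, Nat.dvd_one] at this
    omega
  haveI := P.isPGroup'.center_nontrivial
  obtain ⟨z, hz⟩ := exists_prime_orderOf_dvd_card' (G := Subgroup.center (P : Subgroup G)) p
    ((P.isPGroup'.to_subgroup _).card_eq_or_dvd.resolve_left Finite.one_lt_card.ne')
  refine ⟨z.1.1, by rw [Subgroup.orderOf_coe, Subgroup.orderOf_coe, hz], fun ω e => ?_⟩
  have : orbit (P : Subgroup G) ω = Set.univ := Set.eq_of_subset_of_ncard_le (Set.subset_univ _) (by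
    rw [Set.ncard_univ, Nat.card_eq_fintype_card, hΩ, ← index_stabilizer]
    exact Nat.le_of_dvd (Nat.pos_of_ne_zero Subgroup.index_ne_zero_of_finite) (h ω))
  have : z = 1 := Subtype.ext (Subtype.ext (FaithfulSMul.eq_of_smul_eq_smul (α := Ω) fun x => by
    obtain ⟨a, rfl⟩ := this.ge (Set.mem_univ x)
    change z.1 • a • ω = (1 : G) • a • ω
    rw [one_smul, ← mul_smul, ← Subgroup.mem_center_iff.1 z.2 a, mul_smul]
    exact congrArg _ e))
  rw [this, orderOf_one] at hz
  exact hp.one_lt.ne hz

end Cfsg.Agent.S5726
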