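import Cfsg.Statements.S5727
import Cfsg.Agent.S5726

set_option autoImplicit false
open Cfsg

namespace Cfsg.Agent.S5727

/-- If a finite group acts faithfully and transitively on a set with m·p elements, where p is a prime and 1 ≤ m ≤ p, then some element of order p fixes no point. -/
theorem result {G Ω : Type*} [Group G] [Finite G] [MulAction G Ω] [FaithfulSMul G Ω] [Fintype Ω] (htr : MulAction.IsPretransitive G Ω)
    (p m : ℕ) (hp : p.Prime) (hm : 1 ≤ m) (hmp : m ≤ p) (hΩ : Fintype.card Ω = m * p) :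
    ∃ g : G, orderOf g = p ∧ ∀ ω : Ω, g • ω ≠ ω := by
  open MulAction in
  rcases hmp.eq_or_lt with rfl | hmp
  · exact S5726.result htr m 2 hp (by omega) (by rw [hΩ, sq])
  classical
  haveI := Fact.mk hp
  obtain ⟨P⟩ : Nonempty (Sylow p G) := inferInstance
  have h : ∀ ω : Ω, (stabilizer (P : Subgroup G) ω).index = p := fun ω => by
    have h1 := S5726.dvd_orbit htr (k := 1) (by rw [Nat.card_eq_fintype_card, hΩ]; simp) P ω
    obtain ⟨j, hj⟩ := P.isPGroup'.index (stabilizer (P : Subgroup G) ω)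
    have h2 : p ^ j < p ^ 2 := by
      rw [← hj, index_stabilizer, sq]
      refine (Set.ncard_le_card _).trans_lt ?_
      rw [Nat.card_eq_fintype_card, hΩ]; exact Nat.mul_lt_mul_of_pos_right hmp hp.pos
    rw [hj, Nat.pow_dvd_pow_iff_le_right hp.one_lt] at h1
    rw [Nat.pow_lt_pow_iff_right hp.one_lt] at h2
    rw [hj, show j = 1 by omega, pow_one]
  have hn : ∀ ω : Ω, (stabilizer (P : Subgroup G) ω).Normal := fun ω => by
    obtain ⟨j, hj⟩ := P.isPGroup'.exists_card_eq
    refine Subgroup.normal_of_index_eq_minFac_card ?_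
    have := (stabilizer (P : Subgroup G) ω).index_dvd_card
    rw [h, hj] at this ⊢
    rw [hp.pow_minFac]; rintro rfl; exact hp.one_lt.ne' (by simpa using this)
  obtain ⟨ω₀⟩ : Nonempty Ω := Fintype.card_pos_iff.1 (hΩ ▸ Nat.mul_pos hm hp.pos)
  obtain ⟨g, hg⟩ : ∃ g : (P : Subgroup G), ∀ ω : Ω, g • ω ≠ ω := by
    by_contra! e
    haveI := Fintype.ofFinite (P : Subgroup G)
    have h1 := Finset.sum_card_bipartiteAbove_eq_sum_card_bipartiteBelow (s := Finset.univ) (t := Finset.univ)
      fun (g : (P : Subgroup G)) (ω : Ω) => g • ω = ω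
    have h2 : ∀ ω : Ω, (Finset.univ.bipartiteBelow (fun (g : (P : Subgroup G)) (ω : Ω) => g • ω = ω) ω).card * p =
        Fintype.card (P : Subgroup G) := fun ω => by
      rw [← Nat.card_eq_fintype_card, ← (stabilizer (P : Subgroup G) ω).card_mul_index, h, Nat.card_eq_fintype_card,
        Fintype.card_subtype]
      congr 2
    have h3 : ∀ g ∈ (Finset.univ : Finset (P : Subgroup G)),
        p ≤ (Finset.univ.bipartiteAbove (fun (g : (P : Subgroup G)) (ω : Ω) => g • ω = ω) g).card := fun g _ => by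
      obtain ⟨ω, hω⟩ := e g
      refine (h ω).ge.trans ?_
      rw [index_stabilizer, ← Set.ncard_coe_finset]
      refine Set.ncard_le_ncard ?_
      rintro _ ⟨a, rfl⟩
      simpa [mul_smul, inv_smul_eq_iff] using (hn ω).conj_mem' g hω a
    have h4 := Nat.mul_le_mul_right p ((Finset.card_nsmul_le_sum _ _ _ h3).trans h1.le)
    rw [Finset.sum_mul, Finset.sum_congr rfl fun ω _ => h2 ω] at h4
    simp [hΩ] at h4
    have := Fintype.card_pos (α := (P : Subgroup G))
    have := Nat.mul_lt_mul_of_pos_right (Nat.mul_lt_mul_of_pos_right hmp hp.pos) this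
    nlinarith
  refine ⟨g, orderOf_eq_prime (FaithfulSMul.eq_of_smul_eq_smul (α := Ω) fun ω => ?_) fun e => hg ω₀ ?_, hg⟩
  · haveI := hn ω
    have := (stabilizer (P : Subgroup G) ω).pow_index_mem g
    rw [h] at this
    rw [one_smul]; exact this
  · change (g : G) • ω₀ = ω₀; rw [e, one_smul]

end Cfsg.Agent.S5727
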