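import Cfsg.Statements.S5728
import Mathlib

set_option autoImplicit false
open Cfsg

namespace Cfsg.Agent.S5728

/-- An elusive transitive action. Let p = 2^s − 1 be a prime and let F be the field with p² elements. Inside the group of affine maps x ↦ a·x + b of F (a ≠ 0), consider the subgroup of maps with both coefficients in the prime field. Then every element of prime order of the affine group is conjugate, within the affine group, to an element of that subgroup; equivalently, in the transitive action of the affine group on the cosets of that subgroup (of degree p(p + 1)) every element of prime order fixes a point. -/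
theorem result (p s : ℕ) [Fact p.Prime] (hs : p = 2 ^ s - 1)
    (g : Equiv.Perm (GaloisField p 2)) (hg : g ∈ Cfsg.affineGroup (GaloisField p 2)) (hord : (orderOf g).Prime) :
    ∃ x ∈ Cfsg.affineGroup (GaloisField p 2), ∃ a b : ZMod p, a ≠ 0 ∧
      ∀ y : GaloisField p 2, (x * g * x⁻¹) y = algebraMap (ZMod p) (GaloisField p 2) a * y + algebraMap (ZMod p) (GaloisField p 2) b := by
  have hp : p.Prime := Fact.out
  obtain ⟨a, b, h⟩ := hg
  by_cases e : (a : GaloisField p 2) = 1
  · have b0 : b ≠ 0 := fun e' => by
      rw [show g = 1 from Equiv.ext fun y => by simp [h, e, e'], orderOf_one] at hord; exact Nat.not_prime_one hord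
    exact ⟨(Equiv.mulLeft₀ b b0)⁻¹, inv_mem ⟨Units.mk0 b b0, 0, by simp⟩, 1, 1, one_ne_zero, fun y => by
      simp [h, e, Equiv.Perm.inv_def, mul_add, b0]⟩
  have e' : (a : GaloisField p 2) - 1 ≠ 0 := sub_ne_zero.2 e
  have h1 : ∀ y, (Equiv.addRight (b / (a - 1)) * g * (Equiv.addRight (b / (a - 1)))⁻¹) y = a * y := fun y => by
    simp [h, Equiv.Perm.inv_def]; field_simp; ring
  have h2 : ∀ n y, ((Equiv.addRight (b / (a - 1)) * g * (Equiv.addRight (b / (a - 1)))⁻¹) ^ n) y = a ^ n * y := by
    intro n; induction n with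
    | zero => simp
    | succ n ih => intro y; rw [pow_succ', Equiv.Perm.mul_apply, h1, ih, pow_succ', mul_assoc]
  have h3 : a ^ orderOf g = 1 := Units.ext (by
    have := h2 (orderOf g) 1
    rw [conj_pow, pow_orderOf_eq_one] at this; simpa using this.symm)
  haveI := Fact.mk hord
  have h4 : orderOf g ∣ (p - 1) * 2 ^ s := by
    have := orderOf_dvd_natCard a
    rw [orderOf_eq_prime h3 fun h => e (by simp [h]), Nat.card_units, GaloisField.card p 2 two_ne_zero] at this
    have e1 : 2 ^ s = p + 1 := by have := Nat.one_le_two_pow (n := s); omega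
    rwa [e1, mul_comm, ← Nat.sq_sub_sq, one_pow]
  have h5 : orderOf g ∣ p - 1 := (hord.dvd_mul.1 h4).elim id fun h => by
    rw [(Nat.prime_dvd_prime_iff_eq hord Nat.prime_two).1 (hord.dvd_of_dvd_pow h)]
    rcases s with _ | s
    · simp [hs, Nat.not_prime_zero] at hp
    · have := Nat.one_le_two_pow (n := s); rw [pow_succ] at hs; omega
  obtain ⟨k, hk⟩ := h5
  obtain ⟨n, hn⟩ := (mem_bot_iff_intCast p _).1 ((Subfield.mem_bot_iff_pow_eq_self _ p (x := (a : GaloisField p 2))).2 (by
    refine (congrArg _ (Nat.sub_add_cancel hp.pos).symm).trans ?_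
    rw [pow_succ, hk, pow_mul, ← Units.val_pow_eq_pow_val, h3]; simp))
  exact ⟨Equiv.addRight (b / (a - 1)), ⟨1, b / (a - 1), fun y => by simp⟩, n, 0, fun e => a.ne_zero (by
    rw [← hn, ← map_intCast (algebraMap (ZMod p) (GaloisField p 2)), e, map_zero]),
    fun y => by rw [h1]; simp [hn]⟩

end Cfsg.Agent.S5728
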