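import Cfsg.Statements.S5746
import Cfsg.Agent.H8.J2s

set_option autoImplicit false
open Cfsg

namespace Cfsg.Agent.S5746

open Cfsg.Agent Cfsg.Agent.Ico Cfsg.Agent.H6 Cfsg.Agent.H6.Suz MulAction

section
variable {G Ω : Type*} [Group G] [MulAction G Ω]

theorem coatom_sub {K W : Subgroup G} {x : Ω} (hW : W ≤ K ⊓ stabilizer G x) {l : List G}
    (hl : ∀ t ∈ l, t ∈ K ∧ ∀ M : Subgroup G, W ≤ M → t ∈ M → orbit K x ⊆ orbit M x)
    (hc : ∀ y ∈ orbit K x, y = x ∨ ∃ t ∈ l, y ∈ orbit W (t • x)) (hn : ∃ k ∈ K, k • x ≠ x) : IsCoatom (stabilizer K x) := by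
  refine ⟨fun e => ?_, fun M hM => eq_top_iff.2 fun k _ => ?_⟩
  · obtain ⟨k, a, b⟩ := hn
    exact b (e ▸ Subgroup.mem_top _ : (⟨k, a⟩ : K) ∈ stabilizer K x)
  obtain ⟨g, hg, hg'⟩ := SetLike.exists_of_lt hM
  obtain ⟨t, a, w, hw⟩ := (hc _ ⟨g, rfl⟩).resolve_left hg'
  have h0 : W ≤ M.map K.subtype := fun v hv => ⟨⟨v, (hW hv).1⟩, hM.le (hW hv).2, rfl⟩
  have h1 : g⁻¹ * (⟨w, (hW w.2).1⟩ * ⟨t, (hl t a).1⟩) ∈ M :=
    hM.le (mem_stabilizer_iff.2 (by rw [mul_smul, inv_smul_eq_iff, mul_smul]; exact hw))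
  rw [M.mul_mem_cancel_left (M.inv_mem hg), M.mul_mem_cancel_left (hM.le (hW w.2).2)] at h1
  obtain ⟨⟨_, m, hm, rfl⟩, e⟩ := (hl t a).2 _ h0 ⟨_, h1, rfl⟩ ⟨k, rfl⟩
  exact (M.mul_mem_cancel_left (M.inv_mem hm)).1 (hM.le (mem_stabilizer_iff.2 (by rw [mul_smul, inv_smul_eq_iff]; exact e.symm)))

theorem coatom_model {N : ℕ} {X : ℕ → Ω} {gens : ℕ → G} {nets : ℕ → Net} (h : IsModel N X gens nets vT) {kl : List ℕ}
    (ws l : List (List ℕ)) (r : ℕ) {p : ℕ} (hc : p < N ∧ (∀ w ∈ ws, wok (tb (mkM kl)) w = true ∧ fnWc nets w p = p) ∧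
      closedM nets (lw kl) (orbM nets (lw kl) r p) = true ∧
      (∀ a ∈ l, wok (tb (mkM kl)) a = true ∧ orbM nets (a :: ws) r p = orbM nets (lw kl) r p) ∧
      orbM nets (lw kl) r p = 2 ^ p ||| lors (fun a => orbM nets ws r (fnWc nets a p)) l ∧ ∃ a ∈ l, fnWc nets a p ≠ p) :
    IsCoatom (stabilizer (cl gens (lw kl)) (X p)) := by
  obtain ⟨h1, h2, h3, h4, h5, a, h6, h7⟩ := hc
  have v : ∀ ws, wsok vT ws = true := fun _ => wsok_iff.2 fun _ _ _ _ => rfl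
  have c : ∀ w, wp gens w • X p = X (fnWc nets w p) := fun w => by rw [fnWc_eq, h.toIsPre.cmpW (fun _ _ => rfl) h1]
  have d : ∀ w, fnWc nets w p < N := fun w => by rw [fnWc_eq]; exact (h.ok.fnW_lt (fun _ _ => rfl) _).2 h1
  have o := h.toIsPre.orbit_eq (v _) h1 h3
  refine coatom_sub (W := cl gens ws) (l := l.map (wp gens))
    (cl_le.2 fun w hw => ⟨wp_mem_lw (h2 w hw).1, mem_stabilizer_iff.2 (by rw [c, (h2 w hw).2])⟩)
    (List.forall_mem_map.2 fun t ht => ⟨wp_mem_lw (h4 t ht).1, fun M a b => ?_⟩) (fun y hy => ?_)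
    ⟨_, wp_mem_lw (h4 a h6).1, fun e => h7 (h.inj _ (d a) _ h1 (by rw [← c, e]))⟩
  · rw [o, ← (h4 t ht).2]
    refine (h.toIsPre.pts_orbM_subset (v _) r h1).trans ?_
    rintro _ ⟨g, rfl⟩
    exact ⟨⟨g, cl_le.2 (List.forall_mem_cons.2 ⟨b, cl_le.1 a⟩) g.2⟩, rfl⟩
  · rw [o, h5, pts_lor, pts_pow h1] at hy
    refine hy.imp_right fun ⟨i, a, b, e⟩ => ?_
    obtain ⟨t, ht, b⟩ := (testBit_lors _ _ _).1 b
    exact ⟨_, List.mem_map_of_mem ht, c t ▸ h.toIsPre.pts_orbM_subset (v _) r (d t) ⟨i, a, b, e⟩⟩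
end

theorem main (x : GG2) (hx : x ∉ cl gG2 swG2) :
    IsCoatom ((cl gG2 swG2 ⊓ (cl gG2 swG2).map (MulAut.conj x).toMonoidHom).subgroupOf (cl gG2 swG2)) := by
  have e : (cl gG2 swG2 ⊓ (cl gG2 swG2).map (MulAut.conj x).toMonoidHom).subgroupOf (cl gG2 swG2) =
      stabilizer (cl gG2 swG2) (x • finX 416 0) := by
    rw [Subgroup.inf_subgroupOf_left, show (cl gG2 swG2).map (MulAut.conj x).toMonoidHom = stabilizer GG2 (x • finX 416 0) by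
      rw [stabG2, stabilizer_smul_eq_stabilizer_map_conj]]
    rfl
  rw [e]
  obtain ⟨a, ha, k, hk⟩ := (part0G2.2 _).1 (trG2 ▸ mem_orbit (finX 416 0) x)
  simp only [List.mem_cons, List.not_mem_nil, or_false] at ha
  rcases ha with rfl | rfl | rfl
  · exact absurd (stabG2 ▸ hk.symm.trans (fixG2 k.2)) hx
  · exact hk ▸ isCoatom_smul (coatom_model modelG2 (kl := [0, 1, 2, 3, 4]) [[1], [2], [0, 1, 2, 3], [4, 3, 2, 1, 0, 1, 2, 3, 4]]
      [[3], [4]] 100 (by decide +kernel)) k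
  · exact hk ▸ isCoatom_smul (coatom_model modelG2 (kl := [0, 1, 2, 3, 4])
      [[3], [2], [4], [1, 2, 3, 2, 1, 0, 1, 0, 2, 3, 1, 2, 1, 0, 1]]
      [[1], [1, 0, 1], [1, 2, 0, 1], [1, 2, 3, 2, 1], [1, 2, 0, 1, 0, 1]] 100 (by decide +kernel)) k

/-- The Chevalley group G₂(4) (over the field with 4 elements) has a maximal subgroup H isomorphic to the Hall–Janko group J₂ such that for every x outside H the intersection H ∩ xHx⁻¹ is a maximal subgroup of H; that is, the action of G₂(4) on the cosets of H is extremely primitive. -/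
theorem result {F : Type*} [Field F] [Fintype F] (hF : Fintype.card F = 4) :
    ∃ H : Subgroup (Cfsg.Lie.chevG2.group F), IsCoatom H ∧ Cfsg.Spor.IsoJ2 H ∧
      ∀ x : Cfsg.Lie.chevG2.group F, x ∉ H → IsCoatom ((H ⊓ H.map (MulAut.conj x).toMonoidHom).subgroupOf H) := by
  obtain ⟨e⟩ := isoG2 hF
  obtain ⟨e1, -⟩ := eqJG2
  obtain ⟨e2, -⟩ := exists_iso
  refine ⟨(cl gG2 swG2).map e, (OrderIso.isCoatom_iff e.mapSubgroup _).2 (stabG2 ▸ coatomG2),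
    ⟨(e.subgroupMap _).symm.trans (e1.trans e2)⟩, fun x hx => ?_⟩
  obtain ⟨x, rfl⟩ := e.surjective x
  have := main x fun h => hx ⟨x, h, rfl⟩
  rw [← OrderIso.isCoatom_iff (e.subgroupMap (cl gG2 swG2)).comapSubgroup]
  convert this using 1
  ext y
  rw [Subgroup.inf_subgroupOf_left, Subgroup.inf_subgroupOf_left]
  exact ⟨fun ⟨_, ⟨a, b, rfl⟩, c⟩ => ⟨a, b, e.injective (by simpa using c)⟩,
    fun ⟨a, b, c⟩ => ⟨_, ⟨a, b, rfl⟩, by simpa using congrArg e c⟩⟩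

end Cfsg.Agent.S5746
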