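import Cfsg.Statements.S5847
import Cfsg.Agent.H4.As23

set_option autoImplicit false
open Cfsg

namespace Cfsg.Agent.S5847

/-- Every maximal subgroup of Ω_10^+(q) is of one of the listed geometric types or lies in the residual class. Let F be a finite field with q elements (characteristic p), Q a non-degenerate quadratic form on F^10 of plus type (Witt index 5: some totally singular 5-space), Ω the commutator subgroup of its isometry group, and H a maximal subgroup of Ω (inside GL_10(F)). Then H is the intersection with Ω of one of: the stabiliser of a non-zero totally singular subspace of dimension ≠ 4; for q odd, the stabiliser of a non-degenerate subspace of odd dimension ≠ 5; the stabiliser of a non-degenerate 2-space of minus type; for q ≥ 4, the stabiliser of a non-degenerate 2-space of plus type; the stabiliser of a non-degenerate 4-space; for q even, the stabiliser of the span of a non-singular vector; for q = p prime with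 p ≡ 1 mod 4, the stabiliser of a decomposition into 10 pairwise orthogonal, pairwise isometric non-degenerate 1-spaces; for q ≥ 7, the stabiliser of a decomposition into 5 pairwise orthogonal, pairwise isometric non-degenerate 2-spaces; for q ≡ 1 mod 4, the stabiliser of a decomposition into 2 pairwise orthogonal, pairwise isometric non-degenerate 5-spaces; for q ≡ 3 mod 4, the stabiliser of a decomposition into two orthogonal, non-isometric non-degenerate 5-spaces; for q odd, the normaliser of a degree-2 subfield of the matrix algebra, self-adjoint for the polar form; a subfield group (|F| = |F₀|^r, r prime) whose F₀-structure carries a non-zero multiple of Q — or else H lies in the residual class of the orthogonal case (modulo scalars H is almost simple, with absolutely irreducible perfect socle preimage realisable over no proper subfield and fixing no non-degenerate unitary form). -/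
theorem result {F : Type*} [Field F] [Fintype F] (Q : (Fin 10 → F) → F) (hQ : Cfsg.Geo.IsNondegenerateQuadraticForm Q) (hplus : Cfsg.Geo.IsPlusTypeOn Q ⊤) (H : Subgroup (Matrix.GeneralLinearGroup (Fin 10) F)) (hH : Cfsg.Geo.IsMaximalIn (Cfsg.Geo.omegaGL Q) H) :
    (∃ W : Submodule F (Fin 10 → F), W ≠ ⊥ ∧ Cfsg.Geo.IsTotallySingularQuad Q W ∧ Module.finrank F W ≠ 4 ∧ H = Cfsg.Geo.subspaceStabilizer W ⊓ Cfsg.Geo.omegaGL Q) ∨
    (Odd (Fintype.card F) ∧ ∃ W : Submodule F (Fin 10 → F), W ≠ ⊥ ∧ W ≠ ⊤ ∧ Odd (Module.finrank F W) ∧ 2 * Module.finrank F W ≠ 10 ∧ Cfsg.Geo.IsNondegenerateOn (QuadraticMap.polar Q) W ∧ H = Cfsg.Geo.subspaceStabilizer W ⊓ Cfsg.Geo.omegaGL Q) ∨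
    (∃ W : Submodule F (Fin 10 → F), Module.finrank F W = 2 ∧ Cfsg.Geo.IsNondegenerateOn (QuadraticMap.polar Q) W ∧ ¬ Cfsg.Geo.IsPlusTypeOn Q W ∧ H = Cfsg.Geo.subspaceStabilizer W ⊓ Cfsg.Geo.omegaGL Q) ∨
    (4 ≤ Fintype.card F ∧ ∃ W : Submodule F (Fin 10 → F), Module.finrank F W = 2 ∧ Cfsg.Geo.IsNondegenerateOn (QuadraticMap.polar Q) W ∧ Cfsg.Geo.IsPlusTypeOn Q W ∧ H = Cfsg.Geo.subspaceStabilizer W ⊓ Cfsg.Geo.omegaGL Q) ∨
    (∃ W : Submodule F (Fin 10 → F), Module.finrank F W = 4 ∧ Cfsg.Geo.IsNondegenerateOn (QuadraticMap.polar Q) W ∧ H = Cfsg.Geo.subspaceStabilizer W ⊓ Cfsg.Geo.omegaGL Q) ∨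
    (¬ Odd (Fintype.card F) ∧ ∃ v : (Fin 10 → F), Q v ≠ 0 ∧ H = Cfsg.Geo.subspaceStabilizer (Submodule.span F {v}) ⊓ Cfsg.Geo.omegaGL Q) ∨
    ((∃ p : ℕ, p.Prime ∧ Fintype.card F = p ∧ (p % 4 = 1)) ∧ ∃ D : Fin 10 → Submodule F (Fin 10 → F), Cfsg.Geo.IsOrthogonalMDecomposition Q 1 D ∧ H = Cfsg.Geo.decompositionStabilizer D ⊓ Cfsg.Geo.omegaGL Q) ∨
    (7 ≤ Fintype.card F ∧ ∃ D : Fin 5 → Submodule F (Fin 10 → F), Cfsg.Geo.IsOrthogonalMDecomposition Q 2 D ∧ H = Cfsg.Geo.decompositionStabilizer D ⊓ Cfsg.Geo.omegaGL Q) ∨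
    (Fintype.card F % 4 = 1 ∧ ∃ D : Fin 2 → Submodule F (Fin 10 → F), Cfsg.Geo.IsOrthogonalMDecomposition Q 5 D ∧ H = Cfsg.Geo.decompositionStabilizer D ⊓ Cfsg.Geo.omegaGL Q) ∨
    (Fintype.card F % 4 = 3 ∧ ∃ D : Fin 2 → Submodule F (Fin 10 → F), Cfsg.Geo.IsNondegenerateMDecomposition (QuadraticMap.polar Q) 5 D ∧ ¬ Cfsg.Geo.AreIsometricFor Q (D 0) (D 1) ∧ H = Cfsg.Geo.decompositionStabilizer D ⊓ Cfsg.Geo.omegaGL Q) ∨
    (Odd (Fintype.card F) ∧ ∃ K : Subalgebra F (Matrix (Fin 10) (Fin 10) F), Cfsg.Geo.IsFieldSubalgebra 2 K ∧ Cfsg.Geo.IsSelfAdjointFor (QuadraticMap.polar Q) K ∧ H = Cfsg.Geo.subalgebraNormalizer K ⊓ Cfsg.Geo.omegaGL Q) ∨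
    (∃ (F₀ : Subfield F) (r : ℕ) (P : Matrix.GeneralLinearGroup (Fin 10) F) (ζ : F), r.Prime ∧ Fintype.card F = Nat.card F₀ ^ r ∧ ζ ≠ 0 ∧ Cfsg.Geo.IsQuadFormRationalStructure (fun v : Fin 10 → F => ζ * Q v) F₀ P ∧ H = Cfsg.Geo.subfieldSubgroup F₀ P ⊓ Cfsg.Geo.omegaGL Q) ∨
    Cfsg.Geo.InOrthogonalResidualClass H := by
  have hf := H4.geoQuad_nondeg hQ
  have hm : Fintype.card (Fin 10) = 2 * 5 := by simp
  have hB := H4.As.big_Om hf (by simp)
  have hΦ : ∀ X, H ≤ X → ¬ Geo.omegaGL Q ≤ X → H = X ⊓ Geo.omegaGL Q := fun _ => hH.as_eq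
  have hq : Odd (Fintype.card F) → (Fintype.card F ^ 5 % 4 = 1 ↔ Fintype.card F % 4 = 1) ∧
      (¬ Fintype.card F % 4 = 1 ↔ Fintype.card F % 4 = 3) := fun ⟨s, hs⟩ => by
    obtain h | h : Fintype.card F % 4 = 1 ∨ Fintype.card F % 4 = 3 := by omega
    all_goals simp [Nat.pow_mod, h]
  rcases H4.As.irr_or H with ⟨W, h0, h1, hW⟩ | hI
  · rcases H4.As.omRed hf hm (by omega) hH.1.le hΦ h0 h1 hW with ⟨W, a, b, d, c⟩ | ⟨W, a, b, c, d, e, g, h⟩ | h |
      ⟨D, a, -, b⟩
    · exact .inl ⟨W, a, b, by have := d hplus; omega, c⟩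
    · rcases Nat.even_or_odd (Module.finrank F W) with h2 | h2
      swap
      · exact .inr <| .inl ⟨e h2, W, a, b, h2, by omega, d, h⟩
      have : Module.finrank F W ≠ 0 := mt Submodule.finrank_eq_zero.1 a
      obtain h3 | h3 : Module.finrank F W = 2 ∨ Module.finrank F W = 4 := by obtain ⟨s, hs⟩ := h2; omega
      · by_cases h4 : Geo.IsPlusTypeOn Q W
        · exact .inr <| .inr <| .inr <| .inl ⟨g h3 h4, W, h3, d, h4, h⟩
        · exact .inr <| .inr <| .inl ⟨W, h3, d, h4, h⟩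
      · exact .inr <| .inr <| .inr <| .inr <| .inl ⟨W, h3, d, h⟩
    · exact .inr <| .inr <| .inr <| .inr <| .inr <| .inl h
    · have h2 := ((H4.geoQuad hQ).res_nondeg_iff.2 (H4.As.dec_nd a 0)).two_ne_of_odd
        (by rw [a.decomp.finrank_eq]; decide)
      have h3 := H4.As.pl_two a hf h2
      obtain ⟨h4, h5⟩ := hq (H4.odd_of_two_ne_zero h2)
      rw [h4, ← H4.As.isom_iff] at h3
      have h6 := H4.As.polar_eq (f := H4.geoQuad hQ) ▸ a
      refine .inr <| .inr <| .inr <| .inr <| .inr <| .inr <| .inr <| .inr <| ?_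
      by_cases h7 : Geo.AreIsometricFor Q (D 0) (D 1)
      · refine .inl ⟨(h3.1 hplus).2 h7, D, ⟨h6, fun i j => ?_⟩, b⟩
        have h8 := (H4.As.isom_iff (f := H4.geoQuad hQ)).1 h7
        refine (H4.As.isom_iff (f := H4.geoQuad hQ)).2 ?_
        fin_cases i <;> fin_cases j
        exacts [.refl, h8, h8.symm, .refl]
      · exact .inr <| .inl ⟨h5.1 (mt (h3.1 hplus).1 h7), D, h6, h7, b⟩
  refine .inr <| .inr <| .inr <| .inr <| .inr <| .inr <| ?_
  rcases H4.As.eCl10 hf hm hH.1.le hI with ⟨t, k, D, h1, h2, h6, h7, h3, h4, h5, -, h8, -⟩ |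
    ⟨K, h1, h2, ⟨h3, h4⟩ | h3⟩ | h | h
  · have h9 := hΦ _ h7 (hB.not_decomp h6.decomp.decomp)
    have : t ≤ 10 := Nat.le_of_dvd (by norm_num) ⟨k, h1.symm⟩
    interval_cases t
    · obtain rfl : k = 5 := by omega
      obtain ⟨a, b⟩ := h3 (by decide)
      exact .inr <| .inr <| .inl ⟨(hq a).1.1 (b.1 hplus), D, h6, h9⟩
    · omega
    · omega
    · obtain rfl : k = 2 := by omega
      have a := h4 even_two 0
      refine .inr <| .inl ⟨?_, D, h6, h9⟩
      rcases h8 rfl with b | b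
      · exact b.1
      · exact absurd ((a.1 hplus).resolve_left (b.2 0)) (by decide)
    · omega
    · omega
    · omega
    · omega
    · obtain rfl : k = 1 := by omega
      obtain ⟨a, b⟩ := h3 (by decide)
      exact .inl ⟨⟨_, h5 rfl, rfl, (hq a).1.1 (b.1 hplus)⟩, D, h6, h9⟩
  · exact .inr <| .inr <| .inr <| .inr <| .inl ⟨h3, K, h1, h4, hΦ _ h2.le (hB.not_field one_lt_two h1)⟩
  · exact absurd hplus h3.1
  · obtain ⟨F₀, r, P, ζ, a, b, c⟩ := H4.As.SF.fin hf hm (by omega) hH.1.le hI hΦ h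
    exact .inr <| .inr <| .inr <| .inr <| .inr <| .inl ⟨F₀, r, P, ζ, a, c⟩
  · exact .inr <| .inr <| .inr <| .inr <| .inr <| .inr <| h

end Cfsg.Agent.S5847
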