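import Cfsg.Statements.S5871
import Cfsg.Agent.H4.As24

set_option autoImplicit false
open Cfsg

namespace Cfsg.Agent.S5871

/-- Every maximal subgroup of Ω_12^+(q) is of one of the listed geometric types or lies in the residual class. Let F be a finite field with q elements (characteristic p), Q a non-degenerate quadratic form on F^12 of plus type (Witt index 6: some totally singular 6-space), Ω the commutator subgroup of its isometry group, and H a maximal subgroup of Ω (inside GL_12(F)). Then H is the intersection with Ω of one of: the stabiliser of a non-zero totally singular subspace of dimension ≠ 5; for q odd, the stabiliser of a non-degenerate subspace of odd dimension; the stabiliser of a non-degenerate 2-space of minus type; for q ≥ 4, the stabiliser of a non-degenerate 2-space of plus type; the stabiliser of a non-degenerate 4-space; for q even, the stabiliser of the span of a non-singular vector; for q = p an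 odd prime, the stabiliser of a decomposition into 12 pairwise orthogonal, pairwise isometric non-degenerate 1-spaces; for q ≥ 7, the stabiliser of a decomposition into 6 pairwise orthogonal, pairwise isometric non-degenerate 2-spaces of plus type; for q ≠ 3, the stabiliser of a decomposition into 6 pairwise orthogonal, pairwise isometric non-degenerate 2-spaces of minus type; for q odd with q ≥ 5, the stabiliser of a decomposition into 4 pairwise orthogonal, pairwise isometric non-degenerate 3-spaces; for q ≥ 3, the stabiliser of a decomposition into 3 pairwise orthogonal, pairwise isometric non-degenerate 4-spaces; the stabiliser of a decomposition into 2 pairwise orthogonal, pairwise isometric non-degenerate 6-spaces; of a decomposition into two totally singular 6-spaces; the normaliser of a degree-2 subfield of the matrix algebra; the normaliser of a degree-3 subfield of the matrix algebra; the normaliser of a degree-2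 subfield K, adjoint-closed but not self-adjoint, acting by similarities of Q; for q ≥ 3, the stabiliser of a tensor decomposition of Q into alternating forms on F^2 and F^6 (Q vanishing on pure tensors); a subfield group (|F| = |F₀|^r, r prime) whose F₀-structure carries a non-zero multiple of Q — or else H lies in the residual class of the orthogonal case (modulo scalars H is almost simple, with absolutely irreducible perfect socle preimage realisable over no proper subfield and fixing no non-degenerate unitary form). -/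
theorem result {F : Type*} [Field F] [Fintype F] (Q : (Fin 12 → F) → F) (hQ : Cfsg.Geo.IsNondegenerateQuadraticForm Q) (hplus : Cfsg.Geo.IsPlusTypeOn Q ⊤) (H : Subgroup (Matrix.GeneralLinearGroup (Fin 12) F)) (hH : Cfsg.Geo.IsMaximalIn (Cfsg.Geo.omegaGL Q) H) :
    (∃ W : Submodule F (Fin 12 → F), W ≠ ⊥ ∧ Cfsg.Geo.IsTotallySingularQuad Q W ∧ Module.finrank F W ≠ 5 ∧ H = Cfsg.Geo.subspaceStabilizer W ⊓ Cfsg.Geo.omegaGL Q) ∨
    (Odd (Fintype.card F) ∧ ∃ W : Submodule F (Fin 12 → F), W ≠ ⊥ ∧ W ≠ ⊤ ∧ Odd (Module.finrank F W) ∧ 2 * Module.finrank F W ≠ 12 ∧ Cfsg.Geo.IsNondegenerateOn (QuadraticMap.polar Q) W ∧ H = Cfsg.Geo.subspaceStabilizer W ⊓ Cfsg.Geo.omegaGL Q) ∨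
    (∃ W : Submodule F (Fin 12 → F), Module.finrank F W = 2 ∧ Cfsg.Geo.IsNondegenerateOn (QuadraticMap.polar Q) W ∧ ¬ Cfsg.Geo.IsPlusTypeOn Q W ∧ H = Cfsg.Geo.subspaceStabilizer W ⊓ Cfsg.Geo.omegaGL Q) ∨
    (4 ≤ Fintype.card F ∧ ∃ W : Submodule F (Fin 12 → F), Module.finrank F W = 2 ∧ Cfsg.Geo.IsNondegenerateOn (QuadraticMap.polar Q) W ∧ Cfsg.Geo.IsPlusTypeOn Q W ∧ H = Cfsg.Geo.subspaceStabilizer W ⊓ Cfsg.Geo.omegaGL Q) ∨
    (∃ W : Submodule F (Fin 12 → F), Module.finrank F W = 4 ∧ Cfsg.Geo.IsNondegenerateOn (QuadraticMap.polar Q) W ∧ H = Cfsg.Geo.subspaceStabilizer W ⊓ Cfsg.Geo.omegaGL Q) ∨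
    (¬ Odd (Fintype.card F) ∧ ∃ v : (Fin 12 → F), Q v ≠ 0 ∧ H = Cfsg.Geo.subspaceStabilizer (Submodule.span F {v}) ⊓ Cfsg.Geo.omegaGL Q) ∨
    ((∃ p : ℕ, p.Prime ∧ Odd p ∧ Fintype.card F = p) ∧ ∃ D : Fin 12 → Submodule F (Fin 12 → F), Cfsg.Geo.IsOrthogonalMDecomposition Q 1 D ∧ H = Cfsg.Geo.decompositionStabilizer D ⊓ Cfsg.Geo.omegaGL Q) ∨
    (7 ≤ Fintype.card F ∧ ∃ D : Fin 6 → Submodule F (Fin 12 → F), Cfsg.Geo.IsOrthogonalMDecomposition Q 2 D ∧ (∀ i, Cfsg.Geo.IsPlusTypeOn Q (D i)) ∧ H = Cfsg.Geo.decompositionStabilizer D ⊓ Cfsg.Geo.omegaGL Q) ∨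
    (Fintype.card F ≠ 3 ∧ ∃ D : Fin 6 → Submodule F (Fin 12 → F), Cfsg.Geo.IsOrthogonalMDecomposition Q 2 D ∧ (∀ i, ¬ Cfsg.Geo.IsPlusTypeOn Q (D i)) ∧ H = Cfsg.Geo.decompositionStabilizer D ⊓ Cfsg.Geo.omegaGL Q) ∨
    (Odd (Fintype.card F) ∧ 5 ≤ Fintype.card F ∧ ∃ D : Fin 4 → Submodule F (Fin 12 → F), Cfsg.Geo.IsOrthogonalMDecomposition Q 3 D ∧ H = Cfsg.Geo.decompositionStabilizer D ⊓ Cfsg.Geo.omegaGL Q) ∨
    (3 ≤ Fintype.card F ∧ ∃ D : Fin 3 → Submodule F (Fin 12 → F), Cfsg.Geo.IsOrthogonalMDecomposition Q 4 D ∧ H = Cfsg.Geo.decompositionStabilizer D ⊓ Cfsg.Geo.omegaGL Q) ∨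
    (∃ D : Fin 2 → Submodule F (Fin 12 → F), Cfsg.Geo.IsOrthogonalMDecomposition Q 6 D ∧ H = Cfsg.Geo.decompositionStabilizer D ⊓ Cfsg.Geo.omegaGL Q) ∨
    (∃ D : Fin 2 → Submodule F (Fin 12 → F), Cfsg.Geo.IsMDecomposition 6 D ∧ (∀ i, Cfsg.Geo.IsTotallySingularQuad Q (D i)) ∧ H = Cfsg.Geo.decompositionStabilizer D ⊓ Cfsg.Geo.omegaGL Q) ∨
    (∃ K : Subalgebra F (Matrix (Fin 12) (Fin 12) F), Cfsg.Geo.IsFieldSubalgebra 2 K ∧ H = Cfsg.Geo.subalgebraNormalizer K ⊓ Cfsg.Geo.omegaGL Q) ∨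
    (∃ K : Subalgebra F (Matrix (Fin 12) (Fin 12) F), Cfsg.Geo.IsFieldSubalgebra 3 K ∧ H = Cfsg.Geo.subalgebraNormalizer K ⊓ Cfsg.Geo.omegaGL Q) ∨
    (∃ K : Subalgebra F (Matrix (Fin 12) (Fin 12) F), Cfsg.Geo.IsFieldSubalgebra 2 K ∧ Cfsg.Geo.IsAdjointClosedFor (QuadraticMap.polar Q) K ∧ ¬ Cfsg.Geo.IsSelfAdjointFor (QuadraticMap.polar Q) K ∧ (∀ k ∈ K, ∃ c : F, ∀ v : (Fin 12 → F), Q (Matrix.mulVec k v) = c * Q v) ∧ H = Cfsg.Geo.subalgebraNormalizer K ⊓ Cfsg.Geo.omegaGL Q) ∨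
    (3 ≤ Fintype.card F ∧ ∃ (e : Fin 12 ≃ Fin 2 × Fin 6) (P : Matrix.GeneralLinearGroup (Fin 12) F) (f₁ : (Fin 2 → F) → (Fin 2 → F) → F) (f₂ : (Fin 6 → F) → (Fin 6 → F) → F), Cfsg.Geo.IsSymplecticForm f₁ ∧ Cfsg.Geo.IsSymplecticForm f₂ ∧ Cfsg.Geo.IsTensorFormStructure id (QuadraticMap.polar Q) f₁ f₂ e P ∧ (∀ (x₁ : Fin 2 → F) (x₂ : Fin 6 → F), Q (Matrix.mulVec (P : Matrix (Fin 12) (Fin 12) F) ((fun a : Fin 2 × Fin 6 => x₁ a.1 * x₂ a.2) ∘ e)) = 0) ∧ H = Cfsg.Geo.tensorProductSubgroup 2 6 e P ⊓ Cfsg.Geo.omegaGL Q) ∨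
    (∃ (F₀ : Subfield F) (r : ℕ) (P : Matrix.GeneralLinearGroup (Fin 12) F) (ζ : F), r.Prime ∧ Fintype.card F = Nat.card F₀ ^ r ∧ ζ ≠ 0 ∧ Cfsg.Geo.IsQuadFormRationalStructure (fun v : Fin 12 → F => ζ * Q v) F₀ P ∧ H = Cfsg.Geo.subfieldSubgroup F₀ P ⊓ Cfsg.Geo.omegaGL Q) ∨
    Cfsg.Geo.InOrthogonalResidualClass H := by
  have hf := H4.geoQuad_nondeg hQ
  have hm : Fintype.card (Fin 12) = 2 * 6 := by simp
  have hB := H4.As.big_Om hf (by simp)
  have hΦ : ∀ X, H ≤ X → ¬ Geo.omegaGL Q ≤ X → H = X ⊓ Geo.omegaGL Q := fun _ => hH.as_eq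
  rcases H4.As.irr_or H with ⟨W, h0, h1, hW⟩ | hI
  · rcases H4.As.omRed hf hm (by omega) hH.1.le hΦ h0 h1 hW with ⟨W, a, b, d, c⟩ | ⟨W, a, b, c, d, e, g, h⟩ | h |
      ⟨D, a, -, b⟩
    · exact .inl ⟨W, a, b, by have := d hplus; omega, c⟩
    · rcases Nat.even_or_odd (Module.finrank F W) with h2 | h2
      swap
      · exact .inr <| .inl ⟨e h2, W, a, b, h2, by omega, d, h⟩
      have : Module.finrank F W ≠ 0 := mt Submodule.finrank_eq_zero.1 a
      obtain h3 | h3 : Module.finrank F W = 2 ∨ Module.finrank F W = 4 := by obtain ⟨s, hs⟩ := h2; omega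
      · by_cases h4 : Geo.IsPlusTypeOn Q W
        · exact .inr <| .inr <| .inr <| .inl ⟨g h3 h4, W, h3, d, h4, h⟩
        · exact .inr <| .inr <| .inl ⟨W, h3, d, h4, h⟩
      · exact .inr <| .inr <| .inr <| .inr <| .inl ⟨W, h3, d, h⟩
    · exact .inr <| .inr <| .inr <| .inr <| .inr <| .inl h
    · refine .inr <| .inr <| .inr <| .inr <| .inr <| .inr <| .inr <| .inr <| .inr <| .inr <| .inr <| .inl ⟨D, ⟨H4.As.polar_eq (f := H4.geoQuad hQ) ▸ a, fun i j => ?_⟩, b⟩
      have h2 : ∀ i j, Geo.IsPlusTypeOn Q (D i) → Geo.IsPlusTypeOn Q (D j) := fun i j h => by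
        rcases eq_or_ne i j with rfl | h3
        · exact h
        have := H4.As.pl_perp hf (H4.As.dec_nd a i) h hplus
        rwa [H4.As.dec_perp_eq a hf, (by decide : ∀ i j : Fin 2, i ≠ j → Finset.univ.erase i = {j}) i j h3, Finset.sup_singleton] at this
      have h3 := fun i => H4.As.pl_iff_wi (H4.As.dec_nd a i) (m := 3) (a.decomp.finrank_eq i)
      have h4 := fun i => (H4.geoQuad hQ).res_nondeg_iff.2 (H4.As.dec_nd a i)
      refine (H4.As.isom_iff (f := H4.geoQuad hQ)).2 ((h4 i).orth_isom_even (h4 j)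
        (by rw [a.decomp.finrank_eq]; decide) (by rw [a.decomp.finrank_eq, a.decomp.finrank_eq]) ?_)
      have h5 := (h3 i).symm.trans (Iff.trans ⟨h2 i j, h2 j i⟩ (h3 j))
      have := (h4 i).orth_finrank_le
      have := (h4 j).orth_finrank_le
      have := (h4 i).two_mul_wi_le
      have := (h4 j).two_mul_wi_le
      have := a.decomp.finrank_eq i
      have := a.decomp.finrank_eq j
      omega
  refine .inr <| .inr <| .inr <| .inr <| .inr <| .inr <| ?_
  rcases H4.As.eCl hf hm (by omega) hH.1.le hI le_rfl (by omega) with ⟨t, k, D, h1, h2, h6, h7, h3, h4, h5, h8, h10, h11⟩ |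
    ⟨-, -, D, h1, h2, h3⟩ | ⟨r, K, h1, h2, h3, -⟩ | ⟨-, -, a, e, P, f₁, f₂, h1, h2, h3, h4, h5⟩ | ⟨a, b, e, P, J₁, J₂, h⟩ |
    h | h
  · have h9 := hΦ _ h7 (hB.not_decomp h6.decomp.decomp)
    have : t ≤ 12 := Nat.le_of_dvd (by norm_num) ⟨k, h1.symm⟩
    interval_cases t
    · obtain rfl : k = 6 := by omega
      exact .inr <| .inr <| .inr <| .inr <| .inr <| .inl ⟨D, h6, h9⟩
    · obtain rfl : k = 4 := by omega
      exact .inr <| .inr <| .inr <| .inr <| .inl ⟨h11 rfl fun i => ((h4 (by decide) i).1 hplus).resolve_right (by decide), D, h6, h9⟩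
    · obtain rfl : k = 3 := by omega
      exact .inr <| .inr <| .inr <| .inl ⟨(h3 (by decide)).1, h8 rfl, D, h6, h9⟩
    · omega
    · obtain rfl : k = 2 := by omega
      rcases h10 rfl with b | b
      · exact .inr <| .inl ⟨b.1, D, h6, b.2, h9⟩
      · exact .inr <| .inr <| .inl ⟨b.1, D, h6, b.2, h9⟩
    · omega
    · omega
    · omega
    · omega
    · omega
    · obtain rfl : k = 1 := by omega
      exact .inl ⟨⟨_, h5 rfl, (h3 (by decide)).1, rfl⟩, D, h6, h9⟩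
  · exact .inr <| .inr <| .inr <| .inr <| .inr <| .inr <| .inl ⟨D, h1, h2, hΦ _ h3 (hB.not_decomp h1)⟩
  · have h4 : r ∣ 2 ^ 2 * 3 := by simpa [h2.finrank_eq] using H4.As.finrank_dvd h2.comm h2.inv
    have h5 := hΦ _ h3.le (hB.not_field h1.one_lt h2)
    rcases (Nat.Prime.dvd_mul h1).1 h4 with h4 | h4
    · obtain rfl := (Nat.prime_dvd_prime_iff_eq h1 Nat.prime_two).1 (h1.dvd_of_dvd_pow h4)
      exact .inr <| .inr <| .inr <| .inr <| .inr <| .inr <| .inr <| .inl ⟨K, h2, h5⟩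
    · obtain rfl := (Nat.prime_dvd_prime_iff_eq h1 Nat.prime_three).1 h4
      exact .inr <| .inr <| .inr <| .inr <| .inr <| .inr <| .inr <| .inr <| .inl ⟨K, h2, h5⟩
  · exact .inr <| .inr <| .inr <| .inr <| .inr <| .inr <| .inr <| .inr <| .inr <| .inr <| .inl ⟨a, e, P, f₁, f₂, h1, h2, h3, h4, hΦ _ h5 (hB.not_tensor le_rfl (by omega))⟩
  · obtain ⟨e, P, J, h⟩ := h.sp26 hf (H4.two_ne_zero_of_odd a) hplus fun g hg => H4.As.det_of_perfect hB.perf (hH.1.le hg)
    exact .inr <| .inr <| .inr <| .inr <| .inr <| .inr <| .inr <| .inr <| .inr <| .inr <| .inl ⟨by omega, e, P, _, _, h.rf1.skew a, h.rf2.skew a,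
      H4.As.polar_eq (f := H4.geoQuad hQ) ▸ h.struct, h.pure (hH.1.le.trans H4.As.omega_le) hI (h.rf2.skew a).alternating,
      hΦ _ h.le_tensor (hB.not_tensor h.twok h.twol)⟩
  · obtain ⟨F₀, r, P, ζ, a, -, c⟩ := H4.As.SF.fin hf hm (by omega) hH.1.le hI hΦ h
    exact .inr <| .inr <| .inr <| .inr <| .inr <| .inr <| .inr <| .inr <| .inr <| .inr <| .inr <| .inl ⟨F₀, r, P, ζ, a, c⟩
  · exact .inr <| .inr <| .inr <| .inr <| .inr <| .inr <| .inr <| .inr <| .inr <| .inr <| .inr <| .inr <| h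

end Cfsg.Agent.S5871
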