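import Cfsg.Statements.S5874
import Cfsg.Agent.H4.As22

set_option autoImplicit false
open Cfsg

namespace Cfsg.Agent.S5874

/-- Every maximal subgroup of Ω_12^-(q) is of one of the listed geometric types or lies in the residual class. Let F be a finite field with q elements (characteristic p), Q a non-degenerate quadratic form on F^12 of minus type (Witt index 5: no totally singular 6-space), Ω the commutator subgroup of its isometry group, and H a maximal subgroup of Ω (inside GL_12(F)). Then H is the intersection with Ω of one of: the stabiliser of a non-zero totally singular subspace; for q odd, the stabiliser of a non-degenerate subspace of odd dimension; the stabiliser of a non-degenerate 2-space of minus type; for q ≥ 4, the stabiliser of a non-degenerate 2-space of plus type; the stabiliser of a non-degenerate 4-space; the stabiliser of a non-degenerate 6-space; for q even, the stabiliser of the span of a non-singular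 vector; the stabiliser of a decomposition into 3 pairwise orthogonal, pairwise isometric non-degenerate 4-spaces of minus type; the normaliser of a degree-2 subfield of the matrix algebra; the normaliser of a degree-3 subfield of the matrix algebra; for q odd with q ≥ 5, the stabiliser of a tensor decomposition of the polar form into symmetric forms on F^3 and F^4 (minus type); a subfield group (|F| = |F₀|^r, r odd prime) whose F₀-structure carries a non-zero multiple of Q — or else H lies in the residual class of the orthogonal case (modulo scalars H is almost simple, with absolutely irreducible perfect socle preimage realisable over no proper subfield and fixing no non-degenerate unitary form). -/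
theorem result {F : Type*} [Field F] [Fintype F] (Q : (Fin 12 → F) → F) (hQ : Cfsg.Geo.IsNondegenerateQuadraticForm Q) (hminus : ¬ Cfsg.Geo.IsPlusTypeOn Q ⊤) (H : Subgroup (Matrix.GeneralLinearGroup (Fin 12) F)) (hH : Cfsg.Geo.IsMaximalIn (Cfsg.Geo.omegaGL Q) H) :
    (∃ W : Submodule F (Fin 12 → F), W ≠ ⊥ ∧ Cfsg.Geo.IsTotallySingularQuad Q W ∧ H = Cfsg.Geo.subspaceStabilizer W ⊓ Cfsg.Geo.omegaGL Q) ∨
    (Odd (Fintype.card F) ∧ ∃ W : Submodule F (Fin 12 → F), W ≠ ⊥ ∧ W ≠ ⊤ ∧ Odd (Module.finrank F W) ∧ 2 * Module.finrank F W ≠ 12 ∧ Cfsg.Geo.IsNondegenerateOn (QuadraticMap.polar Q) W ∧ H = Cfsg.Geo.subspaceStabilizer W ⊓ Cfsg.Geo.omegaGL Q) ∨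
    (∃ W : Submodule F (Fin 12 → F), Module.finrank F W = 2 ∧ Cfsg.Geo.IsNondegenerateOn (QuadraticMap.polar Q) W ∧ ¬ Cfsg.Geo.IsPlusTypeOn Q W ∧ H = Cfsg.Geo.subspaceStabilizer W ⊓ Cfsg.Geo.omegaGL Q) ∨
    (4 ≤ Fintype.card F ∧ ∃ W : Submodule F (Fin 12 → F), Module.finrank F W = 2 ∧ Cfsg.Geo.IsNondegenerateOn (QuadraticMap.polar Q) W ∧ Cfsg.Geo.IsPlusTypeOn Q W ∧ H = Cfsg.Geo.subspaceStabilizer W ⊓ Cfsg.Geo.omegaGL Q) ∨
    (∃ W : Submodule F (Fin 12 → F), Module.finrank F W = 4 ∧ Cfsg.Geo.IsNondegenerateOn (QuadraticMap.polar Q) W ∧ H = Cfsg.Geo.subspaceStabilizer W ⊓ Cfsg.Geo.omegaGL Q) ∨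
    (∃ W : Submodule F (Fin 12 → F), Module.finrank F W = 6 ∧ Cfsg.Geo.IsNondegenerateOn (QuadraticMap.polar Q) W ∧ H = Cfsg.Geo.subspaceStabilizer W ⊓ Cfsg.Geo.omegaGL Q) ∨
    (¬ Odd (Fintype.card F) ∧ ∃ v : (Fin 12 → F), Q v ≠ 0 ∧ H = Cfsg.Geo.subspaceStabilizer (Submodule.span F {v}) ⊓ Cfsg.Geo.omegaGL Q) ∨
    (∃ D : Fin 3 → Submodule F (Fin 12 → F), Cfsg.Geo.IsOrthogonalMDecomposition Q 4 D ∧ (∀ i, ¬ Cfsg.Geo.IsPlusTypeOn Q (D i)) ∧ H = Cfsg.Geo.decompositionStabilizer D ⊓ Cfsg.Geo.omegaGL Q) ∨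
    (∃ K : Subalgebra F (Matrix (Fin 12) (Fin 12) F), Cfsg.Geo.IsFieldSubalgebra 2 K ∧ H = Cfsg.Geo.subalgebraNormalizer K ⊓ Cfsg.Geo.omegaGL Q) ∨
    (∃ K : Subalgebra F (Matrix (Fin 12) (Fin 12) F), Cfsg.Geo.IsFieldSubalgebra 3 K ∧ H = Cfsg.Geo.subalgebraNormalizer K ⊓ Cfsg.Geo.omegaGL Q) ∨
    (Odd (Fintype.card F) ∧ 5 ≤ Fintype.card F ∧ ∃ (e : Fin 12 ≃ Fin 3 × Fin 4) (P : Matrix.GeneralLinearGroup (Fin 12) F) (f₁ : (Fin 3 → F) → (Fin 3 → F) → F) (f₂ : (Fin 4 → F) → (Fin 4 → F) → F), Cfsg.Geo.IsSymmetricForm f₁ ∧ Cfsg.Geo.IsSymmetricForm f₂ ∧ ¬ Cfsg.Geo.IsPlusTypeOn (fun v : Fin 4 → F => f₂ v v) ⊤ ∧ Cfsg.Geo.IsTensorFormStructure id (QuadraticMap.polar Q) f₁ f₂ e P ∧ H = Cfsg.Geo.tensorProductSubgroup 3 4 e P ⊓ Cfsg.Geo.omegaGL Q) ∨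
    (∃ (F₀ : Subfield F) (r : ℕ) (P : Matrix.GeneralLinearGroup (Fin 12) F) (ζ : F), r.Prime ∧ Odd r ∧ Fintype.card F = Nat.card F₀ ^ r ∧ ζ ≠ 0 ∧ Cfsg.Geo.IsQuadFormRationalStructure (fun v : Fin 12 → F => ζ * Q v) F₀ P ∧ H = Cfsg.Geo.subfieldSubgroup F₀ P ⊓ Cfsg.Geo.omegaGL Q) ∨
    Cfsg.Geo.InOrthogonalResidualClass H := by
  have hf := H4.geoQuad_nondeg hQ
  have hm : Fintype.card (Fin 12) = 2 * 6 := by simp
  have hB := H4.As.big_Om hf (by simp)
  have hΦ : ∀ X, H ≤ X → ¬ Geo.omegaGL Q ≤ X → H = X ⊓ Geo.omegaGL Q := fun _ => hH.as_eq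
  rcases H4.As.irr_or H with ⟨W, h0, h1, hW⟩ | hI
  · rcases H4.As.omRed hf hm (by omega) hH.1.le hΦ h0 h1 hW with ⟨W, a, b, -, c⟩ | ⟨W, a, b, c, d, e, g, h⟩ | h |
      ⟨D, a, b, -⟩
    · exact .inl ⟨W, a, b, c⟩
    · rcases Nat.even_or_odd (Module.finrank F W) with h2 | h2
      swap
      · exact .inr <| .inl ⟨e h2, W, a, b, h2, by omega, d, h⟩
      have : Module.finrank F W ≠ 0 := mt Submodule.finrank_eq_zero.1 a
      obtain h3 | h3 : Module.finrank F W = 2 ∨ Module.finrank F W = 4 := by obtain ⟨s, hs⟩ := h2; omega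
      · by_cases h4 : Geo.IsPlusTypeOn Q W
        · exact .inr <| .inr <| .inr <| .inl ⟨g h3 h4, W, h3, d, h4, h⟩
        · exact .inr <| .inr <| .inl ⟨W, h3, d, h4, h⟩
      · exact .inr <| .inr <| .inr <| .inr <| .inl ⟨W, h3, d, h⟩
    · exact .inr <| .inr <| .inr <| .inr <| .inr <| .inr <| .inl h
    · exact .inr <| .inr <| .inr <| .inr <| .inr <| .inl ⟨_, a.decomp.finrank_eq 0,
        H4.As.polar_eq (f := H4.geoQuad hQ) ▸ a.nondegenerate 0, b⟩
  refine .inr <| .inr <| .inr <| .inr <| .inr <| .inr <| .inr ?_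
  rcases H4.As.eCl hf hm (by omega) hH.1.le hI le_rfl (by omega) with ⟨t, k, D, h1, h2, h6, h7, h3, h4, -⟩ | h |
    ⟨r, K, h1, h2, h3, -⟩ | h | ⟨a, b, e, P, J₁, J₂, h⟩ | h | h
  · rcases Nat.even_or_odd k with h5 | h5
    · have h8 := fun i => mt (h4 h5 i).2 hminus
      obtain rfl : t = 3 := by
        have h9 : ¬ Even t := fun h => h8 ⟨0, by omega⟩ (.inr h)
        have : t ≤ 12 := Nat.le_of_dvd (by norm_num) ⟨k, h1.symm⟩
        interval_cases t <;> first | rfl | exact absurd (by decide) h9 | (obtain ⟨s, hs⟩ := h5; omega)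
      obtain rfl : k = 4 := by omega
      exact .inl ⟨D, h6, fun i h => h8 i (.inl h), hΦ _ h7 (hB.not_decomp h6.decomp.decomp)⟩
    · refine absurd ((h3 h5).2.2 ?_) hminus
      obtain h | h : Fintype.card F % 4 = 1 ∨ Fintype.card F % 4 = 3 := by obtain ⟨s, hs⟩ := (h3 h5).1; omega
      all_goals simp [Nat.pow_mod, h]
  · exact absurd h.1 hminus
  · have h4 : r ∣ 2 ^ 2 * 3 := by simpa [h2.finrank_eq] using H4.As.finrank_dvd h2.comm h2.inv
    have h5 := hΦ _ h3.le (hB.not_field h1.one_lt h2)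
    rcases (Nat.Prime.dvd_mul h1).1 h4 with h4 | h4
    · obtain rfl := (Nat.prime_dvd_prime_iff_eq h1 Nat.prime_two).1 (h1.dvd_of_dvd_pow h4)
      exact .inr <| .inl ⟨K, h2, h5⟩
    · obtain rfl := (Nat.prime_dvd_prime_iff_eq h1 Nat.prime_three).1 h4
      exact .inr <| .inr <| .inl ⟨K, h2, h5⟩
  · exact absurd h.1 hminus
  · exact .inr <| .inr <| .inr <| .inl ⟨a, b, e, P, _, _, h.rf1.sym, h.rf2.sym,
      mt (h.pl34 hf (H4.two_ne_zero_of_odd a)).2 hminus, H4.As.polar_eq (f := H4.geoQuad hQ) ▸ h.struct,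
      hΦ _ h.le_tensor (hB.not_tensor h.twok h.twol)⟩
  · obtain ⟨F₀, r, P, ζ, a, b, c⟩ := H4.As.SF.fin hf hm (by omega) hH.1.le hI hΦ h
    exact .inr <| .inr <| .inr <| .inr <| .inl ⟨F₀, r, P, ζ, a, b hminus, c⟩
  · exact .inr <| .inr <| .inr <| .inr <| .inr h

end Cfsg.Agent.S5874
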