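import Cfsg.Statements.S5894
import Cfsg.Agent.H9.Impr
import Cfsg.Agent.H9.TJ

set_option autoImplicit false
open Cfsg

namespace Cfsg.Agent.S5894

open Cfsg.Agent Cfsg.Agent.H9
open scoped Pointwise

/-- For every m ≥ 2 the symmetric group on 2m letters has a maximal subgroup M of index 2m together with a maximal subgroup H of M that is not second maximal: some maximal subgroup K of the symmetric group contains H without H being maximal in K. (One may take M the stabiliser of a letter, H ≅ S_m × S_{m−1} inside it, and K ≅ S_m ≀ S₂ the stabiliser of a partition into two m-sets, with H < S_m × S_m < K.) So the prime-index hypothesis in the second-maximality criterion cannot be relaxed to any even index ≥ 4. -/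
theorem result (m : ℕ) (hm : 2 ≤ m) :
    ∃ M H K : Subgroup (Equiv.Perm (Fin (2 * m))), IsCoatom M ∧ M.index = 2 * m ∧ H ≤ M ∧ IsCoatom (H.subgroupOf M) ∧
      IsCoatom K ∧ H ≤ K ∧ ¬ IsCoatom (H.subgroupOf K) := by
  classical
  let x0 : Fin (2 * m) := ⟨0, by omega⟩
  let f : Fin (2 * m) → Fin 2 := fun x => if (x : ℕ) < m then 0 else 1
  have hc : Nat.card (Fin (2 * m)) = (2 * m - 1) + 1 := by simp; omega
  have c0 : Nat.card {x : Fin (2 * m) // f x = 0} = m := by
    have : ∀ x, f x = 0 ↔ (x : ℕ) < m := fun x => by simp [f]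
    rw [Nat.card_congr (Equiv.subtypeEquivRight this), Nat.card_eq_fintype_card, Fintype.card_fin_lt_of_le (by omega)]
  have c1 : Nat.card {x : Fin (2 * m) // f x = 1} = m := by
    have : ∀ x, f x = 1 ↔ ¬ f x = 0 := fun x => by generalize f x = i; revert i; decide
    rw [Nat.card_congr (Equiv.subtypeEquivRight this), Nat.card_eq_fintype_card, Fintype.card_subtype_compl,
      ← Nat.card_eq_fintype_card (α := {x // f x = 0}), c0]
    simp; omega
  have hf : ∀ i, Nat.card {x // f x = i} = m := fun i => by fin_cases i <;> assumption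
  have f0 : f x0 = 0 := by simp [f, x0]; omega
  let ψ : Equiv.Perm {x // x ≠ x0} →* Equiv.Perm (Fin (2 * m)) := Equiv.Perm.ofSubtype
  have hψ : Function.Injective ψ := Equiv.Perm.ofSubtype_injective
  have hr : ψ.range = MulAction.stabilizer _ x0 := by
    ext g
    rw [Equiv.Perm.mem_range_ofSubtype_iff, MulAction.mem_stabilizer_iff]
    constructor
    · intro h; by_contra hn; exact h (Equiv.Perm.mem_support.2 hn) rfl
    · intro h y hy e
      exact Equiv.Perm.mem_support.1 hy (by rw [e]; exact h)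
  let s : Set {x // x ≠ x0} := {x | f x = 1}
  have hs : s.ncard = m := by
    refine Eq.trans ?_ c1
    rw [← Nat.card_coe_set_eq]
    exact Nat.card_congr (Equiv.subtypeSubtypeEquivSubtype (p := fun x => x ≠ x0) (q := fun x => f x = 1)
      (fun {x} h e => by rw [e, f0] at h; exact absurd h (by decide)))
  have hc' : Nat.card {x // x ≠ x0} = 2 * m - 1 := by
    rw [Nat.card_eq_fintype_card, Fintype.card_subtype_compl]; simp
  have hsc := Set.ncard_add_ncard_compl s
  have hco : IsCoatom (MulAction.stabilizer (Equiv.Perm {x // x ≠ x0}) s) :=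
    Equiv.Perm.isCoatom_stabilizer (Set.nonempty_of_ncard_ne_zero (by omega))
      (Set.nonempty_of_ncard_ne_zero (by omega)) (by omega)
  let L : Subgroup (Equiv.Perm (Fin (2 * m))) :=
    { carrier := {g | ∀ x, f (g x) = f x}
      one_mem' := fun _ => rfl
      mul_mem' := fun {g h} hg hh x => (hg _).trans (hh x)
      inv_mem' := fun {g} hg x => by simpa using (hg (g⁻¹ x)).symm }
  have hLW : L ≤ Impr.W f := fun g hg x y => by rw [hg, hg]
  have hHL : (MulAction.stabilizer (Equiv.Perm {x // x ≠ x0}) s).map ψ ≤ L := by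
    rintro _ ⟨g, hg, rfl⟩ x
    by_cases hx : x ≠ x0
    · have h1 : g ⟨x, hx⟩ ∈ s ↔ ⟨x, hx⟩ ∈ s := by
        conv_lhs => rw [← show g • s = s from hg]
        exact Set.smul_mem_smul_set_iff
      rw [show ψ g x = g ⟨x, hx⟩ from Equiv.Perm.ofSubtype_apply_of_mem g hx]
      have h2 : f (g ⟨x, hx⟩) = 1 ↔ f x = 1 := h1
      revert h2
      generalize f (g ⟨x, hx⟩) = i; generalize f x = j; revert i j; decide
    · rw [show ψ g x = x from Equiv.Perm.ofSubtype_apply_of_not_mem g hx]
  haveI : Nontrivial (Fin (2 * m)) := Fin.nontrivial_iff_two_le.2 (by omega)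
  refine ⟨ψ.range, (MulAction.stabilizer _ s).map ψ, Impr.W f, ?_, ?_, Subgroup.map_le_range _ _, ?_,
    Impr.W_coatom hm le_rfl hf, hHL.trans hLW, ?_⟩
  · rw [hr]; exact MulAction.IsPreprimitive.isCoatom_stabilizer_of_isPreprimitive _ x0
  · rw [hr, SymI.card_stab hc]; omega
  · have := ((MonoidHom.ofInjective hψ).mapSubgroup.isCoatom_iff _).2 hco
    convert this using 1
    ext ⟨_, g, rfl⟩
    constructor
    · rintro ⟨k, hk, e⟩; exact ⟨k, hk, Subtype.ext e⟩
    · rintro ⟨k, hk, e⟩; exact ⟨k, hk, congrArg Subtype.val e⟩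
  · intro h
    have h1 := h.2 (L.subgroupOf (Impr.W f)) (lt_of_le_of_ne (fun g hg => hHL hg) fun h2 => by
      obtain ⟨y, hy, e⟩ := Impr.other hf hm x0
      have h3 : (⟨Equiv.swap y x0, Impr.swap_mem e⟩ : Impr.W f) ∈ L.subgroupOf (Impr.W f) := Impr.f_swap e
      rw [← h2] at h3
      have h4 : Equiv.swap y x0 ∈ MulAction.stabilizer _ x0 := hr ▸ Subgroup.map_le_range _ _ h3
      exact hy (by simpa using h4))
    obtain ⟨w, hw, hσ⟩ := Impr.lift hf (Equiv.swap 0 1)
    have h3 : (⟨w, hw⟩ : Impr.W f) ∈ L.subgroupOf (Impr.W f) := h1 ▸ Subgroup.mem_top _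
    have h4 := (hσ x0).symm.trans (h3 x0)
    rw [f0] at h4
    exact absurd h4 (by decide)

end Cfsg.Agent.S5894
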