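import Cfsg.Statements.S5904
import Cfsg.Agent.H9.Impr
import Cfsg.Agent.H9.TJ

set_option autoImplicit false
open scoped Pointwise
open Cfsg

namespace Cfsg.Agent.S5904

open Cfsg.Agent Cfsg.Agent.H9

/-- Let Ω be a finite set with more than two elements and O ⊆ Ω a subset with exactly as many elements as its complement. Then the setwise stabilizer of O in the symmetric group on Ω is not a maximal subgroup (it is properly contained in the stabilizer of the partition {O, Ω ∖ O}, which is proper). -/
theorem result {Ω : Type*} [Fintype Ω] [DecidableEq Ω] (hΩ : 2 < Fintype.card Ω)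
    (O : Set Ω) (hO : Nat.card O = Nat.card ↥Oᶜ) :
    ¬ IsCoatom (MulAction.stabilizer (Equiv.Perm Ω) O) := by
  classical
  let f : Ω → Fin 2 := fun x => if x ∈ O then 0 else 1
  have hf0 : ∀ x, f x = 0 ↔ x ∈ O := fun x => by simp [f]
  have hf1 : ∀ x, f x = 1 ↔ x ∉ O := fun x => by simp [f]
  have hf : ∀ i, Nat.card {x // f x = i} = Nat.card O := by
    intro i
    fin_cases i
    · exact Nat.card_congr (Equiv.subtypeEquivRight hf0)
    · rw [hO]; exact Nat.card_congr (Equiv.subtypeEquivRight hf1)
  have ha : 2 ≤ Nat.card O := by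
    have := Set.ncard_add_ncard_compl O
    rw [Nat.card_eq_fintype_card, ← Nat.card_coe_set_eq, ← Nat.card_coe_set_eq] at this
    omega
  intro h
  refine (Impr.W_coatom ha le_rfl hf).1 (h.2 _ (lt_of_le_of_ne ?_ ?_))
  · intro g hg x y
    have k : ∀ z, f (g z) = f z := fun z => by
      have : g z ∈ O ↔ z ∈ O := by
        conv_lhs => rw [← show g • O = O from hg]
        exact Set.smul_mem_smul_set_iff
      simp only [f, this]
    rw [k, k]
  · intro e
    obtain ⟨w, hw, hσ⟩ := Impr.lift hf (Equiv.swap 0 1)
    obtain ⟨s, -, -, hs, -⟩ := Impr.pair hf ha 0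
    rw [← e] at hw
    have : w s ∈ O := by
      rw [← show w • O = O from hw]; exact Set.smul_mem_smul_set ((hf0 s).1 hs)
    have h2 := hσ s
    rw [(hf0 _).2 this, hs] at h2
    exact absurd h2 (by decide)

end Cfsg.Agent.S5904
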