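import Cfsg.Statements.S5909
import Cfsg.Agent.H9.Impr
import Cfsg.Agent.H9.TJ

set_option autoImplicit false
open Cfsg

namespace Cfsg.Agent.S5909

open Cfsg.Agent Cfsg.Agent.H9

/-- Let Ω be a finite set whose size is not 8, and f : Ω → Fin b a labelling with b ≥ 2 whose fibres all have the same size a ≥ 2 (a partition into b blocks of size a). Then the even permutations preserving the partition — the intersection of the imprimitive wreath product S_a ≀ S_b with the alternating group — form a maximal subgroup of the alternating group on Ω. -/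
theorem result {Ω : Type*} [Fintype Ω] [DecidableEq Ω] (h8 : Fintype.card Ω ≠ 8) (a b : ℕ) (ha : 2 ≤ a) (hb : 2 ≤ b)
    (f : Ω → Fin b) (hf : ∀ i : Fin b, Nat.card {x : Ω // f x = i} = a) :
    IsCoatom ((Subgroup.closure {g : Equiv.Perm Ω | ∀ x y : Ω, f x = f y ↔ f (g x) = f (g y)} ⊓ alternatingGroup Ω).subgroupOf (alternatingGroup Ω)) := by
  rw [Impr.closure_W]
  have hc : Nat.card Ω = b * a := by
    obtain ⟨e, -⟩ := Impr.exists_equiv hf
    rw [Nat.card_congr e]; simp
  haveI : Nontrivial Ω := Finite.one_lt_card_iff_nontrivial.1 (by nlinarith)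
  have hidx : ∀ k, Nat.card ↥(Impr.W f ⊓ alternatingGroup Ω) = k →
      2 * (k * ((Impr.W f ⊓ alternatingGroup Ω).subgroupOf (alternatingGroup Ω)).index) = (b * a).factorial := by
    intro k hk
    rw [← hk, ← Nat.card_congr (Subgroup.subgroupOfEquivOfLe (inf_le_right :
      Impr.W f ⊓ alternatingGroup Ω ≤ alternatingGroup Ω)).toEquiv, Subgroup.card_mul_index,
      two_mul_nat_card_alternatingGroup, Nat.card_perm, hc]
  by_cases h1 : a = 2 ∧ b = 2
  · obtain ⟨rfl, rfl⟩ := h1
    have h2 := hidx 4 (by rw [Impr.card_inf hf, Nat.card_eq_fintype_card]; decide +kernel)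
    refine Impr.coatom_of_index (n := 3) (by rw [show Nat.factorial (2 * 2) = 24 from rfl] at h2; omega) (by omega) fun K hK hd => ?_
    exact ((Nat.dvd_prime Nat.prime_three).1 hd).resolve_left fun e => hK (Subgroup.index_eq_one.1 e)
  by_cases h2 : a = 2 ∧ b = 3
  · obtain ⟨rfl, rfl⟩ := h2
    have h2 := hidx 24 (by rw [Impr.card_inf hf, Nat.card_eq_fintype_card]; decide +kernel)
    refine Impr.coatom_of_index (n := 15) (by rw [show Nat.factorial (3 * 2) = 720 from rfl] at h2; omega) (by omega) fun K hK hd => ?_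
    haveI := alternatingGroup.isSimpleGroup (α := Ω) (by omega)
    have h3 := SymI.le_index_of_simple (m := 6) (by omega)
      (by rw [two_mul_nat_card_alternatingGroup, Nat.card_perm, hc]) hK
    have h4 := Nat.le_of_dvd (by omega) hd
    generalize K.index = k at *
    interval_cases k <;> first | rfl | omega
  constructor
  · intro h
    obtain ⟨s, t, hst, e1, e2⟩ := Impr.pair hf ha ⟨0, by omega⟩
    obtain ⟨u, -, -, e3, -⟩ := Impr.pair hf ha ⟨1, by omega⟩
    have hu : f u ≠ f t := by rw [e3, e2]; simp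
    have hu' : s ≠ u := fun e => hu (by rw [← e, e1, e2])
    have h3 : (⟨Equiv.swap s t * Equiv.swap s u, Equiv.Perm.mul_mem_alternatingGroup_of_isSwap ⟨_, _, hst, rfl⟩
      ⟨_, _, hu', rfl⟩⟩ : alternatingGroup Ω) ∈ (Impr.W f ⊓ alternatingGroup Ω).subgroupOf (alternatingGroup Ω) :=
      h ▸ Subgroup.mem_top _
    have h4 := (h3.1 s t).1 (e1.trans e2.symm)
    simp only [Subgroup.coe_subtype, Equiv.Perm.mul_apply, Impr.f_swap (e1.trans e2.symm)] at h4
    rw [Equiv.swap_apply_left, Equiv.swap_apply_of_ne_of_ne hst.symm (fun e => hu (e ▸ rfl))] at h4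
    exact hu h4
  · intro K hK
    have hG : Impr.W f ⊓ alternatingGroup Ω ≤ K.map (alternatingGroup Ω).subtype := fun g hg =>
      ⟨⟨g, hg.2⟩, hK.le hg, rfl⟩
    have hn : ¬ K.map (alternatingGroup Ω).subtype ≤ Impr.W f := fun h =>
      hK.not_ge fun g hg => ⟨h ⟨g, hg, rfl⟩, g.2⟩
    have hp := Impr.prim ha hb (by omega) hf hG hn
    have : ∃ c ∈ K.map (alternatingGroup Ω).subtype, c.IsThreeCycle := by
      by_cases h3 : 3 ≤ a
      · obtain ⟨p, -, -, -, -⟩ := Impr.pair hf ha ⟨0, by omega⟩
        obtain ⟨s, t, hst, hs, ht, e1, e2⟩ := Impr.three hf h3 p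
        have hc3 := Equiv.Perm.isThreeCycle_swap_mul_swap_same hs.symm ht.symm hst
        exact ⟨_, hG ⟨(Impr.W f).mul_mem (Impr.swap_mem e1.symm) (Impr.swap_mem e2.symm), hc3.mem_alternatingGroup⟩,
          hc3⟩
      · obtain rfl : a = 2 := by omega
        rw [← Nat.card_eq_fintype_card, hc] at h8
        exact Impr.three_cycle (by omega) hf hG hn
    obtain ⟨c, hc1, hc3⟩ := this
    have := Equiv.Perm.alternatingGroup_le_of_isPreprimitive_of_isThreeCycle_mem hp hc3 hc1
    rw [eq_top_iff]
    intro g _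
    obtain ⟨g', hg', e⟩ := this g.2
    rwa [← show g' = g from Subtype.ext e]

end Cfsg.Agent.S5909
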