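import Cfsg.Statements.S5910
import Cfsg.Agent.H9.Impr
import Cfsg.Agent.H9.TJ

set_option autoImplicit false
open Cfsg

namespace Cfsg.Agent.S5910

open Cfsg.Agent Cfsg.Agent.H9
def a3 (x y z : Fin 4 × Fin 2) : Fin 4 × Fin 2 := (x.1 ^^^ y.1 ^^^ z.1, x.2 ^^^ y.2 ^^^ z.2)

def K0 : Subgroup (Equiv.Perm (Fin 4 × Fin 2)) where
  carrier := {g | ∀ x y z, g (a3 x y z) = a3 (g x) (g y) (g z)}
  one_mem' := fun _ _ _ => rfl
  mul_mem' := fun {g h} hg hh x y z => by
    show g (h _) = a3 (g (h x)) (g (h y)) (g (h z))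
    rw [hh, hg]
  inv_mem' := fun {g} hg x y z => g.injective (by rw [hg]; simp)

theorem shear_mem : ∀ (σ : Equiv.Perm (Fin 4)) (τ : Fin 4 → Equiv.Perm (Fin 2)),
    Equiv.Perm.sign (Equiv.prodShear σ τ) = 1 → ∀ x y z,
      Equiv.prodShear σ τ (a3 x y z) =
        a3 (Equiv.prodShear σ τ x) (Equiv.prodShear σ τ y) (Equiv.prodShear σ τ z) := by
  decide +kernel

/-- Let Ω be a set with 8 elements and f : Ω → Fin 4 a labelling whose four fibres all have size 2 (a partition of the 8 points into 4 pairs). Then the group of even permutations preserving this partition, (S₂ ≀ S₄) ∩ A₈, is not a maximal subgroup of the alternating group A₈ (it lies in a subgroup isomorphic to the affine group AGL₃(2)). -/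
theorem result {Ω : Type*} [Fintype Ω] [DecidableEq Ω] (h8 : Fintype.card Ω = 8)
    (f : Ω → Fin 4) (hf : ∀ i : Fin 4, Nat.card {x : Ω // f x = i} = 2) :
    ¬ IsCoatom ((Subgroup.closure {g : Equiv.Perm Ω | ∀ x y : Ω, f x = f y ↔ f (g x) = f (g y)} ⊓ alternatingGroup Ω).subgroupOf (alternatingGroup Ω)) := by
  rw [Impr.closure_W]
  obtain ⟨e, he⟩ := Impr.exists_equiv hf
  intro h
  set K := K0.comap e.permCongrHom.toMonoidHom with hK
  have hle : Impr.W f ⊓ alternatingGroup Ω ≤ K := by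
    intro g hg
    set g' := e.permCongr g with hg'
    have h1 : ∀ x y, x.1 = y.1 ↔ (g' x).1 = (g' y).1 := fun x y => by
      have := hg.1 (e.symm x) (e.symm y)
      simpa [← he, hg'] using this
    have h2 : Equiv.Perm.sign g' = 1 := by rw [hg', Equiv.Perm.sign_permCongr]; exact hg.2
    have i1 : Function.Injective fun i : Fin 4 => (g' (i, 0)).1 := fun i j hij => (h1 (i, 0) (j, 0)).2 hij
    have i2 : ∀ i : Fin 4, Function.Injective fun k : Fin 2 => (g' (i, k)).2 := fun i k l hkl =>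
      (Prod.ext_iff.1 (g'.injective (Prod.ext ((h1 (i, k) (i, l)).1 rfl) hkl))).2
    have h3 : g' = Equiv.prodShear (Equiv.ofBijective _ (Finite.injective_iff_bijective.1 i1))
        (fun i => Equiv.ofBijective _ (Finite.injective_iff_bijective.1 (i2 i))) :=
      Equiv.ext fun x => Prod.ext ((h1 x (x.1, 0)).1 rfl) rfl
    have h4 := shear_mem _ _ (h3 ▸ h2)
    rw [← h3] at h4
    exact h4
  have ev : ∀ g : Equiv.Perm (Fin 4 × Fin 2), Equiv.Perm.sign g = 1 → e.symm.permCongr g ∈ alternatingGroup Ω :=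
    fun g hg => by rw [Equiv.Perm.mem_alternatingGroup, Equiv.Perm.sign_permCongr, hg]
  have mk : ∀ g : Equiv.Perm (Fin 4 × Fin 2), e.symm.permCongr g ∈ K ↔ g ∈ K0 := fun g => by
    rw [hK, Subgroup.mem_comap]
    have : e.permCongrHom.toMonoidHom (e.symm.permCongr g) = g := e.permCongr.apply_symm_apply g
    rw [this]
  have h1 := h.2 (K.subgroupOf (alternatingGroup Ω)) (lt_of_le_of_ne (fun g hg => hle hg) fun h2 => by
    have h3 : (⟨_, ev (Equiv.swap (0, 1) (1, 0) * Equiv.swap (2, 1) (3, 0)) (by decide)⟩ : alternatingGroup Ω) ∈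
        K.subgroupOf (alternatingGroup Ω) := (mk _).2 (by
      show ∀ x y z, _ = _
      decide +kernel)
    rw [← h2] at h3
    have h4 := (h3.1 (e.symm (0, 0)) (e.symm (0, 1))).1 (by simp [← he])
    simp only [← he, Subgroup.coe_subtype, Equiv.permCongr_apply, Equiv.symm_symm, Equiv.apply_symm_apply] at h4
    exact absurd h4 (by decide))
  have h3 : (⟨_, ev (Equiv.swap (0, 0) (0, 1) * Equiv.swap (0, 0) (1, 0)) (by decide)⟩ : alternatingGroup Ω) ∈
      K.subgroupOf (alternatingGroup Ω) := h1 ▸ Subgroup.mem_top _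
  have h4 := (mk _).1 h3 (0, 0) (0, 1) (2, 0)
  exact absurd h4 (by decide)

end Cfsg.Agent.S5910
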