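import Cfsg.Statements.S5911
import Cfsg.Agent.H9.SymI
import Cfsg.Agent.H9.TJ

set_option autoImplicit false
open Cfsg

namespace Cfsg.Agent.S5911

open Cfsg.Agent Cfsg.Agent.H9

/-- Let Ω be a finite set whose size n is not 6. Then every subgroup of the symmetric group on Ω of index n is the stabilizer of a point. -/
theorem result {Ω : Type*} [Fintype Ω] [DecidableEq Ω] (h6 : Fintype.card Ω ≠ 6)
    (H : Subgroup (Equiv.Perm Ω)) (hH : H.index = Fintype.card Ω) :
    ∃ x : Ω, H = MulAction.stabilizer (Equiv.Perm Ω) x := by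
  have h0 : H.index ≠ 0 := Subgroup.index_ne_zero_of_finite
  obtain ⟨m, hm⟩ : ∃ m, Nat.card Ω = m + 1 := ⟨Nat.card Ω - 1, by rw [Nat.card_eq_fintype_card]; omega⟩
  rw [← Nat.card_eq_fintype_card, hm] at hH h6
  by_cases h3 : 3 ≤ m
  · have e1 := SymI.card_inf_alt (SymI.not_le_alt hm h3 hH)
    rw [SymI.card_of_index hm hH] at e1
    obtain ⟨x, hx⟩ := SymI.fix_of_index hm h3 (by omega) inf_le_right e1
    exact ⟨x, SymI.eq_stab hm h3 hH hx⟩
  · have hc := SymI.card_of_index hm hH
    have : ∃ x, ∀ h ∈ H, h x = x := by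
      have hm2 : m ≤ 2 := by omega
      interval_cases m
      · exact SymI.fix_of_pgroup Nat.prime_two (k := 0) hc (by rw [hm]; decide)
      · exact SymI.fix_of_pgroup Nat.prime_three (k := 0) hc (by rw [hm]; decide)
      · exact SymI.fix_of_pgroup Nat.prime_two (k := 1) hc (by rw [hm]; decide)
    obtain ⟨x, hx⟩ := this
    exact ⟨x, Subgroup.eq_of_le_of_card_ge hx (by rw [hc, SymI.card_of_index hm (SymI.card_stab hm x)])⟩

end Cfsg.Agent.S5911
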