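import Cfsg.Statements.S5912
import Cfsg.Agent.H9.SymI
import Cfsg.Agent.H9.TJ

set_option autoImplicit false
open Cfsg

namespace Cfsg.Agent.S5912

open Cfsg.Agent Cfsg.Agent.H9

/-- The symmetric group on a 6-element set Ω has exactly two conjugacy classes of subgroups of index 6: there are two non-conjugate subgroups of index 6 (a point stabilizer and a transitive subgroup isomorphic to S₅), and every subgroup of index 6 is conjugate to one of them. -/
theorem result {Ω : Type*} [Fintype Ω] [DecidableEq Ω] (h6 : Fintype.card Ω = 6) :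
    ∃ H₁ H₂ : Subgroup (Equiv.Perm Ω), H₁.index = 6 ∧ H₂.index = 6 ∧
      (¬ ∃ g : Equiv.Perm Ω, Subgroup.map (MulAut.conj g).toMonoidHom H₁ = H₂) ∧
      ∀ H : Subgroup (Equiv.Perm Ω), H.index = 6 →
        ∃ g : Equiv.Perm Ω, Subgroup.map (MulAut.conj g).toMonoidHom H₁ = H ∨ Subgroup.map (MulAut.conj g).toMonoidHom H₂ = H := by
  rw [← Nat.card_eq_fintype_card] at h6
  obtain ⟨θ, hθ⟩ := SymI.outer h6
  obtain ⟨x⟩ : Nonempty Ω := (Nat.card_pos_iff.1 (by omega)).1
  refine ⟨MulAction.stabilizer _ x, (MulAction.stabilizer _ x).map θ.toMonoidHom, SymI.card_stab (m := 5) h6 x,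
    by rw [SymI.index_map_aut]; exact SymI.card_stab (m := 5) h6 x, ?_, ?_⟩
  · rintro ⟨g, hg⟩
    rw [SymI.conj_stab] at hg
    exact SymI.stab_ne h6 hθ _ _ hg.symm
  · intro H hH
    obtain ⟨y, rfl | rfl⟩ := SymI.six h6 hθ hH
    · exact ⟨Equiv.swap x y, Or.inl (by rw [SymI.conj_stab, Equiv.swap_apply_left])⟩
    · refine ⟨θ (Equiv.swap x y), Or.inr ?_⟩
      have := SymI.conj_stab (Equiv.swap x y) x
      rw [Equiv.swap_apply_left] at this
      rw [← this, Subgroup.map_map, Subgroup.map_map]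
      congr 1
      refine MonoidHom.ext fun g => ?_
      show θ _ * θ g * (θ _)⁻¹ = θ (_ * g * _⁻¹)
      rw [map_mul, map_mul, map_inv]

end Cfsg.Agent.S5912
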