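import Cfsg.Statements.S5944
import Cfsg.Agent.H9.SymI
import Cfsg.Agent.H9.TJ

set_option autoImplicit false
open Cfsg

namespace Cfsg.Agent.S5944

open Cfsg.Agent Cfsg.Agent.H9

/-- For n ≠ 4, every proper subgroup of the symmetric group S_n other than the alternating group A_n has index at least n. -/
theorem result (n : ℕ) (hn : n ≠ 4) (H : Subgroup (Equiv.Perm (Fin n))) (hH : H ≠ ⊤) (hA : H ≠ alternatingGroup (Fin n)) : n ≤ H.index := by
  by_contra hlt
  have h0 : H.index ≠ 0 := Subgroup.index_ne_zero_of_finite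
  have h1 : H.index ≠ 1 := fun h => hH (Subgroup.index_eq_one.1 h)
  have h2 : H.index ≠ 2 := fun h => hA (Equiv.Perm.eq_alternatingGroup_of_index_eq_two h)
  have h3 := Nat.le_of_dvd (Nat.factorial_pos _)
    (SymI.card_dvd_fact (SymI.core_eq_bot (Ω := Fin n) (H := H) (by simp; omega) (by omega)))
  rw [Nat.card_perm, Nat.card_fin] at h3
  exact absurd h3 (not_le.2 ((Nat.factorial_lt (by omega)).2 (by omega)))

end Cfsg.Agent.S5944
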