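import Cfsg.Statements.S5945
import Cfsg.Agent.H9.SymI
import Cfsg.Agent.H9.TJ

set_option autoImplicit false
open Cfsg

namespace Cfsg.Agent.S5945

open Cfsg.Agent Cfsg.Agent.H9

/-- The symmetric group S_6 has exactly 12 subgroups of index 6; each of them is isomorphic to S_5, and at least one of them is not the stabilizer of any point. -/
theorem result : Nat.card {H : Subgroup (Equiv.Perm (Fin 6)) // H.index = 6} = 12 ∧ (∀ H : Subgroup (Equiv.Perm (Fin 6)), H.index = 6 → Nonempty (H ≃* Equiv.Perm (Fin 5))) ∧ ∃ H : Subgroup (Equiv.Perm (Fin 6)), H.index = 6 ∧ ∀ a : Fin 6, H ≠ MulAction.stabilizer (Equiv.Perm (Fin 6)) a := by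
  have h6 : Nat.card (Fin 6) = 6 := by simp
  obtain ⟨θ, hθ⟩ := SymI.outer h6
  have hi : ∀ x : Fin 6, ((MulAction.stabilizer (Equiv.Perm (Fin 6)) x).map θ.toMonoidHom).index = 6 := fun x => by
    rw [SymI.index_map_aut]; exact SymI.card_stab (m := 5) h6 x
  refine ⟨?_, fun H hH => SymI.equiv_of_index (m := 5) h6 (by omega) hH, _, hi 0, SymI.stab_ne h6 hθ 0⟩
  let f : Fin 6 ⊕ Fin 6 → {H : Subgroup (Equiv.Perm (Fin 6)) // H.index = 6} :=
    Sum.elim (fun x => ⟨MulAction.stabilizer _ x, SymI.card_stab (m := 5) h6 x⟩) (fun x => ⟨_, hi x⟩)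
  have hf : Function.Bijective f := by
    constructor
    · rintro (x | x) (y | y) h
      · rw [SymI.stab_inj (m := 5) h6 (by omega) (congrArg Subtype.val h)]
      · exact absurd (congrArg Subtype.val h).symm (SymI.stab_ne h6 hθ _ _)
      · exact absurd (congrArg Subtype.val h) (SymI.stab_ne h6 hθ _ _)
      · rw [SymI.stab_inj (m := 5) h6 (by omega) (Subgroup.map_injective θ.injective (congrArg Subtype.val h))]
    · rintro ⟨H, hH⟩
      obtain ⟨y, rfl | rfl⟩ := SymI.six h6 hθ hH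
      exacts [⟨.inl y, rfl⟩, ⟨.inr y, rfl⟩]
  rw [← Nat.card_eq_of_bijective f hf]; simp

end Cfsg.Agent.S5945
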